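import Mathlib
import Cfsg.Prelude.Def_SubgroupEmbedding
import Cfsg.Prelude.Def_TwoFusion
import Cfsg.Agent.Helper19.Sylow
import Cfsg.Agent.Helper1.SylowBasic

set_option autoImplicit false

namespace Cfsg.Agent.Helper15

open Cfsg

variable {G : Type*} [Group G] {p : ℕ}

/-- S3021 (1) -/
theorem normalizer_le_normalizer_of_extremelyClosed [Finite G] [Fact p.Prime] {H : Subgroup G}
    (hcl : IsExtremelyClosed H) {Q : Subgroup G} (hQ : IsPGroup p Q) (hHQ : H ≤ Q) :
    Subgroup.normalizer (Q : Set G) ≤ Subgroup.normalizer (H : Set G) := by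
  -- first: conjugates of H inside Q are contained in H
  have key : ∀ g : G, H.map (MulAut.conj g).toMonoidHom ≤ Q →
      H.map (MulAut.conj g).toMonoidHom ≤ H := by
    intro g hgQ
    set T : Subgroup G := H ⊔ H.map (MulAut.conj g).toMonoidHom with hT
    have hTQ : T ≤ Q := sup_le hHQ hgQ
    have hTp : IsPGroup p T := hQ.to_le hTQ
    have hHT : H ≤ T := le_sup_left
    by_cases hEq : H = T
    · have h3 : H.map (MulAut.conj g).toMonoidHom ≤ T := le_sup_right
      exact h3.trans hEq.ge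
    · exfalso
      have hlt : H < T := lt_of_le_of_ne hHT hEq
      obtain ⟨x, hxT, hxN, hxH⟩ := Cfsg.Agent.Helper19.exists_mem_normalizer_not_mem hTp hlt
      have : x ∈ T ⊓ Subgroup.normalizer (H : Set G) := ⟨hxT, hxN⟩
      rw [hT, hcl g] at this
      exact hxH this
  intro g hg
  have h1 : H.map (MulAut.conj g).toMonoidHom ≤ Q := by
    rintro _ ⟨h, hh, rfl⟩
    exact (Subgroup.mem_normalizer_iff.mp hg h).mp (hHQ hh)
  have h2 : H.map (MulAut.conj g⁻¹).toMonoidHom ≤ Q := by
    rintro _ ⟨h, hh, rfl⟩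
    exact (Subgroup.mem_normalizer_iff.mp (Subgroup.inv_mem _ hg) h).mp (hHQ hh)
  have k1 := key g h1
  have k2 := key g⁻¹ h2
  rw [Subgroup.mem_normalizer_iff]
  intro h
  constructor
  · intro hh
    exact k1 ⟨h, hh, rfl⟩
  · intro hh
    have := k2 ⟨g * h * g⁻¹, hh, rfl⟩
    simpa [mul_assoc] using this

/-- S3021 (2) -/
theorem stronglyClosed_of_extremelyClosed [Finite G] [Fact p.Prime] {H : Subgroup G}
    (hcl : IsExtremelyClosed H) (P : Sylow p G) (hHP : H ≤ (P : Subgroup G)) :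
    (P : Subgroup G) ≤ Subgroup.normalizer (H : Set G) ∧ IsStronglyClosed H (P : Subgroup G) := by
  have hPN : (P : Subgroup G) ≤ Subgroup.normalizer (H : Set G) :=
    Subgroup.le_normalizer.trans (normalizer_le_normalizer_of_extremelyClosed hcl P.isPGroup' hHP)
  refine ⟨hPN, hHP, ?_⟩
  intro x hx g hg
  have h1 : g * x * g⁻¹ ∈ (H ⊔ H.map (MulAut.conj g).toMonoidHom) ⊓
      Subgroup.normalizer (H : Set G) := by
    refine ⟨?_, hPN hg⟩
    apply (le_sup_right : H.map (MulAut.conj g).toMonoidHom ≤ _)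
    exact ⟨x, hx, rfl⟩
  rw [hcl g] at h1
  exact h1

end Cfsg.Agent.Helper15
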