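import Mathlib
import Cfsg.Prelude.Def_Solvable
import Cfsg.Agent.Helper15.ExtClosed
import Cfsg.Agent.Helper19.Cores

set_option autoImplicit false

namespace Cfsg.Agent.Helper15

open Cfsg

variable {G : Type*} [Group G] {p : ℕ}

/-- If `P` is a Sylow `p`-subgroup with `N(P) ≤ C(P)`, the Burnside normal complement is
`O_{p'}(G)`. -/
theorem pPrimeCore_eq_ker_transferSylow [Finite G] [Fact p.Prime] (P : Sylow p G)
    (hP : Subgroup.normalizer ((P : Subgroup G) : Set G) ≤
      Subgroup.centralizer ((P : Subgroup G) : Set G)) :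
    pPrimeCore p G = (MonoidHom.transferSylow P hP).ker := by
  have hp : p.Prime := Fact.out
  have hc := MonoidHom.ker_transferSylow_isComplement' P hP
  apply le_antisymm
  · intro l hl
    rw [MonoidHom.mem_ker]
    set t := MonoidHom.transferSylow P hP l with ht
    have h1 : orderOf t ∣ orderOf l := orderOf_map_dvd _ l
    have h2 : orderOf l ∣ Nat.card (pPrimeCore p G) := Subgroup.orderOf_dvd_natCard _ hl
    have h3 : (orderOf t).Coprime p :=
      Nat.Coprime.coprime_dvd_left (h1.trans h2) (Cfsg.Agent.Helper19.pPrimeCore_coprime p)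
    obtain ⟨k, hk⟩ := P.isPGroup' t
    have h4 : orderOf t ∣ p ^ k := orderOf_dvd_of_pow_eq_one hk
    have h5 : orderOf t = 1 := Nat.Coprime.eq_one_of_dvd (Nat.Coprime.pow_right k h3) h4
    exact orderOf_eq_one_iff.mp h5
  · apply le_sSup
    refine ⟨inferInstance, ?_⟩
    have h1 := hc.card_mul_card
    have h2 : (P : Subgroup G).index * Nat.card (P : Subgroup G) = Nat.card G :=
      Subgroup.index_mul_card _
    have h3 : Nat.card (MonoidHom.transferSylow P hP).ker = (P : Subgroup G).index := by
      have hpos : 0 < Nat.card (P : Subgroup G) := Nat.card_pos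
      have : Nat.card (MonoidHom.transferSylow P hP).ker * Nat.card (P : Subgroup G) =
          (P : Subgroup G).index * Nat.card (P : Subgroup G) := by rw [h1, h2]
      exact Nat.eq_of_mul_eq_mul_right hpos this
    rw [h3]
    exact ((Nat.Prime.coprime_iff_not_dvd hp).mpr P.not_dvd_index).symm

/-- S3020 -/
theorem extremelyClosed_complement [Finite G] [Fact p.Prime] (H : Subgroup G)
    (hHp : IsPGroup p H) (hHab : IsMulCommutative H) (hcl : IsExtremelyClosed H) (g : G) :
    H ⊔ (pPrimeCore p ↥(H ⊔ H.map (MulAut.conj g).toMonoidHom)).map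
        (H ⊔ H.map (MulAut.conj g).toMonoidHom).subtype = H ⊔ H.map (MulAut.conj g).toMonoidHom ∧
      H ⊓ (pPrimeCore p ↥(H ⊔ H.map (MulAut.conj g).toMonoidHom)).map
        (H ⊔ H.map (MulAut.conj g).toMonoidHom).subtype = ⊥ := by
  set T : Subgroup G := H ⊔ H.map (MulAut.conj g).toMonoidHom with hT
  have hHT : H ≤ T := le_sup_left
  have hTN : T ⊓ Subgroup.normalizer (H : Set G) = H := hcl g
  -- H is a Sylow subgroup of T
  let P : Sylow p ↥T :=
    { toSubgroup := H.subgroupOf T
      isPGroup' := hHp.comap_subtype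
      is_maximal' := by
        intro R hR hle
        apply le_antisymm _ hle
        set R' : Subgroup G := R.map T.subtype with hR'
        have hR'p : IsPGroup p R' := hR.map _
        have hHR' : H ≤ R' := by
          intro h hh
          exact ⟨⟨h, hHT hh⟩, hle (by rw [Subgroup.mem_subgroupOf]; exact hh), rfl⟩
        have hR'T : R' ≤ T := Subgroup.map_subtype_le _
        have h1 : R' ≤ Subgroup.normalizer (H : Set G) :=
          Subgroup.le_normalizer.trans
            (normalizer_le_normalizer_of_extremelyClosed hcl hR'p hHR')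
        have h2 : R' ≤ H := by
          rw [← hTN]; exact le_inf hR'T h1
        intro r hr
        rw [Subgroup.mem_subgroupOf]
        exact h2 ⟨r, hr, rfl⟩ }
  have hPcoe : (P : Subgroup ↥T) = H.subgroupOf T := rfl
  have hNC : Subgroup.normalizer ((P : Subgroup ↥T) : Set ↥T) ≤
      Subgroup.centralizer ((P : Subgroup ↥T) : Set ↥T) := by
    intro n hn
    have hnN : (n : G) ∈ Subgroup.normalizer (H : Set G) := by
      rw [Subgroup.mem_normalizer_iff]
      intro h
      constructor
      · intro hh
        have h1 : (⟨h, hHT hh⟩ : ↥T) ∈ (P : Subgroup ↥T) := by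
          rw [hPcoe, Subgroup.mem_subgroupOf]; exact hh
        have h2 := (Subgroup.mem_normalizer_iff.mp hn _).mp h1
        rw [hPcoe, Subgroup.mem_subgroupOf] at h2
        exact h2
      · intro hh
        have hhT : h ∈ T := by
          have : h = (n : G)⁻¹ * ((n : G) * h * (n : G)⁻¹) * (n : G) := by group
          rw [this]
          exact T.mul_mem (T.mul_mem (T.inv_mem n.2) (hHT hh)) n.2
        have h1 : n * (⟨h, hhT⟩ : ↥T) * n⁻¹ ∈ (P : Subgroup ↥T) := by
          rw [hPcoe, Subgroup.mem_subgroupOf]; exact hh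
        have h2 := (Subgroup.mem_normalizer_iff.mp hn _).mpr h1
        rw [hPcoe, Subgroup.mem_subgroupOf] at h2
        exact h2
    have hnH : (n : G) ∈ H := by
      rw [← hTN]; exact ⟨n.2, hnN⟩
    rw [Subgroup.mem_centralizer_iff]
    intro y hy
    rw [SetLike.mem_coe, hPcoe, Subgroup.mem_subgroupOf] at hy
    apply Subtype.ext
    have := hHab.is_comm.comm ⟨(y : G), hy⟩ ⟨(n : G), hnH⟩
    have h3 : (y : G) * (n : G) = (n : G) * (y : G) := congrArg Subtype.val this
    exact h3
  have hcore := pPrimeCore_eq_ker_transferSylow P hNC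
  have hc := MonoidHom.ker_transferSylow_isComplement' P hNC
  rw [← hcore, hPcoe] at hc
  have hmapH : (H.subgroupOf T).map T.subtype = H := by
    rw [Subgroup.subgroupOf_map_subtype]; exact inf_eq_left.mpr hHT
  constructor
  · have h1 := hc.sup_eq_top
    have h2 := congrArg (Subgroup.map T.subtype) h1
    rw [Subgroup.map_sup, hmapH, ← MonoidHom.range_eq_map, Subgroup.range_subtype] at h2
    rw [sup_comm]; exact h2
  · have h1 := hc.disjoint
    rw [disjoint_iff] at h1
    have h2 := congrArg (Subgroup.map T.subtype) h1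
    rw [Subgroup.map_inf _ _ _ T.subtype_injective, hmapH, Subgroup.map_bot] at h2
    rw [inf_comm]; exact h2

end Cfsg.Agent.Helper15
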