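import Mathlib
import Cfsg.Prelude.Def_BaumannBlocks

set_option autoImplicit false

namespace Cfsg.Agent.Helper15

open Subgroup
open scoped Pointwise

variable {P : Type*} [Group P]

theorem card_mul_relIndex {H K : Subgroup P} (h : H ≤ K) :
    Nat.card H * H.relIndex K = Nat.card K := by
  have := Subgroup.relIndex_mul_relIndex (⊥ : Subgroup P) H K bot_le h
  rwa [Subgroup.relIndex_bot_left, Subgroup.relIndex_bot_left] at this

theorem relIndex_ne_zero_of_finite [Finite P] (H K : Subgroup P) : H.relIndex K ≠ 0 := by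
  unfold Subgroup.relIndex
  exact Subgroup.index_ne_zero_of_finite

/-- `|Q| * |R| ≤ |Q ⊔ R| * |Q ⊓ R|` in a finite group. -/
theorem card_mul_card_le_sup_mul_inf [Finite P] (Q R : Subgroup P) :
    Nat.card Q * Nat.card R ≤ Nat.card ↥(Q ⊔ R) * Nat.card ↥(Q ⊓ R) := by
  have h1 : Nat.card ↥(Q ⊓ R) * R.relIndex Q = Nat.card Q := by
    rw [← Subgroup.inf_relIndex_left]
    exact card_mul_relIndex inf_le_left
  have h2 : Nat.card R * R.relIndex (Q ⊔ R) = Nat.card ↥(Q ⊔ R) :=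
    card_mul_relIndex le_sup_right
  have h3 : R.relIndex Q ≤ R.relIndex (Q ⊔ R) :=
    Subgroup.relIndex_le_of_le_right le_sup_left (relIndex_ne_zero_of_finite _ _)
  calc Nat.card Q * Nat.card R = Nat.card ↥(Q ⊓ R) * R.relIndex Q * Nat.card R := by rw [h1]
    _ ≤ Nat.card ↥(Q ⊓ R) * R.relIndex (Q ⊔ R) * Nat.card R := by gcongr
    _ = Nat.card ↥(Q ⊔ R) * Nat.card ↥(Q ⊓ R) := by rw [← h2]; ring

/-- In the equality case the join is the set product. -/
theorem coe_sup_eq_mul_of_card_eq [Finite P] (Q R : Subgroup P)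
    (h : Nat.card Q * Nat.card R = Nat.card ↥(Q ⊔ R) * Nat.card ↥(Q ⊓ R)) :
    ((Q ⊔ R : Subgroup P) : Set P) = (Q : Set P) * (R : Set P) := by
  have h1 : Nat.card ↥(Q ⊓ R) * R.relIndex Q = Nat.card Q := by
    rw [← Subgroup.inf_relIndex_left]
    exact card_mul_relIndex inf_le_left
  have h2 : Nat.card R * R.relIndex (Q ⊔ R) = Nat.card ↥(Q ⊔ R) :=
    card_mul_relIndex le_sup_right
  have hpos1 : 0 < Nat.card ↥(Q ⊓ R) := Nat.card_pos
  have hpos2 : 0 < Nat.card R := Nat.card_pos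
  have h3 : R.relIndex Q = R.relIndex (Q ⊔ R) := by
    rw [← h1, ← h2] at h
    have : Nat.card ↥(Q ⊓ R) * Nat.card R * R.relIndex Q
        = Nat.card ↥(Q ⊓ R) * Nat.card R * R.relIndex (Q ⊔ R) := by
      calc _ = Nat.card ↥(Q ⊓ R) * R.relIndex Q * Nat.card R := by ring
        _ = Nat.card R * R.relIndex (Q ⊔ R) * Nat.card ↥(Q ⊓ R) := h
        _ = _ := by ring
    exact Nat.eq_of_mul_eq_mul_left (Nat.mul_pos hpos1 hpos2) this
  -- the embedding of coset spaces is a bijection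
  let e := Subgroup.quotientSubgroupOfEmbeddingOfLE R (le_sup_left : Q ≤ Q ⊔ R)
  have hbij : Function.Bijective e := by
    rw [Nat.bijective_iff_injective_and_card]
    refine ⟨e.injective, ?_⟩
    have : Nat.card (↥Q ⧸ R.subgroupOf Q) = Nat.card (↥(Q ⊔ R) ⧸ R.subgroupOf (Q ⊔ R)) := by
      simpa [Subgroup.relIndex, Subgroup.index] using h3
    exact this
  apply le_antisymm
  · intro x hx
    obtain ⟨q, hq⟩ := hbij.2 (QuotientGroup.mk (⟨x, hx⟩ : ↥(Q ⊔ R)))
    induction q using QuotientGroup.induction_on with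
    | H q =>
      rw [Subgroup.quotientSubgroupOfEmbeddingOfLE_apply_mk, QuotientGroup.eq] at hq
      rw [Subgroup.mem_subgroupOf] at hq
      refine ⟨(q : P), q.2, _, hq, ?_⟩
      simp
  · rintro _ ⟨q, hq, r, hr, rfl⟩
    exact (Q ⊔ R).mul_mem (le_sup_left (a := Q) hq) (le_sup_right (b := R) hr)

/-- abbreviation for the centralizer of a subgroup -/
abbrev cz (H : Subgroup P) : Subgroup P := Subgroup.centralizer (H : Set P)

theorem cz_sup (Q R : Subgroup P) : cz (Q ⊔ R) = cz Q ⊓ cz R := by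
  apply le_antisymm
  · exact le_inf (Subgroup.centralizer_le (by exact_mod_cast (le_sup_left : Q ≤ Q ⊔ R)))
      (Subgroup.centralizer_le (by exact_mod_cast (le_sup_right : R ≤ Q ⊔ R)))
  · intro x hx
    have h1 : Q ≤ Subgroup.centralizer ({x} : Set P) := by
      intro q hq
      rw [Subgroup.mem_centralizer_singleton_iff]
      exact (Subgroup.mem_centralizer_iff.mp hx.1 q hq)
    have h2 : R ≤ Subgroup.centralizer ({x} : Set P) := by
      intro q hq
      rw [Subgroup.mem_centralizer_singleton_iff]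
      exact (Subgroup.mem_centralizer_iff.mp hx.2 q hq)
    have h3 : Q ⊔ R ≤ Subgroup.centralizer ({x} : Set P) := sup_le h1 h2
    rw [Subgroup.mem_centralizer_iff]
    intro y hy
    have := h3 hy
    rw [Subgroup.mem_centralizer_singleton_iff] at this
    exact this

theorem cz_sup_le (Q R : Subgroup P) : cz Q ⊔ cz R ≤ cz (Q ⊓ R) :=
  sup_le (Subgroup.centralizer_le (by exact_mod_cast (inf_le_left : Q ⊓ R ≤ Q)))
    (Subgroup.centralizer_le (by exact_mod_cast (inf_le_right : Q ⊓ R ≤ R)))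

theorem le_cz_cz (Q : Subgroup P) : Q ≤ cz (cz Q) := by
  intro q hq
  rw [Subgroup.mem_centralizer_iff]
  intro y hy
  exact ((Subgroup.mem_centralizer_iff.mp hy) q hq).symm

theorem cz_anti {Q R : Subgroup P} (h : Q ≤ R) : cz R ≤ cz Q :=
  Subgroup.centralizer_le (by exact_mod_cast h)

/-- The Chermak–Delgado measure. -/
noncomputable def cdm (H : Subgroup P) : ℕ := Nat.card H * Nat.card ↥(cz H)

theorem cdm_pos [Finite P] (H : Subgroup P) : 0 < cdm H :=
  Nat.mul_pos Nat.card_pos Nat.card_pos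

theorem card_le_of_le [Finite P] {H K : Subgroup P} (h : H ≤ K) : Nat.card H ≤ Nat.card K :=
  Nat.le_of_dvd Nat.card_pos (Subgroup.card_dvd_of_le h)

theorem eq_of_le_of_card_ge' [Finite P] {H K : Subgroup P} (h : H ≤ K)
    (hc : Nat.card K ≤ Nat.card H) : H = K := by
  have : (H : Set P) = K := by
    apply Set.eq_of_subset_of_ncard_le (by exact_mod_cast h) _ (Set.toFinite _)
    simpa [← Nat.card_coe_set_eq] using hc
  exact SetLike.coe_injective this

/-- The basic inequality for the Chermak–Delgado measure. -/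
theorem cdm_mul_le [Finite P] (Q R : Subgroup P) :
    cdm Q * cdm R ≤ cdm (Q ⊔ R) * cdm (Q ⊓ R) := by
  have h1 := card_mul_card_le_sup_mul_inf Q R
  have h2 := card_mul_card_le_sup_mul_inf (cz Q) (cz R)
  have h3 : Nat.card ↥(cz Q ⊔ cz R) ≤ Nat.card ↥(cz (Q ⊓ R)) := card_le_of_le (cz_sup_le Q R)
  unfold cdm
  rw [cz_sup]
  calc Nat.card Q * Nat.card ↥(cz Q) * (Nat.card R * Nat.card ↥(cz R))
      = (Nat.card Q * Nat.card R) * (Nat.card ↥(cz Q) * Nat.card ↥(cz R)) := by ring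
    _ ≤ (Nat.card ↥(Q ⊔ R) * Nat.card ↥(Q ⊓ R)) *
          (Nat.card ↥(cz Q ⊔ cz R) * Nat.card ↥(cz Q ⊓ cz R)) := Nat.mul_le_mul h1 h2
    _ ≤ (Nat.card ↥(Q ⊔ R) * Nat.card ↥(Q ⊓ R)) *
          (Nat.card ↥(cz (Q ⊓ R)) * Nat.card ↥(cz Q ⊓ cz R)) := by gcongr
    _ = _ := by ring

theorem cdm_le_card_sq [Finite P] (H : Subgroup P) : cdm H ≤ Nat.card P * Nat.card P :=
  Nat.mul_le_mul (Subgroup.card_le_card_group H) (Subgroup.card_le_card_group _)

theorem cdm_set_bddAbove [Finite P] :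
    BddAbove {k : ℕ | ∃ R : Subgroup P, Nat.card ↥R * Nat.card ↥(Subgroup.centralizer (R : Set P)) = k} := by
  refine ⟨Nat.card P * Nat.card P, ?_⟩
  rintro k ⟨R, rfl⟩
  exact cdm_le_card_sq R

theorem cdm_le_max [Finite P] (H : Subgroup P) : cdm H ≤ Cfsg.maxCentralizerProduct P :=
  le_csSup cdm_set_bddAbove ⟨H, rfl⟩

theorem exists_cdm_eq_max [Finite P] : ∃ H : Subgroup P, cdm H = Cfsg.maxCentralizerProduct P := by
  have hne : {k : ℕ | ∃ R : Subgroup P, Nat.card ↥R * Nat.card ↥(Subgroup.centralizer (R : Set P)) = k}.Nonempty :=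
    ⟨_, (⊥ : Subgroup P), rfl⟩
  obtain ⟨R, hR⟩ := Nat.sSup_mem hne cdm_set_bddAbove
  exact ⟨R, hR⟩

theorem isCentralizerLarge_iff (H : Subgroup P) :
    Cfsg.IsCentralizerLarge H ↔ cdm H = Cfsg.maxCentralizerProduct P := Iff.rfl

theorem max_pos [Finite P] : 0 < Cfsg.maxCentralizerProduct P :=
  lt_of_lt_of_le (cdm_pos (⊥ : Subgroup P)) (cdm_le_max _)

/-- The Chermak–Delgado lattice theorem. -/
theorem cd_lattice [Finite P] (Q R : Subgroup P) (hQ : Cfsg.IsCentralizerLarge Q)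
    (hR : Cfsg.IsCentralizerLarge R) :
    Cfsg.IsCentralizerLarge (Q ⊔ R) ∧ Cfsg.IsCentralizerLarge (Q ⊓ R) ∧
    Nat.card Q * Nat.card R = Nat.card ↥(Q ⊔ R) * Nat.card ↥(Q ⊓ R) ∧
    Nat.card ↥(cz Q) * Nat.card ↥(cz R) = Nat.card ↥(cz Q ⊔ cz R) * Nat.card ↥(cz Q ⊓ cz R) ∧
    cz (Q ⊓ R) = cz Q ⊔ cz R := by
  rw [isCentralizerLarge_iff] at hQ hR ⊢
  rw [isCentralizerLarge_iff]
  set M := Cfsg.maxCentralizerProduct P with hM
  have hMpos : 0 < M := max_pos
  have h1 := card_mul_card_le_sup_mul_inf Q R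
  have h2 := card_mul_card_le_sup_mul_inf (cz Q) (cz R)
  have h3 : Nat.card ↥(cz Q ⊔ cz R) ≤ Nat.card ↥(cz (Q ⊓ R)) := card_le_of_le (cz_sup_le Q R)
  have hle1 : cdm (Q ⊔ R) ≤ M := cdm_le_max _
  have hle2 : cdm (Q ⊓ R) ≤ M := cdm_le_max _
  have hmain := cdm_mul_le Q R
  rw [hQ, hR] at hmain
  have e1 : cdm (Q ⊔ R) = M := by
    by_contra hne
    have hlt : cdm (Q ⊔ R) < M := lt_of_le_of_ne hle1 hne
    have : cdm (Q ⊔ R) * cdm (Q ⊓ R) < M * M :=
      calc cdm (Q ⊔ R) * cdm (Q ⊓ R) ≤ cdm (Q ⊔ R) * M := Nat.mul_le_mul_left _ hle2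
        _ < M * M := Nat.mul_lt_mul_of_pos_right hlt hMpos
    omega
  have e2 : cdm (Q ⊓ R) = M := by
    by_contra hne
    have hlt : cdm (Q ⊓ R) < M := lt_of_le_of_ne hle2 hne
    have : cdm (Q ⊔ R) * cdm (Q ⊓ R) < M * M :=
      calc cdm (Q ⊔ R) * cdm (Q ⊓ R) ≤ M * cdm (Q ⊓ R) := Nat.mul_le_mul_right _ hle1
        _ < M * M := Nat.mul_lt_mul_of_pos_left hlt hMpos
    omega
  refine ⟨e1, e2, ?_⟩
  -- now the equalities
  have hprod : cdm Q * cdm R = cdm (Q ⊔ R) * cdm (Q ⊓ R) := by rw [hQ, hR, e1, e2]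
  unfold cdm at hprod
  rw [cz_sup] at hprod
  set a := Nat.card Q * Nat.card R
  set a' := Nat.card ↥(Q ⊔ R) * Nat.card ↥(Q ⊓ R)
  set b := Nat.card ↥(cz Q) * Nat.card ↥(cz R)
  set b' := Nat.card ↥(cz Q ⊔ cz R) * Nat.card ↥(cz Q ⊓ cz R)
  set c := Nat.card ↥(cz (Q ⊓ R))
  set d := Nat.card ↥(cz Q ⊓ cz R)
  set e := Nat.card ↥(cz Q ⊔ cz R)
  have hapos : 0 < a := Nat.mul_pos Nat.card_pos Nat.card_pos
  have hbpos : 0 < b := Nat.mul_pos Nat.card_pos Nat.card_pos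
  have hdpos : 0 < d := Nat.card_pos
  have hepos : 0 < e := Nat.card_pos
  have hprod' : a * b = a' * (c * d) := by
    simp only [a, a', b, c, d]
    calc _ = Nat.card ↥Q * Nat.card ↥(cz Q) * (Nat.card ↥R * Nat.card ↥(cz R)) := by ring
      _ = _ := by rw [hprod]; ring
  have hb' : b' = e * d := rfl
  have hcd : b' ≤ c * d := by rw [hb']; exact Nat.mul_le_mul_right _ h3
  -- a ≤ a', b ≤ b' ≤ c*d, a*b = a'*(c*d)
  have ha : a = a' := by
    by_contra hne
    have hlt : a < a' := lt_of_le_of_ne h1 hne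
    have : a * b < a' * (c * d) :=
      calc a * b < a' * b := Nat.mul_lt_mul_of_pos_right hlt hbpos
        _ ≤ a' * (c * d) := Nat.mul_le_mul_left _ (le_trans h2 hcd)
    omega
  have hb : b = c * d := by
    rw [← ha] at hprod'
    exact Nat.eq_of_mul_eq_mul_left hapos hprod'
  have hbb' : b = b' := le_antisymm h2 (hb ▸ hcd)
  have hce : e = c := by
    have : e * d = c * d := by rw [← hb', ← hbb', hb]
    exact Nat.eq_of_mul_eq_mul_right hdpos this
  refine ⟨ha, hbb', ?_⟩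
  exact (eq_of_le_of_card_ge' (cz_sup_le Q R) (le_of_eq hce.symm)).symm

theorem cd_centralizer [Finite P] (Q : Subgroup P) (hQ : Cfsg.IsCentralizerLarge Q) :
    Cfsg.IsCentralizerLarge (cz Q) ∧ Q = cz (cz Q) := by
  rw [isCentralizerLarge_iff] at hQ ⊢
  have h1 : Nat.card Q ≤ Nat.card ↥(cz (cz Q)) := card_le_of_le (le_cz_cz Q)
  have h2 : cdm (cz Q) ≤ Cfsg.maxCentralizerProduct P := cdm_le_max _
  have h3 : cdm Q ≤ cdm (cz Q) := by
    unfold cdm
    calc Nat.card Q * Nat.card ↥(cz Q) ≤ Nat.card ↥(cz (cz Q)) * Nat.card ↥(cz Q) :=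
          Nat.mul_le_mul_right _ h1
      _ = _ := by ring
  have h4 : cdm (cz Q) = Cfsg.maxCentralizerProduct P := le_antisymm h2 (hQ ▸ h3)
  refine ⟨h4, ?_⟩
  have h5 : cdm Q = cdm (cz Q) := by rw [hQ, h4]
  unfold cdm at h5
  have hpos : 0 < Nat.card ↥(cz Q) := Nat.card_pos
  have h6 : Nat.card Q = Nat.card ↥(cz (cz Q)) := by
    have : Nat.card Q * Nat.card ↥(cz Q) = Nat.card ↥(cz (cz Q)) * Nat.card ↥(cz Q) := by
      rw [h5]; ring
    exact Nat.eq_of_mul_eq_mul_right hpos this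
  exact eq_of_le_of_card_ge' (le_cz_cz Q) (le_of_eq h6.symm)

end Cfsg.Agent.Helper15
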