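import Mathlib
import Cfsg.Prelude.Def_BaumannBlocks
import Cfsg.Agent.Helper15.CD

set_option autoImplicit false

namespace Cfsg.Agent.Helper15

open Subgroup
open scoped Pointwise

variable {P : Type*} [Group P]

/-- The centre of `H` as a group, mapped into `P`, is `H ⊓ C_P(H)`. -/
theorem map_center_subtype (H : Subgroup P) :
    (Subgroup.center ↥H).map H.subtype = H ⊓ cz H := by
  ext x
  constructor
  · rintro ⟨y, hy, rfl⟩
    refine ⟨y.2, Subgroup.mem_centralizer_iff.mpr ?_⟩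
    intro h hh
    have := (Subgroup.mem_center_iff.mp hy) ⟨h, hh⟩
    exact congrArg Subtype.val this
  · rintro ⟨hxH, hxC⟩
    refine ⟨⟨x, hxH⟩, Subgroup.mem_center_iff.mpr ?_, rfl⟩
    intro g
    apply Subtype.ext
    exact (Subgroup.mem_centralizer_iff.mp hxC) g g.2

theorem card_center_eq (H : Subgroup P) :
    Nat.card ↥(Subgroup.center ↥H) = Nat.card ↥(H ⊓ cz H) := by
  rw [← map_center_subtype]
  exact (Nat.card_congr ((Subgroup.center ↥H).equivMapOfInjective H.subtype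
    H.subtype_injective).toEquiv)

/-- The "central" measure `|H| * |Z(H)|`. -/
noncomputable def clm (H : Subgroup P) : ℕ := Nat.card H * Nat.card ↥(H ⊓ cz H)

theorem isCentrallyLarge_iff (H : Subgroup P) :
    Cfsg.IsCentrallyLarge H ↔ clm H = Cfsg.maxCentralProduct P := by
  unfold Cfsg.IsCentrallyLarge clm
  rw [card_center_eq]

theorem clm_le_cdm [Finite P] (H : Subgroup P) : clm H ≤ cdm H :=
  Nat.mul_le_mul_left _ (card_le_of_le inf_le_right)

theorem clm_set_bddAbove [Finite P] :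
    BddAbove {k : ℕ | ∃ R : Subgroup P, Nat.card ↥R * Nat.card ↥(Subgroup.center ↥R) = k} := by
  refine ⟨Nat.card P * Nat.card P, ?_⟩
  rintro k ⟨R, rfl⟩
  rw [card_center_eq]
  exact Nat.mul_le_mul (Subgroup.card_le_card_group R) (Subgroup.card_le_card_group _)

theorem clm_le_max [Finite P] (H : Subgroup P) : clm H ≤ Cfsg.maxCentralProduct P := by
  have : Nat.card ↥H * Nat.card ↥(Subgroup.center ↥H) ≤ Cfsg.maxCentralProduct P :=
    le_csSup clm_set_bddAbove ⟨H, rfl⟩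
  rwa [card_center_eq] at this

theorem exists_clm_eq_max [Finite P] : ∃ H : Subgroup P, clm H = Cfsg.maxCentralProduct P := by
  have hne : {k : ℕ | ∃ R : Subgroup P, Nat.card ↥R * Nat.card ↥(Subgroup.center ↥R) = k}.Nonempty :=
    ⟨_, (⊥ : Subgroup P), rfl⟩
  obtain ⟨R, hR⟩ := Nat.sSup_mem hne clm_set_bddAbove
  refine ⟨R, ?_⟩
  unfold clm
  rw [← card_center_eq]
  exact hR

/-- If `R` is measure-largest then `R ⊔ C(R)` has `clm = cdm = max`. -/
theorem clm_sup_cz [Finite P] (R : Subgroup P) (hR : Cfsg.IsCentralizerLarge R) :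
    clm (R ⊔ cz R) = Cfsg.maxCentralizerProduct P := by
  obtain ⟨h1, h2⟩ := cd_centralizer R hR
  obtain ⟨h3, -⟩ := cd_lattice R (cz R) hR h1
  rw [isCentralizerLarge_iff] at h3
  rw [← h3]
  have h4 : (R ⊔ cz R) ⊓ cz (R ⊔ cz R) = cz (R ⊔ cz R) := by
    rw [cz_sup, ← h2]
    apply le_antisymm inf_le_right
    refine le_inf ?_ le_rfl
    exact le_trans inf_le_right le_sup_left
  unfold clm cdm
  rw [h4]

theorem max_eq_max [Finite P] : Cfsg.maxCentralProduct P = Cfsg.maxCentralizerProduct P := by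
  apply le_antisymm
  · obtain ⟨H, hH⟩ := exists_clm_eq_max (P := P)
    rw [← hH]
    exact le_trans (clm_le_cdm H) (cdm_le_max H)
  · obtain ⟨R, hR⟩ := exists_cdm_eq_max (P := P)
    rw [← clm_sup_cz R hR]
    exact clm_le_max _

/-- A centrally large subgroup is measure-largest and `C(Q) = Z(Q)`. -/
theorem cl_imp [Finite P] (Q : Subgroup P) (hQ : Cfsg.IsCentrallyLarge Q) :
    Cfsg.IsCentralizerLarge Q ∧ cz Q = Q ⊓ cz Q := by
  rw [isCentrallyLarge_iff, max_eq_max] at hQ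
  have h1 : clm Q ≤ cdm Q := clm_le_cdm Q
  have h2 : cdm Q ≤ Cfsg.maxCentralizerProduct P := cdm_le_max Q
  have h3 : cdm Q = Cfsg.maxCentralizerProduct P := le_antisymm h2 (hQ ▸ h1)
  refine ⟨h3, ?_⟩
  have h4 : clm Q = cdm Q := by rw [hQ, h3]
  unfold clm cdm at h4
  have hpos : 0 < Nat.card Q := Nat.card_pos
  have h5 : Nat.card ↥(Q ⊓ cz Q) = Nat.card ↥(cz Q) := Nat.eq_of_mul_eq_mul_left hpos h4
  exact (eq_of_le_of_card_ge' (inf_le_right : Q ⊓ cz Q ≤ cz Q) (le_of_eq h5.symm)).symm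

theorem cl_iff_of_centralizerLarge [Finite P] (Q : Subgroup P) (hQ : Cfsg.IsCentralizerLarge Q) :
    Cfsg.IsCentrallyLarge Q ↔ cz Q ≤ Q := by
  constructor
  · intro h
    have := (cl_imp Q h).2
    rw [this]
    exact inf_le_left
  · intro h
    rw [isCentrallyLarge_iff, max_eq_max]
    rw [isCentralizerLarge_iff] at hQ
    rw [← hQ]
    unfold clm cdm
    rw [inf_eq_right.mpr h]

theorem cl_sup [Finite P] (Q R : Subgroup P) (hQ : Cfsg.IsCentrallyLarge Q)
    (hR : Cfsg.IsCentrallyLarge R) :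
    ((Q ⊔ R : Subgroup P) : Set P) = (Q : Set P) * (R : Set P) ∧ Cfsg.IsCentrallyLarge (Q ⊔ R) := by
  obtain ⟨hQ1, hQ2⟩ := cl_imp Q hQ
  obtain ⟨hR1, hR2⟩ := cl_imp R hR
  obtain ⟨h1, h2, h3, h4, h5⟩ := cd_lattice Q R hQ1 hR1
  refine ⟨coe_sup_eq_mul_of_card_eq Q R h3, ?_⟩
  rw [cl_iff_of_centralizerLarge _ h1, cz_sup]
  refine le_trans inf_le_left ?_
  rw [hQ2]
  exact le_trans inf_le_left le_sup_left

theorem supClosed_cl [Finite P] : SupClosed {R : Subgroup P | Cfsg.IsCentrallyLarge R} := by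
  intro a ha b hb
  exact (cl_sup a b ha hb).2

theorem exists_cl [Finite P] : ∃ R : Subgroup P, Cfsg.IsCentrallyLarge R := by
  obtain ⟨H, hH⟩ := exists_clm_eq_max (P := P)
  exact ⟨H, (isCentrallyLarge_iff H).mpr hH⟩

theorem isMinimalCentrallyLarge_iff (R : Subgroup P) :
    Cfsg.IsMinimalCentrallyLarge R ↔ Minimal Cfsg.IsCentrallyLarge R := by
  unfold Cfsg.IsMinimalCentrallyLarge Minimal
  constructor
  · rintro ⟨h1, h2⟩
    refine ⟨h1, fun c hc hle => ?_⟩
    rw [h2 c hle hc]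
  · rintro ⟨h1, h2⟩
    refine ⟨h1, fun c hle hc => ?_⟩
    exact le_antisymm hle (h2 hc hle)

theorem exists_mcl_le [Finite P] (Q : Subgroup P) (hQ : Cfsg.IsCentrallyLarge Q) :
    ∃ R : Subgroup P, R ≤ Q ∧ Cfsg.IsMinimalCentrallyLarge R := by
  obtain ⟨b, hb1, hb2⟩ := exists_minimal_le_of_wellFoundedLT Cfsg.IsCentrallyLarge Q hQ
  exact ⟨b, hb1, (isMinimalCentrallyLarge_iff b).mpr hb2⟩

theorem cl_centrallyLargeJoin [Finite P] : Cfsg.IsCentrallyLarge (Cfsg.centrallyLargeJoin P) := by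
  unfold Cfsg.centrallyLargeJoin
  exact supClosed_cl.sSup_mem_of_nonempty (Set.toFinite _) exists_cl (le_refl _)

theorem cl_minimalCentrallyLargeJoin [Finite P] :
    Cfsg.IsCentrallyLarge (Cfsg.minimalCentrallyLargeJoin P) := by
  unfold Cfsg.minimalCentrallyLargeJoin
  refine supClosed_cl.sSup_mem_of_nonempty (Set.toFinite _) ?_ ?_
  · obtain ⟨Q, hQ⟩ := exists_cl (P := P)
    obtain ⟨R, -, hR⟩ := exists_mcl_le Q hQ
    exact ⟨R, hR⟩
  · intro R hR
    exact hR.1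

end Cfsg.Agent.Helper15
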