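import Mathlib
import Cfsg.Prelude.Def_BaumannBlocks
import Cfsg.Agent.Helper15.CL

set_option autoImplicit false

namespace Cfsg.Agent.Helper15

open Subgroup
open scoped Pointwise

variable {P : Type*} [Group P]

theorem isMulCommutative_iff_le_cz (H : Subgroup P) : IsMulCommutative ↥H ↔ H ≤ cz H :=
  Subgroup.le_centralizer_iff_isMulCommutative.symm

theorem le_cz_comm {H K : Subgroup P} (h : H ≤ cz K) : K ≤ cz H :=
  Subgroup.le_centralizer_iff.mp h

theorem isMulCommutative_sup {H K : Subgroup P} (hH : IsMulCommutative ↥H) (hK : IsMulCommutative ↥K)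
    (hHK : H ≤ cz K) : IsMulCommutative ↥(H ⊔ K) := by
  rw [isMulCommutative_iff_le_cz] at hH hK ⊢
  rw [cz_sup]
  exact sup_le (le_inf hH hHK) (le_inf (le_cz_comm hHK) hK)

theorem exists_maxAbelian [Finite P] : ∃ A : Subgroup P, A ∈ Cfsg.maxAbelianSubgroups P := by
  classical
  have hfin : {A : Subgroup P | IsMulCommutative ↥A}.Finite := Set.toFinite _
  have hne : {A : Subgroup P | IsMulCommutative ↥A}.Nonempty :=
    ⟨⊥, (isMulCommutative_iff_le_cz _).mpr bot_le⟩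
  obtain ⟨A, hA⟩ := hfin.exists_maximalFor (fun A : Subgroup P => Nat.card A) _ hne
  refine ⟨A, hA.1, fun B hB => ?_⟩
  by_contra hlt
  push Not at hlt
  exact absurd (hA.2 hB hlt.le) (not_le.mpr hlt)

theorem cz_maxAbelian [Finite P] {A : Subgroup P} (hA : A ∈ Cfsg.maxAbelianSubgroups P) :
    cz A = A := by
  apply le_antisymm
  · intro x hx
    have h1 : IsMulCommutative ↥(Subgroup.zpowers x) := inferInstance
    have h2 : A ≤ cz (Subgroup.zpowers x) := by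
      apply le_cz_comm
      rw [Subgroup.zpowers_le]
      exact hx
    have h3 : IsMulCommutative ↥(A ⊔ Subgroup.zpowers x) := isMulCommutative_sup hA.1 h1 h2
    have h4 := hA.2 _ h3
    have h5 : A = A ⊔ Subgroup.zpowers x := eq_of_le_of_card_ge' le_sup_left h4
    rw [h5]
    exact le_sup_right (b := Subgroup.zpowers x) (Subgroup.mem_zpowers x)
  · exact (isMulCommutative_iff_le_cz A).mp hA.1

theorem arith_chain (q a b d z j i : ℕ) (hq : 0 < q) (hd : 0 < d) (hi : 0 < i)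
    (h1 : d * z ≤ b * i) (h2 : q * a ≤ j * d) (hba : b ≤ a) (hji : j * i ≤ q * z) :
    b = a ∧ q * a = j * d ∧ d * z = b * i ∧ j * i = q * z := by
  have c1 : q * a * i ≤ j * d * i := Nat.mul_le_mul_right _ h2
  have c2 : j * d * i ≤ q * (d * z) := by
    calc j * d * i = (j * i) * d := by ring
      _ ≤ (q * z) * d := Nat.mul_le_mul_right _ hji
      _ = q * (d * z) := by ring
  have c3 : q * (d * z) ≤ q * (b * i) := Nat.mul_le_mul_left _ h1
  have c4 : q * (b * i) ≤ q * a * i := by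
    calc q * (b * i) = q * i * b := by ring
      _ ≤ q * i * a := Nat.mul_le_mul_left _ hba
      _ = q * a * i := by ring
  have e1 : q * a * i = j * d * i := le_antisymm c1 (c2.trans (c3.trans c4))
  have e2 : j * d * i = q * (d * z) := le_antisymm c2 (c3.trans (c4.trans c1))
  have e3 : q * (d * z) = q * (b * i) := le_antisymm c3 (c4.trans (c1.trans c2))
  have e4 : q * (b * i) = q * a * i := le_antisymm c4 (c1.trans (c2.trans c3))
  refine ⟨?_, ?_, ?_, ?_⟩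
  · have : (q * i) * b = (q * i) * a := by
      calc (q * i) * b = q * (b * i) := by ring
        _ = q * a * i := e4
        _ = (q * i) * a := by ring
    exact Nat.eq_of_mul_eq_mul_left (Nat.mul_pos hq hi) this
  · exact Nat.eq_of_mul_eq_mul_right hi e1
  · exact Nat.eq_of_mul_eq_mul_left hq e3
  · have : (j * i) * d = (q * z) * d := by
      calc (j * i) * d = j * d * i := by ring
        _ = q * (d * z) := e2
        _ = (q * z) * d := by ring
    exact Nat.eq_of_mul_eq_mul_right hd this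

/-- the main counting lemma for a centrally large `Q` and a maximal-order abelian `A` -/
theorem cl_sup_maxAbelian [Finite P] (Q A : Subgroup P) (hQ : Cfsg.IsCentrallyLarge Q)
    (hA : A ∈ Cfsg.maxAbelianSubgroups P) :
    Cfsg.IsCentralizerLarge (Q ⊔ A) ∧
    Nat.card Q * Nat.card A = Nat.card ↥(Q ⊔ A) * Nat.card ↥(Q ⊓ A) ∧
    (Q ⊓ A) ⊔ (Q ⊓ cz Q) ∈ Cfsg.maxAbelianSubgroups P ∧
    Nat.card ↥(Q ⊓ A) * Nat.card ↥(Q ⊓ cz Q) =
      Nat.card ↥((Q ⊓ A) ⊔ (Q ⊓ cz Q)) * Nat.card ↥((Q ⊓ A) ⊓ (Q ⊓ cz Q)) := by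
  obtain ⟨hQ1, hQ2⟩ := cl_imp Q hQ
  set Z := Q ⊓ cz Q with hZ
  set D := Q ⊓ A with hD
  set B := D ⊔ Z with hB
  have hczA : cz A = A := cz_maxAbelian hA
  have hZab : IsMulCommutative ↥Z := by
    rw [isMulCommutative_iff_le_cz]
    exact le_trans inf_le_right (cz_anti inf_le_left)
  have hDab : IsMulCommutative ↥D := by
    rw [isMulCommutative_iff_le_cz]
    calc D ≤ A := inf_le_right
      _ ≤ cz A := (isMulCommutative_iff_le_cz A).mp hA.1
      _ ≤ cz D := cz_anti inf_le_right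
  have hDZ : D ≤ cz Z := by
    apply le_cz_comm
    exact le_trans inf_le_right (cz_anti inf_le_left)
  have hBab : IsMulCommutative ↥B := isMulCommutative_sup hDab hZab hDZ
  have hBA : Nat.card B ≤ Nat.card A := hA.2 B hBab
  have hDZinf : D ⊓ Z = A ⊓ Z := by
    rw [hD, hZ]
    apply le_antisymm
    · exact le_inf (le_trans inf_le_left inf_le_right) inf_le_right
    · refine le_inf (le_inf ?_ inf_le_left) inf_le_right
      exact le_trans inf_le_right inf_le_left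
  have h1 : Nat.card D * Nat.card Z ≤ Nat.card B * Nat.card ↥(D ⊓ Z) :=
    card_mul_card_le_sup_mul_inf D Z
  have h2 : Nat.card Q * Nat.card A ≤ Nat.card ↥(Q ⊔ A) * Nat.card D :=
    card_mul_card_le_sup_mul_inf Q A
  have hczsup : cz (Q ⊔ A) = A ⊓ Z := by
    rw [cz_sup, hczA, hQ2, inf_comm]
  have hM : cdm Q = Cfsg.maxCentralizerProduct P := hQ1
  have hle : cdm (Q ⊔ A) ≤ Cfsg.maxCentralizerProduct P := cdm_le_max _
  have hcdmQ : cdm Q = Nat.card Q * Nat.card Z := by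
    unfold cdm; rw [hQ2]
  have hcdmQA : cdm (Q ⊔ A) = Nat.card ↥(Q ⊔ A) * Nat.card ↥(A ⊓ Z) := by
    unfold cdm; rw [hczsup]
  set q := Nat.card Q
  set a := Nat.card A
  set b := Nat.card B
  set d := Nat.card D
  set z := Nat.card Z
  set j := Nat.card ↥(Q ⊔ A)
  set i := Nat.card ↥(A ⊓ Z)
  rw [hDZinf] at h1
  have hqpos : 0 < q := Nat.card_pos
  have hdpos : 0 < d := Nat.card_pos
  have hipos : 0 < i := Nat.card_pos
  have hzpos : 0 < z := Nat.card_pos
  have hji : j * i ≤ q * z := by rw [← hcdmQA, ← hcdmQ, hM]; exact hle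
  obtain ⟨hba, e1, e3, e4⟩ := arith_chain q a b d z j i hqpos hdpos hipos h1 h2 hBA hji
  refine ⟨?_, e1, ?_, ?_⟩
  · rw [isCentralizerLarge_iff, hcdmQA, e4, ← hcdmQ, hM]
  · refine ⟨hBab, fun C hC => ?_⟩
    have := hA.2 C hC
    show Nat.card C ≤ b
    rw [hba]; exact this
  · rw [hDZinf]
    exact e3

theorem mem_cz_iff {H : Subgroup P} {x : P} : x ∈ cz H ↔ ∀ h ∈ H, h * x = x * h :=
  Subgroup.mem_centralizer_iff

/-- `S3006` packaged. -/
theorem cl_maxAbelian_all [Finite P] (Q A : Subgroup P) (hQ : Cfsg.IsCentrallyLarge Q)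
    (hA : A ∈ Cfsg.maxAbelianSubgroups P) :
    ((Q ⊔ A : Subgroup P) : Set P) = (Q : Set P) * (A : Set P) ∧ Cfsg.IsCentrallyLarge (Q ⊔ A) ∧
    (Q ⊔ A) ⊓ cz (Q ⊓ A) = (Q ⊓ cz Q) ⊔ A ∧
    (((Q ⊓ cz Q) ⊔ A : Subgroup P) : Set P) = ((Q ⊓ cz Q : Subgroup P) : Set P) * (A : Set P) := by
  obtain ⟨h1, h2, h3, h4⟩ := cl_sup_maxAbelian Q A hQ hA
  obtain ⟨hQ1, hQ2⟩ := cl_imp Q hQ
  have hprod : ((Q ⊔ A : Subgroup P) : Set P) = (Q : Set P) * (A : Set P) :=
    coe_sup_eq_mul_of_card_eq Q A h2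
  have hprod2 : (((Q ⊓ A) ⊔ (Q ⊓ cz Q) : Subgroup P) : Set P) =
      ((Q ⊓ A : Subgroup P) : Set P) * ((Q ⊓ cz Q : Subgroup P) : Set P) :=
    coe_sup_eq_mul_of_card_eq _ _ h4
  have hczA : cz A = A := cz_maxAbelian hA
  have hczB : cz ((Q ⊓ A) ⊔ (Q ⊓ cz Q)) = (Q ⊓ A) ⊔ (Q ⊓ cz Q) := cz_maxAbelian h3
  have hCL : Cfsg.IsCentrallyLarge (Q ⊔ A) := by
    rw [cl_iff_of_centralizerLarge _ h1, cz_sup, hQ2]
    exact le_trans inf_le_left (le_trans inf_le_left le_sup_left)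
  -- key: Q ⊓ cz (Q ⊓ A) ≤ (Q ⊓ A) ⊔ (Q ⊓ cz Q)
  have hkey : Q ⊓ cz (Q ⊓ A) ≤ (Q ⊓ A) ⊔ (Q ⊓ cz Q) := by
    rw [← hczB, cz_sup]
    refine le_inf inf_le_right ?_
    refine le_trans inf_le_left ?_
    apply le_cz_comm
    exact inf_le_right
  have hsub : ∀ x : P, x ∈ (Q ⊔ A) ⊓ cz (Q ⊓ A) →
      x ∈ ((Q ⊓ cz Q : Subgroup P) : Set P) * (A : Set P) := by
    rintro x ⟨hx1, hx2⟩
    have hx1' : x ∈ ((Q ⊔ A : Subgroup P) : Set P) := hx1
    rw [hprod] at hx1'
    obtain ⟨q, hq, a, ha, rfl⟩ := hx1'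
    have haC : a ∈ cz (Q ⊓ A) := by
      have : A ≤ cz (Q ⊓ A) := by
        calc A ≤ cz A := (isMulCommutative_iff_le_cz A).mp hA.1
          _ ≤ cz (Q ⊓ A) := cz_anti inf_le_right
      exact this ha
    have hqC : q ∈ cz (Q ⊓ A) := by
      have := (cz (Q ⊓ A)).mul_mem hx2 ((cz (Q ⊓ A)).inv_mem haC)
      simpa using this
    have hqB : q ∈ (((Q ⊓ A) ⊔ (Q ⊓ cz Q) : Subgroup P) : Set P) := hkey ⟨hq, hqC⟩
    rw [hprod2] at hqB
    obtain ⟨d, hd, z, hz, rfl⟩ := hqB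
    -- d * z * a = z * (d * a)
    refine ⟨z, hz, d * a, A.mul_mem hd.2 ha, ?_⟩
    have hcomm : d * z = z * d := by
      have hz2 : z ∈ cz Q := hz.2
      exact (mem_cz_iff.mp hz2 d hd.1)
    simp only []
    rw [← mul_assoc, ← hcomm]
  have hZA : (Q ⊓ cz Q) ⊔ A ≤ (Q ⊔ A) ⊓ cz (Q ⊓ A) := by
    refine sup_le (le_inf (le_trans inf_le_left le_sup_left) ?_) (le_inf le_sup_right ?_)
    · exact le_trans inf_le_right (cz_anti inf_le_left)
    · calc A ≤ cz A := (isMulCommutative_iff_le_cz A).mp hA.1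
        _ ≤ cz (Q ⊓ A) := cz_anti inf_le_right
  have hmulsub : ((Q ⊓ cz Q : Subgroup P) : Set P) * (A : Set P) ⊆ (((Q ⊓ cz Q) ⊔ A : Subgroup P) : Set P) := by
    rintro _ ⟨z, hz, a, ha, rfl⟩
    exact ((Q ⊓ cz Q) ⊔ A).mul_mem (le_sup_left (a := Q ⊓ cz Q) hz) (le_sup_right (b := A) ha)
  refine ⟨hprod, hCL, ?_, ?_⟩
  · apply le_antisymm
    · intro x hx
      exact hmulsub (hsub x hx)
    · exact hZA
  · apply Set.Subset.antisymm
    · intro x hx
      exact hsub x (hZA hx)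
    · exact hmulsub

theorem thompsonA_le_clJoin [Finite P] : Cfsg.thompsonSubgroupA P ≤ Cfsg.centrallyLargeJoin P := by
  unfold Cfsg.thompsonSubgroupA
  apply sSup_le
  intro A hA
  have hS := cl_centrallyLargeJoin (P := P)
  have h1 := (cl_maxAbelian_all _ A hS hA).2.1
  have h2 : Cfsg.centrallyLargeJoin P ⊔ A ≤ Cfsg.centrallyLargeJoin P := by
    unfold Cfsg.centrallyLargeJoin at h1 ⊢
    exact le_sSup h1
  exact le_trans le_sup_right h2

theorem cz_center_thompsonA_le [Finite P] :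
    cz (Cfsg.thompsonSubgroupA P ⊓ cz (Cfsg.thompsonSubgroupA P)) ≤ Cfsg.centrallyLargeJoin P := by
  set S := Cfsg.centrallyLargeJoin P with hS
  set J := Cfsg.thompsonSubgroupA P with hJ
  have hScl := cl_centrallyLargeJoin (P := P)
  obtain ⟨hS1, hS2⟩ := cl_imp S hScl
  obtain ⟨-, hS3⟩ := cd_centralizer S hS1
  have hJS : J ≤ S := thompsonA_le_clJoin
  obtain ⟨A, hA⟩ := exists_maxAbelian (P := P)
  have hAJ : A ≤ J := le_sSup hA
  have h1 : cz S ≤ J ⊓ cz J := by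
    refine le_inf ?_ (cz_anti hJS)
    calc cz S ≤ cz A := cz_anti (le_trans hAJ hJS)
      _ = A := cz_maxAbelian hA
      _ ≤ J := hAJ
  calc cz (J ⊓ cz J) ≤ cz (cz S) := cz_anti h1
    _ = S := hS3.symm

end Cfsg.Agent.Helper15
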