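import Mathlib
import Cfsg.Prelude.Def_LocalEven
import Cfsg.Prelude.Def_Transfer
import Cfsg.Prelude.Def_Solvable
import Cfsg.Agent.Helper26.Involves
import Cfsg.Agent.Helper14.PCore

set_option autoImplicit false
set_option linter.unusedSectionVars false

/-! # From the linear `SL₂(p)` theorem (statement of S0656, taken as a hypothesis) to abstract
irreducible actions -/

namespace Cfsg.Agent.Helper15.SL2Free

open Subgroup Cfsg

universe u

/-- the statement of S0656, in a fixed universe -/
def H656 (p : ℕ) : Prop :=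
  ∀ (G : Type u) [Group G] [Finite G] (V H : Subgroup G), Cfsg.IsElementaryAbelian p V →
    H ≤ Subgroup.normalizer (V : Set G) → H ⊓ Subgroup.centralizer (V : Set G) = ⊥ →
    Cfsg.pCore p ↥H = ⊥ → ∀ x : G, x ∈ H → x ≠ 1 → (∃ k : ℕ, orderOf x = p ^ k) →
    ⁅⁅V, Subgroup.zpowers x⁆, Subgroup.zpowers x⁆ = ⊥ →
    ∃ (K L : Subgroup G) (_ : (L.subgroupOf K).Normal), K ≤ H ∧
      Nonempty ((K ⧸ L.subgroupOf K) ≃* Matrix.SpecialLinearGroup (Fin 2) (ZMod p))

/-- `Involves` pulls back along surjective homomorphisms -/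
theorem involves_of_surjective_hom {S : Type*} [Group S] {A B : Type*} [Group A] [Group B]
    (g : A →* B) (hg : Function.Surjective g) (h : Involves S B) : Involves S A := by
  obtain ⟨K', f, hf⟩ := Cfsg.Agent.Helper26.exists_surjective_of_involves h
  refine Cfsg.Agent.Helper26.involves_of_surjective (K'.comap g) (f.comp (g.subgroupComap K')) ?_
  intro x
  obtain ⟨y, hy⟩ := hf x
  obtain ⟨z, hz⟩ := MonoidHom.subgroupComap_surjective_of_surjective g K' hg y
  exact ⟨z, by simp [hz, hy]⟩

/-- a section of `G` inside the subgroup `H` is a section of `H` -/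
theorem involves_subgroup_of_le {S : Type*} [Group S] {G : Type*} [Group G] (H K L : Subgroup G)
    (hL : (L.subgroupOf K).Normal) (hKH : K ≤ H)
    (e : (K ⧸ L.subgroupOf K) ≃* S) : Involves S ↥H := by
  refine Cfsg.Agent.Helper26.involves_of_surjective (K.subgroupOf H)
    ((e.toMonoidHom.comp (QuotientGroup.mk' (L.subgroupOf K))).comp
      (Subgroup.subgroupOfEquivOfLe hKH).toMonoidHom) ?_
  intro s
  obtain ⟨q, rfl⟩ := e.surjective s
  obtain ⟨k, rfl⟩ := QuotientGroup.mk'_surjective (L.subgroupOf K) q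
  obtain ⟨k', rfl⟩ := (Subgroup.subgroupOfEquivOfLe hKH).surjective k
  exact ⟨k', rfl⟩

end Cfsg.Agent.Helper15.SL2Free
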