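import Mathlib
import Cfsg.Agent.Helper15.SL2Free1

set_option autoImplicit false
set_option linter.unusedSectionVars false

/-! # Irreducible quadratic action: `SL₂(p)` is involved (given the statement of S0656) -/

namespace Cfsg.Agent.Helper15.SL2Free

open Subgroup Cfsg
open scoped commutatorElement

universe u

section Irr

variable {p : ℕ} [hp : Fact p.Prime] {N : Type u} [Group N] [Finite N]

/-- a normal `p`-subgroup of a group `R` of automorphisms acting irreducibly on a nontrivial finite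
`p`-group is trivial -/
theorem normal_pSubgroup_eq_bot_of_irreducible (hN : IsPGroup p N) (hnt : Nontrivial N)
    (R : Subgroup (MulAut N))
    (hirr : ∀ F : Subgroup N, (∀ r ∈ R, ∀ x ∈ F, r x ∈ F) → F = ⊥ ∨ F = ⊤)
    (M : Subgroup (MulAut N)) (hMR : M ≤ R) (hMn : ∀ r ∈ R, ∀ m ∈ M, r * m * r⁻¹ ∈ M)
    (hMp : IsPGroup p M) : M = ⊥ := by
  -- the fixed points of `M`
  let F : Subgroup N :=
    { carrier := {x | ∀ m ∈ M, m x = x}
      mul_mem' := by
        intro a b ha hb m hm
        rw [map_mul, ha m hm, hb m hm]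
      one_mem' := fun m _ => map_one m
      inv_mem' := by
        intro a ha m hm
        rw [map_inv, ha m hm] }
  have hFmem : ∀ x, x ∈ F ↔ ∀ m ∈ M, m x = x := fun x => Iff.rfl
  have hFinv : ∀ r ∈ R, ∀ x ∈ F, r x ∈ F := by
    intro r hr x hx
    rw [hFmem] at hx ⊢
    intro m hm
    have h1 : r⁻¹ * m * r⁻¹⁻¹ ∈ M := hMn r⁻¹ (R.inv_mem hr) m hm
    have h2 := hx _ h1
    have h3 : m (r x) = r ((r⁻¹ * m * r⁻¹⁻¹) x) := by
      simp [MulAut.mul_apply]
    rw [h3, h2]
  have hFne : F ≠ ⊥ := by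
    -- count fixed points
    have hcong := hMp.card_modEq_card_fixedPoints (p := p) N
    obtain ⟨n, hn⟩ := IsPGroup.iff_card.mp hN
    have hn0 : n ≠ 0 := by
      rintro rfl
      rw [pow_zero] at hn
      have : Subsingleton N := (Nat.card_eq_one_iff_unique.mp hn).1
      exact not_subsingleton N this
    have hdvd : p ∣ Nat.card ↑(MulAction.fixedPoints (↥M) N) := by
      rw [← Nat.modEq_zero_iff_dvd]
      refine hcong.symm.trans ?_
      rw [Nat.modEq_zero_iff_dvd, hn]
      exact dvd_pow_self p hn0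
    have hcardF : Nat.card ↑(MulAction.fixedPoints (↥M) N) = Nat.card F := by
      apply Nat.card_congr
      refine Equiv.subtypeEquivRight ?_
      intro x
      rw [MulAction.mem_fixedPoints]
      constructor
      · intro h m hm
        exact h ⟨m, hm⟩
      · intro h m
        exact h m.1 m.2
    rw [hcardF] at hdvd
    intro hbot
    rw [hbot, Subgroup.card_bot] at hdvd
    exact hp.out.one_lt.ne' (Nat.dvd_one.mp hdvd)
  rcases hirr F hFinv with h | h
  · exact absurd h hFne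
  · rw [eq_bot_iff]
    intro m hm
    rw [Subgroup.mem_bot]
    ext x
    have hx : x ∈ F := h ▸ Subgroup.mem_top x
    exact (hFmem x).mp hx m hm

/-- powers of a quadratic automorphism of a commutative group -/
theorem quad_pow_apply (hcomm : ∀ a b : N, a * b = b * a) (φ : MulAut N)
    (hquad : ∀ w : N, φ (φ w * w⁻¹) = φ w * w⁻¹) (w : N) (n : ℕ) :
    (φ ^ n) w = (φ w * w⁻¹) ^ n * w := by
  induction n with
  | zero => simp
  | succ n ih =>
    rw [pow_succ', MulAut.mul_apply, ih, map_mul, map_pow, hquad, pow_succ, mul_assoc]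
    congr 1
    rw [mul_assoc, inv_mul_cancel, mul_one]

/-- **irreducible case**: a group `R` of automorphisms of an elementary abelian `p`-group `N`,
acting irreducibly and containing a nontrivial quadratic element, involves `SL₂(p)`. -/
theorem involves_of_irreducible_quadratic (h656 : H656.{u} p)
    (hcomm : ∀ a b : N, a * b = b * a) (hexp : ∀ x : N, x ^ p = 1)
    (R : Subgroup (MulAut N)) (φ : MulAut N) (hφR : φ ∈ R) (hφ1 : φ ≠ 1)
    (hquad : ∀ w : N, φ (φ w * w⁻¹) = φ w * w⁻¹)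
    (hirr : ∀ F : Subgroup N, (∀ r ∈ R, ∀ x ∈ F, r x ∈ F) → F = ⊥ ∨ F = ⊤) :
    Involves (Matrix.SpecialLinearGroup (Fin 2) (ZMod p)) ↥R := by
  classical
  have hN : IsPGroup p N := fun x => ⟨1, by rw [pow_one]; exact hexp x⟩
  have hnt : Nontrivial N := by
    by_contra hnt
    rw [not_nontrivial_iff_subsingleton] at hnt
    apply hφ1
    ext x
    exact Subsingleton.elim _ _
  haveI : Finite (N ⋊[R.subtype] ↥R) := Finite.of_equiv _ SemidirectProduct.equivProd.symm
  obtain ⟨V', hV'def⟩ : ∃ V' : Subgroup (N ⋊[R.subtype] ↥R),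
    V' = (SemidirectProduct.inl : N →* N ⋊[R.subtype] ↥R).range := ⟨_, rfl⟩
  obtain ⟨H', hH'def⟩ : ∃ H' : Subgroup (N ⋊[R.subtype] ↥R),
    H' = (SemidirectProduct.inr : ↥R →* N ⋊[R.subtype] ↥R).range := ⟨_, rfl⟩
  -- conjugation formula
  have hconj : ∀ (r : ↥R) (n : N), (SemidirectProduct.inr r : N ⋊[R.subtype] ↥R) *
      SemidirectProduct.inl n = SemidirectProduct.inl ((r : MulAut N) n) * SemidirectProduct.inr r := by
    intro r n
    have h2 := SemidirectProduct.inl_aut (φ := R.subtype) r n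
    have h3 : (R.subtype r) n = (r : MulAut N) n := rfl
    rw [h3] at h2
    rw [h2, map_inv]
    group
  have hV' : IsElementaryAbelian p V' := by
    rw [hV'def]
    refine ⟨⟨⟨?_⟩⟩, ?_⟩
    · rintro ⟨_, a, rfl⟩ ⟨_, b, rfl⟩
      apply Subtype.ext
      show SemidirectProduct.inl a * SemidirectProduct.inl b =
        (SemidirectProduct.inl b : N ⋊[R.subtype] ↥R) * SemidirectProduct.inl a
      rw [← map_mul, ← map_mul, hcomm a b]
    · rintro _ ⟨a, rfl⟩
      rw [← map_pow, hexp, map_one]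
  have hV'n : V'.Normal := by
    rw [hV'def, SemidirectProduct.range_inl_eq_ker_rightHom]
    infer_instance
  have hHV : H' ≤ normalizer (V' : Set (N ⋊[R.subtype] ↥R)) := by
    rw [normalizer_eq_top_iff.mpr hV'n]
    exact le_top
  have hf : H' ⊓ centralizer (V' : Set (N ⋊[R.subtype] ↥R)) = ⊥ := by
    rw [eq_bot_iff, hH'def, hV'def]
    rintro _ ⟨⟨r, rfl⟩, hc⟩
    rw [mem_bot]
    have hr1 : r = 1 := by
      apply Subtype.ext
      ext n
      have h1 := (mem_centralizer_iff.mp hc) (SemidirectProduct.inl n) ⟨n, rfl⟩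
      rw [hconj] at h1
      have h2 := mul_right_cancel h1
      exact (SemidirectProduct.inl_injective h2).symm
    rw [hr1, map_one]
  have hO : pCore p ↥H' = ⊥ := by
    subst hH'def
    have hinj : Function.Injective (SemidirectProduct.inr : ↥R →* N ⋊[R.subtype] ↥R) :=
      SemidirectProduct.inr_injective
    let ι : ↥R ≃* ↥(SemidirectProduct.inr : ↥R →* N ⋊[R.subtype] ↥R).range :=
      MonoidHom.ofInjective hinj
    obtain ⟨M₀, hM₀⟩ : ∃ M₀ : Subgroup ↥R, M₀ = (pCore p
      ↥(SemidirectProduct.inr : ↥R →* N ⋊[R.subtype] ↥R).range).comap ι.toMonoidHom := ⟨_, rfl⟩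
    have hM₀n : M₀.Normal := by
      rw [hM₀]
      infer_instance
    have hM₀p : IsPGroup p M₀ := by
      rw [hM₀]
      exact (Cfsg.Agent.Helper14.pCore_isPGroup p).comap_of_injective _ ι.injective
    have hMn : ∀ r ∈ R, ∀ m ∈ M₀.map R.subtype, r * m * r⁻¹ ∈ M₀.map R.subtype := by
      rintro r hr _ ⟨m₀, hm₀, rfl⟩
      exact ⟨(⟨r, hr⟩ : ↥R) * m₀ * (⟨r, hr⟩ : ↥R)⁻¹, hM₀n.conj_mem _ hm₀ _, rfl⟩
    have hMbot := normal_pSubgroup_eq_bot_of_irreducible hN hnt R hirr (M₀.map R.subtype)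
      (Subgroup.map_subtype_le _) hMn (hM₀p.map _)
    rw [Subgroup.map_eq_bot_iff_of_injective _ R.subtype_injective] at hMbot
    have h1 : (pCore p ↥(SemidirectProduct.inr : ↥R →* N ⋊[R.subtype] ↥R).range) =
        M₀.map ι.toMonoidHom := by
      rw [hM₀]
      exact (Subgroup.map_comap_eq_self_of_surjective (f := ι.toMonoidHom) ι.surjective _).symm
    rw [h1, hMbot, Subgroup.map_bot]
  -- the quadratic element
  obtain ⟨x, hxdef⟩ : ∃ x : N ⋊[R.subtype] ↥R, x = SemidirectProduct.inr (⟨φ, hφR⟩ : ↥R) :=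
    ⟨_, rfl⟩
  have hxH : x ∈ H' := by rw [hH'def, hxdef]; exact ⟨_, rfl⟩
  have hx1 : x ≠ 1 := by
    rw [hxdef]
    intro h
    rw [← map_one (SemidirectProduct.inr : ↥R →* N ⋊[R.subtype] ↥R)] at h
    have := SemidirectProduct.inr_injective h
    exact hφ1 (congrArg Subtype.val this)
  have hφp : φ ^ p = 1 := by
    ext w
    rw [quad_pow_apply hcomm φ hquad, hexp, one_mul]
    rfl
  have hxp : x ^ p = 1 := by
    rw [hxdef, ← map_pow]
    have : (⟨φ, hφR⟩ : ↥R) ^ p = 1 := Subtype.ext (by simpa using hφp)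
    rw [this, map_one]
  have hord : orderOf x = p := orderOf_eq_prime hxp hx1
  -- `inl d` commutes with `x` when `φ d = d`
  have hfix : ∀ d : N, φ d = d → Commute (SemidirectProduct.inl d : N ⋊[R.subtype] ↥R) x := by
    intro d hd
    show SemidirectProduct.inl d * x = x * SemidirectProduct.inl d
    rw [hxdef, hconj]
    show _ = SemidirectProduct.inl (φ d) * _
    rw [hd]
  have hq : ⁅⁅V', zpowers x⁆, zpowers x⁆ = ⊥ := by
    rw [commutator_eq_bot_iff_le_centralizer, commutator_le]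
    intro v hv y hy
    rw [hV'def] at hv
    obtain ⟨w, rfl⟩ := hv
    rw [← mem_powers_iff_mem_zpowers] at hy
    obtain ⟨n, rfl⟩ := hy
    -- the commutator is `inl` of a fixed point
    have hxn : x ^ n = SemidirectProduct.inr ((⟨φ, hφR⟩ : ↥R) ^ n) := by
      rw [hxdef, map_pow]
    have e1 : ⁅(SemidirectProduct.inl w : N ⋊[R.subtype] ↥R), x ^ n⁆ =
        SemidirectProduct.inl (w * (φ ^ n) w⁻¹) := by
      rw [commutatorElement_def, hxn, ← map_inv SemidirectProduct.inl, mul_assoc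
        (SemidirectProduct.inl w), hconj, map_mul]
      have : (((⟨φ, hφR⟩ : ↥R) ^ n : ↥R) : MulAut N) = φ ^ n := by simp
      rw [this]
      group
    have e2 : w * (φ ^ n) w⁻¹ = (φ w⁻¹ * w⁻¹⁻¹) ^ n := by
      rw [quad_pow_apply hcomm φ hquad, hcomm w, mul_assoc, inv_mul_cancel, mul_one]
    have hfixd : φ ((φ w⁻¹ * w⁻¹⁻¹) ^ n) = (φ w⁻¹ * w⁻¹⁻¹) ^ n := by
      rw [map_pow, hquad]
    rw [e1, e2]
    have hc := hfix _ hfixd
    rw [mem_centralizer_iff]
    intro z hz
    obtain ⟨k, rfl⟩ := mem_zpowers_iff.mp hz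
    exact ((hc.zpow_right k).eq).symm
  obtain ⟨K, L, hL, hKH, ⟨e⟩⟩ := h656 (N ⋊[R.subtype] ↥R) V' H' hV' hHV hf hO x hxH hx1
    ⟨1, by rw [pow_one]; exact hord⟩ hq
  have h1 : Involves (Matrix.SpecialLinearGroup (Fin 2) (ZMod p)) ↥H' :=
    involves_subgroup_of_le H' K L hL hKH e
  have hinj : Function.Injective (SemidirectProduct.inr : ↥R →* N ⋊[R.subtype] ↥R) :=
    SemidirectProduct.inr_injective
  let ι : ↥R ≃* ↥(SemidirectProduct.inr : ↥R →* N ⋊[R.subtype] ↥R).range :=
    MonoidHom.ofInjective hinj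
  rw [hH'def] at h1
  exact Cfsg.Agent.Helper26.involves_of_injective ι.symm.toMonoidHom ι.symm.injective h1

end Irr

end Cfsg.Agent.Helper15.SL2Free
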