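import Mathlib
import Cfsg.Agent.Helper15.SL2Free2
import Cfsg.Agent.Helper1.MinNormal

set_option autoImplicit false
set_option linter.unusedSectionVars false

/-! # `SL₂(p)`-free groups are `p`-stable on normal `p`-subgroups (given the statement of S0656) -/

namespace Cfsg.Agent.Helper15.SL2Free

open Subgroup Cfsg
open scoped commutatorElement

universe u

/-- if `e x e⁻¹ = x c` with `e` commuting with `c`, then `eⁿ x e⁻ⁿ = x cⁿ` -/
theorem conj_pow_of_commute {L : Type*} [Group L] (e x c : L) (h1 : e * x * e⁻¹ = x * c)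
    (h2 : e * c = c * e) (n : ℕ) : e ^ n * x * (e ^ n)⁻¹ = x * c ^ n := by
  induction n with
  | zero => simp
  | succ n ih =>
    have hc : e * c ^ n * e⁻¹ = c ^ n := by
      have : Commute e (c ^ n) := (show Commute e c from h2).pow_right n
      rw [this.eq, mul_assoc, mul_inv_cancel, mul_one]
    calc e ^ (n + 1) * x * (e ^ (n + 1))⁻¹ = e * (e ^ n * x * (e ^ n)⁻¹) * e⁻¹ := by
          rw [pow_succ']; group
      _ = e * (x * c ^ n) * e⁻¹ := by rw [ih]
      _ = (e * x * e⁻¹) * (e * c ^ n * e⁻¹) := by group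
      _ = x * c * c ^ n := by rw [h1, hc]
      _ = x * c ^ (n + 1) := by rw [pow_succ', mul_assoc]

section ClaimS

variable {p : ℕ} [hp : Fact p.Prime]

/-- the conclusion: `a` lies in a normal subgroup `D ≥ C_L(P)` with `D/C_L(P)` a `p`-group -/
def InPCoreMod (p : ℕ) {L : Type*} [Group L] (P : Subgroup L) (a : L) : Prop :=
  ∃ D : Subgroup L, D.Normal ∧ centralizer (P : Set L) ≤ D ∧
    (∀ d ∈ D, ∃ k : ℕ, d ^ p ^ k ∈ centralizer (P : Set L)) ∧ a ∈ D

/-- the minimal case -/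
theorem inPCoreMod_of_minimal (h656 : H656.{u} p) (L : Type u) [Group L] [Finite L]
    (P : Subgroup L) [hPn : P.Normal] (hPp : IsPGroup p P)
    (hfree : ¬ Involves (Matrix.SpecialLinearGroup (Fin 2) (ZMod p)) L)
    (hmin : ∀ M : Subgroup L, M.Normal → M ≤ P → M = ⊥ ∨ M = P)
    (a : L) (hq : ∀ x ∈ P, ⁅⁅x, a⁆, a⁆ = 1) : InPCoreMod p P a := by
  by_cases hP1 : P = ⊥
  · refine ⟨⊤, inferInstance, le_top, ?_, mem_top a⟩
    intro d _
    refine ⟨0, ?_⟩
    rw [hP1, mem_centralizer_iff]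
    intro y hy
    rw [SetLike.mem_coe, mem_bot] at hy
    rw [hy, one_mul, mul_one]
  by_cases haC : a ∈ centralizer (P : Set L)
  · refine ⟨centralizer (P : Set L), inferInstance, le_rfl, ?_, haC⟩
    intro d hd
    exact ⟨0, by simpa using hd⟩
  exfalso
  apply hfree
  -- `P` is elementary abelian
  have hsol : Group.IsSolvable ↥P := by
    haveI := hPp.isNilpotent
    infer_instance
  obtain ⟨hcommP, q, hq', hexpq⟩ := Cfsg.Agent.Helper1.minNormal_elementary P hP1 hsol hmin
  have hqp : q = p := by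
    obtain ⟨x, hx1⟩ := (Subgroup.ne_bot_iff_exists_ne_one).mp hP1
    have hx1' : (x : L) ≠ 1 := fun h => hx1 (Subtype.ext h)
    have h1 : orderOf (x : L) ∣ q := orderOf_dvd_of_pow_eq_one (hexpq x x.2)
    obtain ⟨k, hk⟩ := hPp x
    have h2 : orderOf (x : L) ∣ p ^ k := by
      apply orderOf_dvd_of_pow_eq_one
      have := congrArg Subtype.val hk
      simpa using this
    have h3 : orderOf (x : L) = q := by
      rcases (Nat.dvd_prime hq').mp h1 with h | h
      · exact absurd (orderOf_eq_one_iff.mp h) hx1'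
      · exact h
    rw [h3] at h2
    exact (Nat.prime_dvd_prime_iff_eq hq' hp.out).mp (hq'.dvd_of_dvd_pow h2)
  rw [hqp] at hexpq
  have hcomm : ∀ u v : ↥P, u * v = v * u := fun u v => mul_comm' u v
  have hexp : ∀ u : ↥P, u ^ p = 1 := fun u => Subtype.ext (by simpa using hexpq u u.2)
  -- the action
  obtain ⟨R, hR⟩ : ∃ R : Subgroup (MulAut ↥P), R = (MulAut.conjNormal : L →* MulAut ↥P).range :=
    ⟨_, rfl⟩
  have hφR : (MulAut.conjNormal a : MulAut ↥P) ∈ R := by rw [hR]; exact ⟨a, rfl⟩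
  have hφ1 : (MulAut.conjNormal a : MulAut ↥P) ≠ 1 := by
    intro h
    apply haC
    rw [mem_centralizer_iff]
    intro x hx
    have h1 := congrArg (fun f : MulAut ↥P => ((f ⟨x, hx⟩ : ↥P) : L)) h
    simp only [MulAut.conjNormal_apply, MulAut.one_apply] at h1
    calc x * a = (a * x * a⁻¹) * a := by rw [h1]
      _ = a * x := by group
  have hquad : ∀ w : ↥P, (MulAut.conjNormal a : MulAut ↥P)
      ((MulAut.conjNormal a : MulAut ↥P) w * w⁻¹) = (MulAut.conjNormal a : MulAut ↥P) w * w⁻¹ := by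
    intro w
    apply Subtype.ext
    simp only [MulAut.conjNormal_apply, Subgroup.coe_mul, Subgroup.coe_inv]
    have h1 := hq w w.2
    obtain ⟨c, hc⟩ : ∃ c : L, c = ⁅(w : L), a⁆ := ⟨_, rfl⟩
    rw [← hc, commutatorElement_def] at h1
    have hca : Commute c a := by
      show c * a = a * c
      calc c * a = (c * a * c⁻¹ * a⁻¹) * (a * c) := by group
        _ = a * c := by rw [h1, one_mul]
    have h3 : a * (w : L) * a⁻¹ * (w : L)⁻¹ = c⁻¹ := by
      rw [hc, commutatorElement_def]; group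
    rw [h3, hca.inv_left.eq.symm, mul_assoc, mul_inv_cancel, mul_one]
  have hirr : ∀ F : Subgroup ↥P, (∀ r ∈ R, ∀ x ∈ F, r x ∈ F) → F = ⊥ ∨ F = ⊤ := by
    intro F hF
    have hFn : (F.map P.subtype).Normal := by
      constructor
      rintro _ ⟨x, hx, rfl⟩ g
      have h1 := hF (MulAut.conjNormal g) (by rw [hR]; exact ⟨g, rfl⟩) x hx
      refine ⟨_, h1, ?_⟩
      simp [MulAut.conjNormal_apply]
    rcases hmin (F.map P.subtype) hFn (Subgroup.map_subtype_le _) with h | h
    · left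
      exact (Subgroup.map_eq_bot_iff_of_injective _ P.subtype_injective).mp h
    · right
      rw [eq_top_iff]
      intro x _
      have hx : (x : L) ∈ F.map P.subtype := by rw [h]; exact x.2
      obtain ⟨y, hy, hyx⟩ := hx
      have : y = x := Subtype.ext hyx
      rw [← this]
      exact hy
  have hinv := involves_of_irreducible_quadratic h656 hcomm hexp R _ hφR hφ1 hquad hirr
  rw [hR] at hinv
  exact involves_of_surjective_hom (MulAut.conjNormal : L →* MulAut ↥P).rangeRestrict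
    (MonoidHom.rangeRestrict_surjective _) hinv

/-- **`SL₂(p)`-free groups are `p`-stable on normal `p`-subgroups.** -/
theorem inPCoreMod_of_sl2Free (h656 : H656.{u} p) : ∀ (n : ℕ) (L : Type u) [Group L] [Finite L]
    (P : Subgroup L) [P.Normal], IsPGroup p P → Nat.card P = n →
    ¬ Involves (Matrix.SpecialLinearGroup (Fin 2) (ZMod p)) L →
    ∀ a : L, (∀ x ∈ P, ⁅⁅x, a⁆, a⁆ = 1) → InPCoreMod p P a := by
  intro n
  induction n using Nat.strong_induction_on with
  | _ n ih =>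
    intro L _ _ P hPn hPp hcard hfree a hq
    by_cases hmin : ∀ M : Subgroup L, M.Normal → M ≤ P → M = ⊥ ∨ M = P
    · exact inPCoreMod_of_minimal h656 L P hPp hfree hmin a hq
    push Not at hmin
    obtain ⟨P₁, hP₁n, hP₁P, hP₁bot, hP₁ne⟩ := hmin
    have hP₁p : IsPGroup p P₁ := hPp.to_le hP₁P
    have hsurj := QuotientGroup.mk'_surjective P₁
    -- cardinalities
    have hcomap : (P.map (QuotientGroup.mk' P₁)).comap (QuotientGroup.mk' P₁) = P := by
      rw [Subgroup.comap_map_eq, QuotientGroup.ker_mk', sup_eq_left.mpr hP₁P]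
    have hcardeq : Nat.card P = Nat.card P₁ * Nat.card (P.map (QuotientGroup.mk' P₁)) := by
      have := QuotientGroup.card_preimage_mk P₁ ((P.map (QuotientGroup.mk' P₁) :
        Subgroup (L ⧸ P₁)) : Set (L ⧸ P₁))
      have h2 : Nat.card ((P.map (QuotientGroup.mk' P₁)).comap (QuotientGroup.mk' P₁)) =
          Nat.card P₁ * Nat.card (P.map (QuotientGroup.mk' P₁)) := this
      rw [hcomap] at h2
      exact h2
    have hP₁card : 1 < Nat.card P₁ := by
      rw [Subgroup.one_lt_card_iff_ne_bot]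
      exact hP₁bot
    have hlt₁ : Nat.card P₁ < n := by
      rw [← hcard]
      exact lt_of_not_ge fun hge =>
        hP₁ne (Subgroup.eq_of_le_of_card_ge hP₁P hge)
    have hlt₂ : Nat.card (P.map (QuotientGroup.mk' P₁)) < n := by
      rw [← hcard, hcardeq]
      have hpos : 0 < Nat.card (P.map (QuotientGroup.mk' P₁)) := Nat.card_pos
      nlinarith
    obtain ⟨D₁, hD₁n, hD₁C, hD₁p, haD₁⟩ := ih _ hlt₁ L P₁ hP₁p rfl hfree a
      (fun x hx => hq x (hP₁P hx))
    have hPbn : (P.map (QuotientGroup.mk' P₁)).Normal := hPn.map _ hsurj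
    obtain ⟨D₂, hD₂n, hD₂C, hD₂p, haD₂⟩ := ih _ hlt₂ (L ⧸ P₁) (P.map (QuotientGroup.mk' P₁))
      (hPp.map _) rfl (fun h => hfree (involves_of_surjective_hom _ hsurj h))
      (QuotientGroup.mk' P₁ a) (by
        rintro _ ⟨x, hx, rfl⟩
        rw [← map_commutatorElement, ← map_commutatorElement, hq x hx, map_one])
    obtain ⟨m, hm⟩ := IsPGroup.iff_card.mp hP₁p
    refine ⟨D₁ ⊓ D₂.comap (QuotientGroup.mk' P₁), inferInstance, ?_, ?_, ⟨haD₁, haD₂⟩⟩
    · intro c hc
      refine ⟨hD₁C (Subgroup.centralizer_le (show (P₁ : Set L) ⊆ (P : Set L) from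
        fun x hx => hP₁P hx) hc), ?_⟩
      apply hD₂C
      rw [mem_centralizer_iff]
      rintro _ ⟨x, hx, rfl⟩
      rw [← map_mul, ← map_mul, (mem_centralizer_iff.mp hc) x hx]
    · rintro d ⟨hd₁, hd₂⟩
      obtain ⟨k₁, hk₁⟩ := hD₁p d hd₁
      obtain ⟨k₂, hk₂⟩ := hD₂p _ hd₂
      refine ⟨k₁ + k₂ + m, ?_⟩
      obtain ⟨e, he⟩ : ∃ e : L, e = d ^ p ^ (k₁ + k₂) := ⟨_, rfl⟩
      have he₁ : e ∈ centralizer (P₁ : Set L) := by
        rw [he, pow_add, pow_mul]
        exact Subgroup.pow_mem _ hk₁ _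
      have he₂ : QuotientGroup.mk' P₁ e ∈
          centralizer ((P.map (QuotientGroup.mk' P₁) : Subgroup (L ⧸ P₁)) : Set (L ⧸ P₁)) := by
        rw [he, pow_add, mul_comm, pow_mul, map_pow]
        exact Subgroup.pow_mem _ hk₂ _
      have hfin : d ^ p ^ (k₁ + k₂ + m) = e ^ p ^ m := by
        rw [he, ← pow_mul, ← pow_add]
      rw [hfin, mem_centralizer_iff]
      intro x hx
      -- `e x e⁻¹ = x c` with `c ∈ P₁`
      have hcP₁ : x⁻¹ * (e * x * e⁻¹) ∈ P₁ := by
        rw [← QuotientGroup.eq]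
        have h1 := (mem_centralizer_iff.mp he₂) (QuotientGroup.mk' P₁ x) ⟨x, hx, rfl⟩
        show QuotientGroup.mk' P₁ x = QuotientGroup.mk' P₁ (e * x * e⁻¹)
        rw [map_mul, map_mul, ← h1, map_inv]
        group
      have hec : e * (x⁻¹ * (e * x * e⁻¹)) = (x⁻¹ * (e * x * e⁻¹)) * e :=
        ((mem_centralizer_iff.mp he₁) _ hcP₁).symm
      have h2 := conj_pow_of_commute e x (x⁻¹ * (e * x * e⁻¹)) (by group) hec (p ^ m)
      have h3 : (x⁻¹ * (e * x * e⁻¹)) ^ p ^ m = 1 := by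
        have := pow_card_eq_one' (G := ↥P₁) (x := ⟨_, hcP₁⟩)
        rw [hm] at this
        exact congrArg Subtype.val this
      rw [h3, mul_one] at h2
      calc x * e ^ p ^ m = (e ^ p ^ m * x * (e ^ p ^ m)⁻¹) * e ^ p ^ m := by rw [h2]
        _ = e ^ p ^ m * x := by group

/-- convenient form -/
theorem inPCoreMod_of_not_involves (h656 : H656.{u} p) (L : Type u) [Group L] [Finite L]
    (P : Subgroup L) [P.Normal] (hPp : IsPGroup p P)
    (hfree : ¬ Involves (Matrix.SpecialLinearGroup (Fin 2) (ZMod p)) L)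
    (a : L) (hq : ∀ x ∈ P, ⁅⁅x, a⁆, a⁆ = 1) : InPCoreMod p P a :=
  inPCoreMod_of_sl2Free h656 _ L P hPp rfl hfree a hq

end ClaimS

end Cfsg.Agent.Helper15.SL2Free
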