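import Mathlib
import Cfsg.Agent.Helper15.SL2Free3
import Cfsg.Agent.Helper10.Fusion
import Cfsg.Agent.Lead.PiHallNormal

set_option autoImplicit false
set_option linter.unusedSectionVars false

/-! # Normalizer `p`-stability from `SL₂(p)`-free local subgroups (given the statement of S0656) -/

namespace Cfsg.Agent.Helper15.SL2Free

open Subgroup Cfsg Cfsg.Agent.Helper14
open scoped commutatorElement

universe u

variable {p : ℕ} [hp : Fact p.Prime]

/-- if the normalizers of the nontrivial `p`-subgroups of `X` are `SL₂(p)`-free, then `X` is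
`p`-stable in the normalizer form -/
theorem isNormalizerPStable_of_free (h656 : H656.{u} p) (X : Type u) [Group X] [Finite X]
    (hX : ∀ P : Subgroup X, IsPGroup p P → P ≠ ⊥ →
      ¬ Involves (Matrix.SpecialLinearGroup (Fin 2) (ZMod p)) ↥(normalizer (P : Set X))) :
    IsNormalizerPStable p X := by
  intro P hP g hg hquad
  by_cases hP1 : P = ⊥
  · have h1 : (⟨g, hg⟩ : ↥(normalizer (P : Set X))) ∈
        (centralizer (P : Set X)).subgroupOf (normalizer (P : Set X)) := by
      rw [mem_subgroupOf, mem_centralizer_iff]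
      intro y hy
      rw [hP1, SetLike.mem_coe, mem_bot] at hy
      rw [hy]
      simp
    rw [(QuotientGroup.eq_one_iff _).mpr h1]
    exact one_mem _
  have hfree := hX P hP hP1
  haveI hPn : (P.subgroupOf (normalizer (P : Set X))).Normal := Subgroup.normal_in_normalizer
  have hPp : IsPGroup p (P.subgroupOf (normalizer (P : Set X))) :=
    hP.comap_of_injective _ (Subgroup.subtype_injective _)
  have hq : ∀ x ∈ P.subgroupOf (normalizer (P : Set X)),
      ⁅⁅x, (⟨g, hg⟩ : ↥(normalizer (P : Set X)))⁆, (⟨g, hg⟩ : ↥(normalizer (P : Set X)))⁆ = 1 := by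
    intro x hx
    have hxP : (x : X) ∈ P := mem_subgroupOf.mp hx
    have h1 : ⁅⁅(x : X), g⁆, g⁆ ∈ ⁅⁅P, zpowers g⁆, zpowers g⁆ :=
      commutator_mem_commutator (commutator_mem_commutator hxP (mem_zpowers g)) (mem_zpowers g)
    rw [hquad, mem_bot] at h1
    apply Subtype.ext
    simpa [commutatorElement_def] using h1
  obtain ⟨D, hDn, hD1, hD2, hD3⟩ := inPCoreMod_of_not_involves h656
    ↥(normalizer (P : Set X)) (P.subgroupOf (normalizer (P : Set X))) hPp hfree ⟨g, hg⟩ hq
  have hmapn : (D.map (QuotientGroup.mk' ((centralizer (P : Set X)).subgroupOf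
      (normalizer (P : Set X))))).Normal :=
    hDn.map _ (QuotientGroup.mk'_surjective _)
  have hmapp : IsPGroup p (D.map (QuotientGroup.mk' ((centralizer (P : Set X)).subgroupOf
      (normalizer (P : Set X))))) := by
    rintro ⟨_, d, hd, rfl⟩
    obtain ⟨k, hk⟩ := hD2 d hd
    refine ⟨k, ?_⟩
    apply Subtype.ext
    simp only [Subgroup.coe_pow, Subgroup.coe_one]
    rw [← map_pow, QuotientGroup.mk'_apply, QuotientGroup.eq_one_iff, mem_subgroupOf,
      mem_centralizer_iff]
    intro y hy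
    have hy' : (⟨y, le_normalizer hy⟩ : normalizer (P : Set X)) ∈
        ((P.subgroupOf (normalizer (P : Set X)) : Subgroup ↥(normalizer (P : Set X))) :
          Set ↥(normalizer (P : Set X))) := mem_subgroupOf.mpr hy
    have := (mem_centralizer_iff.mp hk) _ hy'
    exact congrArg Subtype.val this
  exact Cfsg.Agent.Helper14.le_pCore p hmapn hmapp (mem_map_of_mem _ hD3)

/-- the normalizer of a nontrivial `p`-subgroup of a quotient `K'/N` is a homomorphic image of a
subgroup of the normalizer of a nontrivial `p`-subgroup of `K'` -/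
theorem normalizer_section (K' : Type u) [Group K'] [Finite K'] (N : Subgroup K') [N.Normal]
    (Pb : Subgroup (K' ⧸ N)) (hPb : IsPGroup p Pb) (hne : Pb ≠ ⊥) :
    ∃ (S₁ M₀ : Subgroup K'), IsPGroup p S₁ ∧ S₁ ≠ ⊥ ∧ M₀ ≤ normalizer (S₁ : Set K') ∧
      ∃ ψ : ↥M₀ →* ↥(normalizer (Pb : Set (K' ⧸ N))), Function.Surjective ψ := by
  have hsurj := QuotientGroup.mk'_surjective N
  obtain ⟨Q, hQ⟩ : ∃ Q : Subgroup K', Q = Pb.comap (QuotientGroup.mk' N) := ⟨_, rfl⟩
  obtain ⟨T⟩ : Nonempty (Sylow p ↥Q) := inferInstance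
  obtain ⟨S₁, hS₁⟩ : ∃ S₁ : Subgroup K', S₁ = (T : Subgroup ↥Q).map Q.subtype := ⟨_, rfl⟩
  have hS₁Q : S₁ ≤ Q := hS₁ ▸ Subgroup.map_subtype_le _
  have hS₁p : IsPGroup p S₁ := hS₁ ▸ T.2.map _
  -- `S₁` maps onto `Pb`
  have himage : ∀ y ∈ Pb, ∃ s ∈ S₁, QuotientGroup.mk' N s = y := by
    intro y hy
    subst hQ
    have hf := MonoidHom.subgroupComap_surjective_of_surjective (QuotientGroup.mk' N) Pb hsurj
    have h1 : ((T.mapSurjective hf : Sylow p ↥Pb) : Subgroup ↥Pb) = ⊤ :=
      ((T.mapSurjective hf).is_maximal' (Q := ⊤)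
        (fun x => by
          obtain ⟨k, hk⟩ := hPb x.1
          exact ⟨k, Subtype.ext hk⟩)
        le_top).symm
    rw [Sylow.coe_mapSurjective] at h1
    have h2 : (⟨y, hy⟩ : ↥Pb) ∈ (T : Subgroup _).map
        ((QuotientGroup.mk' N).subgroupComap Pb) := by
      rw [h1]; exact mem_top _
    obtain ⟨t, ht, hte⟩ := h2
    refine ⟨(t : K'), ?_, ?_⟩
    · rw [hS₁]
      exact ⟨t, ht, rfl⟩
    · exact congrArg Subtype.val hte
  have hS₁ne : S₁ ≠ ⊥ := by
    intro h0
    apply hne
    rw [eq_bot_iff]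
    intro y hy
    obtain ⟨s, hs, rfl⟩ := himage y hy
    rw [h0, mem_bot] at hs
    rw [hs, map_one]
    exact one_mem _
  have hidx : ¬ p ∣ S₁.relIndex Q := by
    have h1 : S₁.subgroupOf Q = (T : Subgroup ↥Q) := by
      rw [hS₁]
      unfold Subgroup.subgroupOf
      exact Subgroup.comap_map_eq_self_of_injective Q.subtype_injective _
    unfold Subgroup.relIndex
    rw [h1]
    exact T.not_dvd_index
  refine ⟨S₁, normalizer (S₁ : Set K') ⊓ normalizer (Q : Set K'), hS₁p, hS₁ne, inf_le_left, ?_⟩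
  have hNQ : (normalizer (Pb : Set (K' ⧸ N))).comap (QuotientGroup.mk' N) =
      normalizer (Q : Set K') := by
    rw [hQ]
    exact Subgroup.comap_normalizer_eq_of_surjective Pb hsurj
  refine ⟨((QuotientGroup.mk' N).comp (normalizer (S₁ : Set K') ⊓ normalizer (Q : Set K')).subtype
    ).codRestrict _ ?_, ?_⟩
  · intro x
    have hx : (x : K') ∈ normalizer (Q : Set K') := x.2.2
    have hx' : (x : K') ∈ (normalizer (Pb : Set (K' ⧸ N))).comap (QuotientGroup.mk' N) := by
      rw [hNQ]; exact hx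
    exact hx'
  · rintro ⟨y, hy⟩
    obtain ⟨k, rfl⟩ := hsurj y
    have hk : k ∈ normalizer (Q : Set K') := by
      rw [← hNQ, mem_comap]; exact hy
    -- the conjugate `k S₁ k⁻¹` is another Sylow subgroup of `Q`
    have hS₂Q : S₁.map (cj k) ≤ Q := by
      rintro _ ⟨s, hs, rfl⟩
      rw [cj_apply]
      exact (mem_normalizer_iff.mp hk s).mp (hS₁Q hs)
    have hS₂p : IsPGroup p (S₁.map (cj k)) := hS₁p.map _
    have hcard : Nat.card ↥(S₁.map (cj k)) = Nat.card ↥S₁ :=
      Subgroup.card_map_of_injective (cj_injective k)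
    have hidx' : ¬ p ∣ (S₁.map (cj k)).relIndex Q := by
      have e1 := Cfsg.Agent.Lead.card_eq_relIndex_mul_card hS₂Q
      have e2 := Cfsg.Agent.Lead.card_eq_relIndex_mul_card hS₁Q
      rw [hcard] at e1
      have hpos : 0 < Nat.card ↥S₁ := Nat.card_pos
      have : (S₁.map (cj k)).relIndex Q = S₁.relIndex Q :=
        Nat.eq_of_mul_eq_mul_right hpos (e1.symm.trans e2)
      rw [this]
      exact hidx
    obtain ⟨u, hu, hue⟩ := Cfsg.Agent.Helper10.exists_conj_eq_of_not_dvd_relIndex (p := p)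
      hS₂Q hS₁Q hS₂p hS₁p hidx' hidx
    rw [map_cj_mul] at hue
    have huk : u * k ∈ normalizer (S₁ : Set K') := mem_normalizer_iff_map_cj.mpr hue
    -- `u` agrees with some `s ∈ S₁` modulo `N`
    have huPb : QuotientGroup.mk' N u ∈ Pb := by
      rw [hQ, mem_comap] at hu; exact hu
    obtain ⟨s, hs, hse⟩ := himage _ huPb
    have hmem : s⁻¹ * (u * k) ∈ normalizer (S₁ : Set K') ⊓ normalizer (Q : Set K') := by
      refine ⟨Subgroup.mul_mem _ (Subgroup.inv_mem _ (le_normalizer hs)) huk, ?_⟩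
      exact Subgroup.mul_mem _ (Subgroup.inv_mem _ (le_normalizer (hS₁Q hs)))
        (Subgroup.mul_mem _ (le_normalizer hu) hk)
    refine ⟨⟨s⁻¹ * (u * k), hmem⟩, ?_⟩
    apply Subtype.ext
    show QuotientGroup.mk' N (s⁻¹ * (u * k)) = QuotientGroup.mk' N k
    rw [map_mul, map_mul, map_inv, hse]
    group

end Cfsg.Agent.Helper15.SL2Free

namespace Cfsg.Agent.Helper15.SL2Free

open Subgroup Cfsg

universe u

variable {p : ℕ} [hp : Fact p.Prime]

/-- S2004, given the statement of S0656 -/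
theorem sections_stable_of_h656 (h656 : H656.{u} p) {G : Type u} [Group G] [Finite G]
    (h : ∀ P : Subgroup G, IsPGroup p ↥P → P ≠ ⊥ →
      ¬ Involves (Matrix.SpecialLinearGroup (Fin 2) (ZMod p))
        ↥(normalizer ((P : Subgroup G) : Set G)))
    (K R : Subgroup G) [hR : (R.subgroupOf K).Normal] :
    IsNormalizerPStable p (↥K ⧸ R.subgroupOf K) := by
  apply isNormalizerPStable_of_free h656
  intro Pb hPb hne hinv
  obtain ⟨S₁, M₀, hS₁p, hS₁ne, hM₀, ψ, hψ⟩ := normalizer_section ↥K (R.subgroupOf K) Pb hPb hne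
  have h1 : Involves (Matrix.SpecialLinearGroup (Fin 2) (ZMod p)) ↥M₀ :=
    involves_of_surjective_hom ψ hψ hinv
  have hQp : IsPGroup p ↥(S₁.map K.subtype) := hS₁p.map _
  have hQne : S₁.map K.subtype ≠ ⊥ := by
    intro h0
    exact hS₁ne ((Subgroup.map_eq_bot_iff_of_injective _ K.subtype_injective).mp h0)
  apply h (S₁.map K.subtype) hQp hQne
  have hmem : ∀ m : ↥M₀, (K.subtype.comp M₀.subtype) m ∈
      normalizer ((S₁.map K.subtype : Subgroup G) : Set G) := by
    intro m
    exact (Subgroup.le_normalizer_map K.subtype) ⟨(m : ↥K), hM₀ m.2, rfl⟩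
  refine Cfsg.Agent.Helper26.involves_of_injective
    ((K.subtype.comp M₀.subtype).codRestrict _ hmem) ?_ h1
  intro a b hab
  have h2 : (((a : ↥K)) : G) = (((b : ↥K)) : G) :=
    congrArg (fun z : ↥(normalizer ((S₁.map K.subtype : Subgroup G) : Set G)) => (z : G)) hab
  exact Subtype.ext (Subtype.ext h2)

end Cfsg.Agent.Helper15.SL2Free
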