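import Mathlib
import Cfsg.Agent.Helper15.SL2Free4
import Cfsg.Agent.Helper10.SecFusion3
import Cfsg.Agent.Helper26.ZJe
import Cfsg.Agent.Helper26.ZJeNPC
import Cfsg.Agent.Lead.TNC11
import Cfsg.Agent.Helper9.S4Section

set_option autoImplicit false
set_option linter.unusedSectionVars false

/-! # In an `SL₂(p)`-free group, `N(Z(J(P)))` controls strong fusion (given the statement of
S0656) -/

namespace Cfsg.Agent.Helper15.SL2Free

open Subgroup Cfsg Cfsg.Agent.Lead.TNC Cfsg.Agent.Helper10 Cfsg.Agent.Helper26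
open scoped commutatorElement

universe u

variable {p : ℕ} [hp : Fact p.Prime]

/-- the functor on groups attached to a characteristic functor -/
def toW (F : CharFunctor.{u} p) : ∀ (Q : Type u) [Group Q], Subgroup Q :=
  fun Q _ => F.W (⊤ : Subgroup Q)

theorem inducedFunctor_toW (F : CharFunctor.{u} p) {X : Type u} [Group X] (T : Subgroup X) :
    inducedFunctor (toW F) T = F.W T := by
  unfold inducedFunctor toW
  rw [← F.map T.subtype ⊤ T.subtype_injective.injOn, ← MonoidHom.range_eq_map,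
    Subgroup.range_subtype]

theorem toW_isCharPFunctor (F : CharFunctor.{u} p) : IsCharPFunctor.{u} p (toW F) := by
  refine ⟨?_, ?_⟩
  · intro Q _ _ hQ hnt
    apply F.ne_bot
    · intro x
      obtain ⟨k, hk⟩ := hQ x.1
      exact ⟨k, Subtype.ext hk⟩
    · exact top_ne_bot
  · intro Q R _ _ _ _ φ
    unfold toW
    rw [← F.map φ.toMonoidHom ⊤ φ.injective.injOn, ← MonoidHom.range_eq_map,
      MonoidHom.range_eq_top.mpr φ.surjective]

/-- `SL₂(p)`-free groups satisfy the stability hypothesis of the `ZJ`-theorem -/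
theorem stabHypSub_of_free (h656 : H656.{u} p) (Y : Type u) [Group Y] [Finite Y]
    (hfree : ¬ Involves (Matrix.SpecialLinearGroup (Fin 2) (ZMod p)) Y) : StabHypSub p Y := by
  intro P hPn hPp
  haveI := hPn
  obtain ⟨L₀, hL₀n, hCL₀, hL₀pow, hL₀max⟩ := exists_max_pQuot (p := p) (centralizer (P : Set Y))
  refine ⟨L₀, hL₀n, hCL₀, hL₀pow, ?_⟩
  intro A _ hq a ha
  have hq' : ∀ x ∈ P, ⁅⁅x, a⁆, a⁆ = 1 := by
    intro x hx
    have h1 : ⁅⁅x, a⁆, a⁆ ∈ ⁅⁅P, A⁆, A⁆ :=
      commutator_mem_commutator (commutator_mem_commutator hx ha) ha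
    rw [hq, mem_bot] at h1
    exact h1
  obtain ⟨D, hDn, _, hD2, hD3⟩ := inPCoreMod_of_not_involves h656 Y P hPp hfree a hq'
  exact hL₀max D hDn hD2 hD3

/-- chains through `N(W(P))` stay in `N(W(P))` -/
theorem mem_normalizer_of_fchain (F : CharFunctor.{u} p) {X : Type u} [Group X]
    (T : Subgroup X) (A : Set X) (z : X)
    (h : FChain (iFam ({toW F} : Set (∀ (Q : Type u) [Group Q], Subgroup Q)) X) ⊤ T A z) :
    z ∈ normalizer (F.W T : Set X) := by
  induction h with
  | nil _ => exact Subgroup.one_mem _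
  | step z m W _ hW hm _ ih =>
    apply Subgroup.mul_mem _ _ ih
    obtain ⟨W', hW', rfl⟩ := hW
    rw [Set.mem_singleton_iff] at hW'
    rw [hW'] at hm
    have hm2 : m ∈ normalizer ((inducedFunctor (toW F) T : Subgroup X) : Set X) := hm.2
    rw [inducedFunctor_toW] at hm2
    exact hm2

/-- **control of strong fusion** by `N(W(P))` in an `SL₂(p)`-free group, for a characteristic
functor `W` satisfying the `ZJ`-theorem -/
theorem controls_of_free (h656 : H656.{u} p) (F : CharFunctor.{u} p)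
    (hZJ : ∀ (Y : Type u) [Group Y] [Finite Y], StabHypSub p Y →
      centralizer ((pCore p Y : Subgroup Y) : Set Y) ≤ pCore p Y →
      ∀ T : Sylow p Y, (F.W (T : Subgroup Y)).Normal)
    {G : Type u} [Group G] [Finite G]
    (hfree : ¬ Involves (Matrix.SpecialLinearGroup (Fin 2) (ZMod p)) G)
    (P : Sylow p G) (A : Set G) (hA : A ⊆ ((P : Subgroup G) : Set G)) (g : G)
    (hgA : lc g A ⊆ ((P : Subgroup G) : Set G)) :
    ∃ n ∈ normalizer (F.W (P : Subgroup G) : Set G), ∀ a ∈ A, n * a * n⁻¹ = g * a * g⁻¹ := by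
  have h𝓦 : ∀ W ∈ ({toW F} : Set (∀ (Q : Type u) [Group Q], Subgroup Q)),
      IsCharPFunctor.{u} p W := by
    intro W hW
    rw [Set.mem_singleton_iff] at hW
    rw [hW]
    exact toW_isCharPFunctor F
  have hclaim := claim_all h𝓦
    (fun Y _ => ¬ Involves (Matrix.SpecialLinearGroup (Fin 2) (ZMod p)) Y)
    (fun Y _ hY M h => hY (Cfsg.Agent.Helper9.S4Sec.involves_of_subgroup M h))
    (fun Y _ hY N _ h => hY (Cfsg.Agent.Helper9.S4Sec.involves_of_quotient N h))
    (by
      intro Y _ _ hY hc T A' g' hA' hgA'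
      have hn := hZJ Y (stabHypSub_of_free h656 Y hY) hc T
      refine ⟨g', FChain.single (W := inducedFunctor (toW F)) ⟨toW F, rfl, rfl⟩ ⟨mem_top _, ?_⟩
        hA' hgA', fun a _ => rfl⟩
      rw [inducedFunctor_toW, normalizer_eq_top_iff.mpr hn]
      exact mem_top _)
    _ G rfl hfree
  obtain ⟨z, hz, hza⟩ := hclaim P A g hA hgA
  exact ⟨z, mem_normalizer_of_fchain F _ A z hz, hza⟩

/-- the elementary-abelian-version `Z(J(P))` -/
theorem controls_zjE_of_free (h656 : H656.{u} p) (hp2 : p ≠ 2) {G : Type u} [Group G] [Finite G]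
    (hfree : ¬ Involves (Matrix.SpecialLinearGroup (Fin 2) (ZMod p)) G)
    (P : Sylow p G) (A : Set G) (hA : A ⊆ ((P : Subgroup G) : Set G)) (g : G)
    (hgA : lc g A ⊆ ((P : Subgroup G) : Set G)) :
    ∃ n ∈ normalizer (centerThompsonOf p (P : Subgroup G) : Set G),
      ∀ a ∈ A, n * a * n⁻¹ = g * a * g⁻¹ :=
  controls_of_free h656 (zjEFunctor p)
    (fun _ _ _ hst hc T => centerThompsonOf_normal hp2 hst hc T) hfree P A hA g hgA

/-- the abelian-version `Z(J(P))` -/
theorem controls_zjA_of_free (h656 : H656.{u} p) (hp2 : p ≠ 2) {G : Type u} [Group G] [Finite G]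
    (hfree : ¬ Involves (Matrix.SpecialLinearGroup (Fin 2) (ZMod p)) G)
    (P : Sylow p G) (A : Set G) (hA : A ⊆ ((P : Subgroup G) : Set G)) (g : G)
    (hgA : lc g A ⊆ ((P : Subgroup G) : Set G)) :
    ∃ n ∈ normalizer (centerThompsonAOf (P : Subgroup G) : Set G),
      ∀ a ∈ A, n * a * n⁻¹ = g * a * g⁻¹ :=
  controls_of_free h656 (zjAFunctor p)
    (fun Y _ _ hst hc T => by
      have hn : (sInf (famEl 0 (T : Subgroup Y))).Normal :=
        (zjFamily_famEl hp2 0 (Or.inl rfl)).normal_sInf' hst hc T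
      rw [← centerThompsonAOf_eq] at hn
      exact hn) hfree P A hA g hgA

end Cfsg.Agent.Helper15.SL2Free
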