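import Mathlib
import Cfsg.Prelude.Def_SylowChains
import Cfsg.Agent.Helper19.Sylow
import Cfsg.Agent.Helper1.SylowBasic

set_option autoImplicit false

namespace Cfsg.Agent.Helper15

open Cfsg

variable {G : Type*} [Group G] {p : ℕ}

/-- adjacency in the Sylow graph: distinct Sylow subgroups meeting nontrivially -/
def sAdj (S T : Sylow p G) : Prop := S ≠ T ∧ (S : Subgroup G) ⊓ (T : Subgroup G) ≠ ⊥

/-- reachability in the Sylow graph -/
def sReach (S T : Sylow p G) : Prop := Relation.ReflTransGen sAdj S T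

theorem sAdj_symm {S T : Sylow p G} (h : sAdj S T) : sAdj T S :=
  ⟨h.1.symm, by rw [inf_comm]; exact h.2⟩

theorem sReach_refl (S : Sylow p G) : sReach S S := Relation.ReflTransGen.refl

theorem sReach_trans {S T U : Sylow p G} (h1 : sReach S T) (h2 : sReach T U) : sReach S U :=
  Relation.ReflTransGen.trans h1 h2

theorem sReach_symm {S T : Sylow p G} (h : sReach S T) : sReach T S := by
  induction h with
  | refl => exact sReach_refl _
  | tail _ hbc ih => exact sReach_trans (Relation.ReflTransGen.single (sAdj_symm hbc)) ih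

theorem inf_ne_bot_iff {A B : Subgroup G} : A ⊓ B ≠ ⊥ ↔ ∃ x, x ∈ A ∧ x ∈ B ∧ x ≠ 1 := by
  constructor
  · intro h
    obtain ⟨⟨x, hx⟩, hx1⟩ := (Subgroup.ne_bot_iff_exists_ne_one).mp h
    exact ⟨x, hx.1, hx.2, fun h => hx1 (Subtype.ext h)⟩
  · rintro ⟨x, hxA, hxB, hx1⟩ h
    have : x ∈ A ⊓ B := ⟨hxA, hxB⟩
    rw [h, Subgroup.mem_bot] at this
    exact hx1 this

theorem sAdj_smul (g : G) {S T : Sylow p G} (h : sAdj S T) : sAdj (g • S) (g • T) := by
  refine ⟨fun he => h.1 (smul_left_cancel g he), ?_⟩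
  obtain ⟨x, hxS, hxT, hx1⟩ := inf_ne_bot_iff.mp h.2
  rw [inf_ne_bot_iff]
  refine ⟨g * x * g⁻¹, ?_, ?_, ?_⟩
  · show g * x * g⁻¹ ∈ (g • S : Sylow p G)
    rw [Cfsg.Agent.Helper1.mem_sylow_smul_iff]
    have : g⁻¹ * (g * x * g⁻¹) * g = x := by group
    rw [this]; exact hxS
  · show g * x * g⁻¹ ∈ (g • T : Sylow p G)
    rw [Cfsg.Agent.Helper1.mem_sylow_smul_iff]
    have : g⁻¹ * (g * x * g⁻¹) * g = x := by group
    rw [this]; exact hxT
  · intro h1
    apply hx1
    have : x = g⁻¹ * (g * x * g⁻¹) * g := by group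
    rw [this, h1]; group

theorem sReach_smul (g : G) {S T : Sylow p G} (h : sReach S T) : sReach (g • S) (g • T) := by
  induction h with
  | refl => exact sReach_refl _
  | tail _ hbc ih => exact Relation.ReflTransGen.tail ih (sAdj_smul g hbc)

/-- two Sylow subgroups sharing a nontrivial element are equal or adjacent -/
theorem sReach_of_common {S T : Sylow p G} {x : G} (hxS : x ∈ S) (hxT : x ∈ T) (hx1 : x ≠ 1) :
    sReach S T := by
  by_cases h : S = T
  · rw [h]; exact sReach_refl _
  · exact Relation.ReflTransGen.single ⟨h, inf_ne_bot_iff.mpr ⟨x, hxS, hxT, hx1⟩⟩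

theorem sReach_of_chain : ∀ (n : ℕ) (c : Fin (n + 1) → Sylow p G),
    (∀ i : Fin n, sAdj (c i.castSucc) (c i.succ)) → sReach (c 0) (c (Fin.last n)) := by
  intro n
  induction n with
  | zero => intro c _; exact sReach_refl _
  | succ n ih =>
    intro c hc
    have h1 := ih (fun i => c i.castSucc) (fun i => by
      have := hc i.castSucc
      simpa using this)
    have h2 := hc (Fin.last n)
    have e : (Fin.last n).succ = Fin.last (n + 1) := rfl
    rw [e] at h2
    have e0 : c (0 : Fin (n + 1)).castSucc = c 0 := rfl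
    rw [e0] at h1
    exact Relation.ReflTransGen.tail h1 h2

theorem exists_chain_of_sReach {S T : Sylow p G} (h : sReach S T) :
    ∃ (n : ℕ) (c : Fin (n + 1) → Sylow p G), c 0 = S ∧ c (Fin.last n) = T ∧
      ∀ i : Fin n, sAdj (c i.castSucc) (c i.succ) := by
  induction h with
  | refl => exact ⟨0, fun _ => S, rfl, rfl, fun i => i.elim0⟩
  | @tail b c' _ hbc ih =>
    obtain ⟨n, c, h0, hl, hc⟩ := ih
    refine ⟨n + 1, Fin.snoc c c', ?_, ?_, ?_⟩
    · have : (0 : Fin (n + 2)) = (0 : Fin (n + 1)).castSucc := rfl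
      rw [this, Fin.snoc_castSucc]; exact h0
    · exact Fin.snoc_last _ _
    · intro i
      refine Fin.lastCases ?_ (fun j => ?_) i
      · have e : (Fin.last n).succ = Fin.last (n + 1) := rfl
        rw [e, Fin.snoc_last, Fin.snoc_castSucc, hl]
        exact hbc
      · have e : (j.castSucc).succ = (j.succ).castSucc := rfl
        rw [e, Fin.snoc_castSucc, Fin.snoc_castSucc]
        exact hc j

theorem isSylowChainConnected_iff :
    IsSylowChainConnected p G ↔ ∀ S T : Sylow p G, sReach S T := by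
  constructor
  · intro h S T
    obtain ⟨n, c, h0, hl, -, hc⟩ := h S T
    have := sReach_of_chain n c hc
    rwa [h0, hl] at this
  · intro h S T
    by_cases hbot : (S : Subgroup G) ⊓ (T : Subgroup G) = ⊥
    · obtain ⟨n, c, h0, hl, hc⟩ := exists_chain_of_sReach (h S T)
      exact ⟨n, c, h0, hl, fun i => by rw [hbot]; exact bot_le, hc⟩
    · by_cases hST : S = T
      · subst hST
        exact ⟨0, fun _ => S, rfl, rfl, fun _ => inf_le_left, fun i => i.elim0⟩
      · refine ⟨1, ![S, T], rfl, rfl, ?_, ?_⟩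
        · intro i
          fin_cases i
          · exact inf_le_left
          · exact inf_le_right
        · intro i
          fin_cases i
          exact ⟨hST, hbot⟩

/-- nontrivial `p`-group has order divisible by `p` -/
theorem dvd_card_of_isPGroup_ne_bot [Finite G] [Fact p.Prime] {R : Subgroup G} (hR : IsPGroup p R)
    (h1 : R ≠ ⊥) : p ∣ Nat.card R := by
  obtain ⟨k, hk⟩ := IsPGroup.iff_card.mp hR
  have hk0 : k ≠ 0 := by
    rintro rfl
    rw [pow_zero] at hk
    exact h1 (Subgroup.card_eq_one.mp hk)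
  rw [hk]
  exact dvd_pow_self p hk0

/-- In a strongly `p`-embedded subgroup `H`, any `p`-subgroup meeting `H` nontrivially lies in `H`. -/
theorem le_of_inf_ne_bot_of_stronglyEmbedded [Finite G] [Fact p.Prime] {H : Subgroup G}
    (hH : ∀ g : G, g ∉ H → ¬ p ∣ Nat.card ↥(H ⊓ H.map (MulAut.conj g).toMonoidHom))
    {R : Subgroup G} (hR : IsPGroup p R) (hRH : R ⊓ H ≠ ⊥) : R ≤ H := by
  by_contra hnot
  have hlt : R ⊓ H < R := lt_of_le_of_ne inf_le_left (fun h => hnot (h ▸ inf_le_right))
  obtain ⟨x, hxR, hxN, hxn⟩ := Cfsg.Agent.Helper19.exists_mem_normalizer_not_mem hR hlt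
  have hxH : x ∉ H := fun h => hxn ⟨hxR, h⟩
  apply hH x hxH
  have hle : R ⊓ H ≤ H ⊓ H.map (MulAut.conj x).toMonoidHom := by
    intro d hd
    refine ⟨hd.2, ?_⟩
    show d ∈ H.map (MulAut.conj x).toMonoidHom
    rw [Cfsg.Agent.Helper1.mem_map_conj_iff]
    have hx' : x⁻¹ ∈ Subgroup.normalizer ((R ⊓ H : Subgroup G) : Set G) := Subgroup.inv_mem _ hxN
    have := (Subgroup.mem_normalizer_iff.mp hx' d).mp hd
    have h2 : x⁻¹ * d * x ∈ R ⊓ H := by simpa using this
    exact h2.2
  exact dvd_trans (dvd_card_of_isPGroup_ne_bot (hR.to_le inf_le_left) hRH)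
    (Subgroup.card_dvd_of_le hle)

/-- The stabilizer of the connected component of `S` in the Sylow graph. -/
def compStab (S : Sylow p G) : Subgroup G where
  carrier := {g | sReach S (g • S)}
  one_mem' := by
    show sReach S ((1 : G) • S)
    rw [one_smul]; exact sReach_refl S
  mul_mem' := by
    intro a b ha hb
    show sReach S ((a * b) • S)
    rw [mul_smul]
    exact sReach_trans ha (sReach_smul a hb)
  inv_mem' := by
    intro a ha
    show sReach S (a⁻¹ • S)
    have := sReach_smul a⁻¹ ha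
    rw [smul_smul, inv_mul_cancel, one_smul] at this
    exact sReach_symm this

theorem mem_compStab {S : Sylow p G} {g : G} : g ∈ compStab S ↔ sReach S (g • S) := Iff.rfl

theorem le_compStab [Finite G] [Fact p.Prime] (S : Sylow p G) : (S : Subgroup G) ≤ compStab S := by
  intro s hs
  rw [mem_compStab]
  have : s • S = S := Sylow.smul_eq_iff_mem_normalizer.mpr (Subgroup.le_normalizer hs)
  rw [this]
  exact sReach_refl S

/-- every `p`-element of `compStab S` lies in a Sylow subgroup in the component of `S` -/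
theorem exists_sylow_of_mem_compStab [Finite G] [Fact p.Prime] (S : Sylow p G) {y : G}
    (hy : y ∈ compStab S) (hyp : IsPGroup p (Subgroup.zpowers y)) :
    ∃ P : Sylow p G, y ∈ P ∧ sReach S P := by
  have hSH := le_compStab S
  have hZ : IsPGroup p ((Subgroup.zpowers y).subgroupOf (compStab S)) := hyp.comap_subtype
  obtain ⟨Q, hQ⟩ := hZ.exists_le_sylow
  obtain ⟨h, hh⟩ := MulAction.exists_smul_eq (compStab S) (S.subtype hSH) Q
  rw [Sylow.smul_subtype] at hh
  refine ⟨(h : G) • S, ?_, h.2⟩
  have h1 : (⟨y, hy⟩ : compStab S) ∈ (Q : Subgroup (compStab S)) :=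
    hQ (by rw [Subgroup.mem_subgroupOf]; exact Subgroup.mem_zpowers y)
  rw [← hh] at h1
  have h2 : (⟨y, hy⟩ : compStab S) ∈
      ((((h : G) • S : Sylow p G).subtype (Sylow.smul_le hSH h) : Sylow p (compStab S)) :
        Subgroup (compStab S)) := h1
  rw [Sylow.coe_subtype, Subgroup.mem_subgroupOf] at h2
  exact h2

/-- `compStab S` is strongly `p`-embedded (the intersection condition). -/
theorem compStab_inter [Finite G] [Fact p.Prime] (S : Sylow p G) (g : G) (hg : g ∉ compStab S) :
    ¬ p ∣ Nat.card ↥(compStab S ⊓ (compStab S).map (MulAut.conj g).toMonoidHom) := by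
  intro hdvd
  obtain ⟨x, hx⟩ := exists_prime_orderOf_dvd_card' p hdvd
  have hxord : orderOf (x : G) = p := by rw [Subgroup.orderOf_coe]; exact hx
  have hp : p.Prime := Fact.out
  have hx1 : (x : G) ≠ 1 := by
    intro h
    rw [h, orderOf_one] at hxord
    exact hp.ne_one hxord.symm
  have hxH : (x : G) ∈ compStab S := x.2.1
  have hxg : (x : G) ∈ (compStab S).map (MulAut.conj g).toMonoidHom := x.2.2
  rw [Cfsg.Agent.Helper1.mem_map_conj_iff] at hxg
  have hZ1 : IsPGroup p (Subgroup.zpowers (x : G)) := by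
    apply IsPGroup.of_card (n := 1)
    rw [Nat.card_zpowers, hxord, pow_one]
  have hZ2 : IsPGroup p (Subgroup.zpowers (g⁻¹ * (x : G) * g)) := by
    apply IsPGroup.of_card (n := 1)
    rw [Nat.card_zpowers, pow_one]
    have : g⁻¹ * (x : G) * g = (MulAut.conj g⁻¹) (x : G) := by simp
    rw [this, MulEquiv.orderOf_eq, hxord]
  obtain ⟨P₁, hxP₁, hP₁⟩ := exists_sylow_of_mem_compStab S hxH hZ1
  obtain ⟨P₂, hxP₂, hP₂⟩ := exists_sylow_of_mem_compStab S hxg hZ2
  have hxgP₂ : (x : G) ∈ (g • P₂ : Sylow p G) := by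
    rw [Cfsg.Agent.Helper1.mem_sylow_smul_iff]; exact hxP₂
  have h1 : sReach P₁ (g • P₂) := sReach_of_common hxP₁ hxgP₂ hx1
  have h2 : sReach (g • P₂) (g • S) := sReach_smul g (sReach_symm hP₂)
  exact hg (sReach_trans hP₁ (sReach_trans h1 h2))

/-- The Sylow graph is disconnected iff there is a strongly `p`-embedded subgroup. -/
theorem not_connected_iff_stronglyEmbedded [Finite G] [Fact p.Prime] :
    ¬ IsSylowChainConnected p G ↔
      ∃ H : Subgroup G, H ≠ ⊤ ∧ p ∣ Nat.card H ∧
        ∀ g : G, g ∉ H → ¬ p ∣ Nat.card ↥(H ⊓ H.map (MulAut.conj g).toMonoidHom) := by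
  rw [isSylowChainConnected_iff]
  constructor
  · intro h
    push Not at h
    obtain ⟨S, T, hST⟩ := h
    refine ⟨compStab S, ?_, ?_, compStab_inter S⟩
    · intro htop
      obtain ⟨g, hg⟩ := MulAction.exists_smul_eq G S T
      have : g ∈ compStab S := by rw [htop]; exact Subgroup.mem_top g
      rw [mem_compStab, hg] at this
      exact hST this
    · have hne : S ≠ T := by
        rintro rfl
        exact hST (sReach_refl S)
      have hS1 : (S : Subgroup G) ≠ ⊥ := by
        intro hS
        apply hne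
        have hcard : Nat.card (T : Subgroup G) = Nat.card (S : Subgroup G) := by
          rw [Sylow.card_eq_multiplicity, Sylow.card_eq_multiplicity]
        rw [hS, Subgroup.card_bot] at hcard
        have hT : (T : Subgroup G) = ⊥ := Subgroup.card_eq_one.mp hcard
        exact Sylow.ext (by rw [hS, hT])
      exact dvd_trans (dvd_card_of_isPGroup_ne_bot S.isPGroup' hS1)
        (Subgroup.card_dvd_of_le (le_compStab S))
  · rintro ⟨H, hHtop, hHp, hH⟩ hconn
    -- a Sylow subgroup of G inside H
    obtain ⟨x, hx⟩ := exists_prime_orderOf_dvd_card' p hHp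
    have hp : p.Prime := Fact.out
    have hxord : orderOf (x : G) = p := by rw [Subgroup.orderOf_coe]; exact hx
    have hx1 : (x : G) ≠ 1 := by
      intro h
      rw [h, orderOf_one] at hxord
      exact hp.ne_one hxord.symm
    have hZ1 : IsPGroup p (Subgroup.zpowers (x : G)) := by
      apply IsPGroup.of_card (n := 1)
      rw [Nat.card_zpowers, hxord, pow_one]
    obtain ⟨S, hS⟩ := hZ1.exists_le_sylow
    have hall : ∀ T : Sylow p G, (T : Subgroup G) ≤ H := by
      intro T
      have hr := hconn S T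
      induction hr with
      | refl =>
        apply le_of_inf_ne_bot_of_stronglyEmbedded hH S.isPGroup'
        rw [inf_ne_bot_iff]
        exact ⟨x, hS (Subgroup.mem_zpowers _), x.2, hx1⟩
      | @tail b c _ hbc ih =>
        apply le_of_inf_ne_bot_of_stronglyEmbedded hH c.isPGroup'
        obtain ⟨y, hyb, hyc, hy1⟩ := inf_ne_bot_iff.mp hbc.2
        rw [inf_ne_bot_iff]
        exact ⟨y, hyc, ih hyb, hy1⟩
    apply hHtop
    rw [eq_top_iff]
    intro g _
    by_contra hg
    apply hH g hg
    have hle : (S : Subgroup G) ≤ H ⊓ H.map (MulAut.conj g).toMonoidHom := by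
      intro s hs
      refine ⟨hall S hs, ?_⟩
      show s ∈ H.map (MulAut.conj g).toMonoidHom
      rw [Cfsg.Agent.Helper1.mem_map_conj_iff]
      apply hall (g⁻¹ • S)
      show g⁻¹ * s * g ∈ (g⁻¹ • S : Sylow p G)
      rw [Cfsg.Agent.Helper1.mem_sylow_smul_iff]
      have : g⁻¹⁻¹ * (g⁻¹ * s * g) * g⁻¹ = s := by group
      rw [this]; exact hs
    have hS1 : (S : Subgroup G) ≠ ⊥ := by
      intro h
      have : (x : G) ∈ (S : Subgroup G) := hS (Subgroup.mem_zpowers _)
      rw [h, Subgroup.mem_bot] at this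
      exact hx1 this
    exact dvd_trans (dvd_card_of_isPGroup_ne_bot S.isPGroup' hS1) (Subgroup.card_dvd_of_le hle)

end Cfsg.Agent.Helper15
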