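import Mathlib
import Cfsg.Prelude.Def_SylowControl
import Cfsg.Agent.Helper14.SylowIn
import Cfsg.Agent.Helper15.SylowGraph

set_option autoImplicit false

namespace Cfsg.Agent.Helper15

open Cfsg Cfsg.Agent.Helper14

variable {G : Type*} [Group G] {p : ℕ}

theorem mem_sylowMembers_iff {𝓕 : Set (Subgroup G)} {S X : Subgroup G} :
    X ∈ sylowMembers p 𝓕 S ↔ X ∈ 𝓕 ∧ IsSylowIn p (S ⊓ X) X := by
  unfold sylowMembers
  rw [Set.mem_ofPred_eq, isSylowIn_iff]

theorem subgroupConjRight_eq (g : G) (X : Subgroup G) :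
    subgroupConjRight g X = X.map (cj g⁻¹) := rfl

theorem isNormalSet_map_cj {𝓕 : Set (Subgroup G)} (h𝓕 : IsNormalSet 𝓕) {X : Subgroup G}
    (hX : X ∈ 𝓕) (g : G) : X.map (cj g) ∈ 𝓕 := by
  have := h𝓕 X hX g⁻¹
  rwa [subgroupConjRight_eq, inv_inv] at this

theorem sylowMembers_map_cj {𝓕 : Set (Subgroup G)} (h𝓕 : IsNormalSet 𝓕) {S X : Subgroup G}
    (hX : X ∈ sylowMembers p 𝓕 S) (g : G) :
    X.map (cj g) ∈ sylowMembers p 𝓕 (S.map (cj g)) := by
  rw [mem_sylowMembers_iff] at hX ⊢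
  refine ⟨isNormalSet_map_cj h𝓕 hX.1 g, ?_⟩
  rw [← map_cj_inf]
  exact hX.2.map_cj g

theorem sylow_smul_coe (g : G) (S : Sylow p G) :
    ((g • S : Sylow p G) : Subgroup G) = (S : Subgroup G).map (cj g) := by
  rw [Sylow.coe_subgroup_smul]; rfl

/-- If `𝓕` controls Sylow intersections, every Sylow subgroup in the component of `S` is
conjugate to `S` by an element of `⟨𝓕(S), N_G(S)⟩`. -/
theorem exists_smul_of_sReach [Finite G] [Fact p.Prime] {𝓕 : Set (Subgroup G)}
    (h𝓕 : IsNormalSet 𝓕) (hc : ControlsSylowIntersections p 𝓕) (S : Sylow p G)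
    (K : Subgroup G) (hK : ∀ X ∈ sylowMembers p 𝓕 (S : Subgroup G), X ≤ K) {T : Sylow p G}
    (hT : sReach S T) : ∃ k ∈ K, T = k • S := by
  induction hT with
  | refl => exact ⟨1, K.one_mem, (one_smul G S).symm⟩
  | @tail b c _ hbc ih =>
    obtain ⟨k₀, hk₀, hb⟩ := ih
    obtain ⟨n, c', X, x, h0, hl, hstep⟩ := hc b c hbc.1 hbc.2
    have key : ∀ i : Fin (n + 1), ∃ k ∈ K, c' i = k • S := by
      intro i
      induction i using Fin.induction with
      | zero => exact ⟨k₀, hk₀, by rw [h0, hb]⟩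
      | succ i ihi =>
        obtain ⟨k, hk, hci⟩ := ihi
        obtain ⟨hX1, -, hx, hconj, -⟩ := hstep i
        rw [hci] at hX1 hconj
        -- X i conjugated back lies in K
        have h1 := sylowMembers_map_cj h𝓕 hX1 k⁻¹
        rw [sylow_smul_coe, map_cj_map_cj_inv] at h1
        have h2 : (X i).map (cj k⁻¹) ≤ K := hK _ h1
        have hxK : x i ∈ K := by
          have : k⁻¹ * x i * k⁻¹⁻¹ ∈ K := h2 ⟨x i, hx, rfl⟩
          have e : x i = k * (k⁻¹ * x i * k⁻¹⁻¹) * k⁻¹ := by group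
          rw [e]
          exact K.mul_mem (K.mul_mem hk this) (K.inv_mem hk)
        refine ⟨x i * k, K.mul_mem hxK hk, ?_⟩
        apply Sylow.ext
        rw [mul_smul, sylow_smul_coe (x i), ← hconj, subgroupConjRight_eq, map_cj_inv_map_cj]
    have := key (Fin.last n)
    rwa [hl] at this

/-- S2955: control of Sylow intersections plus connectivity gives generation. -/
theorem generation_of_controls [Finite G] [Fact p.Prime] {𝓕 : Set (Subgroup G)}
    (h𝓕 : IsNormalSet 𝓕) (hc : ControlsSylowIntersections p 𝓕)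
    (hconn : IsSylowChainConnected p G) (S : Sylow p G) :
    (⨆ X ∈ sylowMembers p 𝓕 (S : Subgroup G), X) ⊔
      Subgroup.normalizer ((S : Subgroup G) : Set G) = ⊤ := by
  set K := (⨆ X ∈ sylowMembers p 𝓕 (S : Subgroup G), X) ⊔
      Subgroup.normalizer ((S : Subgroup G) : Set G) with hKdef
  have hK : ∀ X ∈ sylowMembers p 𝓕 (S : Subgroup G), X ≤ K := by
    intro X hX
    exact le_trans (le_iSup₂ (f := fun X (_ : X ∈ sylowMembers p 𝓕 (S : Subgroup G)) => X) X hX)
      le_sup_left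
  rw [eq_top_iff]
  intro g _
  have hr : sReach S (g • S) := (isSylowChainConnected_iff.mp hconn) S (g • S)
  obtain ⟨k, hk, hgk⟩ := exists_smul_of_sReach h𝓕 hc S K hK hr
  have h1 : (k⁻¹ * g) • S = S := by
    rw [mul_smul, hgk, smul_smul, inv_mul_cancel, one_smul]
  have h2 : k⁻¹ * g ∈ Subgroup.normalizer ((S : Subgroup G) : Set G) :=
    Sylow.smul_eq_iff_mem_normalizer.mp h1
  have h3 : k⁻¹ * g ∈ K := (le_sup_right : _ ≤ K) h2
  have e : g = k * (k⁻¹ * g) := by group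
  rw [e]
  exact K.mul_mem hk h3

end Cfsg.Agent.Helper15
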