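import Mathlib
import Cfsg.Prelude.Def_Local
import Cfsg.Prelude.Def_CaseTheorems
import Cfsg.Agent.S0256
import Cfsg.Agent.Helper17.PrimAb
import Cfsg.Agent.Helper21.FrattiniAut
import Cfsg.Agent.Lead.FrattiniFaithful
import Cfsg.Agent.Helper1.PGroup
import Cfsg.Agent.Helper14.PCore

set_option autoImplicit false
set_option linter.style.haveILetI false

/-! S3103: `X / O₂(X)` embeds in `A₈ ≅ GL₄(2)` when `O₂(X)` has sectional rank at most four. -/

namespace Cfsg.Agent.Helper15

open Cfsg Subgroup
open scoped commutatorElement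

theorem zmod2_eq_one_of_ne_zero : ∀ x : ZMod 2, x ≠ 0 → x = 1 := by decide

theorem center_SL4_zmod2 :
    Subgroup.center (Matrix.SpecialLinearGroup (Fin 4) (ZMod 2)) = ⊥ := by
  rw [eq_bot_iff]
  intro A hA
  rw [Matrix.SpecialLinearGroup.mem_center_iff] at hA
  obtain ⟨r, hr, hrA⟩ := hA
  have hr1 : r = 1 := by
    apply zmod2_eq_one_of_ne_zero
    rintro rfl
    rw [Fintype.card_fin, zero_pow (by norm_num)] at hr
    exact zero_ne_one hr
  rw [Subgroup.mem_bot]
  apply Subtype.ext
  rw [← hrA, hr1]
  simp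

/-- `GL₄(2)` embeds in `A₈` (via `PSL₄(2) ≅ A₈`). -/
theorem exists_GL4_embed :
    ∃ ι : GL (Fin 4) (ZMod 2) →* ↥(alternatingGroup (Fin 8)), Function.Injective ι := by
  obtain ⟨E⟩ := Cfsg.Agent.S0256.result (F := ZMod 2) (by simp)
  let toSL : GL (Fin 4) (ZMod 2) →* Matrix.SpecialLinearGroup (Fin 4) (ZMod 2) :=
    { toFun := fun g => ⟨g.val, by
        apply zmod2_eq_one_of_ne_zero
        exact ((Matrix.isUnit_iff_isUnit_det _).mp g.isUnit).ne_zero⟩
      map_one' := Subtype.ext rfl
      map_mul' := fun a b => Subtype.ext rfl }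
  have htoSL : Function.Injective toSL := by
    intro a b hab
    apply Units.ext
    exact congrArg (fun s : Matrix.SpecialLinearGroup (Fin 4) (ZMod 2) => s.val) hab
  let π : Matrix.SpecialLinearGroup (Fin 4) (ZMod 2) →*
      Matrix.ProjectiveSpecialLinearGroup (Fin 4) (ZMod 2) :=
    QuotientGroup.mk' (Subgroup.center (Matrix.SpecialLinearGroup (Fin 4) (ZMod 2)))
  have hπ : Function.Injective π := by
    rw [injective_iff_map_eq_one]
    intro a ha
    have : a ∈ Subgroup.center (Matrix.SpecialLinearGroup (Fin 4) (ZMod 2)) :=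
      (QuotientGroup.eq_one_iff a).mp ha
    rw [center_SL4_zmod2] at this
    exact Subgroup.mem_bot.mp this
  refine ⟨E.toMonoidHom.comp (π.comp toSL), ?_⟩
  exact E.injective.comp (hπ.comp htoSL)

/-- padding an automorphism by the identity on a second factor -/
def mulAutProdLeft (V C : Type*) [Group V] [Group C] : MulAut V →* MulAut (V × C) where
  toFun α := MulEquiv.prodCongr α (MulEquiv.refl C)
  map_one' := by
    apply MulEquiv.ext
    intro x
    rfl
  map_mul' α β := by
    apply MulEquiv.ext
    intro x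
    rfl

theorem mulAutProdLeft_injective (V C : Type*) [Group V] [Group C] :
    Function.Injective (mulAutProdLeft V C) := by
  intro α β h
  apply MulEquiv.ext
  intro v
  have := congrArg (fun f : MulAut (V × C) => (f (v, 1)).1) h
  exact this

/-- A group acting on an elementary abelian `2`-group of order at most `16` maps to `A₈` with the
same kernel. -/
theorem exists_hom_A8_of_elementary {H : Type*} [Group H] {V : Type*} [Group V] [Finite V]
    (hcomm : ∀ a b : V, a * b = b * a) (hexp : ∀ a : V, a ^ 2 = 1) (hcard : Nat.card V ≤ 16)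
    (ψ : H →* MulAut V) : ∃ φ : H →* ↥(alternatingGroup (Fin 8)), φ.ker = ψ.ker := by
  letI : CommGroup V := { (inferInstance : Group V) with mul_comm := hcomm }
  have hV2 : IsPGroup 2 V := fun a => ⟨1, by rw [pow_one]; exact hexp a⟩
  obtain ⟨e, he⟩ := IsPGroup.iff_card.mp hV2
  have he4 : e ≤ 4 := by
    by_contra h
    push Not at h
    have h1 : 2 ^ 5 ≤ 2 ^ e := Nat.pow_le_pow_right (by norm_num) h
    rw [← he] at h1
    omega
  have hC2 : ∀ c : Fin (4 - e) → Multiplicative (ZMod 2), c ^ 2 = 1 := by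
    intro c
    funext i
    have : ∀ y : Multiplicative (ZMod 2), y ^ 2 = 1 := by decide
    exact this (c i)
  have hA2 : ∀ x : V × (Fin (4 - e) → Multiplicative (ZMod 2)), x ^ 2 = 1 := by
    rintro ⟨v, c⟩
    exact Prod.ext (hexp v) (hC2 c)
  have hcardA : Nat.card (V × (Fin (4 - e) → Multiplicative (ZMod 2))) = 2 ^ 4 := by
    rw [Nat.card_prod, he, Nat.card_fun, Nat.card_eq_fintype_card (α := Fin (4 - e)),
      Fintype.card_fin]
    have : Nat.card (Multiplicative (ZMod 2)) = 2 := by
      show Nat.card (ZMod 2) = 2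
      simp
    rw [this, ← pow_add]
    congr 1
    omega
  letI : Module (ZMod 2) (Additive (V × (Fin (4 - e) → Multiplicative (ZMod 2)))) :=
    AddCommGroup.zmodModule (fun x => by
      have : x = Additive.ofMul (Additive.toMul x) := rfl
      rw [this, ← ofMul_pow, hA2]
      rfl)
  obtain ⟨φ, hφ⟩ := Cfsg.Agent.Helper17.exists_hom_GL_of_module
    (A := V × (Fin (4 - e) → Multiplicative (ZMod 2))) 2 4 hcardA
    ((mulAutProdLeft V (Fin (4 - e) → Multiplicative (ZMod 2))).comp ψ)
  obtain ⟨ι, hι⟩ := exists_GL4_embed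
  refine ⟨ι.comp φ, ?_⟩
  ext h
  rw [MonoidHom.mem_ker, MonoidHom.comp_apply, map_eq_one_iff ι hι, ← MonoidHom.mem_ker, hφ,
    MonoidHom.mem_ker, MonoidHom.comp_apply,
    map_eq_one_iff _ (mulAutProdLeft_injective V (Fin (4 - e) → Multiplicative (ZMod 2))),
    MonoidHom.mem_ker]

/-- `C_X(O₂(X)) ≤ O₂(X)` for a `2`-constrained group with trivial odd core (any prime). -/
theorem centralizer_pCore_le_of_isPConstrained {X : Type*} [Group X] [Finite X] {p : ℕ}
    [Fact p.Prime] (hc : IsPConstrained p X) (hO : pPrimeCore p X = ⊥) :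
    centralizer (pCore p X : Set X) ≤ pCore p X := by
  have hQn : (pCore p X).Normal := Cfsg.Agent.Helper14.pCore_normal p
  have hQp : IsPGroup p ↥(pCore p X) := Cfsg.Agent.Helper14.pCore_isPGroup p
  have hNn : (pPrimeCore p X).Normal := by
    rw [hO]; infer_instance
  have hM : pPrimePCore p X = pCore p X := by
    apply le_antisymm
    · apply Cfsg.Agent.Helper14.le_pCore p
      · unfold pPrimePCore
        exact Subgroup.Normal.comap (Cfsg.Agent.Helper14.pCore_normal p) _
      · unfold pPrimePCore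
        apply IsPGroup.comap_of_ker_isPGroup (Cfsg.Agent.Helper14.pCore_isPGroup p)
        rw [QuotientGroup.ker_mk', hO]
        exact IsPGroup.of_bot
    · intro q hq
      unfold pPrimePCore
      rw [mem_comap]
      have h1 : (pCore p X).map (QuotientGroup.mk' (pPrimeCore p X)) ≤
          pCore p (X ⧸ pPrimeCore p X) := by
        apply Cfsg.Agent.Helper14.le_pCore p
        · exact Subgroup.Normal.map hQn _ (QuotientGroup.mk'_surjective _)
        · exact hQp.map _
      exact h1 ⟨q, hq, rfl⟩
  have hMp : IsPGroup p ↥(pPrimePCore p X) := by rw [hM]; exact hQp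
  have P : Sylow p ↥(pPrimePCore p X) := default
  have hPtop : (P : Subgroup ↥(pPrimePCore p X)) = ⊤ :=
    (P.is_maximal' (hMp.to_subgroup ⊤) le_top).symm
  have h := hc P
  rw [hPtop, ← MonoidHom.range_eq_map, Subgroup.range_subtype, hM] at h
  exact h

/-- S3103. -/
theorem quotient_pCore_embeds_A8 {X : Type*} [Group X] [Finite X] (hc : IsPConstrained 2 X)
    (hO : oddCore X = ⊥) (h4 : SectionalPRankLE 2 4 ↥(pCore 2 X)) :
    ∃ f : X ⧸ pCore 2 X →* ↥(alternatingGroup (Fin 8)), Function.Injective f := by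
  have hQn : (pCore 2 X).Normal := Cfsg.Agent.Helper14.pCore_normal 2
  have hQp : IsPGroup 2 ↥(pCore 2 X) := Cfsg.Agent.Helper14.pCore_isPGroup 2
  have hcent := centralizer_pCore_le_of_isPConstrained hc hO
  have hmax : ∀ C : Subgroup X, C.Normal → IsPGroup 2 C → C ≤ pCore 2 X :=
    fun C hn hp => Cfsg.Agent.Helper14.le_pCore 2 hn hp
  -- the action on the Frattini quotient
  let θ : X →* MulAut (↥(pCore 2 X) ⧸ frattini ↥(pCore 2 X)) :=
    (Cfsg.Agent.Helper21.FrattiniAut.frattiniQuotHom ↥(pCore 2 X)).comp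
      (MulAut.conjNormal (H := pCore 2 X))
  have hker : θ.ker = pCore 2 X := by
    ext g
    rw [MonoidHom.mem_ker, MonoidHom.comp_apply, ← MonoidHom.mem_ker,
      Cfsg.Agent.Helper21.FrattiniAut.mem_ker_frattiniQuotHom_iff,
      ← Cfsg.Agent.Lead.mem_iff_trivial_on_frattini_quotient (pCore 2 X) hQp hmax hcent g]
    constructor
    · intro h y hy
      refine ⟨_, h ⟨y, hy⟩, ?_⟩
      simp [MulAut.conjNormal_apply]
    · intro h y
      obtain ⟨z, hz, hzy⟩ := h y y.2
      have : z = MulAut.conjNormal g y * y⁻¹ := by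
        apply Subtype.ext
        have hzy' : (z : X) = g * ↑y * g⁻¹ * (↑y)⁻¹ := hzy
        rw [hzy']
        simp [MulAut.conjNormal_apply]
      rw [← this]
      exact hz
  -- the Frattini quotient is elementary abelian of order at most 16
  have hcomm : ∀ a b : ↥(pCore 2 X) ⧸ frattini ↥(pCore 2 X), a * b = b * a := by
    intro a b
    induction a using QuotientGroup.induction_on with
    | H a =>
      induction b using QuotientGroup.induction_on with
      | H b =>
        rw [← QuotientGroup.mk_mul, ← QuotientGroup.mk_mul, QuotientGroup.eq]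
        apply Cfsg.Agent.Helper1.IsPGroup.commutator_le_frattini hQp
        have : (a * b)⁻¹ * (b * a) = ⁅b⁻¹, a⁻¹⁆ := by
          rw [commutatorElement_def]; group
        rw [this]
        exact Subgroup.commutator_mem_commutator (Subgroup.mem_top _) (Subgroup.mem_top _)
  have hexp : ∀ a : ↥(pCore 2 X) ⧸ frattini ↥(pCore 2 X), a ^ 2 = 1 := by
    intro a
    induction a using QuotientGroup.induction_on with
    | H a =>
      rw [← QuotientGroup.mk_pow, QuotientGroup.eq_one_iff]
      exact Cfsg.Agent.Helper1.IsPGroup.pow_mem_frattini hQp a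
  have hcard : Nat.card (↥(pCore 2 X) ⧸ frattini ↥(pCore 2 X)) ≤ 16 := by
    have hN : ((frattini ↥(pCore 2 X)).subgroupOf ⊤).Normal := inferInstance
    have hcomm' : ∀ a b : ↥(⊤ : Subgroup ↥(pCore 2 X)) ⧸ (frattini ↥(pCore 2 X)).subgroupOf ⊤,
        a * b = b * a := by
      intro a b
      induction a using QuotientGroup.induction_on with
      | H a =>
        induction b using QuotientGroup.induction_on with
        | H b =>
          rw [← QuotientGroup.mk_mul, ← QuotientGroup.mk_mul, QuotientGroup.eq, mem_subgroupOf]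
          apply Cfsg.Agent.Helper1.IsPGroup.commutator_le_frattini hQp
          have : (((a * b)⁻¹ * (b * a) : ↥(⊤ : Subgroup ↥(pCore 2 X))) : ↥(pCore 2 X)) =
              ⁅(b : ↥(pCore 2 X))⁻¹, (a : ↥(pCore 2 X))⁻¹⁆ := by
            rw [commutatorElement_def]
            push_cast
            group
          rw [this]
          exact Subgroup.commutator_mem_commutator (Subgroup.mem_top _) (Subgroup.mem_top _)
    have hexp' : ∀ a : ↥(⊤ : Subgroup ↥(pCore 2 X)) ⧸ (frattini ↥(pCore 2 X)).subgroupOf ⊤,
        a ^ 2 = 1 := by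
      intro a
      induction a using QuotientGroup.induction_on with
      | H a =>
        rw [← QuotientGroup.mk_pow, QuotientGroup.eq_one_iff, mem_subgroupOf]
        push_cast
        exact Cfsg.Agent.Helper1.IsPGroup.pow_mem_frattini hQp (a : ↥(pCore 2 X))
    have h := h4 ⊤ ((frattini ↥(pCore 2 X)).subgroupOf ⊤) ⊤
      ⟨⟨fun a b => Subtype.ext (hcomm' a.1 b.1)⟩⟩ (fun a _ => hexp' a)
    rw [Subgroup.card_top, ← Subgroup.index_eq_card] at h
    have h2 : ((frattini ↥(pCore 2 X)).subgroupOf ⊤).index =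
        (frattini ↥(pCore 2 X)).index := by
      show (frattini ↥(pCore 2 X)).relIndex ⊤ = _
      exact Subgroup.relIndex_top_right _
    rw [h2, Subgroup.index_eq_card] at h
    exact h
  obtain ⟨φ, hφ⟩ := exists_hom_A8_of_elementary hcomm hexp hcard θ
  rw [hker] at hφ
  refine ⟨QuotientGroup.lift (pCore 2 X) φ (fun x hx => by rw [← hφ] at hx; exact hx), ?_⟩
  intro a b hab
  induction a using QuotientGroup.induction_on with
  | H a =>
    induction b using QuotientGroup.induction_on with
    | H b =>
      rw [QuotientGroup.lift_mk, QuotientGroup.lift_mk] at hab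
      rw [QuotientGroup.eq, ← hφ, MonoidHom.mem_ker, map_mul, map_inv, hab, inv_mul_cancel]

end Cfsg.Agent.Helper15
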