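import Mathlib
import Cfsg.Agent.Lead.ThompsonPQ
import Cfsg.Agent.Lead.CoprimeFrattini
import Cfsg.Agent.Helper1.PGroup

set_option autoImplicit false

/-! The dual of Thompson's `P × Q` lemma: if `[E,Q] ≤ [E,P]` then `Q` centralizes `E`. -/

namespace Cfsg.Agent.Helper15

open Subgroup
open scoped commutatorElement

variable {G : Type*} [Group G]

/-- Dual `P × Q` lemma. -/
theorem dual_PQ [Finite G] (p : ℕ) [Fact p.Prime]
    (P Q E : Subgroup G) (hP : IsPGroup p P) (hQ : (Nat.card Q).Coprime p) (hE : IsPGroup p E)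
    (hPQ : P ≤ centralizer (Q : Set G))
    (hPE : P ≤ normalizer (E : Set G)) (hQE : Q ≤ normalizer (E : Set G))
    (hC : ⁅E, Q⁆ ≤ ⁅E, P⁆) : Q ≤ centralizer (E : Set G) := by
  set K : Subgroup G := E ⊔ P with hK
  have hKp : IsPGroup p K := by
    rw [hK, sup_comm]; exact IsPGroup.to_sup_of_normal_right' hP hE hPE
  have hQP : Q ≤ centralizer (P : Set G) := le_centralizer_iff.mp hPQ
  have hQPn : Q ≤ normalizer (P : Set G) := by
    intro a ha
    rw [mem_normalizer_iff]
    intro x
    have hc := mem_centralizer_iff.mp (hQP ha)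
    constructor
    · intro hx
      have : a * x * a⁻¹ = x := by rw [← hc x hx]; group
      rw [this]; exact hx
    · intro hx
      have h1 := hc _ hx
      have : x = a * x * a⁻¹ := by
        have h2 : a * x * a⁻¹ * a = a * (a * x * a⁻¹) := h1
        have h3 : a * x = a * (a * x * a⁻¹) := by rw [← h2]; group
        exact mul_left_cancel h3
      rw [this]; exact hx
  have hQK : Q ≤ normalizer (K : Set G) :=
    (le_inf hQE hQPn).trans (normalizer_inf_normalizer_le_normalizer_sup E P)
  have hcop : (Nat.card Q).Coprime (Nat.card (frattini K)) := by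
    obtain ⟨k, hk⟩ := IsPGroup.iff_card.mp hKp
    have hdvd : Nat.card (frattini K) ∣ p ^ k := by
      rw [← hk]; exact Subgroup.card_subgroup_dvd_card _
    exact Nat.Coprime.coprime_dvd_right hdvd (hQ.pow_right k)
  have hEK : E ≤ K := le_sup_left
  have hPK : P ≤ K := le_sup_right
  have hKK : ⁅E, P⁆ ≤ (frattini K).map K.subtype := by
    have h1 : ⁅E, P⁆ ≤ ⁅K, K⁆ := commutator_mono hEK hPK
    have h2 : ⁅K, K⁆ = (commutator K).map K.subtype := (map_subtype_commutator K).symm
    rw [h2] at h1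
    exact h1.trans (map_mono (Cfsg.Agent.Helper1.IsPGroup.commutator_le_frattini hKp))
  have htriv : ∀ a ∈ Q, ∀ k ∈ K, a * k * a⁻¹ * k⁻¹ ∈ (frattini K).map K.subtype := by
    intro a ha k hk
    have hk' : k ∈ ((E ⊔ P : Subgroup G) : Set G) := hk
    rw [coe_mul_of_right_le_normalizer_left E P hPE] at hk'
    obtain ⟨e, he, x, hx, rfl⟩ := hk'
    have hax : a * x = x * a := by
      have := mem_centralizer_iff.mp (hQP ha) x hx
      exact this.symm
    have h1 : a * (e * x) * a⁻¹ * (e * x)⁻¹ = (⁅e, a⁆)⁻¹ := by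
      rw [commutatorElement_def]
      have h2 : a * x * a⁻¹ = x := by rw [hax]; group
      calc a * (e * x) * a⁻¹ * (e * x)⁻¹ = a * e * a⁻¹ * (a * x * a⁻¹) * x⁻¹ * e⁻¹ := by group
        _ = a * e * a⁻¹ * x * x⁻¹ * e⁻¹ := by rw [h2]
        _ = (e * a * e⁻¹ * a⁻¹)⁻¹ := by group
    rw [h1]
    apply inv_mem
    exact hKK (hC (commutator_mem_commutator he ha))
  exact Cfsg.Agent.Lead.centralizes_of_trivial_on_frattini_quotient Q K hQK hcop htriv
    |>.trans (centralizer_le (by exact_mod_cast hEK))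

end Cfsg.Agent.Helper15
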