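import Mathlib
import Cfsg.Agent.Helper15.DualPQ
import Cfsg.Agent.Lead.GenCent2

set_option autoImplicit false

/-! S2909: `[R,U]` centralizes `E`. -/

namespace Cfsg.Agent.Helper15

open Subgroup
open scoped commutatorElement

variable {G : Type*} [Group G]

theorem le_normalizer_of_conj_mem {A H : Subgroup G}
    (h : ∀ a ∈ A, ∀ x ∈ H, a * x * a⁻¹ ∈ H) : A ≤ normalizer (H : Set G) := by
  intro a ha
  rw [mem_normalizer_iff]
  intro x
  constructor
  · exact h a ha x
  · intro hx
    have := h a⁻¹ (inv_mem ha) _ hx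
    simpa [mul_assoc] using this

/-- If all `[Rᵢ, U] ≤ C` with `C` normal, then `[⨆ Rᵢ, U] ≤ C`. -/
theorem commutator_le_of_generators_normal {ι : Sort*} (Rs : ι → Subgroup G) (U C : Subgroup G)
    [hCn : C.Normal] (h : ∀ i, ⁅Rs i, U⁆ ≤ C) : ⁅⨆ i, Rs i, U⁆ ≤ C := by
  let T : Subgroup G :=
    { carrier := {r | ∀ v ∈ U, r * v * r⁻¹ * v⁻¹ ∈ C}
      one_mem' := by
        intro v _
        simp
      mul_mem' := by
        intro r s hr hs v hv
        have h1 : r * (s * v * s⁻¹ * v⁻¹) * r⁻¹ ∈ C := hCn.conj_mem _ (hs v hv) r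
        have h2 := C.mul_mem h1 (hr v hv)
        have : r * s * v * (r * s)⁻¹ * v⁻¹ =
            r * (s * v * s⁻¹ * v⁻¹) * r⁻¹ * (r * v * r⁻¹ * v⁻¹) := by group
        show r * s * v * (r * s)⁻¹ * v⁻¹ ∈ C
        rw [this]; exact h2
      inv_mem' := by
        intro r hr v hv
        have h1 : r⁻¹ * (r * v * r⁻¹ * v⁻¹)⁻¹ * r⁻¹⁻¹ ∈ C :=
          hCn.conj_mem _ (C.inv_mem (hr v hv)) r⁻¹
        have : r⁻¹ * v * r⁻¹⁻¹ * v⁻¹ = r⁻¹ * (r * v * r⁻¹ * v⁻¹)⁻¹ * r⁻¹⁻¹ := by group
        show r⁻¹ * v * r⁻¹⁻¹ * v⁻¹ ∈ C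
        rw [this]; exact h1 }
  have hT : (⨆ i, Rs i) ≤ T := by
    apply iSup_le
    intro i r hr v hv
    have := (commutator_le.mp (h i)) r hr v hv
    rwa [commutatorElement_def] at this
  rw [commutator_le]
  intro r hr v hv
  rw [commutatorElement_def]
  exact hT hr v hv

/-- S2909. -/
theorem commutator_le_centralizer_of_noncyclic [Finite G] {p : ℕ} [Fact p.Prime]
    (E : Subgroup G) [hEn : E.Normal] (hE : IsPGroup p ↥E) (U : Subgroup G)
    (hUc : IsMulCommutative U) (hUp : ∀ a ∈ U, a ^ p = 1) (hnc : ¬ IsCyclic ↥U)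
    (hcond : (∀ u ∈ U, u ≠ 1 → E ⊓ centralizer (U : Set G) = E ⊓ centralizer ({u} : Set G)) ∨
      (∀ u ∈ U, u ≠ 1 → ⁅E, U⁆ = ⁅E, zpowers u⁆))
    (R : Subgroup G) (hR : ¬ p ∣ Nat.card ↥R) (hRU : U ≤ normalizer (R : Set G)) :
    ⁅R, U⁆ ≤ centralizer (E : Set G) := by
  have hp : p.Prime := Fact.out
  have hUpg : IsPGroup p U := by
    intro g
    refine ⟨1, ?_⟩
    apply Subtype.ext
    have := hUp g g.2
    simpa using this
  have hRcop : (Nat.card R).Coprime p := ((Nat.Prime.coprime_iff_not_dvd hp).mpr hR).symm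
  have hcop : (Nat.card U).Coprime (Nat.card R) := by
    obtain ⟨k, hk⟩ := IsPGroup.iff_card.mp hUpg
    rw [hk]
    exact (hRcop.symm).pow_left k
  have hgen := Cfsg.Agent.Lead.generated_by_centralizers U R hnc hRU hcop
  have hUcomm : ∀ v ∈ U, ∀ w ∈ U, v * w = w * v := by
    intro v hv w hw
    have := hUc.is_comm.comm (⟨v, hv⟩ : U) ⟨w, hw⟩
    exact congrArg Subtype.val this
  have hEtop : normalizer (E : Set G) = ⊤ := normalizer_eq_top E
  -- reduce to each centralizer
  rw [← hgen]
  have hstep : ∀ u : G, u ∈ U → u ≠ 1 →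
      ⁅R ⊓ centralizer ({u} : Set G), U⁆ ≤ centralizer (E : Set G) := by
    intro u hu hu1
    set Ru : Subgroup G := R ⊓ centralizer ({u} : Set G) with hRu
    set X : Subgroup G := ⁅Ru, U⁆ with hX
    have hURu : U ≤ normalizer (Ru : Set G) := by
      apply le_normalizer_of_conj_mem
      intro v hv x hx
      refine ⟨?_, ?_⟩
      · exact (mem_normalizer_iff.mp (hRU hv) x).mp hx.1
      · exact Cfsg.Agent.Lead.conj_mem_centralizer_singleton (hUcomm v hv u hu) hx.2
    have hXRu : X ≤ Ru := Cfsg.Agent.Lead.commutator_le_of_le_normalizer hURu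
    have hXcop : (Nat.card X).Coprime p :=
      Nat.Coprime.coprime_dvd_left (Subgroup.card_dvd_of_le (hXRu.trans inf_le_left)) hRcop
    set P : Subgroup G := zpowers u with hPdef
    have hPp : IsPGroup p P := hUpg.to_le (zpowers_le.mpr hu)
    have hPX : P ≤ centralizer (X : Set G) := by
      rw [hPdef, zpowers_le]
      rw [mem_centralizer_iff]
      intro x hx
      have : x ∈ centralizer ({u} : Set G) := (hXRu hx).2
      rw [mem_centralizer_singleton_iff] at this
      exact this
    have hPE : P ≤ normalizer (E : Set G) := by rw [hEtop]; exact le_top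
    have hXE : X ≤ normalizer (E : Set G) := by rw [hEtop]; exact le_top
    have hcentP : centralizer ((P : Subgroup G) : Set G) = centralizer ({u} : Set G) := by
      rw [hPdef, zpowers_eq_closure, centralizer_closure]
    -- conjugation by r ∈ Ru preserves E ⊓ C(u)
    have hRuE : ∀ r ∈ Ru, ∀ f ∈ E ⊓ centralizer ({u} : Set G),
        r⁻¹ * f * r ∈ E ⊓ centralizer ({u} : Set G) := by
      intro r hr f hf
      refine ⟨?_, ?_⟩
      · have := hEn.conj_mem f hf.1 r⁻¹
        simpa using this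
      · have h1 : r ∈ centralizer ({u} : Set G) := hr.2
        have h2 : f ∈ centralizer ({u} : Set G) := hf.2
        show r⁻¹ * f * r ∈ centralizer ({u} : Set G)
        rw [mem_centralizer_singleton_iff] at h1 h2 ⊢
        have h1' : r⁻¹ * u = u * r⁻¹ := by
          calc r⁻¹ * u = r⁻¹ * (u * r) * r⁻¹ := by group
            _ = r⁻¹ * (r * u) * r⁻¹ := by rw [h1]
            _ = u * r⁻¹ := by group
        calc r⁻¹ * f * r * u = r⁻¹ * f * (r * u) := by group
          _ = r⁻¹ * (f * u) * r := by rw [h1]; group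
          _ = r⁻¹ * u * f * r := by rw [h2]; group
          _ = u * (r⁻¹ * f * r) := by rw [h1']; group
    rcases hcond with ha | hb
    · -- case (a)
      have hF := ha u hu hu1
      apply Cfsg.Agent.Lead.thompson_PQ p P X E hPp hXcop hE hPX hPE hXE
      rw [hcentP, ← hF]
      -- X ≤ centralizer F
      rw [le_centralizer_iff]
      rw [hX, commutator_le]
      intro r hr v hv
      rw [mem_centralizer_iff]
      intro f hf
      have hf' : f ∈ E ⊓ centralizer (U : Set G) := hf
      have hfu : f ∈ E ⊓ centralizer ({u} : Set G) := hF ▸ hf'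
      have hf2 : r⁻¹ * f * r ∈ E ⊓ centralizer (U : Set G) := by
        rw [hF]; exact hRuE r hr f hfu
      have hvf : v * f = f * v := ((mem_centralizer_iff.mp hf'.2) v hv)
      have hvf' : v⁻¹ * f = f * v⁻¹ := by
        calc v⁻¹ * f = v⁻¹ * (f * v) * v⁻¹ := by group
          _ = v⁻¹ * (v * f) * v⁻¹ := by rw [hvf]
          _ = f * v⁻¹ := by group
      have hvf2 : v * (r⁻¹ * f * r) = (r⁻¹ * f * r) * v :=
        ((mem_centralizer_iff.mp hf2.2) v hv)
      rw [commutatorElement_def]
      calc f * (r * v * r⁻¹ * v⁻¹) = r * ((r⁻¹ * f * r) * v) * r⁻¹ * v⁻¹ := by group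
        _ = r * (v * (r⁻¹ * f * r)) * r⁻¹ * v⁻¹ := by rw [hvf2]
        _ = r * v * r⁻¹ * (f * v⁻¹) := by group
        _ = r * v * r⁻¹ * (v⁻¹ * f) := by rw [hvf']
        _ = r * v * r⁻¹ * v⁻¹ * f := by group
    · -- case (b)
      have hD := hb u hu hu1
      apply dual_PQ p P X E hPp hXcop hE hPX hPE hXE
      rw [← hD]
      set D : Subgroup G := ⁅E, U⁆ with hDdef
      -- normalizers of D
      have hUD : U ≤ normalizer (D : Set G) :=
        Cfsg.Agent.Lead.le_normalizer_commutator_right E U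
      have hRuD : Ru ≤ normalizer (D : Set G) := by
        rw [hD]
        apply Cfsg.Agent.Lead.le_normalizer_commutator_of_centralizes
        · rw [hEtop]; exact le_top
        · rw [hcentP]; exact inf_le_right
      let TD : Subgroup G :=
        { carrier := {g | g ∈ normalizer (D : Set G) ∧ ∀ e ∈ E, e * g * e⁻¹ * g⁻¹ ∈ D}
          one_mem' := by
            refine ⟨one_mem _, ?_⟩
            intro e _
            simp
          mul_mem' := by
            rintro g h ⟨hgN, hg⟩ ⟨hhN, hh⟩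
            refine ⟨mul_mem hgN hhN, ?_⟩
            intro e he
            have h1 : g * (e * h * e⁻¹ * h⁻¹) * g⁻¹ ∈ D :=
              (mem_normalizer_iff.mp hgN _).mp (hh e he)
            have : e * (g * h) * e⁻¹ * (g * h)⁻¹ =
                e * g * e⁻¹ * g⁻¹ * (g * (e * h * e⁻¹ * h⁻¹) * g⁻¹) := by group
            rw [this]
            exact D.mul_mem (hg e he) h1
          inv_mem' := by
            rintro g ⟨hgN, hg⟩
            refine ⟨inv_mem hgN, ?_⟩
            intro e he
            have h1 : g⁻¹ * (e * g * e⁻¹ * g⁻¹)⁻¹ * g⁻¹⁻¹ ∈ D :=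
              (mem_normalizer_iff.mp (inv_mem hgN) _).mp (D.inv_mem (hg e he))
            have : e * g⁻¹ * e⁻¹ * g⁻¹⁻¹ = g⁻¹ * (e * g * e⁻¹ * g⁻¹)⁻¹ * g⁻¹⁻¹ := by group
            rw [this]
            exact h1 }
      have hUTD : U ≤ TD := by
        intro v hv
        refine ⟨hUD hv, ?_⟩
        intro e he
        have := commutator_mem_commutator he hv
        rwa [commutatorElement_def] at this
      have hXTD : X ≤ TD := by
        rw [hX, commutator_le]
        intro r hr v hv
        rw [commutatorElement_def]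
        have h1 : r * v * r⁻¹ ∈ TD := by
          refine ⟨mul_mem (mul_mem (hRuD hr) (hUD hv)) (inv_mem (hRuD hr)), ?_⟩
          intro e he
          have he' : r⁻¹ * e * r ∈ E := by
            have := hEn.conj_mem e he r⁻¹
            simpa using this
          have h2 : (r⁻¹ * e * r) * v * (r⁻¹ * e * r)⁻¹ * v⁻¹ ∈ D := (hUTD hv).2 _ he'
          have h3 : r * ((r⁻¹ * e * r) * v * (r⁻¹ * e * r)⁻¹ * v⁻¹) * r⁻¹ ∈ D :=
            (mem_normalizer_iff.mp (hRuD hr) _).mp h2
          have : e * (r * v * r⁻¹) * e⁻¹ * (r * v * r⁻¹)⁻¹ =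
              r * ((r⁻¹ * e * r) * v * (r⁻¹ * e * r)⁻¹ * v⁻¹) * r⁻¹ := by group
          rw [this]
          exact h3
        exact TD.mul_mem h1 (TD.inv_mem (hUTD hv))
      rw [commutator_le]
      intro e he x hx
      rw [commutatorElement_def]
      exact (hXTD hx).2 e he
  exact commutator_le_of_generators_normal
    (fun a : {a : G // a ∈ {a : G | a ∈ U ∧ a ≠ 1}} => R ⊓ centralizer ({(a : G)} : Set G)) U
    (centralizer (E : Set G)) (fun a => hstep a.1 a.2.1 a.2.2) |> fun h => by
      rw [iSup_subtype'] ; exact h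

end Cfsg.Agent.Helper15
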