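import Mathlib
import Cfsg.Prelude.Def_IsolatedElements
import Cfsg.Prelude.Def_TwoFusion
import Cfsg.Prelude.Def_Transfer
import Cfsg.Agent.Helper19.Sylow
import Cfsg.Agent.Helper1.SylowBasic

set_option autoImplicit false

namespace Cfsg.Agent.Helper15

open Cfsg

variable {G : Type*} [Group G] {p : ℕ}

theorem isPGroup_zpowers_of_orderOf [Fact p.Prime] {x : G} (hx : ∃ k : ℕ, orderOf x = p ^ k) :
    IsPGroup p (Subgroup.zpowers x) := by
  obtain ⟨k, hk⟩ := hx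
  apply IsPGroup.of_card (n := k)
  rw [Nat.card_zpowers, hk]

theorem isIsolated_conj {x : G} (hiso : IsIsolated x) (g : G) : IsIsolated (g * x * g⁻¹) := by
  intro h hc
  -- conjugate back by g
  have h1 : Commute x ((g⁻¹ * h * g) * x * (g⁻¹ * h * g)⁻¹) := by
    have e : (g⁻¹ * h * g) * x * (g⁻¹ * h * g)⁻¹ = g⁻¹ * (h * (g * x * g⁻¹) * h⁻¹) * g := by group
    rw [e]
    have hc' : (g * x * g⁻¹) * (h * (g * x * g⁻¹) * h⁻¹) = (h * (g * x * g⁻¹) * h⁻¹) * (g * x * g⁻¹) := hc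
    show x * (g⁻¹ * (h * (g * x * g⁻¹) * h⁻¹) * g) = (g⁻¹ * (h * (g * x * g⁻¹) * h⁻¹) * g) * x
    calc x * (g⁻¹ * (h * (g * x * g⁻¹) * h⁻¹) * g)
        = g⁻¹ * ((g * x * g⁻¹) * (h * (g * x * g⁻¹) * h⁻¹)) * g := by group
      _ = g⁻¹ * ((h * (g * x * g⁻¹) * h⁻¹) * (g * x * g⁻¹)) * g := by rw [hc']
      _ = (g⁻¹ * (h * (g * x * g⁻¹) * h⁻¹) * g) * x := by group
  have h2 := hiso _ h1
  calc h * (g * x * g⁻¹) * h⁻¹ = g * ((g⁻¹ * h * g) * x * (g⁻¹ * h * g)⁻¹) * g⁻¹ := by group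
    _ = g * x * g⁻¹ := by rw [h2]

/-- A `p`-subgroup containing an isolated element centralizes it. -/
theorem le_centralizer_of_isolated [Finite G] [Fact p.Prime] {x : G} (hiso : IsIsolated x)
    {R : Subgroup G} (hR : IsPGroup p R) (hxR : x ∈ R) :
    R ≤ Subgroup.centralizer ({x} : Set G) := by
  by_contra hnot
  have hlt : R ⊓ Subgroup.centralizer ({x} : Set G) < R :=
    lt_of_le_of_ne inf_le_left (fun h => hnot (h ▸ inf_le_right))
  obtain ⟨r, hrR, hrN, hrC⟩ := Cfsg.Agent.Helper19.exists_mem_normalizer_not_mem hR hlt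
  have hxC : x ∈ R ⊓ Subgroup.centralizer ({x} : Set G) :=
    ⟨hxR, Subgroup.mem_centralizer_singleton_iff.mpr rfl⟩
  have h1 : r * x * r⁻¹ ∈ R ⊓ Subgroup.centralizer ({x} : Set G) :=
    (Subgroup.mem_normalizer_iff.mp hrN x).mp hxC
  have h2 : Commute x (r * x * r⁻¹) := (Subgroup.mem_centralizer_singleton_iff.mp h1.2).symm
  have h3 := hiso r h2
  apply hrC
  refine ⟨hrR, Subgroup.mem_centralizer_singleton_iff.mpr ?_⟩
  calc r * x = (r * x * r⁻¹) * r := by group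
    _ = x * r := by rw [h3]

/-- If `g x g⁻¹` lies in a `p`-subgroup containing the isolated element `x`, then `g x g⁻¹ = x`. -/
theorem conj_eq_of_isolated [Finite G] [Fact p.Prime] {x : G} (hiso : IsIsolated x)
    {R : Subgroup G} (hR : IsPGroup p R) (hxR : x ∈ R) {g : G} (hg : g * x * g⁻¹ ∈ R) :
    g * x * g⁻¹ = x := by
  apply hiso
  exact (Subgroup.mem_centralizer_singleton_iff.mp (le_centralizer_of_isolated hiso hR hxR hg)).symm

theorem normalizer_le_centralizer_of_isolated [Finite G] [Fact p.Prime] {x : G}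
    (hiso : IsIsolated x) {R : Subgroup G} (hR : IsPGroup p R) (hxR : x ∈ R) :
    Subgroup.normalizer (R : Set G) ≤ Subgroup.centralizer ({x} : Set G) := by
  intro g hg
  have h1 : g * x * g⁻¹ ∈ R := (Subgroup.mem_normalizer_iff.mp hg x).mp hxR
  have h2 := conj_eq_of_isolated hiso hR hxR h1
  rw [Subgroup.mem_centralizer_singleton_iff]
  calc g * x = (g * x * g⁻¹) * g := by group
    _ = x * g := by rw [h2]

/-- Two `p`-elements `x`, `y` of a subgroup `N`: some `N`-conjugate of `y` lies with `x` in a common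
`p`-subgroup of `N`. -/
theorem exists_common_pSubgroup [Finite G] [Fact p.Prime] (N : Subgroup G) {x y : G}
    (hxN : x ∈ N) (hyN : y ∈ N) (hx : IsPGroup p (Subgroup.zpowers x))
    (hy : IsPGroup p (Subgroup.zpowers y)) :
    ∃ n ∈ N, ∃ R : Subgroup G, IsPGroup p R ∧ R ≤ N ∧ x ∈ R ∧ n * y * n⁻¹ ∈ R := by
  have hx' : IsPGroup p ((Subgroup.zpowers x).subgroupOf N) := hx.comap_subtype
  have hy' : IsPGroup p ((Subgroup.zpowers y).subgroupOf N) := hy.comap_subtype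
  obtain ⟨Q, hQ⟩ := hx'.exists_le_sylow
  obtain ⟨Q', hQ'⟩ := hy'.exists_le_sylow
  obtain ⟨n, hn⟩ := MulAction.exists_smul_eq N Q' Q
  refine ⟨n, n.2, (Q : Subgroup N).map N.subtype, Q.isPGroup'.map _, Subgroup.map_subtype_le _,
    ?_, ?_⟩
  · exact ⟨⟨x, hxN⟩, hQ (by rw [Subgroup.mem_subgroupOf]; exact Subgroup.mem_zpowers x), rfl⟩
  · have h1 : (⟨y, hyN⟩ : N) ∈ (Q' : Subgroup N) :=
      hQ' (by rw [Subgroup.mem_subgroupOf]; exact Subgroup.mem_zpowers y)
    have h2 : n * ⟨y, hyN⟩ * n⁻¹ ∈ (n • Q' : Sylow p N) := by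
      rw [Cfsg.Agent.Helper1.mem_sylow_smul_iff]
      have : n⁻¹ * (n * ⟨y, hyN⟩ * n⁻¹) * n = ⟨y, hyN⟩ := by group
      rw [this]; exact h1
    rw [hn] at h2
    exact ⟨n * ⟨y, hyN⟩ * n⁻¹, h2, rfl⟩

/-- Frattini-type factorization for an isolated `p`-element `x ∈ N ⊴ H`. -/
theorem sup_centralizer_of_isolated [Finite G] [Fact p.Prime] {x : G}
    (hx : ∃ k : ℕ, orderOf x = p ^ k) (hiso : IsIsolated x) (H N : Subgroup G) (hNH : N ≤ H)
    (hHN : H ≤ Subgroup.normalizer (N : Set G)) (hxN : x ∈ N) :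
    N ⊔ (H ⊓ Subgroup.centralizer ({x} : Set G)) = H := by
  apply le_antisymm (sup_le hNH inf_le_left)
  intro h hh
  have hy : h * x * h⁻¹ ∈ N := (Subgroup.mem_normalizer_iff.mp (hHN hh) x).mp hxN
  have hxp := isPGroup_zpowers_of_orderOf (p := p) hx
  have hyp : IsPGroup p (Subgroup.zpowers (h * x * h⁻¹)) := by
    apply isPGroup_zpowers_of_orderOf
    have : h * x * h⁻¹ = (MulAut.conj h) x := by simp
    rw [this, MulEquiv.orderOf_eq]; exact hx
  obtain ⟨n, hnN, R, hR, -, hxR, hnR⟩ := exists_common_pSubgroup N hxN hy hxp hyp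
  have e : n * (h * x * h⁻¹) * n⁻¹ = (n * h) * x * (n * h)⁻¹ := by group
  rw [e] at hnR
  have h2 := conj_eq_of_isolated hiso hR hxR hnR
  have h3 : n * h ∈ H ⊓ Subgroup.centralizer ({x} : Set G) := by
    refine ⟨H.mul_mem (hNH hnN) hh, Subgroup.mem_centralizer_singleton_iff.mpr ?_⟩
    calc n * h * x = ((n * h) * x * (n * h)⁻¹) * (n * h) := by group
      _ = x * (n * h) := by rw [h2]
  have e2 : h = n⁻¹ * (n * h) := by group
  rw [e2]
  exact Subgroup.mul_mem_sup (N.inv_mem hnN) h3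

end Cfsg.Agent.Helper15
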