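import Mathlib
import Cfsg.Agent.Helper15.Isolated
import Cfsg.Agent.Helper9.Burnside
import Cfsg.Agent.Helper23.Cyclic
import Cfsg.Agent.Lead.CoprimeAbelian

set_option autoImplicit false

namespace Cfsg.Agent.Helper15

open Cfsg

variable {G : Type*} [Group G] {p : ℕ}

/-- S2968 -/
theorem isolated_sylow [Finite G] [Fact p.Prime] (P : Sylow p G) (x : G)
    (hxP : x ∈ (P : Subgroup G)) (hx : ∃ k : ℕ, orderOf x = p ^ k) (hiso : IsIsolated x) :
    x ∈ (P : Subgroup G) ⊓ Subgroup.centralizer ((P : Subgroup G) : Set G) ∧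
      IsStronglyClosed (Subgroup.zpowers x) (P : Subgroup G) ∧
      IsWeaklyClosed (Subgroup.zpowers x) (P : Subgroup G) := by
  have hPc : (P : Subgroup G) ≤ Subgroup.centralizer ({x} : Set G) :=
    le_centralizer_of_isolated hiso P.isPGroup' hxP
  have hzP : Subgroup.zpowers x ≤ (P : Subgroup G) := by
    rw [Subgroup.zpowers_le]; exact hxP
  refine ⟨⟨hxP, ?_⟩, ⟨hzP, ?_⟩, ⟨hzP, ?_⟩⟩
  · show x ∈ Subgroup.centralizer ((P : Subgroup G) : Set G)
    rw [Subgroup.mem_centralizer_iff]
    intro y hy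
    exact Subgroup.mem_centralizer_singleton_iff.mp (hPc hy)
  · intro z hz g hg
    obtain ⟨k, rfl⟩ := Subgroup.mem_zpowers_iff.mp hz
    set y : G := g * x * g⁻¹ with hy
    have hyk : g * x ^ k * g⁻¹ = y ^ k := by rw [hy, conj_zpow]
    rw [hyk] at hg ⊢
    have hyiso : IsIsolated y := isIsolated_conj hiso g
    have hyord : ∃ k : ℕ, orderOf y = p ^ k := by
      have : y = (MulAut.conj g) x := by simp [hy]
      rw [this, MulEquiv.orderOf_eq]; exact hx
    have hxN : x ∈ Subgroup.centralizer ({y ^ k} : Set G) := by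
      rw [Subgroup.mem_centralizer_singleton_iff]
      exact (Subgroup.mem_centralizer_singleton_iff.mp (hPc hg)).symm
    have hyN : y ∈ Subgroup.centralizer ({y ^ k} : Set G) := by
      rw [Subgroup.mem_centralizer_singleton_iff]
      exact ((Commute.refl y).zpow_right k).eq
    obtain ⟨n, hnN, R, hR, -, hyR, hnR⟩ := exists_common_pSubgroup
      (Subgroup.centralizer ({y ^ k} : Set G)) hyN hxN
      (isPGroup_zpowers_of_orderOf hyord) (isPGroup_zpowers_of_orderOf hx)
    -- n x n⁻¹ is a conjugate of y lying in R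
    have e : n * x * n⁻¹ = (n * g⁻¹) * y * (n * g⁻¹)⁻¹ := by rw [hy]; group
    rw [e] at hnR
    have h2 := conj_eq_of_isolated hyiso hR hyR hnR
    rw [← e] at h2
    -- y^k = n x^k n⁻¹, and n centralizes y^k
    have h3 : y ^ k = n * x ^ k * n⁻¹ := by rw [← h2, conj_zpow]
    have h4 : n * y ^ k = y ^ k * n := Subgroup.mem_centralizer_singleton_iff.mp hnN
    have h5 : x ^ k = y ^ k := by
      calc x ^ k = n⁻¹ * (n * x ^ k * n⁻¹) * n := by group
        _ = n⁻¹ * y ^ k * n := by rw [← h3]
        _ = n⁻¹ * (y ^ k * n) := by group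
        _ = n⁻¹ * (n * y ^ k) := by rw [h4]
        _ = y ^ k := by group
    rw [← h5]
    exact Subgroup.zpow_mem_zpowers x k
  · intro g hg
    rw [MonoidHom.map_zpowers] at hg ⊢
    have hgx : g * x * g⁻¹ ∈ (P : Subgroup G) := by
      have := hg (Subgroup.mem_zpowers _)
      simpa using this
    have := conj_eq_of_isolated hiso P.isPGroup' hxP hgx
    have e : (MulAut.conj g).toMonoidHom x = g * x * g⁻¹ := by simp
    rw [e, this]

/-- S2970 (a): images of isolated `p`-elements are isolated. -/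
theorem isolated_quotient [Finite G] [Fact p.Prime] (x : G) (hx : ∃ k : ℕ, orderOf x = p ^ k)
    (hiso : IsIsolated x) (N : Subgroup G) [N.Normal] :
    IsIsolated (QuotientGroup.mk x : G ⧸ N) := by
  intro gbar hc
  obtain ⟨g, rfl⟩ := QuotientGroup.mk_surjective gbar
  set y : G := g * x * g⁻¹ with hy
  set C : Subgroup G := (Subgroup.centralizer ({(QuotientGroup.mk x : G ⧸ N)} : Set (G ⧸ N))).comap
    (QuotientGroup.mk' N) with hC
  have hxC : x ∈ C := by
    rw [hC, Subgroup.mem_comap, Subgroup.mem_centralizer_singleton_iff]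
    rfl
  have hyC : y ∈ C := by
    rw [hC, Subgroup.mem_comap, Subgroup.mem_centralizer_singleton_iff]
    have : (QuotientGroup.mk' N) y = (QuotientGroup.mk g : G ⧸ N) * (QuotientGroup.mk x) *
        (QuotientGroup.mk g)⁻¹ := by
      rw [hy]; simp
    rw [this]
    exact hc.eq.symm
  have hyord : ∃ k : ℕ, orderOf y = p ^ k := by
    have : y = (MulAut.conj g) x := by simp [hy]
    rw [this, MulEquiv.orderOf_eq]; exact hx
  obtain ⟨c, hcC, R, hR, -, hxR, hcR⟩ := exists_common_pSubgroup C hxC hyC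
    (isPGroup_zpowers_of_orderOf hx) (isPGroup_zpowers_of_orderOf hyord)
  have e : c * y * c⁻¹ = (c * g) * x * (c * g)⁻¹ := by rw [hy]; group
  rw [e] at hcR
  have h2 := conj_eq_of_isolated hiso hR hxR hcR
  rw [← e] at h2
  -- in the quotient
  have hcc : (QuotientGroup.mk c : G ⧸ N) * QuotientGroup.mk x =
      QuotientGroup.mk x * QuotientGroup.mk c := by
    rw [hC, Subgroup.mem_comap, Subgroup.mem_centralizer_singleton_iff] at hcC
    exact hcC
  have h3 : (QuotientGroup.mk c : G ⧸ N) * QuotientGroup.mk y * (QuotientGroup.mk c)⁻¹ =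
      QuotientGroup.mk x := by
    rw [← QuotientGroup.mk_mul, ← QuotientGroup.mk_inv, ← QuotientGroup.mk_mul, h2]
  have h4 : (QuotientGroup.mk y : G ⧸ N) = QuotientGroup.mk x := by
    calc (QuotientGroup.mk y : G ⧸ N)
        = (QuotientGroup.mk c)⁻¹ * ((QuotientGroup.mk c : G ⧸ N) * QuotientGroup.mk y *
            (QuotientGroup.mk c)⁻¹) * (QuotientGroup.mk c) := by group
      _ = (QuotientGroup.mk c)⁻¹ * (QuotientGroup.mk x * QuotientGroup.mk c) := by
          rw [h3, mul_assoc]
      _ = (QuotientGroup.mk c)⁻¹ * (QuotientGroup.mk c * QuotientGroup.mk x) := by rw [hcc]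
      _ = QuotientGroup.mk x := by group
  exact (show (QuotientGroup.mk g : G ⧸ N) * QuotientGroup.mk x * (QuotientGroup.mk g)⁻¹ =
    QuotientGroup.mk y from rfl).trans h4

/-- S2970 (b): an isolated nontrivial `p`-element with cyclic Sylow `p`-subgroups forces a normal
`p`-complement. -/
theorem hasNormalPComplement_of_isolated [Finite G] [Fact p.Prime] (x : G)
    (hx : ∃ k : ℕ, orderOf x = p ^ k) (hiso : IsIsolated x) (hx1 : x ≠ 1)
    (hcyc : ∀ P : Sylow p G, IsCyclic ↥(P : Subgroup G)) : HasNormalPComplement p G := by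
  have hp : p.Prime := Fact.out
  obtain ⟨P, hP⟩ := (isPGroup_zpowers_of_orderOf (p := p) hx).exists_le_sylow
  have hxP : x ∈ (P : Subgroup G) := hP (Subgroup.mem_zpowers x)
  have hcycP : IsCyclic ↥(P : Subgroup G) := hcyc P
  have hcommP : ∀ a ∈ (P : Subgroup G), ∀ b ∈ (P : Subgroup G), a * b = b * a := by
    intro a ha b hb
    obtain ⟨c, hc⟩ := hcycP.exists_generator
    obtain ⟨i, hi⟩ := Subgroup.mem_zpowers_iff.mp (hc ⟨a, ha⟩)
    obtain ⟨j, hj⟩ := Subgroup.mem_zpowers_iff.mp (hc ⟨b, hb⟩)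
    have ha' : a = (c : G) ^ i := by
      have := congrArg Subtype.val hi
      simpa using this.symm
    have hb' : b = (c : G) ^ j := by
      have := congrArg Subtype.val hj
      simpa using this.symm
    rw [ha', hb', ← zpow_add, ← zpow_add, add_comm]
  have : IsMulCommutative ↥(P : Subgroup G) :=
    ⟨⟨fun a b => Subtype.ext (hcommP a a.2 b b.2)⟩⟩
  have hNC : Subgroup.normalizer ((P : Subgroup G) : Set G) ≤ Subgroup.centralizer ({x} : Set G) :=
    normalizer_le_centralizer_of_isolated hiso P.isPGroup' hxP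
  -- elements of prime order of P lie in ⟨x⟩
  have hprime : ∀ v ∈ (P : Subgroup G), (orderOf v).Prime → v ∈ Subgroup.zpowers x := by
    intro v hv hvp
    obtain ⟨j, hj⟩ := P.isPGroup' ⟨v, hv⟩
    have hj' : v ^ (p ^ j) = 1 := by
      have := congrArg Subtype.val hj
      simpa using this
    have hdvd : orderOf v ∣ p ^ j := orderOf_dvd_of_pow_eq_one hj'
    have hvp' : orderOf v = p := (Nat.prime_dvd_prime_iff_eq hvp hp).mp (hvp.dvd_of_dvd_pow hdvd)
    obtain ⟨k, hk⟩ := hx
    have hk0 : k ≠ 0 := by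
      rintro rfl
      rw [pow_zero, orderOf_eq_one_iff] at hk
      exact hx1 hk
    obtain ⟨k', rfl⟩ := Nat.exists_eq_succ_of_ne_zero hk0
    set w : G := x ^ (p ^ k') with hw
    have hword : orderOf w = p := by
      rw [hw, orderOf_pow' x (pow_ne_zero k' hp.ne_zero), hk, pow_succ,
        Nat.gcd_eq_right (Dvd.intro _ rfl), Nat.mul_div_cancel_left p (pow_pos hp.pos k')]
    have hwP : Subgroup.zpowers w ≤ (P : Subgroup G) := by
      rw [Subgroup.zpowers_le]; exact Subgroup.pow_mem _ hxP _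
    have hvP : Subgroup.zpowers v ≤ (P : Subgroup G) := by
      rw [Subgroup.zpowers_le]; exact hv
    have heq := Cfsg.Agent.Helper23.eq_of_card_eq_of_isCyclic (P : Subgroup G) hcycP
      (Subgroup.zpowers v) (Subgroup.zpowers w) hvP hwP
      (by rw [Nat.card_zpowers, Nat.card_zpowers, hvp', hword])
    have hvw : v ∈ Subgroup.zpowers w := by rw [← heq]; exact Subgroup.mem_zpowers v
    have hwx : Subgroup.zpowers w ≤ Subgroup.zpowers x := by
      rw [Subgroup.zpowers_le]; exact Subgroup.pow_mem _ (Subgroup.mem_zpowers x) _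
    exact hwx hvw
  apply Cfsg.Agent.Helper9.hasNormalPComplement_of_normalizer_le_centralizer P
  intro g hg
  obtain ⟨k, m, hm, hkm⟩ := Nat.exists_eq_pow_mul_and_not_dvd (orderOf_pos g).ne' p hp.ne_one
  set u : G := g ^ m with hu
  set w : G := g ^ (p ^ k) with hw
  have huN : u ∈ Subgroup.normalizer ((P : Subgroup G) : Set G) := Subgroup.pow_mem _ hg _
  have hwN : w ∈ Subgroup.normalizer ((P : Subgroup G) : Set G) := Subgroup.pow_mem _ hg _
  have hm0 : m ≠ 0 := by
    rintro rfl
    exact hm (dvd_zero p)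
  have huord : orderOf u = p ^ k := by
    rw [hu, orderOf_pow' g hm0, hkm,
      Nat.gcd_eq_right (Dvd.intro_left _ rfl), Nat.mul_div_cancel _ (Nat.pos_of_ne_zero hm0)]
  have hword : orderOf w = m := by
    rw [hw, orderOf_pow' g (pow_ne_zero k hp.ne_zero), hkm, Nat.gcd_eq_right (Dvd.intro _ rfl),
      Nat.mul_div_cancel_left m (pow_pos hp.pos k)]
  -- u ∈ P
  have huP : u ∈ (P : Subgroup G) := by
    have hzu : IsPGroup p (Subgroup.zpowers u) := isPGroup_zpowers_of_orderOf ⟨k, huord⟩
    have hzN : Subgroup.zpowers u ≤ Subgroup.normalizer ((P : Subgroup G) : Set G) := by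
      rw [Subgroup.zpowers_le]; exact huN
    have hsup : IsPGroup p (Subgroup.zpowers u ⊔ (P : Subgroup G) : Subgroup G) :=
      IsPGroup.to_sup_of_normal_right' hzu P.isPGroup' hzN
    have := P.is_maximal' hsup le_sup_right
    have h2 : Subgroup.zpowers u ≤ (P : Subgroup G) := by rw [← this]; exact le_sup_left
    exact h2 (Subgroup.mem_zpowers u)
  have huC : u ∈ Subgroup.centralizer ((P : Subgroup G) : Set G) := by
    rw [Subgroup.mem_centralizer_iff]
    intro y hy
    exact hcommP y hy u huP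
  -- w centralizes P by coprime action
  have hwC : w ∈ Subgroup.centralizer ((P : Subgroup G) : Set G) := by
    have hA : Subgroup.zpowers w ≤ Subgroup.normalizer ((P : Subgroup G) : Set G) := by
      rw [Subgroup.zpowers_le]; exact hwN
    have hcop : (Nat.card (Subgroup.zpowers w)).Coprime (Nat.card (P : Subgroup G)) := by
      rw [Nat.card_zpowers, hword]
      obtain ⟨j, hj⟩ := IsPGroup.iff_card.mp P.isPGroup'
      rw [hj]
      exact Nat.Coprime.pow_right j ((Nat.Prime.coprime_iff_not_dvd hp).mpr hm).symm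
    have hΩ : ∀ v ∈ (P : Subgroup G), (orderOf v).Prime → ∀ a ∈ Subgroup.zpowers w,
        a * v = v * a := by
      intro v hv hvp a ha
      have hvx := hprime v hv hvp
      obtain ⟨i, rfl⟩ := Subgroup.mem_zpowers_iff.mp hvx
      obtain ⟨j, rfl⟩ := Subgroup.mem_zpowers_iff.mp ha
      have hgx : Commute g x := Subgroup.mem_centralizer_singleton_iff.mp (hNC hg)
      have : Commute w x := by rw [hw]; exact hgx.pow_left _
      exact ((this.zpow_left j).zpow_right i).eq
    exact Cfsg.Agent.Lead.coprime_abelian_centralizes_of_prime_order (Subgroup.zpowers w)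
      (P : Subgroup G) hA hcop hΩ (Subgroup.mem_zpowers w)
  -- g is a product of powers of u and w
  have hcop : IsCoprime ((p : ℤ) ^ k) (m : ℤ) := by
    have : Nat.Coprime (p ^ k) m :=
      Nat.Coprime.pow_left k ((Nat.Prime.coprime_iff_not_dvd hp).mpr hm)
    exact_mod_cast Nat.isCoprime_iff_coprime.mpr this
  obtain ⟨a, b, hab⟩ := hcop
  have hg' : g = w ^ a * u ^ b := by
    have : g = g ^ (a * (p : ℤ) ^ k + b * (m : ℤ)) := by rw [hab, zpow_one]
    rw [hw, hu]
    conv_lhs => rw [this]
    rw [zpow_add, mul_comm a, mul_comm b, zpow_mul, zpow_mul]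
    congr 1
    · congr 1
      exact_mod_cast zpow_natCast g (p ^ k)
    · congr 1
      exact zpow_natCast g m
  rw [hg']
  exact Subgroup.mul_mem _ (Subgroup.zpow_mem _ hwC a) (Subgroup.zpow_mem _ huC b)

end Cfsg.Agent.Helper15
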