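import Mathlib
import Cfsg.Agent.Helper14.PCore
import Cfsg.Agent.Lead.ThompsonPQ
import Cfsg.Agent.Lead.Coprime3
import Cfsg.Agent.Lead.CoprimeSylow
import Cfsg.Agent.Lead.Compl
import Cfsg.Agent.Helper15.NoncycCentralizes

set_option autoImplicit false

/-! S2961: overgroups of a self-centralizing normal subgroup `Q` of a Sylow `p`-subgroup in a
group of characteristic `p` have characteristic `p`. -/

namespace Cfsg.Agent.Helper15

open Subgroup Cfsg
open Cfsg.Agent.Helper14

variable {G : Type*} [Group G]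

/-- A finite-order group whose `p'`-elements are trivial is a `p`-group (subgroup version). -/
theorem isPGroup_of_forall_coprime_eq_one [Finite G] {p : ℕ} [Fact p.Prime] (D : Subgroup G)
    (h : ∀ x ∈ D, (orderOf x).Coprime p → x = 1) : IsPGroup p D := by
  have hp : p.Prime := Fact.out
  intro g
  have h0 : orderOf (g : G) ≠ 0 := (orderOf_pos (g : G)).ne'
  obtain ⟨k, m, hm, hkm⟩ := Nat.exists_eq_pow_mul_and_not_dvd h0 p hp.ne_one
  refine ⟨k, ?_⟩
  apply Subtype.ext
  show ((g ^ p ^ k : D) : G) = 1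
  rw [Subgroup.coe_pow]
  apply h _ (D.pow_mem g.2 _)
  have h1 : orderOf ((g : G) ^ p ^ k) = m := by
    rw [orderOf_pow' _ (pow_ne_zero k hp.ne_zero), hkm]
    rw [Nat.gcd_eq_right (dvd_mul_right _ _)]
    exact Nat.mul_div_cancel_left m (pow_pos hp.pos k)
  rw [h1]
  exact ((Nat.Prime.coprime_iff_not_dvd hp).mpr hm).symm

/-- Stability: a `p'`-element `x` centralizing the `p`-group `N` with `[x,y] ∈ N` commutes
with `y`. -/
theorem commute_of_coprime_of_stable [Finite G] {p : ℕ} [Fact p.Prime] {x y : G}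
    {N : Subgroup G} (hNp : IsPGroup p N)
    (hx : (orderOf x).Coprime p) (ha : x * y * x⁻¹ * y⁻¹ ∈ N)
    (hcomm : ∀ n ∈ N, x * n = n * x) : x * y = y * x := by
  set a : G := x * y * x⁻¹ * y⁻¹ with ha_def
  have hxa : x * a = a * x := hcomm a ha
  have hxy : x * y * x⁻¹ = a * y := by rw [ha_def]; group
  have key : ∀ k : ℕ, x ^ k * y * (x ^ k)⁻¹ = a ^ k * y := by
    intro k
    induction k with
    | zero => simp
    | succ k ih =>
      have hc : Commute x a := hxa
      have h1 : x * a ^ k * x⁻¹ = a ^ k := by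
        have := (hc.pow_right k).eq
        rw [this]; group
      calc x ^ (k + 1) * y * (x ^ (k + 1))⁻¹ = x * (x ^ k * y * (x ^ k)⁻¹) * x⁻¹ := by
            rw [pow_succ']; group
        _ = x * (a ^ k * y) * x⁻¹ := by rw [ih]
        _ = (x * a ^ k * x⁻¹) * (x * y * x⁻¹) := by group
        _ = a ^ k * (a * y) := by rw [h1, hxy]
        _ = a ^ (k + 1) * y := by rw [pow_succ]; group
  have h2 := key (orderOf x)
  rw [pow_orderOf_eq_one] at h2
  have h3 : a ^ orderOf x = 1 := by
    have : y = a ^ orderOf x * y := by simpa using h2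
    have h4 : 1 * y = a ^ orderOf x * y := by rw [one_mul]; exact this
    exact (mul_right_cancel h4).symm
  obtain ⟨m, hm⟩ := hNp ⟨a, ha⟩
  have h5 : a ^ p ^ m = 1 := by
    have := congrArg Subtype.val hm
    simpa using this
  have h6 : orderOf a = 1 :=
    Nat.eq_one_of_dvd_coprimes (hx.pow_right m) (orderOf_dvd_of_pow_eq_one h3)
      (orderOf_dvd_of_pow_eq_one h5)
  have h7 : a = 1 := orderOf_eq_one_iff.mp h6
  calc x * y = (x * y * x⁻¹ * y⁻¹) * (y * x) := by group
    _ = y * x := by rw [← ha_def, h7, one_mul]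

/-- The elements normalizing `D` and centralizing `E` modulo `D` (`E` normal). -/
def quotCentralizer (E D : Subgroup G) [E.Normal] : Subgroup G where
  carrier := {g | g ∈ normalizer (D : Set G) ∧ ∀ e ∈ E, e * g * e⁻¹ * g⁻¹ ∈ D}
  one_mem' := by
    refine ⟨one_mem _, ?_⟩
    intro e _
    simp
  mul_mem' := by
    rintro g h ⟨hgN, hg⟩ ⟨hhN, hh⟩
    refine ⟨mul_mem hgN hhN, ?_⟩
    intro e he
    have h1 : g * (e * h * e⁻¹ * h⁻¹) * g⁻¹ ∈ D :=
      (mem_normalizer_iff.mp hgN _).mp (hh e he)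
    have : e * (g * h) * e⁻¹ * (g * h)⁻¹ =
        e * g * e⁻¹ * g⁻¹ * (g * (e * h * e⁻¹ * h⁻¹) * g⁻¹) := by group
    rw [this]
    exact D.mul_mem (hg e he) h1
  inv_mem' := by
    rintro g ⟨hgN, hg⟩
    refine ⟨inv_mem hgN, ?_⟩
    intro e he
    have h1 : g⁻¹ * (e * g * e⁻¹ * g⁻¹)⁻¹ * g⁻¹⁻¹ ∈ D :=
      (mem_normalizer_iff.mp (inv_mem hgN) _).mp (D.inv_mem (hg e he))
    have : e * g⁻¹ * e⁻¹ * g⁻¹⁻¹ = g⁻¹ * (e * g * e⁻¹ * g⁻¹)⁻¹ * g⁻¹⁻¹ := by group
    rw [this]
    exact h1

theorem mem_quotCentralizer {E D : Subgroup G} [hEn : E.Normal] {g : G} :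
    g ∈ quotCentralizer E D ↔
      g ∈ normalizer (D : Set G) ∧ ∀ e ∈ E, e * g * e⁻¹ * g⁻¹ ∈ D := Iff.rfl

theorem conj_mem_quotCentralizer {E D : Subgroup G} [hEn : E.Normal] {g r : G}
    (hr : r ∈ normalizer (D : Set G)) (hg : g ∈ quotCentralizer E D) :
    r * g * r⁻¹ ∈ quotCentralizer E D := by
  refine ⟨mul_mem (mul_mem hr hg.1) (inv_mem hr), ?_⟩
  intro e he
  have he' : r⁻¹ * e * r ∈ E := by
    have := hEn.conj_mem e he r⁻¹
    simpa using this
  have h2 : (r⁻¹ * e * r) * g * (r⁻¹ * e * r)⁻¹ * g⁻¹ ∈ D := hg.2 _ he'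
  have h3 : r * ((r⁻¹ * e * r) * g * (r⁻¹ * e * r)⁻¹ * g⁻¹) * r⁻¹ ∈ D :=
    (mem_normalizer_iff.mp hr _).mp h2
  have : e * (r * g * r⁻¹) * e⁻¹ * (r * g * r⁻¹)⁻¹ =
      r * ((r⁻¹ * e * r) * g * (r⁻¹ * e * r)⁻¹ * g⁻¹) * r⁻¹ := by group
  rw [this]
  exact h3

/-- `N_G(H)` normalizes `O_p(H)`. -/
theorem normalizer_le_normalizer_pCoreOf (p : ℕ) (H : Subgroup G) :
    normalizer (H : Set G) ≤ normalizer (pCoreOf p H : Set G) := by
  intro y hy
  rw [← Cfsg.Agent.Lead.conj_smul_eq_self_iff_mem_normalizer, Cfsg.Agent.Lead.conj_smul_eq_map,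
    ← pCoreOf_map_conj]
  have : H.map (MulAut.conj y).toMonoidHom = H := by
    rw [← Cfsg.Agent.Lead.conj_smul_eq_map]
    exact (Cfsg.Agent.Lead.conj_smul_eq_self_iff_mem_normalizer y H).mpr hy
  rw [this]

/-- S2961 in ambient form: `L ∩ C_G(O_p(L)) ≤ O_p(L)`. -/
theorem inf_centralizer_pCoreOf_le [Finite G] {p : ℕ} [Fact p.Prime]
    (hG : centralizer (pCore p G : Set G) ≤ pCore p G) (T : Sylow p G) (Q : Subgroup G)
    (hQT : Q ≤ (T : Subgroup G)) (hQn : (T : Subgroup G) ≤ normalizer (Q : Set G))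
    (hC : (T : Subgroup G) ⊓ centralizer (Q : Set G) ≤ Q) (L : Subgroup G) (hQL : Q ≤ L) :
    L ⊓ centralizer (pCoreOf p L : Set G) ≤ pCoreOf p L := by
  have hp : p.Prime := Fact.out
  set P : Subgroup G := pCore p G with hPdef
  have hPn : P.Normal := pCore_normal (G := G) p
  have hPp : IsPGroup p P := pCore_isPGroup p
  have hPT : P ≤ T := pCore_le_sylow p T
  have hQp : IsPGroup p Q := T.isPGroup'.to_le hQT
  have hPtop : normalizer (P : Set G) = ⊤ := normalizer_eq_top P
  -- claim 1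
  have claim1 : ∀ x : G, x ∈ centralizer (Q : Set G) → (orderOf x).Coprime p → x = 1 := by
    intro x hxQ hxo
    set X : Subgroup G := zpowers x with hX
    have hXcard : (Nat.card X).Coprime p := by rw [hX, Nat.card_zpowers]; exact hxo
    have hXQ : X ≤ centralizer (Q : Set G) := by rw [hX, zpowers_le]; exact hxQ
    have hQX : Q ≤ centralizer (X : Set G) := le_centralizer_iff.mp hXQ
    have hle : X ≤ centralizer (P : Set G) := by
      apply Cfsg.Agent.Lead.thompson_PQ p Q X P hQp hXcard hPp hQX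
      · rw [hPtop]; exact le_top
      · rw [hPtop]; exact le_top
      · exact (inf_le_inf hPT le_rfl).trans (hC.trans hQX)
    have hxP : x ∈ P := hG (hle (mem_zpowers x))
    obtain ⟨m, hm⟩ := hPp ⟨x, hxP⟩
    have h5 : x ^ p ^ m = 1 := by
      have := congrArg Subtype.val hm
      simpa using this
    have h6 : orderOf x = 1 :=
      Nat.eq_one_of_dvd_coprimes (hxo.pow_right m) dvd_rfl (orderOf_dvd_of_pow_eq_one h5)
    exact orderOf_eq_one_iff.mp h6
  set R : Subgroup G := pCoreOf p L with hR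
  have hRL : R ≤ L := pCoreOf_le p L
  have hRp : IsPGroup p R := pCoreOf_isPGroup p L
  have hLR : L ≤ normalizer (R : Set G) := le_normalizer_pCoreOf p L
  set N : Subgroup G := P ⊓ Q with hN
  have hNR : N ≤ R := by
    have h1 : P ⊓ L ≤ R := by
      apply le_pCoreOf p inf_le_right
      · apply le_normalizer_of_conj_mem
        intro a ha x hx
        exact ⟨hPn.conj_mem x hx.1 a, L.mul_mem (L.mul_mem ha hx.2) (L.inv_mem ha)⟩
      · exact hPp.to_le inf_le_left
    exact (inf_le_inf le_rfl hQL).trans h1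
  have hNp : IsPGroup p N := hPp.to_le inf_le_left
  set D : Subgroup G := L ⊓ centralizer (R : Set G) with hD
  have hLD : L ≤ normalizer (D : Set G) := by
    apply le_normalizer_of_conj_mem
    intro a ha x hx
    refine ⟨L.mul_mem (L.mul_mem ha hx.1) (L.inv_mem ha), ?_⟩
    show a * x * a⁻¹ ∈ centralizer (R : Set G)
    rw [mem_centralizer_iff]
    intro r hr
    have hr' : a⁻¹ * r * a ∈ R := by
      have := (mem_normalizer_iff.mp (hLR (L.inv_mem ha)) r).mp hr
      simpa using this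
    have hc := (mem_centralizer_iff.mp hx.2) _ hr'
    calc r * (a * x * a⁻¹) = a * ((a⁻¹ * r * a) * x) * a⁻¹ := by group
      _ = a * (x * (a⁻¹ * r * a)) * a⁻¹ := by rw [hc]
      _ = a * x * a⁻¹ * r := by group
  have hDcentN : ∀ d ∈ D, ∀ n ∈ N, d * n = n * d := by
    intro d hd n hn
    exact ((mem_centralizer_iff.mp hd.2) n (hNR hn)).symm
  have hDN : D ≤ normalizer (N : Set G) := by
    apply le_normalizer_of_conj_mem
    intro d hd n hn
    have : d * n * d⁻¹ = n := by rw [hDcentN d hd n hn]; group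
    rw [this]; exact hn
  set K : Subgroup G := quotCentralizer P N with hK
  have hQK : Q ≤ K := by
    intro q hq
    refine ⟨?_, ?_⟩
    · have h1 : Q ≤ normalizer (N : Set G) := by
        apply le_normalizer_of_conj_mem
        intro b hb n hn
        exact ⟨hPn.conj_mem n hn.1 b, Q.mul_mem (Q.mul_mem hb hn.2) (Q.inv_mem hb)⟩
      exact h1 hq
    · intro y hy
      refine ⟨?_, ?_⟩
      · have h1 : q * y⁻¹ * q⁻¹ ∈ P := hPn.conj_mem _ (P.inv_mem hy) q
        have : y * q * y⁻¹ * q⁻¹ = y * (q * y⁻¹ * q⁻¹) := by group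
        rw [this]; exact P.mul_mem hy h1
      · have h1 : y * q * y⁻¹ ∈ Q := (mem_normalizer_iff.mp (hQn (hPT hy)) q).mp hq
        exact Q.mul_mem h1 (Q.inv_mem hq)
  set A : Subgroup G := ⁅D, Q⁆ with hA
  have hAD : A ≤ D := Cfsg.Agent.Lead.commutator_le_of_le_normalizer (hQL.trans hLD)
  have hAK : A ≤ K := by
    rw [hA, commutator_le]
    intro d hd q hq
    rw [commutatorElement_def]
    have h1 : d * q * d⁻¹ ∈ K := conj_mem_quotCentralizer (hDN hd) (hQK hq)
    exact K.mul_mem h1 (K.inv_mem (hQK hq))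
  have hAp : IsPGroup p A := by
    apply isPGroup_of_forall_coprime_eq_one
    intro a haA hao
    have haD := hAD haA
    have haK := hAK haA
    have hcent : a ∈ centralizer (P : Set G) := by
      rw [mem_centralizer_iff]
      intro y hy
      have h1 : y * a * y⁻¹ * a⁻¹ ∈ N := haK.2 y hy
      have h2 : a * y * a⁻¹ * y⁻¹ ∈ N := by
        have h5 := N.inv_mem h1
        have : a * y * a⁻¹ * y⁻¹ = (y * a * y⁻¹ * a⁻¹)⁻¹ := by group
        rw [this]; exact h5
      exact (commute_of_coprime_of_stable hNp hao h2 (hDcentN a haD)).symm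
    have haP : a ∈ P := hG hcent
    obtain ⟨m, hm⟩ := hPp ⟨a, haP⟩
    have h5 : a ^ p ^ m = 1 := by
      have := congrArg Subtype.val hm
      simpa using this
    have h6 : orderOf a = 1 :=
      Nat.eq_one_of_dvd_coprimes (hao.pow_right m) dvd_rfl (orderOf_dvd_of_pow_eq_one h5)
    exact orderOf_eq_one_iff.mp h6
  have hDA : D ≤ normalizer (A : Set G) := Cfsg.Agent.Lead.le_normalizer_commutator_left D Q
  have hAR : A ≤ R := by
    have h1 : A ≤ pCoreOf p D := le_pCoreOf p hAD hDA hAp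
    have h2 : pCoreOf p D ≤ R := by
      apply le_pCoreOf p ((pCoreOf_le p D).trans inf_le_left)
      · exact hLD.trans (normalizer_le_normalizer_pCoreOf p D)
      · exact pCoreOf_isPGroup p D
    exact h1.trans h2
  have hDp : IsPGroup p D := by
    apply isPGroup_of_forall_coprime_eq_one
    intro x hxD hxo
    apply claim1 x _ hxo
    rw [mem_centralizer_iff]
    intro q hq
    have h1 : x * q * x⁻¹ * q⁻¹ ∈ A := by
      have := commutator_mem_commutator hxD hq
      rwa [commutatorElement_def] at this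
    have hxR : ∀ n ∈ R, x * n = n * x := by
      intro n hn
      exact ((mem_centralizer_iff.mp hxD.2) n hn).symm
    have hxA : ∀ n ∈ A, x * n = n * x := fun n hn => hxR n (hAR hn)
    exact (commute_of_coprime_of_stable hAp hxo h1 hxA).symm
  exact le_pCoreOf p inf_le_left hLD hDp

end Cfsg.Agent.Helper15
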