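import Mathlib
import Cfsg.Agent.Lead.GenCent2
import Cfsg.Agent.Helper15.NoncycCentralizes

set_option autoImplicit false

/-! S3003: large `p`-subgroups and `p'`-subgroups normalized by overgroups. -/

namespace Cfsg.Agent.Helper15

open Subgroup

variable {G : Type*} [Group G]

theorem centralizer_singleton_le_normalizer_zpowers (z : G) :
    centralizer ({z} : Set G) ≤ normalizer ((zpowers z : Subgroup G) : Set G) := by
  apply le_normalizer_of_conj_mem
  intro g hg y hy
  rw [mem_centralizer_singleton_iff] at hg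
  obtain ⟨k, rfl⟩ := hy
  have hc : Commute g z := hg
  have : g * z ^ k * g⁻¹ = z ^ k := by
    have := (hc.zpow_right k).eq
    rw [this]; group
  rw [this]
  exact ⟨k, rfl⟩

/-- Part 1 of S3003 with `z ∈ Z(Q)` in place: `C_R(z) = 1`. -/
theorem inf_centralizer_eq_bot_of_large [Finite G] {p : ℕ} [Fact p.Prime] (Q : Subgroup G)
    (hQp : IsPGroup p ↥Q) (hl1 : centralizer (Q : Set G) ≤ Q)
    (hl2 : ∀ U : Subgroup G, U ≤ centralizer (Q : Set G) → U ≠ ⊥ →
      normalizer (U : Set G) ≤ normalizer (Q : Set G))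
    (R : Subgroup G) (hR : (Nat.card ↥R).Coprime p) (hQR : Q ≤ normalizer (R : Set G))
    (z : G) (hzC : z ∈ centralizer (Q : Set G)) (hz1 : z ≠ 1) :
    R ⊓ centralizer ({z} : Set G) = ⊥ := by
  have hQRbot : Q ⊓ R = ⊥ := by
    apply disjoint_iff.mp
    apply disjoint_of_coprime_natCard
    obtain ⟨k, hk⟩ := IsPGroup.iff_card.mp hQp
    rw [hk]
    exact (hR.symm).pow_left k
  set C : Subgroup G := R ⊓ centralizer ({z} : Set G) with hC
  have hCQ : C ≤ normalizer (Q : Set G) := by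
    refine le_trans inf_le_right (le_trans (centralizer_singleton_le_normalizer_zpowers z) ?_)
    apply hl2
    · rw [zpowers_le]; exact hzC
    · intro h
      rw [zpowers_eq_bot] at h
      exact hz1 h
  have hQC : ∀ q ∈ Q, ∀ c ∈ C, q * c * q⁻¹ ∈ C := by
    intro q hq c hc
    refine ⟨(mem_normalizer_iff.mp (hQR hq) c).mp hc.1, ?_⟩
    have hqz : q * z = z * q := ((mem_centralizer_iff.mp hzC) q hq)
    exact Cfsg.Agent.Lead.conj_mem_centralizer_singleton hqz hc.2
  rw [eq_bot_iff]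
  intro c hc
  rw [mem_bot]
  have hcC : c ∈ centralizer (Q : Set G) := by
    rw [mem_centralizer_iff]
    intro q hq
    have h1 : c * q * c⁻¹ * q⁻¹ ∈ Q :=
      Q.mul_mem ((mem_normalizer_iff.mp (hCQ hc) q).mp hq) (Q.inv_mem hq)
    have h2 : c * q * c⁻¹ * q⁻¹ ∈ R := by
      have h3 : q * c⁻¹ * q⁻¹ ∈ C := hQC q hq _ (C.inv_mem hc)
      have : c * q * c⁻¹ * q⁻¹ = c * (q * c⁻¹ * q⁻¹) := by group
      rw [this]
      exact R.mul_mem hc.1 h3.1
    have h4 : c * q * c⁻¹ * q⁻¹ ∈ Q ⊓ R := ⟨h1, h2⟩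
    rw [hQRbot, mem_bot] at h4
    calc q * c = (c * q * c⁻¹ * q⁻¹)⁻¹ * (c * q) := by group
      _ = c * q := by rw [h4]; simp
  have : c ∈ Q ⊓ R := ⟨hl1 hcC, hc.1⟩
  rw [hQRbot, mem_bot] at this
  exact this

/-- Part 1 of S3003. -/
theorem inf_centralizer_eq_bot_of_large_conj [Finite G] {p : ℕ} [Fact p.Prime] (Q : Subgroup G)
    (hQp : IsPGroup p ↥Q) (hl1 : centralizer (Q : Set G) ≤ Q)
    (hl2 : ∀ U : Subgroup G, U ≤ centralizer (Q : Set G) → U ≠ ⊥ →
      normalizer (U : Set G) ≤ normalizer (Q : Set G))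
    (G₁ : Subgroup G) (hQG : Q ≤ G₁)
    (R : Subgroup G) (hR : (Nat.card ↥R).Coprime p) (hGR : G₁ ≤ normalizer (R : Set G))
    (U : Subgroup G)
    (h : ∃ x ∈ U, x ≠ 1 ∧ ∃ g ∈ G₁, g * x * g⁻¹ ∈ Q ⊓ centralizer (Q : Set G)) :
    R ⊓ centralizer (U : Set G) = ⊥ := by
  obtain ⟨x, hxU, hx1, g, hg, hz⟩ := h
  have hz1 : g * x * g⁻¹ ≠ 1 := by
    intro h1
    apply hx1
    have : x = g⁻¹ * (g * x * g⁻¹) * g := by group
    rw [this, h1]; group
  have hbot := inf_centralizer_eq_bot_of_large Q hQp hl1 hl2 R hR (hQG.trans hGR)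
    (g * x * g⁻¹) hz.2 hz1
  rw [eq_bot_iff]
  intro r hr
  rw [mem_bot]
  have hrx : x * r = r * x := (mem_centralizer_iff.mp hr.2) x hxU
  have h1 : g * r * g⁻¹ ∈ R ⊓ centralizer ({g * x * g⁻¹} : Set G) := by
    refine ⟨(mem_normalizer_iff.mp (hGR hg) r).mp hr.1, ?_⟩
    show g * r * g⁻¹ ∈ centralizer ({g * x * g⁻¹} : Set G)
    rw [mem_centralizer_singleton_iff]
    calc g * r * g⁻¹ * (g * x * g⁻¹) = g * (r * x) * g⁻¹ := by group
      _ = g * (x * r) * g⁻¹ := by rw [hrx]
      _ = g * x * g⁻¹ * (g * r * g⁻¹) := by group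
  rw [hbot, mem_bot] at h1
  have : r = g⁻¹ * (g * r * g⁻¹) * g := by group
  rw [this, h1]; group

/-- In an elementary abelian group `U`, a proper subgroup `B` with `B ⊔ ⟨a⟩ = U` is a coatom. -/
theorem isCoatom_subgroupOf_of_sup_zpowers {p : ℕ} [Fact p.Prime] (U B : Subgroup G)
    (hUc : IsMulCommutative U) (hUp : ∀ a ∈ U, a ^ p = 1) (hBU : B ≤ U) (hne : B ≠ U)
    (a : G) (haU : a ∈ U) (hsup : B ⊔ zpowers a = U) : IsCoatom (B.subgroupOf U) := by
  have hp : p.Prime := Fact.out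
  constructor
  · intro h
    rw [subgroupOf_eq_top] at h
    exact hne (le_antisymm hBU h)
  · intro C' hC'
    set C : Subgroup G := C'.map U.subtype with hC
    have hCU : C ≤ U := map_subtype_le _
    have hBC : B ≤ C := by
      intro b hb
      exact ⟨⟨b, hBU hb⟩, hC'.le (by rw [mem_subgroupOf]; exact hb), rfl⟩
    obtain ⟨c', hc'C, hc'B⟩ := SetLike.exists_of_lt hC'
    have hcU : (c' : G) ∈ U := c'.2
    have hcB : (c' : G) ∉ B := fun h => hc'B (by rw [mem_subgroupOf]; exact h)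
    have hcC : (c' : G) ∈ C := ⟨c', hc'C, rfl⟩
    -- decompose
    have hnorm : zpowers a ≤ normalizer (B : Set G) := by
      rw [zpowers_le]
      rw [mem_normalizer_iff]
      intro b
      have key : ∀ b ∈ B, a * b * a⁻¹ = b := by
        intro b hb
        have := hUc.is_comm.comm (⟨a, haU⟩ : U) ⟨b, hBU hb⟩
        have h2 : a * b = b * a := congrArg Subtype.val this
        rw [h2]; group
      constructor
      · intro hb
        rw [key b hb]; exact hb
      · intro hb
        have h3 := key _ hb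
        have : b = a * b * a⁻¹ := by
          have h4 : a * (a * b * a⁻¹) * a⁻¹ = a * b * a⁻¹ := h3
          have h5 : a * (a * b * a⁻¹) = a * b := by
            calc a * (a * b * a⁻¹) = a * (a * b * a⁻¹) * a⁻¹ * a := by group
              _ = a * b * a⁻¹ * a := by rw [h4]
              _ = a * b := by group
          exact (mul_left_cancel h5).symm
        rw [this]; exact hb
    have hcsup : (c' : G) ∈ ((B ⊔ zpowers a : Subgroup G) : Set G) := by
      rw [hsup]; exact hcU
    rw [coe_mul_of_right_le_normalizer_left B (zpowers a) hnorm] at hcsup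
    obtain ⟨b, hb, y, hy, hby⟩ := hcsup
    have hyC : y ∈ C := by
      have : y = b⁻¹ * (c' : G) := by rw [← hby]; group
      rw [this]
      exact C.mul_mem (C.inv_mem (hBC hb)) hcC
    have hyB : y ∉ B := by
      intro h
      apply hcB
      rw [← hby]
      exact B.mul_mem hb h
    have hy1 : y ≠ 1 := fun h => hyB (h ▸ B.one_mem)
    -- C ⊓ zpowers a = zpowers a
    have ha1 : a ≠ 1 := by
      intro h
      rw [h, zpowers_one_eq_bot] at hy
      exact hy1 (mem_bot.mp hy)
    have hord : orderOf a = p := orderOf_eq_prime (hUp a haU) ha1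
    have hcard : Nat.card (zpowers a) = p := by rw [Nat.card_zpowers, hord]
    have hdvd : Nat.card (C ⊓ zpowers a : Subgroup G) ∣ p := by
      rw [← hcard]; exact card_dvd_of_le inf_le_right
    have hne1 : Nat.card (C ⊓ zpowers a : Subgroup G) ≠ 1 := by
      intro h
      rw [card_eq_one] at h
      have : y ∈ C ⊓ zpowers a := ⟨hyC, hy⟩
      rw [h, mem_bot] at this
      exact hy1 this
    have hcardeq : Nat.card (C ⊓ zpowers a : Subgroup G) = p := by
      rcases (Nat.dvd_prime hp).mp hdvd with h | h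
      · exact absurd h hne1
      · exact h
    have haC : a ∈ C := by
      have hfin : Finite (zpowers a) := Nat.finite_of_card_ne_zero (by rw [hcard]; exact hp.ne_zero)
      have h1 : (C ⊓ zpowers a : Subgroup G) = zpowers a := by
        apply eq_of_le_of_card_ge inf_le_right
        rw [hcardeq, hcard]
      have h2 : a ∈ (C ⊓ zpowers a : Subgroup G) := by rw [h1]; exact mem_zpowers a
      exact h2.1
    have hUC : U ≤ C := by
      rw [← hsup]
      exact sup_le hBC (zpowers_le.mpr haC)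
    rw [eq_top_iff]
    intro u _
    obtain ⟨u', hu', hu'eq⟩ := hUC u.2
    have : u' = u := Subtype.ext hu'eq
    rw [← this]; exact hu'

/-- Part 2 of S3003. -/
theorem eq_bot_of_large_of_coatoms [Finite G] {p : ℕ} [Fact p.Prime] (Q : Subgroup G)
    (hQp : IsPGroup p ↥Q) (hl1 : centralizer (Q : Set G) ≤ Q)
    (hl2 : ∀ U : Subgroup G, U ≤ centralizer (Q : Set G) → U ≠ ⊥ →
      normalizer (U : Set G) ≤ normalizer (Q : Set G))
    (G₁ : Subgroup G) (hQG : Q ≤ G₁)
    (R : Subgroup G) (hR : (Nat.card ↥R).Coprime p) (hGR : G₁ ≤ normalizer (R : Set G))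
    (U : Subgroup G) (hUG : U ≤ G₁)
    (hUc : IsMulCommutative U) (hUp : ∀ a ∈ U, a ^ p = 1) (hcard : p ^ 2 ≤ Nat.card ↥U)
    (hco : ∀ U₀ : Subgroup G, U₀ ≤ U → IsCoatom (U₀.subgroupOf U) →
      ∃ x ∈ U₀, x ≠ 1 ∧ ∃ g ∈ G₁, g * x * g⁻¹ ∈ Q ⊓ centralizer (Q : Set G)) :
    R = ⊥ := by
  have hp : p.Prime := Fact.out
  have hUpg : IsPGroup p U := by
    intro g
    refine ⟨1, ?_⟩
    apply Subtype.ext
    have := hUp g g.2
    simpa using this
  have hcop : (Nat.card U).Coprime (Nat.card R) := by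
    obtain ⟨k, hk⟩ := IsPGroup.iff_card.mp hUpg
    rw [hk]
    exact (hR.symm).pow_left k
  have hgen := Cfsg.Agent.Lead.gen_cycQuot U R (hUG.trans hGR) hcop
  have hcoatom : ∀ U₀ : Subgroup G, U₀ ≤ U → IsCoatom (U₀.subgroupOf U) →
      R ⊓ centralizer (U₀ : Set G) = ⊥ := by
    intro U₀ hU₀ hco₀
    exact inf_centralizer_eq_bot_of_large_conj Q hQp hl1 hl2 G₁ hQG R hR hGR U₀ (hco U₀ hU₀ hco₀)
  rw [← hgen, eq_bot_iff]
  apply iSup₂_le
  rintro B ⟨hBU, a, haU, hsup⟩
  by_cases hne : B = U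
  · -- B = U: pick any coatom
    have hnt : Nontrivial (Subgroup U) := by
      rw [Subgroup.nontrivial_iff, ← Finite.one_lt_card_iff_nontrivial]
      calc 1 < p ^ 2 := Nat.one_lt_pow (by norm_num) hp.one_lt
        _ ≤ Nat.card U := hcard
    obtain ⟨M, hM⟩ := IsCoatomic.exists_coatom (α := Subgroup U)
    have hMsub : (M.map U.subtype).subgroupOf U = M :=
      comap_map_eq_self_of_injective U.subtype_injective M
    have h1 := hcoatom (M.map U.subtype) (map_subtype_le _) (by rw [hMsub]; exact hM)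
    rw [← h1, hne]
    exact inf_le_inf le_rfl (centralizer_le (by exact_mod_cast map_subtype_le M))
  · have h1 := hcoatom B hBU (isCoatom_subgroupOf_of_sup_zpowers U B hUc hUp hBU hne a haU hsup)
    rw [h1]

end Cfsg.Agent.Helper15
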