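import Mathlib
import Cfsg.Agent.S3768
import Cfsg.Agent.Helper1.SylowBasic
import Cfsg.Agent.Lead.Compl
import Cfsg.Agent.Helper15.Large

set_option autoImplicit false

/-! S3064: an element `x` of a Sylow `p`-subgroup `S` that is the only conjugate of itself in `S`
and centralizes every `p'`-subgroup it normalizes is central. -/

namespace Cfsg.Agent.Helper15

open Subgroup

universe u

/-- The two hypotheses of S3064. -/
def WeakClosedElt (p : ℕ) {G : Type u} [Group G] (x : G) : Prop :=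
  (∃ S : Sylow p G, x ∈ S ∧ ∀ g : G, g⁻¹ * x * g ∈ S → g⁻¹ * x * g = x) ∧
  (∀ H : Subgroup G, (Nat.card H).Coprime p → (∀ h ∈ H, x * h * x⁻¹ ∈ H) → ∀ h ∈ H, x * h = h * x)

variable {G : Type u} [Group G]

theorem weakClosed_all_sylow [Finite G] {p : ℕ} [Fact p.Prime] {x : G} (S : Sylow p G)
    (hU : ∀ g : G, g⁻¹ * x * g ∈ S → g⁻¹ * x * g = x) :
    ∀ S' : Sylow p G, x ∈ S' → ∀ g : G, g⁻¹ * x * g ∈ S' → g⁻¹ * x * g = x := by
  intro S' hxS' g hg
  obtain ⟨c, hc⟩ := MulAction.exists_smul_eq G S S'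
  rw [← hc, Cfsg.Agent.Helper1.mem_sylow_smul_iff] at hxS' hg
  have h1 : c⁻¹ * x * c = x := hU c hxS'
  have h2 : (g * c)⁻¹ * x * (g * c) = x := by
    apply hU
    have : (g * c)⁻¹ * x * (g * c) = c⁻¹ * (g⁻¹ * x * g) * c := by group
    rw [this]; exact hg
  calc g⁻¹ * x * g = c * ((g * c)⁻¹ * x * (g * c)) * c⁻¹ := by group
    _ = c * x * c⁻¹ := by rw [h2]
    _ = c * (c⁻¹ * x * c) * c⁻¹ := by rw [h1]
    _ = x := by group

theorem weakClosed_subgroup [Finite G] {p : ℕ} [Fact p.Prime] {x : G}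
    (hw : WeakClosedElt p x) (H : Subgroup G) (hxH : x ∈ H) :
    WeakClosedElt p (⟨x, hxH⟩ : H) := by
  obtain ⟨⟨S, hxS, hU⟩, hb⟩ := hw
  have hall := weakClosed_all_sylow S hU
  have hxp : IsPGroup p (zpowers x) := S.isPGroup'.to_le (zpowers_le.mpr hxS)
  refine ⟨?_, ?_⟩
  · have hx'p : IsPGroup p (zpowers (⟨x, hxH⟩ : H)) := by
      have : zpowers (⟨x, hxH⟩ : H) = (zpowers x).subgroupOf H := by
        ext y
        rw [mem_subgroupOf, mem_zpowers_iff, mem_zpowers_iff]
        constructor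
        · rintro ⟨k, rfl⟩
          exact ⟨k, by simp⟩
        · rintro ⟨k, hk⟩
          exact ⟨k, Subtype.ext (by simpa using hk)⟩
      rw [this]
      exact hxp.comap_subtype
    obtain ⟨SH, hSH⟩ := hx'p.exists_le_sylow
    have hSHp : IsPGroup p ((SH : Subgroup H).map H.subtype) := SH.isPGroup'.map _
    obtain ⟨S', hS'⟩ := hSHp.exists_le_sylow
    have hx'SH : (⟨x, hxH⟩ : H) ∈ SH := hSH (mem_zpowers _)
    have hxS' : x ∈ S' := hS' ⟨⟨x, hxH⟩, hx'SH, rfl⟩
    refine ⟨SH, hx'SH, ?_⟩
    intro h hh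
    have h1 : (h : G)⁻¹ * x * (h : G) ∈ S' := hS' ⟨_, hh, by simp⟩
    have h2 := hall S' hxS' (h : G) h1
    exact Subtype.ext (by simpa using h2)
  · intro H' hcop hnorm h hh
    have hcard : Nat.card (H'.map H.subtype) = Nat.card H' :=
      Nat.card_congr (H'.equivMapOfInjective _ H.subtype_injective).symm.toEquiv
    have h1 := hb (H'.map H.subtype) (by rw [hcard]; exact hcop)
      (by
        rintro _ ⟨y, hy, rfl⟩
        exact ⟨_, hnorm y hy, by simp⟩)
      (h : G) ⟨h, hh, rfl⟩
    exact Subtype.ext (by simpa using h1)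

theorem card_lt_of_ne_top' [Finite G] {H : Subgroup G} (hH : H ≠ ⊤) : Nat.card H < Nat.card G := by
  have h1 := H.card_mul_index
  have h2 : H.index ≠ 1 := fun h => hH (index_eq_one.mp h)
  have h3 : H.index ≠ 0 := index_ne_zero_of_finite
  have h4 : 2 ≤ H.index := by omega
  have h5 : 0 < Nat.card H := Nat.card_pos
  nlinarith

theorem center_of_weakClosed_aux (p : ℕ) [Fact p.Prime] : ∀ n : ℕ, ∀ (G : Type u) [Group G] [Finite G],
    Nat.card G = n → ∀ x : G, WeakClosedElt p x → x ∈ center G := by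
  intro n
  induction n using Nat.strong_induction_on with
  | _ n ih =>
  intro G _ _ hn x hw
  have hp : p.Prime := Fact.out
  obtain ⟨⟨S, hxS, hU⟩, hb⟩ := id hw
  have hall := weakClosed_all_sylow S hU
  have hxp : IsPGroup p (zpowers x) := S.isPGroup'.to_le (zpowers_le.mpr hxS)
  set M : Subgroup G := centralizer ({x} : Set G) with hM
  have hxM : x ∈ M := by rw [hM, mem_centralizer_singleton_iff]
  -- Step A
  have stepA : ∀ H : Subgroup G, H ≠ ⊤ → x ∈ H → H ≤ M := by
    intro H hH hxH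
    have hlt : Nat.card H < n := hn ▸ card_lt_of_ne_top' hH
    have hc := ih (Nat.card H) hlt H rfl ⟨x, hxH⟩ (weakClosed_subgroup hw H hxH)
    intro h hh
    rw [hM, mem_centralizer_singleton_iff]
    have := (mem_center_iff.mp hc) ⟨h, hh⟩
    have h2 := congrArg Subtype.val this
    simpa using h2
  by_cases hMtop : M = ⊤
  · rw [mem_center_iff]
    intro g
    have : g ∈ M := hMtop ▸ mem_top g
    rw [hM, mem_centralizer_singleton_iff] at this
    exact this
  exfalso
  set Z : Subgroup G := center G with hZ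
  have hZM : Z ≤ M := by
    intro z hz
    rw [hM, mem_centralizer_singleton_iff]
    exact ((mem_center_iff.mp hz) x).symm
  have hxZ : x ∉ Z := by
    intro hxz
    apply hMtop
    rw [eq_top_iff]
    intro g _
    rw [hM, mem_centralizer_singleton_iff]
    exact ((mem_center_iff.mp hxz) g)
  -- Step B1
  have stepB1 : ∀ g : G, g ∉ M → closure ({x, g * x * g⁻¹} : Set G) = ⊤ := by
    intro g hg
    by_contra hL
    have hxL : x ∈ closure ({x, g * x * g⁻¹} : Set G) := subset_closure (by simp)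
    have hyL : g * x * g⁻¹ ∈ closure ({x, g * x * g⁻¹} : Set G) := subset_closure (by simp)
    have hyM : g * x * g⁻¹ ∈ M := stepA _ hL hxL hyL
    have hyp : IsPGroup p (zpowers (g * x * g⁻¹)) := by
      have : zpowers (g * x * g⁻¹) = (zpowers x).map (MulAut.conj g).toMonoidHom := by
        rw [MonoidHom.map_zpowers]; simp
      rw [this]
      exact hxp.map _
    have hnorm : zpowers (g * x * g⁻¹) ≤ normalizer ((zpowers x : Subgroup G) : Set G) := by
      rw [zpowers_le]
      exact centralizer_singleton_le_normalizer_zpowers x hyM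
    have hRp : IsPGroup p (zpowers (g * x * g⁻¹) ⊔ zpowers x : Subgroup G) :=
      IsPGroup.to_sup_of_normal_right' hyp hxp hnorm
    obtain ⟨S', hS'⟩ := hRp.exists_le_sylow
    have hxS' : x ∈ S' := hS' (le_sup_right (a := zpowers (g * x * g⁻¹)) (mem_zpowers x))
    have hyS' : g * x * g⁻¹ ∈ S' := hS' (le_sup_left (b := zpowers x) (mem_zpowers _))
    have h1 := hall S' hxS' g⁻¹ (by simpa using hyS')
    apply hg
    rw [hM, mem_centralizer_singleton_iff]
    have h2 : g * x * g⁻¹ = x := by simpa using h1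
    calc g * x = g * x * g⁻¹ * g := by group
      _ = x * g := by rw [h2]
  -- Step B2
  have stepB2 : ∀ g : G, g ∉ M → ∀ y : G, y ∈ M → g⁻¹ * y * g ∈ M → y ∈ Z := by
    intro g hg y hy hy'
    rw [hM, mem_centralizer_singleton_iff] at hy hy'
    have hcent : y ∈ centralizer ((closure ({x, g * x * g⁻¹} : Set G) : Subgroup G) : Set G) := by
      rw [centralizer_closure]
      rw [mem_centralizer_iff]
      intro w hw'
      rcases hw' with rfl | hw'
      · exact hy.symm
      · rw [Set.mem_singleton_iff] at hw'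
        subst hw'
        calc g * x * g⁻¹ * y = g * (x * (g⁻¹ * y * g)) * g⁻¹ := by group
          _ = g * ((g⁻¹ * y * g) * x) * g⁻¹ := by rw [hy']
          _ = y * (g * x * g⁻¹) := by group
    rw [stepB1 g hg] at hcent
    rw [hZ, mem_center_iff]
    intro w
    exact (mem_centralizer_iff.mp hcent) w (mem_top w)
  -- Step C: Frobenius complement in the quotient
  set f : G →* G ⧸ Z := QuotientGroup.mk' Z with hf
  have hfsurj : Function.Surjective f := QuotientGroup.mk'_surjective Z
  have hker : f.ker = Z := QuotientGroup.ker_mk' Z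
  set Mb : Subgroup (G ⧸ Z) := M.map f with hMb
  have hfx1 : f x ≠ 1 := by
    intro h
    apply hxZ
    rw [← hker]; exact h
  have hMb_mem : ∀ g : G, f g ∈ Mb → g ∈ M := by
    intro g hg
    obtain ⟨m, hm, hmg⟩ := hg
    have : m⁻¹ * g ∈ f.ker := by
      rw [MonoidHom.mem_ker, map_mul, map_inv, hmg]; group
    rw [hker] at this
    have h2 : g = m * (m⁻¹ * g) := by group
    rw [h2]
    exact M.mul_mem hm (hZM this)
  have hfrob : Cfsg.IsFrobeniusComplement Mb := by
    refine ⟨?_, ?_, ?_⟩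
    · intro h
      have : f x ∈ Mb := ⟨x, hxM, rfl⟩
      rw [h, mem_bot] at this
      exact hfx1 this
    · intro h
      apply hMtop
      rw [eq_top_iff]
      intro g _
      apply hMb_mem
      rw [h]; exact mem_top _
    · intro gb hgb
      obtain ⟨g, rfl⟩ := hfsurj gb
      have hg : g ∉ M := fun h => hgb ⟨g, h, rfl⟩
      rw [eq_bot_iff]
      rintro yb ⟨hy1, hy2⟩
      obtain ⟨y, rfl⟩ := hfsurj yb
      have hyM : y ∈ M := hMb_mem y hy1
      have hy2' : (f g)⁻¹ * f y * f g ∈ Mb := by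
        have := (Cfsg.Agent.Lead.mem_conj_smul_iff (f g) (f y) Mb).mp hy2
        exact this
      have hy3 : g⁻¹ * y * g ∈ M := by
        apply hMb_mem
        rw [map_mul, map_mul, map_inv]
        exact hy2'
      have hyZ : y ∈ Z := stepB2 g hg y hyM hy3
      rw [mem_bot]
      rw [← hker] at hyZ
      exact hyZ
  obtain ⟨Kb, hKset, hKbn, hdisj, hprod, hcop, hfpf⟩ := Cfsg.Agent.S3768.frob_structure Mb hfrob
  set K : Subgroup G := Kb.comap f with hK
  have hKn : K.Normal := hKbn.comap f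
  have hZK : Z ≤ K := by
    rw [← hker]; exact ker_le_comap f Kb
  have hKM : K ⊓ M ≤ Z := by
    rintro k ⟨hkK, hkM⟩
    have : f k ∈ Kb ⊓ Mb := ⟨hkK, ⟨k, hkM, rfl⟩⟩
    rw [hdisj, mem_bot] at this
    rw [← hker]; exact this
  have hKbne : Kb ≠ ⊥ := by
    intro h
    apply hfrob.2.1
    rw [eq_top_iff]
    intro gb _
    obtain ⟨k, hk, r, hr, rfl⟩ := hprod gb
    rw [h, mem_bot] at hk
    rw [hk, one_mul]; exact hr
  have hKbcard : Nat.card Kb ≠ 1 := fun h => hKbne (card_eq_one.mp h)
  obtain ⟨q, hq, hqK⟩ := Nat.exists_prime_and_dvd hKbcard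
  have hqf : Fact q.Prime := ⟨hq⟩
  -- p divides |Mb|
  have hpMb : p ∣ Nat.card Mb := by
    have h1 : orderOf (f x) ∣ Nat.card Mb := by
      have hle : zpowers (f x) ≤ Mb := zpowers_le.mpr ⟨x, hxM, rfl⟩
      have := card_dvd_of_le hle
      rwa [Nat.card_zpowers] at this
    obtain ⟨k, hk⟩ := (IsPGroup.iff_orderOf.mp hxp) ⟨x, mem_zpowers x⟩
    have hk' : orderOf x = p ^ k := by rw [← hk, Subgroup.orderOf_mk]
    have h2 : orderOf (f x) ∣ p ^ k := hk' ▸ orderOf_map_dvd f x
    obtain ⟨j, hj, hjo⟩ := (Nat.dvd_prime_pow hp).mp h2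
    have hj0 : j ≠ 0 := by
      rintro rfl
      rw [pow_zero, orderOf_eq_one_iff] at hjo
      exact hfx1 hjo
    exact dvd_trans (hjo ▸ dvd_pow_self p hj0) h1
  have hpKb : ¬ p ∣ Nat.card Kb := by
    intro h
    have := Nat.eq_one_of_dvd_coprimes hcop hpMb h
    exact hp.ne_one this
  have hqp : q ≠ p := by
    rintro rfl
    exact hpKb hqK
  -- relIndex
  have hrel : Z.relIndex K = Nat.card Kb := by
    have h1 : (⊥ : Subgroup (G ⧸ Z)).comap f = Z := (MonoidHom.comap_bot f).trans hker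
    have h2 : K.map f = Kb := map_comap_eq_self_of_surjective hfsurj Kb
    have h3 : Z.relIndex K = ((⊥ : Subgroup (G ⧸ Z)).comap f).relIndex K :=
      congrArg (fun H : Subgroup G => H.relIndex K) h1.symm
    rw [h3, relIndex_comap, h2, relIndex_bot_left]
  -- Sylow q of K
  obtain ⟨Q⟩ : Nonempty (Sylow q K) := inferInstance
  set QG : Subgroup G := (Q : Subgroup K).map K.subtype with hQG
  set N : Subgroup G := normalizer (QG : Set G) with hN
  have hfr : N ⊔ K = ⊤ := Sylow.normalizer_sup_eq_top Q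
  have hZN : Z ≤ N := by
    intro z hz
    rw [hN, mem_normalizer_iff]
    intro y
    have : z * y * z⁻¹ = y := by
      rw [← (mem_center_iff.mp hz) y]; group
    rw [this]
  have hNidx : N.index = N.relIndex K := by
    have h1 : (N ⊓ K).relIndex N * N.index = (N ⊓ K).index := relIndex_mul_index inf_le_left
    have h2 : (N ⊓ K).relIndex K * K.index = (N ⊓ K).index := relIndex_mul_index inf_le_right
    have h3 : (N ⊓ K).relIndex N = K.relIndex N := inf_relIndex_left N K
    have h4 : K.relIndex N = K.index := by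
      rw [← relIndex_sup_right N K, hfr, relIndex_top_right]
    have h5 : (N ⊓ K).relIndex K = N.relIndex K := inf_relIndex_right N K
    rw [h3, h4] at h1
    rw [h5] at h2
    have h6 : K.index * N.index = N.relIndex K * K.index := by rw [h1, h2]
    have h7 : K.index ≠ 0 := index_ne_zero_of_finite
    have h8 : K.index * N.index = K.index * N.relIndex K := by rw [h6, mul_comm]
    exact Nat.eq_of_mul_eq_mul_left (Nat.pos_of_ne_zero h7) h8
  have hpN : ¬ p ∣ Nat.card (G ⧸ N) := by
    show ¬ p ∣ N.index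
    rw [hNidx]
    intro h
    apply hpKb
    rw [← hrel]
    exact dvd_trans h (relIndex_dvd_of_le_left K hZN)
  -- fixed point
  obtain ⟨α, hα⟩ := hxp.nonempty_fixed_point_of_prime_not_dvd_card (G ⧸ N) hpN
  obtain ⟨g, rfl⟩ := QuotientGroup.mk_surjective α
  have hgx : g⁻¹ * x * g ∈ N := by
    have h1 := hα ⟨x, mem_zpowers x⟩
    have h2 : ((x * g : G) : G ⧸ N) = (g : G ⧸ N) := h1
    rw [QuotientGroup.eq] at h2
    have h3 : (g⁻¹ * x * g)⁻¹ ∈ N := by
      have : (g⁻¹ * x * g)⁻¹ = (x * g)⁻¹ * g := by group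
      rw [this]; exact h2
    have := N.inv_mem h3
    simpa using this
  set Q' : Subgroup G := QG.map (MulAut.conj g).toMonoidHom with hQ'
  have hQ'mem : ∀ y, y ∈ Q' ↔ g⁻¹ * y * g ∈ QG := fun y =>
    Cfsg.Agent.Helper1.mem_map_conj_iff QG g y
  have hxQ' : ∀ h ∈ Q', x * h * x⁻¹ ∈ Q' := by
    intro h hh
    rw [hQ'mem] at hh ⊢
    have := (mem_normalizer_iff.mp hgx (g⁻¹ * h * g)).mp hh
    have e : g⁻¹ * (x * h * x⁻¹) * g = g⁻¹ * x * g * (g⁻¹ * h * g) * (g⁻¹ * x * g)⁻¹ := by group
    rw [e]; exact this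
  have hcardQG : Nat.card QG = Nat.card Q :=
    Nat.card_congr ((Q : Subgroup K).equivMapOfInjective _ K.subtype_injective).symm.toEquiv
  have hcardQ' : Nat.card Q' = Nat.card Q := by
    rw [← hcardQG]
    exact Nat.card_congr (QG.equivMapOfInjective _ (MulAut.conj g).injective).symm.toEquiv
  have hQcard : Nat.card Q = q ^ (Nat.card K).factorization q := Q.card_eq_multiplicity
  have hQ'cop : (Nat.card Q').Coprime p := by
    rw [hcardQ', hQcard]
    exact Nat.Coprime.pow_left _ ((Nat.coprime_primes hq hp).mpr hqp)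
  have hQ'M : Q' ≤ M := by
    intro h hh
    rw [hM, mem_centralizer_singleton_iff]
    exact (hb Q' hQ'cop hxQ' h hh).symm
  have hQ'K : Q' ≤ K := by
    intro y hy
    rw [hQ'mem] at hy
    have h1 : g⁻¹ * y * g ∈ K := map_subtype_le _ hy
    have h2 := hKn.conj_mem _ h1 g
    have e : g * (g⁻¹ * y * g) * g⁻¹ = y := by group
    rw [e] at h2; exact h2
  have hQ'Z : Q' ≤ Z := fun y hy => hKM ⟨hQ'K hy, hQ'M hy⟩
  have hdvdZ : q ^ (Nat.card K).factorization q ∣ Nat.card Z := by
    rw [← hQcard, ← hcardQ']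
    exact card_dvd_of_le hQ'Z
  have hcardK : Nat.card Z * Z.relIndex K = Nat.card K := by
    have := relIndex_mul_relIndex (⊥ : Subgroup G) Z K bot_le hZK
    rwa [relIndex_bot_left, relIndex_bot_left] at this
  have hZ0 : Nat.card Z ≠ 0 := Nat.card_pos.ne'
  have hK0 : Nat.card K ≠ 0 := Nat.card_pos.ne'
  have hfac : (Nat.card Z).factorization q + 1 ≤ (Nat.card K).factorization q := by
    rw [← hcardK, Nat.factorization_mul hZ0 (by rw [hrel]; exact Nat.card_pos.ne')]
    simp only [Finsupp.coe_add, Pi.add_apply]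
    have : 1 ≤ (Z.relIndex K).factorization q := by
      rw [hrel]
      exact (hq.dvd_iff_one_le_factorization Nat.card_pos.ne').mp hqK
    omega
  exact Nat.pow_succ_factorization_not_dvd hZ0 hq (dvd_trans (pow_dvd_pow q hfac) hdvdZ)

/-- S3064. -/
theorem center_of_weakClosed {G : Type u} [Group G] [Finite G] {p : ℕ} [Fact p.Prime] (x : G)
    (hw : WeakClosedElt p x) : x ∈ center G :=
  center_of_weakClosed_aux p _ G rfl x hw

end Cfsg.Agent.Helper15
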