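import Mathlib
import Cfsg.Agent.Lead.Compl
import Cfsg.Agent.Helper15.WeakClosedElt

set_option autoImplicit false

/-! S3027: the least subnormal supplement to a normal subgroup `D` with `G/D` perfect. -/

namespace Cfsg.Agent.Helper15

open Subgroup
open scoped commutatorElement Pointwise

universe u

/-- `B D = G`, elementwise. -/
def Supp {G : Type u} [Group G] (B D : Subgroup G) : Prop :=
  ∀ g : G, ∃ b ∈ B, ∃ d ∈ D, g = b * d

section
variable {G : Type u} [Group G]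

theorem supp_iff_sup (B D : Subgroup G) [D.Normal] : Supp B D ↔ B ⊔ D = ⊤ := by
  constructor
  · intro h
    rw [eq_top_iff]
    intro g _
    obtain ⟨b, hb, d, hd, rfl⟩ := h g
    exact mul_mem (mem_sup_left hb) (mem_sup_right hd)
  · intro h g
    have hg : g ∈ B ⊔ D := h ▸ mem_top g
    obtain ⟨y, hy, z, hz, hyz⟩ := mem_sup_of_normal_right.mp hg
    exact ⟨y, hy, z, hz, hyz.symm⟩

theorem Supp.mono {B B' D : Subgroup G} (h : Supp B D) (hle : B ≤ B') : Supp B' D := by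
  intro g
  obtain ⟨b, hb, d, hd, rfl⟩ := h g
  exact ⟨b, hle hb, d, hd, rfl⟩

/-- If `[g,h] ∈ X` modulo `D ≤ X` can be computed on representatives. -/
theorem commutator_le_of_supp (D X N₁ N₂ : Subgroup G) [hXn : X.Normal] (hDX : D ≤ X)
    (h1 : Supp N₁ D) (h2 : Supp N₂ D) (hX : ∀ a ∈ N₁, ∀ b ∈ N₂, ⁅a, b⁆ ∈ X) :
    commutator G ≤ X := by
  rw [commutator_def, commutator_le]
  intro g _ h _
  obtain ⟨a, ha, d₁, hd₁, rfl⟩ := h1 g
  obtain ⟨b, hb, d₂, hd₂, rfl⟩ := h2 h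
  rw [← QuotientGroup.eq_one_iff (N := X)]
  have e1 : ((a * d₁ : G) : G ⧸ X) = (a : G ⧸ X) := by
    rw [QuotientGroup.mk_mul, (QuotientGroup.eq_one_iff d₁).mpr (hDX hd₁), mul_one]
  have e2 : ((b * d₂ : G) : G ⧸ X) = (b : G ⧸ X) := by
    rw [QuotientGroup.mk_mul, (QuotientGroup.eq_one_iff d₂).mpr (hDX hd₂), mul_one]
  have e3 : ((⁅a * d₁, b * d₂⁆ : G) : G ⧸ X) = ((⁅a, b⁆ : G) : G ⧸ X) := by
    simp only [commutatorElement_def, QuotientGroup.mk_mul, QuotientGroup.mk_inv, e1, e2]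
  rw [e3]
  exact (QuotientGroup.eq_one_iff _).mpr (hX a ha b hb)

theorem supp_inf_of_normal (D N₁ N₂ : Subgroup G) [hDn : D.Normal] [h1n : N₁.Normal]
    [h2n : N₂.Normal] (hperf : Supp (commutator G) D) (h1 : Supp N₁ D) (h2 : Supp N₂ D) :
    Supp (N₁ ⊓ N₂) D := by
  have hXn : ((N₁ ⊓ N₂) ⊔ D).Normal := inferInstance
  have hle : commutator G ≤ (N₁ ⊓ N₂) ⊔ D := by
    apply commutator_le_of_supp D _ N₁ N₂ le_sup_right h1 h2
    intro a ha b hb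
    apply mem_sup_left
    rw [commutatorElement_def]
    refine ⟨?_, ?_⟩
    · have h3 : b * a⁻¹ * b⁻¹ ∈ N₁ := h1n.conj_mem _ (N₁.inv_mem ha) b
      have : a * b * a⁻¹ * b⁻¹ = a * (b * a⁻¹ * b⁻¹) := by group
      rw [this]; exact N₁.mul_mem ha h3
    · have h3 : a * b * a⁻¹ ∈ N₂ := h2n.conj_mem _ hb a
      exact N₂.mul_mem h3 (N₂.inv_mem hb)
  intro g
  obtain ⟨c, hc, d, hd, rfl⟩ := hperf g
  obtain ⟨y, hy, z, hz, hyz⟩ := mem_sup_of_normal_right.mp (hle hc)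
  exact ⟨y, hy, z * d, D.mul_mem hz hd, by rw [← hyz]; group⟩

theorem perf_of_normal_supp (D K : Subgroup G) [hDn : D.Normal] [hKn : K.Normal]
    (hperf : Supp (commutator G) D) (hK : Supp K D) :
    ∀ k ∈ K, ∃ c ∈ ⁅K, K⁆, ∃ d ∈ D ⊓ K, k = c * d := by
  have hXn : (⁅K, K⁆ ⊔ D).Normal := inferInstance
  have hle : commutator G ≤ ⁅K, K⁆ ⊔ D := by
    apply commutator_le_of_supp D _ K K le_sup_right hK hK
    intro a ha b hb
    exact mem_sup_left (commutator_mem_commutator ha hb)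
  intro k hk
  obtain ⟨c, hc, d, hd, rfl⟩ := hperf k
  obtain ⟨y, hy, z, hz, hyz⟩ := mem_sup_of_normal_right.mp (hle hc)
  have hyK : y ∈ K := commutator_le_left K K hy
  refine ⟨y, hy, z * d, ⟨D.mul_mem hz hd, ?_⟩, by rw [← hyz]; group⟩
  have : z * d = y⁻¹ * (c * d) := by rw [← hyz]; group
  rw [this]
  exact K.mul_mem (K.inv_mem hyK) hk

/-- Restriction step: apply the statement in the group `K`. -/
theorem supp_inf_restrict (D K : Subgroup G) [hDn : D.Normal] [hKn : K.Normal]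
    (hperf : Supp (commutator G) D) (hK : Supp K D)
    (ihK : ∀ (D' : Subgroup K) [D'.Normal], Supp (commutator K) D' →
      ∀ B₁ B₂ : Subgroup K, B₁.IsSubnormal → B₂.IsSubnormal → Supp B₁ D' → Supp B₂ D' →
        Supp (B₁ ⊓ B₂) D')
    (C₁ C₂ : Subgroup G) (hs1 : C₁.IsSubnormal) (hs2 : C₂.IsSubnormal) (h1K : C₁ ≤ K)
    (h2K : C₂ ≤ K) (h1 : Supp C₁ D) (h2 : Supp C₂ D) : Supp (C₁ ⊓ C₂) D := by
  have hperfK : Supp (commutator K) (D.subgroupOf K) := by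
    intro k
    obtain ⟨c, hc, d, hd, hkd⟩ := perf_of_normal_supp D K hperf hK k k.2
    rw [← map_subtype_commutator] at hc
    obtain ⟨c', hc', rfl⟩ := hc
    refine ⟨c', hc', ⟨d, hd.2⟩, mem_subgroupOf.mpr hd.1, ?_⟩
    exact Subtype.ext hkd
  have hrestr : ∀ C : Subgroup G, C ≤ K → Supp C D → Supp (C.subgroupOf K) (D.subgroupOf K) := by
    intro C hCK hC k
    obtain ⟨b, hb, d, hd, hkd⟩ := hC (k : G)
    have hbK : b ∈ K := hCK hb
    have hdK : d ∈ K := by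
      have : d = b⁻¹ * (k : G) := by rw [hkd]; group
      rw [this]; exact K.mul_mem (K.inv_mem hbK) k.2
    exact ⟨⟨b, hbK⟩, mem_subgroupOf.mpr hb, ⟨d, hdK⟩, mem_subgroupOf.mpr hd, Subtype.ext hkd⟩
  have key := ihK (D.subgroupOf K) hperfK (C₁.subgroupOf K) (C₂.subgroupOf K) hs1.subgroupOf
    hs2.subgroupOf (hrestr C₁ h1K h1) (hrestr C₂ h2K h2)
  intro g
  obtain ⟨k, hk, d₀, hd₀, rfl⟩ := hK g
  obtain ⟨y, hy, d, hd, hkd⟩ := key ⟨k, hk⟩
  refine ⟨(y : G), ⟨mem_subgroupOf.mp hy.1, mem_subgroupOf.mp hy.2⟩, (d : G) * d₀,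
    D.mul_mem (mem_subgroupOf.mp hd) hd₀, ?_⟩
  have : k = (y : G) * (d : G) := congrArg Subtype.val hkd
  rw [this]; group

end

theorem supp_inf_aux : ∀ n : ℕ, ∀ (G : Type u) [Group G] [Finite G], Nat.card G = n →
    ∀ (D : Subgroup G) [D.Normal], Supp (commutator G) D →
      ∀ B₁ B₂ : Subgroup G, B₁.IsSubnormal → B₂.IsSubnormal → Supp B₁ D → Supp B₂ D →
        Supp (B₁ ⊓ B₂) D := by
  intro n
  induction n using Nat.strong_induction_on with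
  | _ n ih =>
  intro G _ _ hn D _ hperf B₁ B₂ hs1 hs2 h1 h2
  by_cases hB₁ : B₁ = ⊤
  · rw [hB₁, top_inf_eq]; exact h2
  by_cases hB₂ : B₂ = ⊤
  · rw [hB₂, inf_top_eq]; exact h1
  obtain ⟨K₁, hK₁n, hB₁K₁, hK₁lt⟩ := hs1.exists_normal_and_le_and_lt_top_of_ne hB₁
  obtain ⟨K₂, hK₂n, hB₂K₂, hK₂lt⟩ := hs2.exists_normal_and_le_and_lt_top_of_ne hB₂
  have hK₁ : Supp K₁ D := h1.mono hB₁K₁
  have hK₂ : Supp K₂ D := h2.mono hB₂K₂
  have hK12 : Supp (K₁ ⊓ K₂) D := supp_inf_of_normal D K₁ K₂ hperf hK₁ hK₂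
  have hK12n : (K₁ ⊓ K₂).Normal := inferInstance
  have ihK : ∀ K : Subgroup G, K < ⊤ → ∀ (D' : Subgroup K) [D'.Normal], Supp (commutator K) D' →
      ∀ B₁ B₂ : Subgroup K, B₁.IsSubnormal → B₂.IsSubnormal → Supp B₁ D' → Supp B₂ D' →
        Supp (B₁ ⊓ B₂) D' := by
    intro K hK D' _ hp' C₁ C₂ hc1 hc2 h1' h2'
    have hlt : Nat.card K < n := hn ▸ card_lt_of_ne_top' hK.ne
    exact ih (Nat.card K) hlt K rfl D' hp' C₁ C₂ hc1 hc2 h1' h2'
  -- (b)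
  have hb : Supp (K₁ ⊓ B₂) D := by
    have := supp_inf_restrict D K₂ hperf hK₂ (ihK K₂ hK₂lt) (K₁ ⊓ K₂) B₂ hK12n.isSubnormal hs2
      inf_le_right hB₂K₂ hK12 h2
    exact this.mono (inf_le_inf inf_le_left le_rfl)
  -- (c)
  have hc := supp_inf_restrict D K₁ hperf hK₁ (ihK K₁ hK₁lt) B₁ (K₁ ⊓ B₂) hs1
    (hK₁n.isSubnormal.inf hs2) hB₁K₁ inf_le_left h1 hb
  exact hc.mono (inf_le_inf le_rfl inf_le_right)

/-- S3027. -/
theorem exists_least_subnormal_supplement {G : Type u} [Group G] [Finite G] (D : Subgroup G)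
    [hDn : D.Normal] (hperf : ⁅(⊤ : Subgroup G), (⊤ : Subgroup G)⁆ ⊔ D = ⊤) :
    ∃ B : Subgroup G, B.Normal ∧ B ⊔ D = ⊤ ∧
      ∀ B' : Subgroup G, B'.IsSubnormal → B' ⊔ D = ⊤ → B ≤ B' := by
  classical
  have hperf' : Supp (commutator G) D := by
    rw [supp_iff_sup, commutator_def]; exact hperf
  set 𝓑 : Set (Subgroup G) := {B | B.IsSubnormal ∧ Supp B D} with h𝓑
  have hfin : 𝓑.Finite := Set.toFinite _
  set B₀ : Subgroup G := hfin.toFinset.inf id with hB₀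
  have hmem : B₀ ∈ 𝓑 := by
    apply Finset.inf_induction (p := fun B => B ∈ 𝓑)
    · refine ⟨IsSubnormal.top, ?_⟩
      intro g
      exact ⟨g, mem_top g, 1, D.one_mem, by simp⟩
    · intro a₁ h₁ a₂ h₂
      exact ⟨h₁.1.inf h₂.1, supp_inf_aux _ G rfl D hperf' a₁ a₂ h₁.1 h₂.1 h₁.2 h₂.2⟩
    · intro b hb
      exact (Set.Finite.mem_toFinset hfin).mp hb
  have hle : ∀ B' ∈ 𝓑, B₀ ≤ B' := by
    intro B' hB'
    exact Finset.inf_le (f := id) ((Set.Finite.mem_toFinset hfin).mpr hB')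
  have hconj : ∀ g : G, MulAut.conj g • B₀ ∈ 𝓑 := by
    intro g
    refine ⟨hmem.1.smul (MulAut.conj g), ?_⟩
    intro x
    obtain ⟨b, hb, d, hd, hbd⟩ := hmem.2 (g⁻¹ * x * g)
    refine ⟨g * b * g⁻¹, ?_, g * d * g⁻¹, hDn.conj_mem d hd g, ?_⟩
    · rw [Cfsg.Agent.Lead.mem_conj_smul_iff]
      have : g⁻¹ * (g * b * g⁻¹) * g = b := by group
      rw [this]; exact hb
    · have : g * b * g⁻¹ * (g * d * g⁻¹) = g * (b * d) * g⁻¹ := by group
      rw [this, ← hbd]; group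
  refine ⟨B₀, ?_, (supp_iff_sup B₀ D).mp hmem.2, ?_⟩
  · constructor
    intro n hn g
    have h1 := hle _ (hconj g⁻¹) hn
    rw [Cfsg.Agent.Lead.mem_conj_smul_iff] at h1
    simpa using h1
  · intro B' hs hsup
    exact hle B' ⟨hs, (supp_iff_sup B' D).mpr hsup⟩

end Cfsg.Agent.Helper15
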