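import Mathlib
import Cfsg.Agent.Helper7.PPrimeCore
import Cfsg.Agent.Helper19.Cores
import Cfsg.Agent.Helper15.CharP2
import Cfsg.Agent.Helper15.Isolated
import Cfsg.Agent.Helper15.SubnormalSupp

set_option autoImplicit false

/-! S2972: structure of a minimal counterexample to the `Z*_p`-statement. -/

namespace Cfsg.Agent.Helper15

open Subgroup Cfsg
open scoped commutatorElement Pointwise

universe u

variable {G : Type u} [Group G]

/-- A `p'`-subgroup `V` of a normal subgroup `N`, normalized by `N`, is trivial if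
`O_{p'}(G) = 1`. -/
theorem eq_bot_of_normalized_coprime [Finite G] {p : ℕ} (hcore : pPrimeCore p G = ⊥)
    (N V : Subgroup G) [hNn : N.Normal] (hVN : V ≤ N) (hNV : N ≤ normalizer (V : Set G))
    (hcop : (Nat.card V).Coprime p) : V = ⊥ := by
  have hsub : V.IsSubnormal :=
    IsSubnormal.step V N hVN hNn.isSubnormal ((normal_subgroupOf_iff_le_normalizer hVN).mpr hNV)
  have := Cfsg.Agent.Helper7.subnormal_coprime_le_pPrimeCore hsub hcop
  rw [hcore] at this
  exact le_bot_iff.mp this

/-- Central `p`-subgroup `Z`, normal `Y ≥ Z` with `|Y : Z|` prime to `p`: a normal `p'`-subgroup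
`K₀` of `G` with `Y ≤ Z K₀`. -/
theorem exists_normal_complement_central [Finite G] {p : ℕ} [Fact p.Prime] (Z Y : Subgroup G)
    (hZc : Z ≤ center G) (hZp : IsPGroup p Z) [hYn : Y.Normal] (hZY : Z ≤ Y)
    (hidx : (Z.relIndex Y).Coprime p) :
    ∃ K₀ : Subgroup G, K₀.Normal ∧ (Nat.card K₀).Coprime p ∧ Y ≤ Z ⊔ K₀ := by
  have hp : p.Prime := Fact.out
  set ZY : Subgroup Y := Z.subgroupOf Y with hZY'
  have hZYn : ZY.Normal := by
    constructor
    intro z hz y
    rw [hZY', mem_subgroupOf] at hz ⊢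
    have hc := (mem_center_iff.mp (hZc hz)) (y : G)
    have : ((y * z * y⁻¹ : Y) : G) = (z : G) := by
      push_cast
      rw [hc]; group
    rw [this]; exact hz
  have hcardZY : Nat.card ZY = Nat.card Z := by
    rw [hZY']
    exact Nat.card_congr (subgroupOfEquivOfLe hZY).toEquiv
  obtain ⟨a, ha⟩ := IsPGroup.iff_card.mp hZp
  have hcop : (Nat.card ZY).Coprime ZY.index := by
    rw [hcardZY, ha]
    exact Nat.Coprime.pow_left a hidx.symm
  obtain ⟨K', hK'⟩ := exists_left_complement'_of_coprime hcop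
  set m : ℕ := Nat.card K' with hm
  have hmidx : ZY.index = m := hK'.index_eq_card
  have hmcop : m.Coprime p := by rw [← hmidx]; exact hidx
  set K₀ : Subgroup G := K'.map Y.subtype with hK₀
  have hcardK₀ : Nat.card K₀ = m :=
    Nat.card_congr (K'.equivMapOfInjective _ Y.subtype_injective).symm.toEquiv
  have hdecomp : ∀ y : Y, ∃ k ∈ K', ∃ z ∈ ZY, y = k * z := by
    intro y
    have : y ∈ (K' : Set Y) * (ZY : Set Y) := by rw [hK'.mul_eq]; exact Set.mem_univ y
    obtain ⟨k, hk, z, hz, rfl⟩ := Set.mem_mul.mp this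
    exact ⟨k, hk, z, hz, rfl⟩
  have hchar : ∀ y : Y, y ∈ K' ↔ y ^ m = 1 := by
    intro y
    constructor
    · intro hy
      exact orderOf_dvd_iff_pow_eq_one.mp (Subgroup.orderOf_dvd_natCard K' hy)
    · intro hy
      obtain ⟨k, hk, z, hz, rfl⟩ := hdecomp y
      have hkz : Commute k z := by
        have hz' : (z : G) ∈ Z := mem_subgroupOf.mp hz
        have hc := (mem_center_iff.mp (hZc hz')) (k : G)
        show k * z = z * k
        apply Subtype.ext
        push_cast
        exact hc
      rw [hkz.mul_pow] at hy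
      have hk1 : k ^ m = 1 :=
        orderOf_dvd_iff_pow_eq_one.mp (Subgroup.orderOf_dvd_natCard K' hk)
      rw [hk1, one_mul] at hy
      have hz' : (z : G) ∈ Z := mem_subgroupOf.mp hz
      obtain ⟨b, hb⟩ := hZp ⟨(z : G), hz'⟩
      have hb' : (z : G) ^ p ^ b = 1 := by
        have := congrArg Subtype.val hb
        simpa using this
      have hy' : (z : G) ^ m = 1 := by
        have := congrArg Subtype.val hy
        simpa using this
      have hord : orderOf (z : G) = 1 :=
        Nat.eq_one_of_dvd_coprimes (hmcop.pow_right b) (orderOf_dvd_of_pow_eq_one hy')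
          (orderOf_dvd_of_pow_eq_one hb')
      have hz1 : z = 1 := Subtype.ext (orderOf_eq_one_iff.mp hord)
      rw [hz1, mul_one]; exact hk
  refine ⟨K₀, ?_, by rw [hcardK₀]; exact hmcop, ?_⟩
  · constructor
    intro k hk g
    obtain ⟨k', hk', rfl⟩ := hk
    have hmem : g * (k' : G) * g⁻¹ ∈ Y := hYn.conj_mem _ k'.2 g
    refine ⟨⟨g * (k' : G) * g⁻¹, hmem⟩, ?_, rfl⟩
    apply (hchar _).mpr
    apply Subtype.ext
    push_cast
    have h1 : (k' : G) ^ m = 1 := by
      have := (hchar k').mp hk'
      have h2 := congrArg Subtype.val this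
      simpa using h2
    have h2 : (g * (k' : G) * g⁻¹) ^ m = g * (k' : G) ^ m * g⁻¹ := by
      have := map_pow (MulAut.conj g) (k' : G) m
      simpa using this.symm
    rw [h2, h1]; group
  · intro y hy
    obtain ⟨k, hk, z, hz, hkz⟩ := hdecomp ⟨y, hy⟩
    have : y = (k : G) * (z : G) := congrArg Subtype.val hkz
    rw [this]
    exact mul_mem (mem_sup_right ⟨k, hk, rfl⟩) (mem_sup_left (mem_subgroupOf.mp hz))

/-- If `O_{p'}(G) = 1` then the centre is a `p`-group. -/
theorem isPGroup_center_of_pPrimeCore_eq_bot [Finite G] {p : ℕ} [Fact p.Prime]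
    (hcore : pPrimeCore p G = ⊥) : IsPGroup p (center G) := by
  apply isPGroup_of_forall_coprime_eq_one
  intro z hz hzo
  have hn : (zpowers z).Normal := by
    constructor
    intro y hy g
    have hy' : y ∈ center G := (zpowers_le.mpr hz) hy
    have : g * y * g⁻¹ = y := by
      rw [(mem_center_iff.mp hy') g]; group
    rw [this]; exact hy
  have hle := Cfsg.Agent.Helper7.le_pPrimeCore (p := p) hn (by rw [Nat.card_zpowers]; exact hzo)
  rw [hcore] at hle
  exact mem_bot.mp (hle (mem_zpowers z))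

/-- If `O_{p'}(G) = 1` then `O_{p'}(G/Z(G)) = 1`. -/
theorem pPrimeCore_quotient_center_eq_bot [Finite G] {p : ℕ} [Fact p.Prime]
    (hcore : pPrimeCore p G = ⊥) : pPrimeCore p (G ⧸ center G) = ⊥ := by
  set Z : Subgroup G := center G with hZ
  set Yb : Subgroup (G ⧸ Z) := pPrimeCore p (G ⧸ Z) with hYb
  set f : G →* G ⧸ Z := QuotientGroup.mk' Z with hf
  have hfsurj : Function.Surjective f := QuotientGroup.mk'_surjective Z
  have hker : f.ker = Z := QuotientGroup.ker_mk' Z
  set Y : Subgroup G := Yb.comap f with hY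
  have hYn : Y.Normal := by
    have : Yb.Normal := inferInstance
    exact this.comap f
  have hZY : Z ≤ Y := by rw [← hker]; exact ker_le_comap f Yb
  have hrel : Z.relIndex Y = Nat.card Yb := by
    have h1 : (⊥ : Subgroup (G ⧸ Z)).comap f = Z := (MonoidHom.comap_bot f).trans hker
    have h2 : Y.map f = Yb := map_comap_eq_self_of_surjective hfsurj Yb
    have h3 : Z.relIndex Y = ((⊥ : Subgroup (G ⧸ Z)).comap f).relIndex Y :=
      congrArg (fun H : Subgroup G => H.relIndex Y) h1.symm
    rw [h3, relIndex_comap, h2, relIndex_bot_left]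
  have hidx : (Z.relIndex Y).Coprime p := by
    rw [hrel]; exact Cfsg.Agent.Helper19.pPrimeCore_coprime p
  obtain ⟨K₀, hK₀n, hK₀c, hYle⟩ := exists_normal_complement_central Z Y le_rfl
    (isPGroup_center_of_pPrimeCore_eq_bot hcore) hZY hidx
  have hK₀ : K₀ = ⊥ := by
    have := Cfsg.Agent.Helper7.le_pPrimeCore hK₀n hK₀c
    rw [hcore] at this
    exact le_bot_iff.mp this
  rw [hK₀, sup_bot_eq] at hYle
  rw [eq_bot_iff]
  intro yb hyb
  obtain ⟨y, rfl⟩ := hfsurj yb
  have : y ∈ Z := hYle hyb
  rw [mem_bot]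
  rw [← hker] at this
  exact this

end Cfsg.Agent.Helper15
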