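import Mathlib
import Cfsg.Agent.Helper15.ZStarMin

set_option autoImplicit false
set_option linter.unusedSectionVars false

/-! S2972: structure of a minimal counterexample to the `Z*_p`-statement (main part). -/

namespace Cfsg.Agent.Helper15

open Subgroup Cfsg
open scoped commutatorElement Pointwise

universe u

variable {G : Type u} [Group G]

/-- The hypotheses of a minimal counterexample to `Z*_p`. -/
structure ZStarMinCE (p : ℕ) (x : G) : Prop where
  hx : orderOf x = p
  hiso : IsIsolated x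
  hnz : ¬ InZStar p x
  hmin : ∀ (H : Subgroup G) (hxH : x ∈ H), H ≠ ⊤ → InZStar p (⟨x, hxH⟩ : ↥H)
  hquot : ∀ (N : Subgroup G) [N.Normal], N ≠ ⊥ → InZStar p (QuotientGroup.mk x : G ⧸ N)

section
variable [Finite G] {p : ℕ} [Fact p.Prime] {x : G}

theorem ZStarMinCE.not_mem_center (h : ZStarMinCE p x) : x ∉ center G := by
  intro hc
  apply h.hnz
  intro g
  have : g * x * g⁻¹ * x⁻¹ = 1 := by
    rw [(mem_center_iff.mp hc) g]; group
  rw [this]; exact one_mem _

theorem ZStarMinCE.ne_one (h : ZStarMinCE p x) : x ≠ 1 := by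
  intro h1
  apply h.not_mem_center
  rw [h1]; exact one_mem _

theorem ZStarMinCE.pPrimeCore_eq_bot (h : ZStarMinCE p x) : pPrimeCore p G = ⊥ := by
  by_contra hne
  apply h.hnz
  intro g
  have h1 := h.hquot (pPrimeCore p G) hne (g : G ⧸ pPrimeCore p G)
  rw [Cfsg.Agent.Helper7.pPrimeCore_quotient_eq_bot, mem_bot] at h1
  have h2 : ((g * x * g⁻¹ * x⁻¹ : G) : G ⧸ pPrimeCore p G) = 1 := by
    simpa using h1
  exact (QuotientGroup.eq_one_iff _).mp h2

/-- If `x ∈ H`, `H` proper and normalized by..., the `p'`-core of `H` in `G`. -/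
theorem ZStarMinCE.comm_mem (h : ZStarMinCE p x) (H : Subgroup G) (hxH : x ∈ H) (hH : H ≠ ⊤)
    (k : G) (hk : k ∈ H) : k * x * k⁻¹ * x⁻¹ ∈ (pPrimeCore p H).map H.subtype := by
  have := h.hmin H hxH hH ⟨k, hk⟩
  exact ⟨_, this, by simp⟩

theorem pPrimeCore_map_coprime (p : ℕ) (H : Subgroup G) :
    (Nat.card ((pPrimeCore p H).map H.subtype)).Coprime p := by
  have hcard : Nat.card ((pPrimeCore p H).map H.subtype) = Nat.card (pPrimeCore p H) :=
    Nat.card_congr ((pPrimeCore p H).equivMapOfInjective _ H.subtype_injective).symm.toEquiv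
  rw [hcard]
  exact Cfsg.Agent.Helper19.pPrimeCore_coprime p

theorem le_normalizer_pPrimeCore_map (p : ℕ) (H : Subgroup G) :
    H ≤ normalizer (((pPrimeCore p H).map H.subtype : Subgroup G) : Set G) := by
  apply le_normalizer_of_conj_mem
  rintro a ha _ ⟨y, hy, rfl⟩
  have hn : (pPrimeCore p H).Normal := inferInstance
  exact ⟨⟨a, ha⟩ * y * ⟨a, ha⟩⁻¹, hn.conj_mem y hy ⟨a, ha⟩, by simp⟩

theorem ZStarMinCE.normalClosure_eq_top (h : ZStarMinCE p x) :
    normalClosure ({x} : Set G) = ⊤ := by
  by_contra hne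
  set K : Subgroup G := normalClosure ({x} : Set G) with hK
  have hKn : K.Normal := normalClosure_normal
  have hxK : x ∈ K := subset_normalClosure (Set.mem_singleton x)
  have hO : (pPrimeCore p K).map K.subtype = ⊥ :=
    eq_bot_of_normalized_coprime h.pPrimeCore_eq_bot K _ (map_subtype_le _)
      (le_normalizer_pPrimeCore_map p K) (pPrimeCore_map_coprime p K)
  apply h.not_mem_center
  rw [mem_center_iff]
  intro g
  have hgx : g * x * g⁻¹ ∈ K := hKn.conj_mem x hxK g
  have h1 := h.comm_mem K hxK hne (g * x * g⁻¹) hgx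
  rw [hO, mem_bot] at h1
  have hcomm : Commute x (g * x * g⁻¹) := by
    have : (g * x * g⁻¹) * x = x * (g * x * g⁻¹) := by
      calc (g * x * g⁻¹) * x = ((g * x * g⁻¹) * x * (g * x * g⁻¹)⁻¹ * x⁻¹) * (x * (g * x * g⁻¹)) := by
            group
        _ = x * (g * x * g⁻¹) := by rw [h1, one_mul]
    exact this.symm
  have h2 := h.hiso g hcomm
  calc g * x = (g * x * g⁻¹) * g := by group
    _ = x * g := by rw [h2]

theorem ZStarMinCE.center_eq_bot (h : ZStarMinCE p x) : center G = ⊥ := by
  by_contra hne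
  have hcore := h.pPrimeCore_eq_bot
  apply h.not_mem_center
  rw [mem_center_iff]
  intro g
  have h1 := h.hquot (center G) hne (g : G ⧸ center G)
  rw [pPrimeCore_quotient_center_eq_bot hcore, mem_bot] at h1
  have h2 : ((g * x * g⁻¹ * x⁻¹ : G) : G ⧸ center G) = 1 := by
    simpa using h1
  have h3 : g * x * g⁻¹ * x⁻¹ ∈ center G := (QuotientGroup.eq_one_iff _).mp h2
  have hcomm : Commute x (g * x * g⁻¹) := by
    have h4 := (mem_center_iff.mp h3) x
    -- x * (c) = c * x where c = g x g⁻¹ x⁻¹; g x g⁻¹ = c * x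
    have h5 : g * x * g⁻¹ = (g * x * g⁻¹ * x⁻¹) * x := by group
    show x * (g * x * g⁻¹) = (g * x * g⁻¹) * x
    rw [h5]
    calc x * (g * x * g⁻¹ * x⁻¹ * x) = (x * (g * x * g⁻¹ * x⁻¹)) * x := by group
      _ = (g * x * g⁻¹ * x⁻¹ * x) * x := by rw [h4]
  have h6 := h.hiso g hcomm
  calc g * x = (g * x * g⁻¹) * g := by group
    _ = x * g := by rw [h6]

theorem ZStarMinCE.sup_zpowers_eq_top (h : ZStarMinCE p x) (N : Subgroup G) [hNn : N.Normal]
    (hN : N ≠ ⊥) : N ⊔ zpowers x = ⊤ := by
  by_contra hne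
  set H : Subgroup G := N ⊔ zpowers x with hH
  have hxH : x ∈ H := mem_sup_right (mem_zpowers x)
  have hNH : N ≤ H := le_sup_left
  set O : Subgroup G := (pPrimeCore p H).map H.subtype with hO
  have hV : N ⊓ O = ⊥ := by
    apply eq_bot_of_normalized_coprime h.pPrimeCore_eq_bot N _ inf_le_left
    · apply le_normalizer_of_conj_mem
      intro a ha y hy
      refine ⟨hNn.conj_mem y hy.1 a, ?_⟩
      exact (mem_normalizer_iff.mp (le_normalizer_pPrimeCore_map p H (hNH ha)) y).mp hy.2
    · exact Nat.Coprime.coprime_dvd_left (card_dvd_of_le inf_le_right) (pPrimeCore_map_coprime p H)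
  -- x centralizes N
  have hcent : N ≤ centralizer ({x} : Set G) := by
    intro n hn
    have h1 := h.comm_mem H hxH hne n (hNH hn)
    have h2 : n * x * n⁻¹ * x⁻¹ ∈ N := by
      have h3 : x * n⁻¹ * x⁻¹ ∈ N := hNn.conj_mem _ (N.inv_mem hn) x
      have : n * x * n⁻¹ * x⁻¹ = n * (x * n⁻¹ * x⁻¹) := by group
      rw [this]; exact N.mul_mem hn h3
    have h4 : n * x * n⁻¹ * x⁻¹ ∈ N ⊓ O := ⟨h2, h1⟩
    rw [hV, mem_bot] at h4
    rw [mem_centralizer_singleton_iff]
    calc n * x = (n * x * n⁻¹ * x⁻¹) * (x * n) := by group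
      _ = x * n := by rw [h4, one_mul]
  have hxC : x ∈ centralizer (N : Set G) := by
    rw [mem_centralizer_iff]
    intro n hn
    exact mem_centralizer_singleton_iff.mp (hcent hn)
  have hCn : (centralizer (N : Set G)).Normal := inferInstance
  have hle : normalClosure ({x} : Set G) ≤ centralizer (N : Set G) :=
    normalClosure_le_normal (Set.singleton_subset_iff.mpr hxC)
  rw [h.normalClosure_eq_top] at hle
  apply hN
  rw [eq_bot_iff, ← h.center_eq_bot]
  intro n hn
  rw [mem_center_iff]
  intro g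
  have := (mem_centralizer_iff.mp (hle (mem_top g))) n hn
  exact this.symm

theorem ZStarMinCE.simple_of_minimal (h : ZStarMinCE p x) (N : Subgroup G) [hNn : N.Normal]
    (hN : N ≠ ⊥) (hNmin : ∀ N' : Subgroup G, N'.Normal → N' ≠ ⊥ → N' ≤ N → N ≤ N') :
    ∀ M₀ : Subgroup G, M₀ ≤ N → N ≤ normalizer (M₀ : Set G) → M₀ = ⊥ ∨ M₀ = N := by
  have hp : p.Prime := Fact.out
  intro M₀ hM₀N hNM₀
  by_contra hcon
  push Not at hcon
  obtain ⟨M, hMM₀, hMmin⟩ := exists_minimal_le_of_wellFoundedLT
    (fun M : Subgroup G => M ≤ N ∧ N ≤ normalizer (M : Set G) ∧ M ≠ ⊥) M₀ ⟨hM₀N, hNM₀, hcon.1⟩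
  obtain ⟨hMN, hNM, hM1⟩ := hMmin.prop
  have hMneN : M ≠ N := by
    intro hEq
    apply hcon.2
    exact le_antisymm hM₀N (hEq ▸ hMM₀)
  have hsupx := h.sup_zpowers_eq_top N hN
  have hcore := h.pPrimeCore_eq_bot
  have hx1 := h.ne_one
  by_cases hxM : x ∈ normalizer (M : Set G)
  · have htop : normalizer (M : Set G) = ⊤ := by
      rw [eq_top_iff, ← hsupx]
      exact sup_le hNM (zpowers_le.mpr hxM)
    have hMn : M.Normal := normalizer_eq_top_iff.mp htop
    exact hMneN (le_antisymm hMN (hNmin M hMn hM1 hMN))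
  · -- nontrivial powers of x do not normalize M
    have hcardx : Nat.card (zpowers x) = p := by rw [Nat.card_zpowers, h.hx]
    have hstab : ∀ g ∈ zpowers x, g ≠ 1 → g ∉ normalizer (M : Set G) := by
      intro g hg hg1 hgM
      have hdvd : Nat.card (zpowers x ⊓ normalizer (M : Set G) : Subgroup G) ∣ p := by
        rw [← hcardx]; exact card_dvd_of_le inf_le_left
      rcases (Nat.dvd_prime hp).mp hdvd with h1 | h1
      · rw [card_eq_one] at h1
        have : g ∈ zpowers x ⊓ normalizer (M : Set G) := ⟨hg, hgM⟩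
        rw [h1, mem_bot] at this
        exact hg1 this
      · have hfin : Finite (zpowers x) := inferInstance
        have h2 : (zpowers x ⊓ normalizer (M : Set G) : Subgroup G) = zpowers x := by
          apply eq_of_le_of_card_ge inf_le_left
          rw [h1, hcardx]
        have h3 : x ∈ (zpowers x ⊓ normalizer (M : Set G) : Subgroup G) := by
          rw [h2]; exact mem_zpowers x
        exact hxM h3.2
    -- N normalizes conjugates of M
    have hNMg : ∀ g : G, ∀ n ∈ N, ∀ y ∈ M.map (MulAut.conj g).toMonoidHom,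
        n * y * n⁻¹ ∈ M.map (MulAut.conj g).toMonoidHom := by
      intro g n hn y hy
      rw [Cfsg.Agent.Helper1.mem_map_conj_iff] at hy ⊢
      have hn' : g⁻¹ * n * g ∈ N := by
        have := hNn.conj_mem n hn g⁻¹
        simpa using this
      have := (mem_normalizer_iff.mp (hNM hn') _).mp hy
      have e : g⁻¹ * (n * y * n⁻¹) * g = g⁻¹ * n * g * (g⁻¹ * y * g) * (g⁻¹ * n * g)⁻¹ := by group
      rw [e]; exact this
    have hMgN : ∀ g : G, M.map (MulAut.conj g).toMonoidHom ≤ N := by
      intro g y hy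
      rw [Cfsg.Agent.Helper1.mem_map_conj_iff] at hy
      have := hNn.conj_mem _ (hMN hy) g
      have e : g * (g⁻¹ * y * g) * g⁻¹ = y := by group
      rw [e] at this; exact this
    have hdisj : ∀ g ∈ zpowers x, g ≠ 1 → M ⊓ M.map (MulAut.conj g).toMonoidHom = ⊥ := by
      intro g hg hg1
      by_contra hne
      have hP : (M ⊓ M.map (MulAut.conj g).toMonoidHom) ≤ N ∧
          N ≤ normalizer ((M ⊓ M.map (MulAut.conj g).toMonoidHom : Subgroup G) : Set G) ∧
          (M ⊓ M.map (MulAut.conj g).toMonoidHom) ≠ ⊥ := by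
        refine ⟨inf_le_left.trans hMN, ?_, hne⟩
        apply le_normalizer_of_conj_mem
        intro n hn y hy
        exact ⟨(mem_normalizer_iff.mp (hNM hn) y).mp hy.1, hNMg g n hn y hy.2⟩
      have hle : M ≤ M ⊓ M.map (MulAut.conj g).toMonoidHom := hMmin.le_of_le hP inf_le_left
      have hle' : M ≤ M.map (MulAut.conj g).toMonoidHom := hle.trans inf_le_right
      have hcard : Nat.card (M.map (MulAut.conj g).toMonoidHom) = Nat.card M :=
        Nat.card_congr (M.equivMapOfInjective _ (MulAut.conj g).injective).symm.toEquiv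
      have heq : M = M.map (MulAut.conj g).toMonoidHom :=
        eq_of_le_of_card_ge hle' (by rw [hcard])
      apply hstab g hg hg1
      rw [mem_normalizer_iff]
      intro y
      constructor
      · intro hy
        rw [heq]
        exact ⟨y, hy, by simp⟩
      · intro hy
        rw [heq, Cfsg.Agent.Helper1.mem_map_conj_iff] at hy
        have e : g⁻¹ * (g * y * g⁻¹) * g = y := by group
        rw [e] at hy; exact hy
    have hcommMg : ∀ g ∈ zpowers x, g ≠ 1 → ∀ a ∈ M,
        ∀ b ∈ M.map (MulAut.conj g).toMonoidHom, a * b = b * a := by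
      intro g hg hg1 a ha b hb
      have h1 : a * b * a⁻¹ * b⁻¹ ∈ M := by
        have hbN : b ∈ N := hMgN g hb
        have h2 : b * a⁻¹ * b⁻¹ ∈ M := (mem_normalizer_iff.mp (hNM hbN) _).mp (M.inv_mem ha)
        have : a * b * a⁻¹ * b⁻¹ = a * (b * a⁻¹ * b⁻¹) := by group
        rw [this]; exact M.mul_mem ha h2
      have h2 : a * b * a⁻¹ * b⁻¹ ∈ M.map (MulAut.conj g).toMonoidHom := by
        have h3 := hNMg g a (hMN ha) b hb
        exact mul_mem h3 (inv_mem hb)
      have h4 : a * b * a⁻¹ * b⁻¹ ∈ M ⊓ M.map (MulAut.conj g).toMonoidHom := ⟨h1, h2⟩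
      rw [hdisj g hg hg1, mem_bot] at h4
      calc a * b = (a * b * a⁻¹ * b⁻¹) * (b * a) := by group
        _ = b * a := by rw [h4, one_mul]
    have hpM : p ∣ Nat.card M := by
      by_contra hnd
      apply hM1
      exact eq_bot_of_normalized_coprime hcore N M hMN hNM
        ((Nat.Prime.coprime_iff_not_dvd hp).mpr hnd).symm
    obtain ⟨s', hs'⟩ := exists_prime_orderOf_dvd_card' p hpM
    set s : G := (s' : G) with hs
    have hsM : s ∈ M := s'.2
    have hsord : orderOf s = p := by rw [hs, Subgroup.orderOf_coe]; exact hs'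
    have hsp : s ^ p = 1 := by rw [← hsord]; exact pow_orderOf_eq_one s
    set c : ℤ → G := fun k => x ^ k * s * (x ^ k)⁻¹ with hc
    have hc_comm : ∀ k l : ℤ, c k * c l = c l * c k := by
      intro k l
      set g : G := x ^ (l - k) with hg
      have hcl : c l = x ^ k * (g * s * g⁻¹) * (x ^ k)⁻¹ := by
        simp only [hc, hg, zpow_sub]; group
      have key : s * (g * s * g⁻¹) = (g * s * g⁻¹) * s := by
        by_cases hg1 : g = 1
        · rw [hg1]; group
        · exact hcommMg g (zpow_mem (mem_zpowers x) _) hg1 s hsM _ ⟨s, hsM, by simp⟩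
      rw [hcl]
      calc c k * (x ^ k * (g * s * g⁻¹) * (x ^ k)⁻¹) =
          x ^ k * (s * (g * s * g⁻¹)) * (x ^ k)⁻¹ := by simp only [hc]; group
        _ = x ^ k * ((g * s * g⁻¹) * s) * (x ^ k)⁻¹ := by rw [key]
        _ = x ^ k * (g * s * g⁻¹) * (x ^ k)⁻¹ * c k := by simp only [hc]; group
    set A : Subgroup G := closure (Set.range c) with hA
    have hAcomm : IsMulCommutative A := by
      apply isMulCommutative_closure
      rintro _ ⟨k, rfl⟩ _ ⟨l, rfl⟩
      exact hc_comm k l
    have hApow : ∀ a ∈ A, a ^ p = 1 := by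
      let Tp : Subgroup G :=
        { carrier := {a | a ∈ A ∧ a ^ p = 1}
          one_mem' := ⟨A.one_mem, one_pow p⟩
          mul_mem' := by
            rintro a b ⟨haA, hap⟩ ⟨hbA, hbp⟩
            refine ⟨A.mul_mem haA hbA, ?_⟩
            have hab : Commute a b := by
              have := hAcomm.is_comm.comm (⟨a, haA⟩ : A) ⟨b, hbA⟩
              exact congrArg Subtype.val this
            rw [hab.mul_pow, hap, hbp, one_mul]
          inv_mem' := by
            rintro a ⟨haA, hap⟩
            exact ⟨A.inv_mem haA, by rw [inv_pow, hap, inv_one]⟩ }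
      have hle : A ≤ Tp := by
        rw [hA, closure_le]
        rintro _ ⟨k, rfl⟩
        refine ⟨subset_closure ⟨k, rfl⟩, ?_⟩
        show (x ^ k * s * (x ^ k)⁻¹) ^ p = 1
        rw [conj_pow, hsp]; group
      intro a ha
      exact (hle ha).2
    have hAp : IsPGroup p A := by
      intro a
      refine ⟨1, ?_⟩
      apply Subtype.ext
      have := hApow a a.2
      simpa using this
    have hxA : zpowers x ≤ normalizer (A : Set G) := by
      apply le_normalizer_of_conj_mem
      intro g hg a ha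
      obtain ⟨m, rfl⟩ := mem_zpowers_iff.mp hg
      have hle : A ≤ A.comap (MulAut.conj (x ^ m)).toMonoidHom := by
        rw [hA, closure_le]
        rintro _ ⟨k, rfl⟩
        rw [SetLike.mem_coe, mem_comap]
        have : (MulAut.conj (x ^ m)).toMonoidHom (c k) = c (m + k) := by
          simp only [hc, MulEquiv.toMonoidHom_eq_coe, MonoidHom.coe_coe, MulAut.conj_apply,
            zpow_add]
          group
        rw [this]
        exact subset_closure ⟨m + k, rfl⟩
      have := hle ha
      rw [mem_comap] at this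
      simpa only [MulEquiv.toMonoidHom_eq_coe, MonoidHom.coe_coe, MulAut.conj_apply] using this
    have hxp : IsPGroup p (zpowers x) :=
      isPGroup_zpowers_of_orderOf ⟨1, by rw [h.hx, pow_one]⟩
    have hRp : IsPGroup p (zpowers x ⊔ A : Subgroup G) :=
      IsPGroup.to_sup_of_normal_right' hxp hAp hxA
    have hRc := le_centralizer_of_isolated h.hiso hRp
      (mem_sup_left (mem_zpowers x) : x ∈ zpowers x ⊔ A)
    have hsA : s ∈ A := by
      have : c 0 = s := by simp [hc]
      rw [← this]
      exact subset_closure ⟨0, rfl⟩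
    have hsx : s * x = x * s :=
      mem_centralizer_singleton_iff.mp (hRc (mem_sup_right hsA))
    have hs_mem : s ∈ M ⊓ M.map (MulAut.conj x).toMonoidHom := by
      refine ⟨hsM, ?_⟩
      show s ∈ M.map (MulAut.conj x).toMonoidHom
      rw [Cfsg.Agent.Helper1.mem_map_conj_iff]
      have : x⁻¹ * s * x = s := by rw [mul_assoc, hsx]; group
      rw [this]; exact hsM
    rw [hdisj x (mem_zpowers x) hx1, mem_bot] at hs_mem
    rw [hs_mem, orderOf_one] at hsord
    exact hp.ne_one hsord.symm

/-- S2972. -/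
theorem ZStarMinCE.result (h : ZStarMinCE p x) :
    IsSimpleGroup ↥(commutator G) ∧ ¬ IsMulCommutative ↥(commutator G) ∧
      commutator G ⊔ zpowers x = ⊤ := by
  have hp : p.Prime := Fact.out
  have hG' : commutator G ≠ ⊥ := by
    intro h0
    apply h.not_mem_center
    have h1 : (⊤ : Subgroup G) ≤ center G := by
      rw [← commutator_top_left_eq_bot_iff_le_center, ← commutator_def]; exact h0
    exact h1 (mem_top x)
  have hcore := h.pPrimeCore_eq_bot
  have hthird := h.sup_zpowers_eq_top (commutator G) hG'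
  obtain ⟨N, hNle, hNmin⟩ := exists_minimal_le_of_wellFoundedLT
    (fun N : Subgroup G => N.Normal ∧ N ≠ ⊥) (commutator G) ⟨inferInstance, hG'⟩
  obtain ⟨hNn, hN1⟩ := hNmin.prop
  have hNx := h.sup_zpowers_eq_top N hN1
  have hle : commutator G ≤ N := by
    apply commutator_le_of_supp N N (zpowers x) (zpowers x) le_rfl
    · rw [supp_iff_sup, sup_comm]; exact hNx
    · rw [supp_iff_sup, sup_comm]; exact hNx
    · intro a ha b hb
      obtain ⟨i, rfl⟩ := mem_zpowers_iff.mp ha
      obtain ⟨j, rfl⟩ := mem_zpowers_iff.mp hb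
      have : ⁅x ^ i, x ^ j⁆ = 1 := by
        rw [commutatorElement_eq_one_iff_commute]
        exact (Commute.refl x).zpow_zpow i j
      rw [this]; exact one_mem _
  have hEq : N = commutator G := le_antisymm hNle hle
  have hNmin' : ∀ N' : Subgroup G, N'.Normal → N' ≠ ⊥ → N' ≤ N → N ≤ N' :=
    fun N' h1 h2 h3 => hNmin.le_of_le ⟨h1, h2⟩ h3
  have hsimple := h.simple_of_minimal N hN1 hNmin'
  rw [← hEq]
  refine ⟨?_, ?_, hEq ▸ hthird⟩
  · have hnt : Nontrivial ↥N := (nontrivial_iff_ne_bot N).mpr hN1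
    refine ⟨fun H hH => ?_⟩
    have hM₀N : H.map N.subtype ≤ N := map_subtype_le _
    have hNM₀ : N ≤ normalizer ((H.map N.subtype : Subgroup G) : Set G) := by
      apply le_normalizer_of_conj_mem
      rintro n hn _ ⟨y, hy, rfl⟩
      exact ⟨⟨n, hn⟩ * y * ⟨n, hn⟩⁻¹, hH.conj_mem y hy ⟨n, hn⟩, by simp⟩
    rcases hsimple _ hM₀N hNM₀ with h0 | h0
    · left
      exact (map_eq_bot_iff_of_injective H N.subtype_injective).mp h0
    · right
      rw [eq_top_iff]
      intro n _
      have : (n : G) ∈ H.map N.subtype := by rw [h0]; exact n.2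
      obtain ⟨y, hy, hyn⟩ := this
      have : y = n := Subtype.ext hyn
      rw [← this]; exact hy
  · intro hc
    have hpN : p ∣ Nat.card N := by
      by_contra hnd
      apply hN1
      exact eq_bot_of_normalized_coprime hcore N N le_rfl le_normalizer
        ((Nat.Prime.coprime_iff_not_dvd hp).mpr hnd).symm
    obtain ⟨s', hs'⟩ := exists_prime_orderOf_dvd_card' p hpN
    have hsord : orderOf (s' : G) = p := by rw [Subgroup.orderOf_coe]; exact hs'
    have hZN : zpowers (s' : G) ≤ N := zpowers_le.mpr s'.2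
    have hNZ : N ≤ normalizer ((zpowers (s' : G) : Subgroup G) : Set G) := by
      apply le_normalizer_of_conj_mem
      intro n hn y hy
      have hyN : y ∈ N := hZN hy
      have := hc.is_comm.comm (⟨n, hn⟩ : N) ⟨y, hyN⟩
      have h2 : n * y = y * n := congrArg Subtype.val this
      have : n * y * n⁻¹ = y := by rw [h2]; group
      rw [this]; exact hy
    have hZ1 : zpowers (s' : G) ≠ ⊥ := by
      intro h0
      rw [zpowers_eq_bot] at h0
      rw [h0, orderOf_one] at hsord
      exact hp.ne_one hsord.symm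
    have hNeq : zpowers (s' : G) = N := (hsimple _ hZN hNZ).resolve_left hZ1
    have hNp : IsPGroup p N := by
      rw [← hNeq]
      exact isPGroup_zpowers_of_orderOf ⟨1, by rw [hsord, pow_one]⟩
    have hxp : IsPGroup p (zpowers x) :=
      isPGroup_zpowers_of_orderOf ⟨1, by rw [h.hx, pow_one]⟩
    have hxN : zpowers x ≤ normalizer (N : Set G) := by
      rw [normalizer_eq_top N]; exact le_top
    have hRp : IsPGroup p (zpowers x ⊔ N : Subgroup G) :=
      IsPGroup.to_sup_of_normal_right' hxp hNp hxN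
    have hRc := le_centralizer_of_isolated h.hiso hRp
      (mem_sup_left (mem_zpowers x) : x ∈ zpowers x ⊔ N)
    rw [sup_comm, hNx] at hRc
    apply h.not_mem_center
    rw [mem_center_iff]
    intro g
    exact mem_centralizer_singleton_iff.mp (hRc (mem_top g))

end

end Cfsg.Agent.Helper15
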