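import Mathlib
import Cfsg.Agent.Lead.TNC11
import Cfsg.Agent.Helper10.NPCentral

set_option autoImplicit false
set_option linter.unusedSectionVars false
set_option linter.style.haveILetI false

/-! General lemmas for S3073: characteristic subgroups under embeddings, and lifting a normal
`p`-complement through a central subgroup. -/

namespace Cfsg.Agent.Helper15

open Subgroup Cfsg Cfsg.Agent.Lead.TNC

universe u

theorem char_apply_mem {S : Type*} [Group S] {K : Subgroup S} (hK : K.Characteristic)
    (φ : S ≃* S) {x : S} (hx : x ∈ K) : φ x ∈ K := by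
  have h := (characteristic_iff_map_le.mp hK) φ
  exact h ⟨x, hx, rfl⟩

/-- conjugation by an element normalizing the range of an embedding, pulled back -/
theorem exists_aut_of_mem_normalizer_range {S G : Type*} [Group S] [Group G] (f : S →* G)
    (hf : Function.Injective f) {g : G} (hg : g ∈ normalizer (f.range : Set G)) :
    ∃ φ : S ≃* S, ∀ s : S, f (φ s) = g * f s * g⁻¹ := by
  have hg' : g⁻¹ ∈ normalizer (f.range : Set G) := inv_mem hg
  have h1 : ∀ s : S, ∃ t : S, f t = g * f s * g⁻¹ := by
    intro s
    have := (mem_normalizer_iff.mp hg (f s)).mp ⟨s, rfl⟩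
    exact this
  have h2 : ∀ s : S, ∃ t : S, f t = g⁻¹ * f s * g := by
    intro s
    have := (mem_normalizer_iff.mp hg' (f s)).mp ⟨s, rfl⟩
    simpa using this
  choose a ha using h1
  choose b hb using h2
  refine ⟨{ toFun := a, invFun := b, left_inv := ?_, right_inv := ?_, map_mul' := ?_ }, ha⟩
  · intro s
    apply hf
    rw [hb, ha]; group
  · intro s
    apply hf
    rw [ha, hb]; group
  · intro s t
    apply hf
    rw [ha, map_mul, map_mul, ha, ha]; group

/-- the normalizer of the range of an embedding normalizes the image of a characteristic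
subgroup -/
theorem normalizer_range_le_normalizer_map {S G : Type*} [Group S] [Group G] (f : S →* G)
    (hf : Function.Injective f) (K : Subgroup S) (hK : K.Characteristic) :
    normalizer (f.range : Set G) ≤ normalizer ((K.map f : Subgroup G) : Set G) := by
  have key : ∀ g ∈ normalizer (f.range : Set G), ∀ y ∈ K.map f, g * y * g⁻¹ ∈ K.map f := by
    intro g hg y hy
    obtain ⟨s, hs, rfl⟩ := hy
    obtain ⟨φ, hφ⟩ := exists_aut_of_mem_normalizer_range f hf hg
    exact ⟨φ s, char_apply_mem hK φ hs, hφ s⟩
  intro g hg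
  rw [mem_normalizer_iff]
  intro y
  constructor
  · exact key g hg y
  · intro hy
    have := key g⁻¹ (inv_mem hg) _ hy
    have e : g⁻¹ * (g * y * g⁻¹) * g⁻¹⁻¹ = y := by group
    rwa [e] at this

/-- a characteristic subgroup of a characteristic subgroup is characteristic -/
theorem characteristic_map_subtype {S : Type*} [Group S] (S₁ : Subgroup S)
    (hS₁ : S₁.Characteristic) (K₁ : Subgroup S₁) (hK₁ : K₁.Characteristic) :
    (K₁.map S₁.subtype).Characteristic := by
  rw [characteristic_iff_map_le]
  intro φ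
  rintro _ ⟨_, ⟨x, hx, rfl⟩, rfl⟩
  have h1 : ∀ (ψ : S ≃* S) (y : S₁), ψ (y : S) ∈ S₁ := fun ψ y => char_apply_mem hS₁ ψ y.2
  let φ₁ : S₁ ≃* S₁ :=
    { toFun := fun y => ⟨φ y, h1 φ y⟩
      invFun := fun y => ⟨φ.symm y, h1 φ.symm y⟩
      left_inv := fun y => Subtype.ext (by simp)
      right_inv := fun y => Subtype.ext (by simp)
      map_mul' := fun y z => Subtype.ext (by simp) }
  have h2 : φ₁ x ∈ K₁ := char_apply_mem hK₁ φ₁ hx
  exact ⟨φ₁ x, h2, rfl⟩

/-- the preimage of a characteristic subgroup of the quotient by a characteristic subgroup is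
characteristic -/
theorem characteristic_comap_mk {S : Type*} [Group S] (Z : Subgroup S) [hZ : Z.Characteristic]
    (Kb : Subgroup (S ⧸ Z)) (hKb : Kb.Characteristic) :
    (Kb.comap (QuotientGroup.mk' Z)).Characteristic := by
  rw [characteristic_iff_le_comap]
  intro φ x hx
  rw [mem_comap] at hx ⊢
  have hZφ : Z.map φ.toMonoidHom = Z := (characteristic_iff_map_eq.mp hZ) φ
  let φb : S ⧸ Z ≃* S ⧸ Z := QuotientGroup.congr Z Z φ hZφ
  have h1 : φb (QuotientGroup.mk' Z x) ∈ Kb := char_apply_mem hKb φb hx
  exact h1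

variable {p : ℕ} [Fact p.Prime]

theorem map_pResidual_le' {G H : Type*} [Group G] [Group H] (f : G →* H) :
    (pResidual p G).map f ≤ pResidual p H := by
  unfold pResidual
  rw [MonoidHom.map_closure]
  apply Subgroup.closure_mono
  rintro _ ⟨g, hg, rfl⟩
  exact Nat.Coprime.coprime_dvd_left (orderOf_map_dvd f g) hg

/-- lifting a normal `p`-complement through a central subgroup -/
theorem npc_of_quotient_central {G : Type*} [Group G] [Finite G] (Z : Subgroup G) [Z.Normal]
    (hZ : Z ≤ center G) (h : HasNormalPComplement p (G ⧸ Z)) : HasNormalPComplement p G := by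
  obtain ⟨P⟩ : Nonempty (Sylow p G) := inferInstance
  apply Cfsg.Agent.Helper10.hasNormalPComplement_of_central P
  intro x hx r _
  have hsurj := QuotientGroup.mk'_surjective Z
  rw [Cfsg.Agent.Helper9.hasNormalPComplement_iff_inf_pResidual (P.mapSurjective hsurj)] at h
  have h1 : QuotientGroup.mk' Z x ∈ ((P.mapSurjective hsurj : Sylow p (G ⧸ Z)) : Subgroup (G ⧸ Z)) ⊓
      pResidual p (G ⧸ Z) := by
    refine ⟨?_, map_pResidual_le' (QuotientGroup.mk' Z) ⟨x, hx.2, rfl⟩⟩
    rw [Sylow.coe_mapSurjective]
    exact ⟨x, hx.1, rfl⟩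
  rw [h, mem_bot] at h1
  have hxZ : x ∈ Z := by
    rwa [QuotientGroup.mk'_apply, QuotientGroup.eq_one_iff] at h1
  exact (mem_center_iff.mp (hZ hxZ) r).symm

end Cfsg.Agent.Helper15
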