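import Mathlib
import Cfsg.Agent.Helper1.QP63Defs
import Cfsg.Agent.Helper25.QPAlpha
import Cfsg.Agent.Helper23.QP2IF
import Cfsg.Agent.Helper23.QPTRANS

set_option autoImplicit false

/-! board `s5063pieces`, piece CGEN : `G = G₀ C₁` -/

noncomputable section

namespace Cfsg.Agent.QP63

open Cfsg Cfsg.Agent.Helper25.QP Cfsg.Agent.Helper25.QuadPair Cfsg.Agent.QPP

variable {k : Type*} [Field k] {M : Type*} [AddCommGroup M] [Module k M]

local notation "GLkM" => LinearMap.GeneralLinearGroup k M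

theorem CGEN {G : Subgroup GLkM} (hG : IsQuadraticPair G) {r : ℕ}
    {part : Fin r → Set (Subgroup GLkM)} (hP : Parts G part) (hloc : LocHyp G part) :
    G0 G ⊔ C1 G = G := by
  apply le_antisymm
  · apply sup_le
    · exact Cfsg.Agent.QP2.IF1_gen_le
    · unfold C1
      rw [Subgroup.closure_le]
      intro σ hσ
      exact hσ.1.1
  · have hLc : ∀ i, Lc part i ≤ G0 G := by
      intro i
      unfold Lc G0
      refine iSup₂_le fun A hA => ?_
      have hA' : A ∈ quadraticRootSubgroups G := by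
        rw [← hP.cover]
        exact Set.mem_iUnion.mpr ⟨i, hA⟩
      exact le_iSup₂_of_le A hA' le_rfl
    conv_lhs => rw [← hG.2]
    rw [Subgroup.closure_le]
    intro σ hσ
    rcases hloc σ hσ with h | ⟨i, hi⟩
    · have : σ ∈ C1 G := Subgroup.subset_closure ⟨hσ, h⟩
      exact (le_sup_right : C1 G ≤ G0 G ⊔ C1 G) this
    · exact (le_sup_left : G0 G ≤ G0 G ⊔ C1 G) (hLc i hi)

end Cfsg.Agent.QP63

end
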