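import Mathlib
import Cfsg.Agent.Helper1.QP63Defs
import Cfsg.Agent.Helper25.QPAlpha
import Cfsg.Agent.Helper23.QP2IF
import Cfsg.Agent.Helper23.QPTRANS
import Cfsg.Agent.Helper29.QP63RESINJ

set_option autoImplicit false

/-! board `s5063pieces`, piece PULLCOMM -/

noncomputable section

namespace Cfsg.Agent.QP63

open Cfsg Cfsg.Agent.Helper25.QP Cfsg.Agent.Helper25.QuadPair Cfsg.Agent.QPP

variable {k : Type*} [Field k] {M : Type*} [AddCommGroup M] [Module k M]

local notation "GLkM" => LinearMap.GeneralLinearGroup k M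

section pull
variable {G : Subgroup (LinearMap.GeneralLinearGroup k M)} {U : Submodule k M} (hU : Inv (C1 G) U)

theorem PULLCOMM (hsum : Spans (G0 G) U) {X Y : Subgroup (LinearMap.GeneralLinearGroup k ↥U)}
    (h : ⁅X, Y⁆ = ⊥) :
    ⁅pull (C1 G) U hU X, pull (C1 G) U hU Y⁆ = ⊥ := by
  rw [Subgroup.commutator_eq_bot_iff_le_centralizer] at h ⊢
  intro p hp q hq
  obtain ⟨hpC, hpX⟩ := mem_pull.mp hp
  obtain ⟨hqC, hqY⟩ := mem_pull.mp hq
  have hcomm := h hpX _ hqY
  have hinj := RESINJ hU hsum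
  have h2 : (⟨q, hqC⟩ : ↥(C1 G)) * ⟨p, hpC⟩ = ⟨p, hpC⟩ * ⟨q, hqC⟩ := by
    apply hinj
    rw [map_mul, map_mul]
    exact hcomm
  exact congrArg Subtype.val h2

end pull

end Cfsg.Agent.QP63

end
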