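import Mathlib
import Cfsg.Agent.Helper1.QP63Defs
import Cfsg.Agent.Helper25.QPAlpha
import Cfsg.Agent.Helper23.QP2IF
import Cfsg.Agent.Helper23.QPTRANS
import Cfsg.Agent.Helper29.QP63RESQ1

set_option autoImplicit false

/-! board `s5063pieces`, piece PULLCOV -/

noncomputable section

namespace Cfsg.Agent.QP63

open Cfsg Cfsg.Agent.Helper25.QP Cfsg.Agent.Helper25.QuadPair Cfsg.Agent.QPP

variable {k : Type*} [Field k] {M : Type*} [AddCommGroup M] [Module k M]

local notation "GLkM" => LinearMap.GeneralLinearGroup k M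

section pull
variable {G : Subgroup (LinearMap.GeneralLinearGroup k M)} {U : Submodule k M} (hU : Inv (C1 G) U)

theorem PULLCOV (hsum : Spans (G0 G) U) {s : ℕ}
    {X : Fin s → Subgroup (LinearMap.GeneralLinearGroup k ↥U)}
    (h : quadraticElements (resHom (C1 G) U hU).range ⊆
      ⋃ i, (X i : Set (LinearMap.GeneralLinearGroup k ↥U))) :
    QC G ⊆ ⋃ i, (pull (C1 G) U hU (X i) : Set GLkM) := by
  intro σ hσ
  have h1 := h (RESQ1 hU hsum hσ)
  obtain ⟨i, hi⟩ := Set.mem_iUnion.mp h1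
  refine Set.mem_iUnion.mpr ⟨i, ?_⟩
  exact mem_pull.mpr ⟨Subgroup.subset_closure hσ, hi⟩

end pull

end Cfsg.Agent.QP63

end
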