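import Mathlib
import Cfsg.Agent.Helper25.QPDefs2
import Cfsg.Agent.Helper25.QPAct
import Cfsg.Agent.Helper18.SL2Ext5

set_option autoImplicit false

/-! qppieces, piece FIXC : fixed space and commutator space of `⟨E(σ), E(τ)⟩`. -/

noncomputable section

universe u v

namespace Cfsg.Agent.QPP

open Cfsg Cfsg.Agent.Helper25.QP Cfsg.Agent.Helper25.QuadPair Polynomial

variable {k : Type u} [Field k] {M : Type v} [AddCommGroup M] [Module k M]

local notation "GLkM" => LinearMap.GeneralLinearGroup k M

/-- the subgroup of the elements fixing `m` -/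
def FIXC_aux_fixer (m : M) : Subgroup (LinearMap.GeneralLinearGroup k M) where
  carrier := {g | (g : Module.End k M) m = m}
  one_mem' := rfl
  mul_mem' := by
    intro g h hg hh
    show ((g * h : GLkM) : Module.End k M) m = m
    have hg' : (g : Module.End k M) m = m := hg
    have hh' : (h : Module.End k M) m = m := hh
    rw [Units.val_mul, Module.End.mul_apply, hh', hg']
  inv_mem' := by
    intro g hg
    show ((g⁻¹ : GLkM) : Module.End k M) m = m
    have hg' : (g : Module.End k M) m = m := hg
    have h1 : ((g⁻¹ : GLkM) : Module.End k M) ((g : Module.End k M) m) = m := by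
      rw [← Module.End.mul_apply, Units.inv_mul, Module.End.one_apply]
    rwa [hg'] at h1

/-- the subgroup of the elements moving every vector inside `W` -/
def FIXC_aux_mover (W : Submodule k M) : Subgroup (LinearMap.GeneralLinearGroup k M) where
  carrier := {g | ∀ m, (g : Module.End k M) m - m ∈ W}
  one_mem' := by
    intro m
    show ((1 : GLkM) : Module.End k M) m - m ∈ W
    rw [Units.val_one, Module.End.one_apply, sub_self]
    exact W.zero_mem
  mul_mem' := by
    intro g h hg hh m
    have hg' : ∀ m, (g : Module.End k M) m - m ∈ W := hg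
    have hh' : ∀ m, (h : Module.End k M) m - m ∈ W := hh
    have e : ((g * h : GLkM) : Module.End k M) m - m
        = ((g : Module.End k M) ((h : Module.End k M) m) - (h : Module.End k M) m)
          + ((h : Module.End k M) m - m) := by
      rw [Units.val_mul, Module.End.mul_apply]; abel
    rw [e]
    exact W.add_mem (hg' _) (hh' m)
  inv_mem' := by
    intro g hg m
    have hg' : ∀ m, (g : Module.End k M) m - m ∈ W := hg
    have h1 : (g : Module.End k M) (((g⁻¹ : GLkM) : Module.End k M) m) = m := by
      rw [← Module.End.mul_apply, Units.mul_inv, Module.End.one_apply]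
    have h2 := hg' (((g⁻¹ : GLkM) : Module.End k M) m)
    rw [h1] at h2
    have e : ((g⁻¹ : GLkM) : Module.End k M) m - m
        = -(m - ((g⁻¹ : GLkM) : Module.End k M) m) := by abel
    rw [e]
    exact W.neg_mem h2

section s5065
variable [FiniteDimensional k M] {G : Subgroup (LinearMap.GeneralLinearGroup k M)}
  {σ τ : LinearMap.GeneralLinearGroup k M}

theorem FIXC_aux_le_fixer {m : M} (hm : m ∈ LinearMap.ker ((σ : Module.End k M) - 1)) :
    sameActionSubgroup G σ ≤ FIXC_aux_fixer m := by
  unfold sameActionSubgroup
  rw [Subgroup.closure_le]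
  intro e he
  show (e : Module.End k M) m = m
  have h1 : m ∈ LinearMap.ker ((e : M →ₗ[k] M) - 1) := by rw [he.2.1]; exact hm
  rw [LinearMap.mem_ker, LinearMap.sub_apply, Module.End.one_apply] at h1
  exact sub_eq_zero.mp h1

theorem FIXC_aux_le_mover {W : Submodule k M}
    (hW : LinearMap.range ((σ : Module.End k M) - 1) ≤ W) :
    sameActionSubgroup G σ ≤ FIXC_aux_mover W := by
  unfold sameActionSubgroup
  rw [Subgroup.closure_le]
  intro e he m
  have h1 : ((e : M →ₗ[k] M) - 1) m ∈ LinearMap.range ((e : M →ₗ[k] M) - 1) := ⟨m, rfl⟩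
  rw [he.2.2] at h1
  have h2 := hW h1
  rwa [LinearMap.sub_apply, Module.End.one_apply] at h2

/-- fixed space and commutator space of `⟨E, F⟩` -/
theorem FIXC (hσ : σ ∈ minimalQuadraticElements G) (hτ : τ ∈ minimalQuadraticElements G) :
    fixedSubmodule (sameActionSubgroup G σ ⊔ sameActionSubgroup G τ)
        = LinearMap.ker ((σ : Module.End k M) - 1) ⊓ LinearMap.ker ((τ : Module.End k M) - 1) ∧
      commutatorSubmodule (sameActionSubgroup G σ ⊔ sameActionSubgroup G τ)
        = LinearMap.range ((σ : Module.End k M) - 1) ⊔ LinearMap.range ((τ : Module.End k M) - 1) := by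
  have hσE : σ ∈ sameActionSubgroup G σ := Subgroup.subset_closure ⟨hσ, rfl, rfl⟩
  have hτF : τ ∈ sameActionSubgroup G τ := Subgroup.subset_closure ⟨hτ, rfl, rfl⟩
  constructor
  · apply le_antisymm
    · unfold fixedSubmodule
      apply le_inf
      · exact iInf₂_le σ (Subgroup.mem_sup_left hσE)
      · exact iInf₂_le τ (Subgroup.mem_sup_right hτF)
    · intro m hm
      unfold fixedSubmodule
      rw [Submodule.mem_iInf]
      intro g
      rw [Submodule.mem_iInf]
      intro hg
      have hle : sameActionSubgroup G σ ⊔ sameActionSubgroup G τ ≤ FIXC_aux_fixer m :=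
        sup_le (FIXC_aux_le_fixer hm.1) (FIXC_aux_le_fixer hm.2)
      have h1 : (g : Module.End k M) m = m := hle hg
      rw [LinearMap.mem_ker, LinearMap.sub_apply, Module.End.one_apply, sub_eq_zero]
      exact h1
  · apply le_antisymm
    · unfold commutatorSubmodule
      apply iSup₂_le
      intro g hg
      have hle : sameActionSubgroup G σ ⊔ sameActionSubgroup G τ ≤
          FIXC_aux_mover (LinearMap.range ((σ : Module.End k M) - 1) ⊔
            LinearMap.range ((τ : Module.End k M) - 1)) :=
        sup_le (FIXC_aux_le_mover le_sup_left) (FIXC_aux_le_mover le_sup_right)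
      rintro _ ⟨m, rfl⟩
      have h1 := hle hg m
      rwa [LinearMap.sub_apply, Module.End.one_apply]
    · unfold commutatorSubmodule
      apply sup_le
      · exact le_iSup₂ (f := fun g (_ : g ∈ sameActionSubgroup G σ ⊔ sameActionSubgroup G τ) =>
          LinearMap.range ((g : M →ₗ[k] M) - 1)) σ (Subgroup.mem_sup_left hσE)
      · exact le_iSup₂ (f := fun g (_ : g ∈ sameActionSubgroup G σ ⊔ sameActionSubgroup G τ) =>
          LinearMap.range ((g : M →ₗ[k] M) - 1)) τ (Subgroup.mem_sup_right hτF)

end s5065

end Cfsg.Agent.QPP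

end
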