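import Mathlib
import Cfsg.Agent.Helper8.S1904Defs

/-! Board `s1904pieces`, rows WCARD and INV. -/

set_option autoImplicit false
set_option linter.unusedSectionVars false

namespace Cfsg.Agent.S1904P

variable {X : Type*} [Group X] [Finite X] {A : Subgroup (MulAut X)} {B : Subgroup X}

theorem WCARD_aux_normal : (WW X).Normal := by
  constructor
  intro n hn g
  have hc : g * n = n * g := (Subgroup.mem_center_iff.1 hn.1) g
  have : g * n * g⁻¹ = n := by rw [hc]; group
  rw [this]; exact hn

theorem WCARD_aux_comm : ∀ a ∈ WW X, ∀ b ∈ WW X, a * b = b * a := by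
  intro a ha b _
  exact ((Subgroup.mem_center_iff.1 ha.1) b).symm

/-- `W ≠ 1`. -/
theorem WCARD_aux_ne (H : Hyp A) : ∃ w ∈ WW X, w ≠ 1 := by
  obtain ⟨a, b, hab⟩ := H.na
  haveI : Nontrivial X := ⟨⟨a, b, fun h => hab (by rw [h])⟩⟩
  haveI : Nontrivial (Subgroup.center X) := H.pX.center_nontrivial
  have hpc : IsPGroup 2 (Subgroup.center X) := H.pX.to_subgroup _
  obtain ⟨m, hm⟩ := IsPGroup.iff_card.1 hpc
  have hm0 : m ≠ 0 := by
    intro h0
    rw [h0, pow_zero] at hm
    have := Finite.one_lt_card (α := Subgroup.center X)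
    omega
  have hdvd : 2 ∣ Nat.card (Subgroup.center X) := by
    rw [hm]; exact dvd_pow_self 2 hm0
  haveI : Fact (Nat.Prime 2) := ⟨Nat.prime_two⟩
  obtain ⟨x, hx⟩ := exists_prime_orderOf_dvd_card' 2 hdvd
  refine ⟨(x : X), ⟨x.2, ?_⟩, ?_⟩
  · have h2 : x ^ 2 = 1 := by rw [← hx]; exact pow_orderOf_eq_one x
    have h3 : ((x ^ 2 : Subgroup.center X) : X) = 1 := by rw [h2]; rfl
    rw [← h3]; push_cast; rw [pow_two]
  · intro h1
    have hx1 : x = 1 := Subtype.ext h1
    rw [hx1, orderOf_one] at hx
    omega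

/-- WCARD: `|Ω₁(Z(X))|` is 2 or 4. -/
theorem WCARD (H : Hyp A) : Nat.card (WW X) = 2 ∨ Nat.card (WW X) = 4 := by
  have hle : Nat.card (WW X) ≤ 4 :=
    H.noE8 (WW X) WCARD_aux_normal WCARD_aux_comm (fun a ha => ha.2)
  have hp : IsPGroup 2 (WW X) := H.pX.to_subgroup _
  obtain ⟨m, hm⟩ := IsPGroup.iff_card.1 hp
  obtain ⟨w, hw, hw1⟩ := WCARD_aux_ne H
  have hgt : 1 < Nat.card (WW X) := by
    rw [Finite.one_lt_card_iff_nontrivial]
    exact ⟨⟨⟨w, hw⟩, 1, fun h => hw1 (congrArg Subtype.val h)⟩⟩
  rw [hm] at hle hgt ⊢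
  have hm2 : m ≤ 2 := by
    by_contra hlt
    push_neg at hlt
    have : 2 ^ 3 ≤ 2 ^ m := Nat.pow_le_pow_right (by norm_num) hlt
    omega
  interval_cases m
  · omega
  · left; rfl
  · right; rfl

/-- the subgroup `W ∪ tW`. -/
def INV_aux_E (t : X) (ht : t * t = 1) (hc : ∀ x : X, t * x * t⁻¹ * x⁻¹ ∈ WW X) : Subgroup X where
  carrier := {x | x ∈ WW X ∨ t * x ∈ WW X}
  one_mem' := Or.inl (one_mem _)
  mul_mem' := by
    rintro a b (ha | ha) (hb | hb)
    · exact Or.inl (mul_mem ha hb)
    · right
      have hc' : t * a = a * t := (Subgroup.mem_center_iff.1 ha.1) t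
      have : t * (a * b) = a * (t * b) := by
        calc t * (a * b) = (t * a) * b := by group
          _ = (a * t) * b := by rw [hc']
          _ = a * (t * b) := by group
      rw [this]; exact mul_mem ha hb
    · right
      have : t * (a * b) = (t * a) * b := by group
      rw [this]; exact mul_mem ha hb
    · left
      -- a b = (t a) (t b) since t a is central and t t = 1
      have hc' : (t * a) * t = t * (t * a) := ((Subgroup.mem_center_iff.1 ha.1) t).symm
      have : a * b = (t * a) * (t * b) := by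
        calc a * b = (t * t) * a * b := by rw [ht, one_mul]
          _ = t * (t * a) * b := by group
          _ = (t * a) * t * b := by rw [hc']
          _ = (t * a) * (t * b) := by group
      rw [this]; exact mul_mem ha hb
  inv_mem' := by
    rintro a (ha | ha)
    · exact Or.inl (inv_mem ha)
    · right
      -- t a⁻¹ = (t a)⁻¹ conjugated: t a⁻¹ = t (t a)⁻¹ t  (t⁻¹ = t), and (t a)⁻¹ central
      have hti : t⁻¹ = t := by
        have h := congrArg (fun y => t⁻¹ * y) ht
        simp only [mul_one] at h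
        rw [← h]; group
      have hw : (t * a)⁻¹ ∈ WW X := inv_mem ha
      have hc' : t * (t * a)⁻¹ = (t * a)⁻¹ * t := (Subgroup.mem_center_iff.1 hw.1) t
      have : t * a⁻¹ = (t * a)⁻¹ := by
        calc t * a⁻¹ = t * ((t * a)⁻¹ * t) := by group
          _ = t * (t * (t * a)⁻¹) := by rw [hc']
          _ = (t * t) * (t * a)⁻¹ := by group
          _ = (t * a)⁻¹ := by rw [ht, one_mul]
      rw [this]; exact hw

/-- INV: if `|W| = 4`, an element `t` with `t² = 1` and `[t, X] ⊆ W` lies in `W`. -/
theorem INV (H : Hyp A) (h4 : Nat.card (WW X) = 4) (t : X) (ht : t * t = 1)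
    (hc : ∀ x : X, t * x * t⁻¹ * x⁻¹ ∈ WW X) : t ∈ WW X := by
  set E := INV_aux_E t ht hc with hE
  have hti : t⁻¹ = t := by
    have h := congrArg (fun y => t⁻¹ * y) ht
    simp only [mul_one] at h
    rw [← h]; group
  have hWE : WW X ≤ E := fun w hw => Or.inl hw
  have htE : t ∈ E := Or.inr (by rw [ht]; exact one_mem _)
  -- description of the elements of `E`
  have hdesc : ∀ a ∈ E, a ∈ WW X ∨ ∃ w ∈ WW X, a = t * w := by
    rintro a (ha | ha)
    · exact Or.inl ha
    · refine Or.inr ⟨t * a, ha, ?_⟩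
      calc a = (t * t) * a := by rw [ht, one_mul]
        _ = t * (t * a) := by group
  have hcen : ∀ w ∈ WW X, ∀ x : X, x * w = w * x := fun w hw x => (Subgroup.mem_center_iff.1 hw.1) x
  have hEnormal : E.Normal := by
    constructor
    intro n hn g
    rcases hdesc n hn with hw | ⟨w, hw, rfl⟩
    · have : g * n * g⁻¹ = n := by rw [hcen n hw g]; group
      rw [this]; exact hn
    · right
      have h1 := hc g
      rw [hti] at h1
      have : t * (g * (t * w) * g⁻¹) = (t * g * t * g⁻¹) * w := by
        calc t * (g * (t * w) * g⁻¹) = t * g * t * (w * g⁻¹) := by group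
          _ = t * g * t * (g⁻¹ * w) := by rw [hcen w hw g⁻¹]
          _ = (t * g * t * g⁻¹) * w := by group
      rw [this]; exact mul_mem h1 hw
  have hEcomm : ∀ a ∈ E, ∀ b ∈ E, a * b = b * a := by
    intro a ha b hb
    rcases hdesc a ha with hwa | ⟨w, hw, rfl⟩
    · exact (hcen a hwa b).symm
    · rcases hdesc b hb with hwb | ⟨w', hw', rfl⟩
      · exact hcen b hwb _
      · calc t * w * (t * w') = t * (w * t) * w' := by group
          _ = t * (t * w) * w' := by rw [hcen w hw t]
          _ = t * t * (w * w') := by group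
          _ = t * t * (w' * w) := by rw [hcen w' hw' w]
          _ = t * (t * w') * w := by group
          _ = t * (w' * t) * w := by rw [hcen w' hw' t]
          _ = t * w' * (t * w) := by group
  have hEsq : ∀ a ∈ E, a * a = 1 := by
    intro a ha
    rcases hdesc a ha with hwa | ⟨w, hw, rfl⟩
    · exact hwa.2
    · calc t * w * (t * w) = t * (w * t) * w := by group
        _ = t * (t * w) * w := by rw [hcen w hw t]
        _ = (t * t) * (w * w) := by group
        _ = 1 := by rw [ht, hw.2, one_mul]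
  have hcard : Nat.card E ≤ 4 := H.noE8 E hEnormal hEcomm hEsq
  have heq : WW X = E := Subgroup.eq_of_le_of_card_ge hWE (by rw [h4]; exact hcard)
  rw [heq]; exact htE

end Cfsg.Agent.S1904P
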