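import Mathlib
import Cfsg.Agent.Helper14.GLk.Defs
import Cfsg.Agent.Helper14.SLk.Defs

set_option autoImplicit false

/-! S2479, pieces BLOCKX and BLOCKU: the determinant of multiplication by `u` on `F[X] ⧸ (f)` is
the norm of the class of `u` in `AdjoinRoot f`. -/

namespace Cfsg.Agent.S2479P

open Polynomial DirectSum Cfsg.Agent.S2478P

universe u

namespace BLOCKX

theorem mulDet_eq_norm {F : Type*} [Field F] (f u : F[X]) :
    mulDet f u = Algebra.norm F (AdjoinRoot.mk f u) := by
  unfold mulDet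
  rw [Algebra.norm_apply]
  have h : ((LinearMap.lsmul F[X] (F[X] ⧸ Submodule.span F[X] {f}) u).restrictScalars F) =
      (Algebra.lmul F (AdjoinRoot f) (AdjoinRoot.mk f u) : AdjoinRoot f →ₗ[F] AdjoinRoot f) := by
    apply LinearMap.ext
    intro x
    obtain ⟨v, rfl⟩ := AdjoinRoot.mk_surjective x
    rfl
  rw [h]
  rfl

end BLOCKX

-- piece BLOCKX
theorem mulDet_X {F : Type*} [Field F] (f : F[X]) (hf : f.Monic) : mulDet f X = eps f := by
  rw [BLOCKX.mulDet_eq_norm, AdjoinRoot.mk_X]
  have h := Algebra.PowerBasis.norm_gen_eq_coeff_zero_minpoly (AdjoinRoot.powerBasis' hf)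
  have hgen : (AdjoinRoot.powerBasis' hf).gen = AdjoinRoot.root f := rfl
  have hdim : (AdjoinRoot.powerBasis' hf).dim = f.natDegree := rfl
  rw [hgen, hdim, AdjoinRoot.minpoly_root hf.ne_zero, hf.leadingCoeff, inv_one, C_1, mul_one] at h
  exact h

end Cfsg.Agent.S2479P
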