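import Mathlib
import Cfsg.Agent.Helper14.GLk.Defs
import Cfsg.Agent.Helper14.SLk.Defs
import Cfsg.Agent.Helper15.S2479BLOCKX

set_option autoImplicit false

/-! S2479, piece BLOCKU: every unit of a finite field is the determinant of a multiplication on
`F[X] ⧸ (p)`, `p` irreducible (surjectivity of the norm). -/

namespace Cfsg.Agent.S2479P

open Polynomial DirectSum Cfsg.Agent.S2478P

universe u

-- piece BLOCKU
theorem exists_mulDet_eq {F : Type*} [Field F] [Fintype F] (p : F[X]) (hp : p.Monic)
    (hirr : Irreducible p) (c : Fˣ) : ∃ u : F[X], mulDet p u = c := by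
  haveI : Fact (Irreducible p) := ⟨hirr⟩
  haveI : Module.Finite F (AdjoinRoot p) := (AdjoinRoot.powerBasis' hp).finite
  haveI : Finite (AdjoinRoot p) := Module.finite_of_finite F
  obtain ⟨w, hw⟩ := FiniteField.norm_surjective F (AdjoinRoot p) (c : F)
  obtain ⟨u, rfl⟩ := AdjoinRoot.mk_surjective w
  exact ⟨u, by rw [BLOCKX.mulDet_eq_norm]; exact hw⟩

end Cfsg.Agent.S2479P
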