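import Mathlib
import Cfsg.Agent.Helper14.GLk.Defs
import Cfsg.Agent.Helper14.SLk.Defs

set_option autoImplicit false

/-! S2479, piece REGROUP: `∏ eps (p i) ^ e i = dett n (m ↦ ∏_{e i = m} p i)`. -/

namespace Cfsg.Agent.S2479P

open Polynomial DirectSum Cfsg.Agent.S2478P

universe u

namespace REGROUP

theorem eps_one {F : Type*} [Field F] : eps (1 : F[X]) = 1 := by
  simp [eps]

theorem eps_mul {F : Type*} [Field F] (f g : F[X]) (hf : f.Monic) (hg : g.Monic) :
    eps (f * g) = eps f * eps g := by
  unfold eps
  rw [hf.natDegree_mul hg, Polynomial.mul_coeff_zero, pow_add]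
  ring

theorem eps_prod {F : Type*} [Field F] {ι : Type*} (s : Finset ι) (p : ι → F[X])
    (hp : ∀ i ∈ s, (p i).Monic) : eps (∏ i ∈ s, p i) = ∏ i ∈ s, eps (p i) := by
  classical
  induction s using Finset.induction_on with
  | empty => simp [eps_one]
  | insert a s ha ih =>
    rw [Finset.prod_insert ha, Finset.prod_insert ha,
      eps_mul _ _ (hp a (Finset.mem_insert_self a s))
        (Polynomial.monic_prod_of_monic _ _ (fun i hi => hp i (Finset.mem_insert_of_mem hi))),
      ih (fun i hi => hp i (Finset.mem_insert_of_mem hi))]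

end REGROUP

-- piece REGROUP
theorem prod_eps_eq_dett {F : Type u} [Field F] {ι : Type u} [Fintype ι] (p : ι → F[X])
    (e : ι → ℕ) (n : ℕ) (hp : ∀ i, (p i).Monic ∧ 1 ≤ e i)
    (hsum : ∑ i, e i * (p i).natDegree = n) :
    ∏ i, eps (p i) ^ e i = dett n (fun m : ℕ => ∏ i with e i = m, p i) := by
  classical
  unfold dett
  have hbig : ∀ i, ¬ e i < n + 1 → eps (p i) ^ e i = 1 := by
    intro i hi
    have h1 : e i * (p i).natDegree ≤ n := by
      rw [← hsum]
      exact Finset.single_le_sum (f := fun j => e j * (p j).natDegree)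
        (fun _ _ => Nat.zero_le _) (Finset.mem_univ i)
    have h0 : (p i).natDegree = 0 := by
      by_contra h
      have : e i ≤ e i * (p i).natDegree := Nat.le_mul_of_pos_right _ (Nat.pos_of_ne_zero h)
      omega
    rw [Polynomial.eq_one_of_monic_natDegree_zero (hp i).1 h0, REGROUP.eps_one, one_pow]
  have hR : ∀ m ∈ Finset.range (n + 1), eps (∏ i with e i = m, p i) ^ m =
      ∏ i ∈ (Finset.univ.filter (fun i => e i < n + 1)) with e i = m, eps (p i) ^ e i := by
    intro m hm
    rw [REGROUP.eps_prod _ _ (fun i _ => (hp i).1), ← Finset.prod_pow, Finset.filter_filter]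
    have hfil : (Finset.univ.filter (fun i => e i < n + 1 ∧ e i = m)) =
        Finset.univ.filter (fun i => e i = m) := by
      apply Finset.filter_congr
      intro i _
      constructor
      · exact fun h => h.2
      · intro h
        exact ⟨by rw [h]; exact Finset.mem_range.mp hm, h⟩
    rw [hfil]
    apply Finset.prod_congr rfl
    intro i hi
    rw [(Finset.mem_filter.mp hi).2]
  rw [Finset.prod_congr rfl hR,
    Finset.prod_fiberwise_of_maps_to
      (fun i hi => Finset.mem_range.mpr (Finset.mem_filter.mp hi).2)]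
  rw [Finset.prod_filter_of_ne]
  intro i _ hne
  by_contra h
  exact hne (hbig i h)

end Cfsg.Agent.S2479P
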