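import Mathlib
import Cfsg.Prelude.Def_Local
import Cfsg.Agent.Helper14.PCore
import Cfsg.Agent.Helper7.PPrimeCore
import Cfsg.Agent.Helper19.Cores
import Cfsg.Agent.Helper15.ZStarMin

set_option autoImplicit false

/-! S3076: a normal `p`-subgroup `H` of `M`, `C = C_M(H)`, `N` the preimage of `O_p(M/C)`:
`H` is a Sylow `p`-subgroup of `N` iff `C_S(H) ≤ H` and `O_{p',p}(M) = H C`. -/

namespace Cfsg.Agent.Helper15

open Subgroup Cfsg

universe u

section

variable {M : Type u} [Group M] [Finite M]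

/-- `|HN : H| = |N : H ∩ N|` for `N` normal. -/
theorem relIndex_sup_of_normal (H N : Subgroup M) [N.Normal] :
    H.relIndex (H ⊔ N) = (H ⊓ N).relIndex N := by
  have h1 : (H ⊓ N).relIndex H * H.relIndex (H ⊔ N) = (H ⊓ N).relIndex (H ⊔ N) :=
    Subgroup.relIndex_mul_relIndex _ _ _ inf_le_left le_sup_left
  have h2 : (H ⊓ N).relIndex N * N.relIndex (H ⊔ N) = (H ⊓ N).relIndex (H ⊔ N) :=
    Subgroup.relIndex_mul_relIndex _ _ _ inf_le_right le_sup_right
  have h3 : N.relIndex (H ⊔ N) = (H ⊓ N).relIndex H := by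
    rw [Subgroup.relIndex_sup_right, Subgroup.inf_relIndex_left]
  have h4 : (H ⊓ N).relIndex H ≠ 0 := by
    rw [Subgroup.relIndex]; exact Subgroup.index_ne_zero_of_finite
  rw [h3, ← h1, mul_comm] at h2
  exact (Nat.eq_of_mul_eq_mul_left (Nat.pos_of_ne_zero h4) h2).symm

variable {p : ℕ} [Fact p.Prime] (H C : Subgroup M) [hHn : H.Normal] [hCn : C.Normal]

/-- the preimage of `O_p(M/C)` -/
def preOp (p : ℕ) (C : Subgroup M) [C.Normal] : Subgroup M :=
  (pCore p (M ⧸ C)).comap (QuotientGroup.mk' C)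

instance preOp_normal : (preOp p C).Normal :=
  Subgroup.Normal.comap (Cfsg.Agent.Helper14.pCore_normal p) _

theorem le_preOp_self : C ≤ preOp p C := by
  intro c hc
  show (QuotientGroup.mk' C) c ∈ pCore p (M ⧸ C)
  have : (QuotientGroup.mk' C) c = 1 := (QuotientGroup.eq_one_iff c).mpr hc
  rw [this]; exact Subgroup.one_mem _

include hHn in
theorem le_preOp (hHp : IsPGroup p H) : H ≤ preOp p C := by
  intro h hh
  show (QuotientGroup.mk' C) h ∈ pCore p (M ⧸ C)
  have h1 : H.map (QuotientGroup.mk' C) ≤ pCore p (M ⧸ C) :=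
    Cfsg.Agent.Helper14.le_pCore p
      (Subgroup.Normal.map hHn _ (QuotientGroup.mk'_surjective C)) (hHp.map _)
  exact h1 ⟨h, hh, rfl⟩

theorem preOp_pow_mem {x : M} (hx : x ∈ preOp p C) : ∃ a : ℕ, x ^ (p ^ a) ∈ C := by
  have hx' : (QuotientGroup.mk' C) x ∈ pCore p (M ⧸ C) := hx
  obtain ⟨a, ha⟩ := (Cfsg.Agent.Helper14.pCore_isPGroup (G := M ⧸ C) p) ⟨_, hx'⟩
  refine ⟨a, ?_⟩
  have h1 := congrArg Subtype.val ha
  simp only [Subgroup.coe_pow, Subgroup.coe_one] at h1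
  rw [← map_pow] at h1
  exact (QuotientGroup.eq_one_iff _).mp h1

/-- `|N : C|` is a power of `p`. -/
theorem relIndex_preOp : ∃ m : ℕ, C.relIndex (preOp p C) = p ^ m := by
  have h1 : C = (⊥ : Subgroup (M ⧸ C)).comap (QuotientGroup.mk' C) := by
    rw [MonoidHom.comap_bot, QuotientGroup.ker_mk']
  have e : C.relIndex (preOp p C) =
      ((⊥ : Subgroup (M ⧸ C)).comap (QuotientGroup.mk' C)).relIndex (preOp p C) :=
    congrArg (fun X => X.relIndex (preOp p C)) h1
  rw [e, Subgroup.relIndex_comap, Subgroup.relIndex_bot_left]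
  have h2 : (preOp p C).map (QuotientGroup.mk' C) = pCore p (M ⧸ C) :=
    Subgroup.map_comap_eq_self_of_surjective (QuotientGroup.mk'_surjective C) _
  rw [h2]
  exact IsPGroup.iff_card.mp (Cfsg.Agent.Helper14.pCore_isPGroup p)

/-- a number dividing a power of `p` and not divisible by `p` is `1` -/
theorem eq_one_of_dvd_pow_of_not_dvd {d m : ℕ} (h1 : d ∣ p ^ m) (h2 : ¬ p ∣ d) : d = 1 := by
  have hp : p.Prime := Fact.out
  obtain ⟨j, -, rfl⟩ := (Nat.dvd_prime_pow hp).mp h1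
  rcases Nat.eq_zero_or_pos j with rfl | hj
  · simp
  · exact absurd (dvd_pow_self p hj.ne') h2

include hHn in
/-- `p`-subgroups of `N` lie in `H` when `H` is Sylow in `N`. -/
theorem le_of_isPGroup_of_sylow (hHp : IsPGroup p H) (N : Subgroup M) (hHN : H ≤ N)
    (hidx : ¬ p ∣ H.relIndex N) (Q : Subgroup M) (hQN : Q ≤ N) (hQ : IsPGroup p Q) : Q ≤ H := by
  have hQH : IsPGroup p ↥(Q ⊔ H) := hQ.to_sup_of_normal_right hHp
  have hle : Q ⊔ H ≤ N := sup_le hQN hHN
  have h1 : H.relIndex (Q ⊔ H) * (Q ⊔ H).relIndex N = H.relIndex N :=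
    Subgroup.relIndex_mul_relIndex _ _ _ le_sup_right hle
  obtain ⟨m, hm⟩ := IsPGroup.iff_card.mp hQH
  have h2 : H.relIndex (Q ⊔ H) ∣ p ^ m := by
    rw [← hm, Subgroup.relIndex]; exact Subgroup.index_dvd_card _
  have h3 : ¬ p ∣ H.relIndex (Q ⊔ H) := fun h => hidx (h1 ▸ Dvd.dvd.mul_right h _)
  have h4 := eq_one_of_dvd_pow_of_not_dvd h2 h3
  exact le_sup_left.trans (Subgroup.relIndex_eq_one.mp h4)

include hHn in
/-- `N = H C` when `H` is Sylow in `N`. -/
theorem preOp_le_sup (hHp : IsPGroup p H)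
    (hidx : ¬ p ∣ H.relIndex (preOp p C)) : preOp p C ≤ H ⊔ C := by
  obtain ⟨m, hm⟩ := relIndex_preOp (p := p) C
  have h1 : (H ⊔ C).relIndex (preOp p C) ∣ p ^ m := by
    rw [← hm]; exact Subgroup.relIndex_dvd_of_le_left _ le_sup_right
  have h2 : ¬ p ∣ (H ⊔ C).relIndex (preOp p C) := fun h =>
    hidx (h.trans (Subgroup.relIndex_dvd_of_le_left _ le_sup_left))
  exact Subgroup.relIndex_eq_one.mp (eq_one_of_dvd_pow_of_not_dvd h1 h2)

include hHn in
/-- the `p'`-core centralizes the normal `p`-subgroup `H`. -/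
theorem pPrimeCore_le_of_centralizer (hHp : IsPGroup p H)
    (hCdef : ∀ x, x ∈ C ↔ ∀ h ∈ H, h * x = x * h) : pPrimeCore p M ≤ C := by
  have hp : p.Prime := Fact.out
  intro k hk
  rw [hCdef]
  intro h hh
  have hKn : (pPrimeCore p M).Normal := inferInstance
  have hdisj : H ⊓ pPrimeCore p M = ⊥ := by
    apply Subgroup.inf_eq_bot_of_coprime
    obtain ⟨n, hn⟩ := IsPGroup.iff_card.mp hHp
    rw [hn]
    exact Nat.Coprime.pow_left n ((Cfsg.Agent.Helper19.pPrimeCore_coprime (G := M) p).symm)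
  have hmem : h * k * h⁻¹ * k⁻¹ ∈ H ⊓ pPrimeCore p M := by
    constructor
    · have : h * k * h⁻¹ * k⁻¹ = h * (k * h⁻¹ * k⁻¹) := by group
      rw [this]
      exact H.mul_mem hh (hHn.conj_mem _ (H.inv_mem hh) k)
    · exact Subgroup.mul_mem _ (hKn.conj_mem _ hk h) (Subgroup.inv_mem _ hk)
  rw [hdisj, Subgroup.mem_bot] at hmem
  have : h * k = (h * k * h⁻¹ * k⁻¹) * (k * h) := by group
  rw [this, hmem, one_mul]

include hHn in
/-- `O_{p',p}(M) ≤ N`. -/
theorem pPrimePCore_le_preOp (hHp : IsPGroup p H)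
    (hCdef : ∀ x, x ∈ C ↔ ∀ h ∈ H, h * x = x * h) : pPrimePCore p M ≤ preOp p C := by
  have hKC := pPrimeCore_le_of_centralizer H C hHp hCdef
  have hLn : (pPrimePCore p M).Normal :=
    Subgroup.Normal.comap (Cfsg.Agent.Helper14.pCore_normal p) _
  have hpg : IsPGroup p ↥((pPrimePCore p M).map (QuotientGroup.mk' C)) := by
    rintro ⟨_, ⟨x, hx, rfl⟩⟩
    have hx' : (QuotientGroup.mk' (pPrimeCore p M)) x ∈ pCore p (M ⧸ pPrimeCore p M) := hx
    obtain ⟨a, ha⟩ := (Cfsg.Agent.Helper14.pCore_isPGroup (G := M ⧸ pPrimeCore p M) p) ⟨_, hx'⟩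
    refine ⟨a, ?_⟩
    have h1 := congrArg Subtype.val ha
    simp only [Subgroup.coe_pow, Subgroup.coe_one] at h1
    rw [← map_pow] at h1
    have h2 : x ^ (p ^ a) ∈ C := hKC ((QuotientGroup.eq_one_iff _).mp h1)
    apply Subtype.ext
    simp only [Subgroup.coe_pow, Subgroup.coe_one]
    rw [← map_pow]
    exact (QuotientGroup.eq_one_iff _).mpr h2
  have h1 : (pPrimePCore p M).map (QuotientGroup.mk' C) ≤ pCore p (M ⧸ C) :=
    Cfsg.Agent.Helper14.le_pCore p
      (Subgroup.Normal.map hLn _ (QuotientGroup.mk'_surjective C)) hpg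
  intro x hx
  exact h1 ⟨x, hx, rfl⟩

/-- If `C = (H ∩ C) O_{p'}(M)`-ish, then `N ≤ O_{p',p}(M)`. -/
theorem preOp_le_pPrimePCore (hHp : IsPGroup p H)
    (hCdef : ∀ x, x ∈ C ↔ ∀ h ∈ H, h * x = x * h)
    (hX : ∀ c ∈ C, ∃ z ∈ H ⊓ C, ∃ k ∈ pPrimeCore p M, c = z * k) :
    preOp p C ≤ pPrimePCore p M := by
  have hpg : IsPGroup p ↥((preOp p C).map (QuotientGroup.mk' (pPrimeCore p M))) := by
    rintro ⟨_, ⟨x, hx, rfl⟩⟩
    obtain ⟨a, ha⟩ := preOp_pow_mem C hx
    obtain ⟨z, hz, k, hk, hzk⟩ := hX _ ha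
    obtain ⟨b, hb⟩ := hHp ⟨z, hz.1⟩
    have hb' : z ^ (p ^ b) = 1 := by
      have := congrArg Subtype.val hb
      simpa using this
    have hkC : k ∈ C := by
      have : k = z⁻¹ * x ^ (p ^ a) := by rw [hzk]; group
      rw [this]; exact C.mul_mem (C.inv_mem hz.2) ha
    have hcomm : Commute z k := ((hCdef k).mp hkC) z hz.1
    have hpow : x ^ (p ^ (a + b)) = k ^ (p ^ b) := by
      rw [pow_add, pow_mul, hzk, hcomm.mul_pow, hb', one_mul]
    refine ⟨a + b, ?_⟩
    apply Subtype.ext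
    simp only [Subgroup.coe_pow, Subgroup.coe_one]
    rw [← map_pow, hpow]
    exact (QuotientGroup.eq_one_iff _).mpr (Subgroup.pow_mem _ hk _)
  have h1 : (preOp p C).map (QuotientGroup.mk' (pPrimeCore p M)) ≤
      pCore p (M ⧸ pPrimeCore p M) :=
    Cfsg.Agent.Helper14.le_pCore p
      (Subgroup.Normal.map (preOp_normal C) _ (QuotientGroup.mk'_surjective _)) hpg
  intro x hx
  exact h1 ⟨x, hx, rfl⟩

include hCn in
/-- Splitting of `C` over its central Sylow `p`-subgroup `H ∩ C`. -/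
theorem exists_decomp_centralizer (hHp : IsPGroup p H)
    (hCdef : ∀ x, x ∈ C ↔ ∀ h ∈ H, h * x = x * h)
    (hidx : ¬ p ∣ (H ⊓ C).relIndex C) :
    ∀ c ∈ C, ∃ z ∈ H ⊓ C, ∃ k ∈ pPrimeCore p M, c = z * k := by
  have hp : p.Prime := Fact.out
  set Z : Subgroup C := H.subgroupOf C with hZ
  have hZc : Z ≤ center C := by
    intro z hz
    rw [mem_center_iff]
    intro c
    have := ((hCdef (c : M)).mp c.2) (z : M) (mem_subgroupOf.mp hz)
    apply Subtype.ext
    push_cast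
    exact this.symm
  have hZp : IsPGroup p Z := hHp.comap_subtype
  have hcop : (Z.relIndex ⊤).Coprime p := by
    rw [Subgroup.relIndex_top_right, hZ]
    have : (H.subgroupOf C).index = (H ⊓ C).relIndex C := by
      rw [Subgroup.inf_relIndex_right]; rfl
    rw [this]
    exact ((Nat.Prime.coprime_iff_not_dvd hp).mpr hidx).symm
  obtain ⟨K₀, hK₀n, hK₀c, hK₀⟩ :=
    exists_normal_complement_central (G := C) (p := p) Z ⊤ hZc hZp le_top hcop
  have hK₀le : K₀ ≤ pPrimeCore p C := Cfsg.Agent.Helper7.le_pPrimeCore hK₀n hK₀c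
  have hK₁n : ((pPrimeCore p C).map C.subtype).Normal :=
    ConjAct.normal_of_characteristic_of_normal
  have hK₁c : (Nat.card ↥((pPrimeCore p C).map C.subtype)).Coprime p := by
    have : Nat.card ↥((pPrimeCore p C).map C.subtype) = Nat.card ↥(pPrimeCore p C) :=
      (Nat.card_congr ((pPrimeCore p C).equivMapOfInjective _ C.subtype_injective).toEquiv).symm
    rw [this]
    exact Cfsg.Agent.Helper19.pPrimeCore_coprime p
  have hK₁le : (pPrimeCore p C).map C.subtype ≤ pPrimeCore p M :=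
    Cfsg.Agent.Helper7.le_pPrimeCore hK₁n hK₁c
  intro c hc
  have hmem : (⟨c, hc⟩ : C) ∈ Z ⊔ K₀ := hK₀ (Subgroup.mem_top _)
  obtain ⟨z, hz, k, hk, hzk⟩ := Subgroup.mem_sup_of_normal_right.mp hmem
  refine ⟨(z : M), ⟨mem_subgroupOf.mp hz, z.2⟩, (k : M), hK₁le ⟨k, hK₀le hk, rfl⟩, ?_⟩
  have := congrArg Subtype.val hzk
  simpa using this.symm

include hHn hCn in
/-- The abstract form of S3076. -/
theorem sylow_preOp_iff (hHp : IsPGroup p H)
    (hCdef : ∀ x, x ∈ C ↔ ∀ h ∈ H, h * x = x * h)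
    (S : Subgroup M) (hSp : IsPGroup p S) (hSidx : ¬ p ∣ S.index) :
    (¬ p ∣ H.relIndex (preOp p C)) ↔ (S ⊓ C ≤ H ∧ pPrimePCore p M = H ⊔ C) := by
  have hHN : H ≤ preOp p C := le_preOp H C hHp
  have hCN : C ≤ preOp p C := le_preOp_self C
  constructor
  · intro hidx
    have hN : preOp p C = H ⊔ C :=
      le_antisymm (preOp_le_sup H C hHp hidx) (sup_le hHN hCN)
    have hidxC : ¬ p ∣ (H ⊓ C).relIndex C := by
      rw [← relIndex_sup_of_normal H C, ← hN]
      exact hidx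
    refine ⟨?_, ?_⟩
    · exact le_of_isPGroup_of_sylow H hHp _ hHN hidx _ (inf_le_right.trans hCN)
        (hSp.to_le inf_le_left)
    · rw [← hN]
      apply le_antisymm
      · exact pPrimePCore_le_preOp H C hHp hCdef
      · exact preOp_le_pPrimePCore H C hHp hCdef
          (exists_decomp_centralizer H C hHp hCdef hidxC)
  · rintro ⟨hSC, hL⟩
    have hidxC : ¬ p ∣ (H ⊓ C).relIndex C := by
      have h1 : (S ⊓ C).relIndex C = S.relIndex (S ⊔ C) := (relIndex_sup_of_normal S C).symm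
      have h2 : S.relIndex (S ⊔ C) ∣ S.index := by
        rw [← Subgroup.relIndex_mul_index (le_sup_left : S ≤ S ⊔ C)]
        exact Dvd.intro _ rfl
      have h3 : (H ⊓ C).relIndex C ∣ (S ⊓ C).relIndex C :=
        Subgroup.relIndex_dvd_of_le_left _ (le_inf hSC inf_le_right)
      intro h
      exact hSidx ((h.trans h3).trans (h1 ▸ h2))
    have hN : preOp p C = H ⊔ C := by
      apply le_antisymm
      · rw [← hL]
        exact preOp_le_pPrimePCore H C hHp hCdef
          (exists_decomp_centralizer H C hHp hCdef hidxC)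
      · exact sup_le hHN hCN
    rw [hN, relIndex_sup_of_normal H C]
    exact hidxC

end

end Cfsg.Agent.Helper15
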