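import Mathlib
import Cfsg.Agent.Helper28.S3000Defs
import Cfsg.Agent.Helper19.S3000COPR

/-!
# s3000pieces, piece C0odd (helper15)

`p` odd: `[V,A] ∩ C_V(E) = 1` for a package `(A,E)` with toolkit `Tool` (central involution `z` of `E`).
-/

set_option autoImplicit false

namespace Cfsg.Agent.S3000P

open Cfsg.Agent.S2789P Cfsg.Agent.S2999P
open scoped commutatorElement

variable {G : Type*} [Group G]

/-- every element of the subgroup generated by the `a v a⁻¹ v⁻¹` (`v ∈ V`) has this form -/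
theorem C0odd_aux_form {V : Subgroup G} (hVc : ∀ x ∈ V, ∀ y ∈ V, x * y = y * x) {a : G}
    (ha : a ∈ Subgroup.normalizer (V : Set G)) :
    ∀ x ∈ Subgroup.closure {x | ∃ v ∈ V, x = a * v * a⁻¹ * v⁻¹}, ∃ v ∈ V, x = a * v * a⁻¹ * v⁻¹ := by
  have hcv : ∀ v ∈ V, a * v * a⁻¹ ∈ V := fun v hv => (Subgroup.mem_normalizer_iff.1 ha v).1 hv
  intro x hx
  induction hx using Subgroup.closure_induction with
  | mem x hx => exact hx
  | one => exact ⟨1, V.one_mem, by simp⟩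
  | mul x y _ _ ihx ihy =>
    obtain ⟨v, hv, rfl⟩ := ihx
    obtain ⟨v', hv', rfl⟩ := ihy
    refine ⟨v * v', V.mul_mem hv hv', ?_⟩
    have h1 : v⁻¹ * (a * v' * a⁻¹) = (a * v' * a⁻¹) * v⁻¹ := hVc _ (V.inv_mem hv) _ (hcv v' hv')
    have h2 : (v * v')⁻¹ = v⁻¹ * v'⁻¹ := by
      rw [mul_inv_rev]
      exact hVc _ (V.inv_mem hv') _ (V.inv_mem hv)
    rw [h2]
    calc a * v * a⁻¹ * v⁻¹ * (a * v' * a⁻¹ * v'⁻¹)
        = a * v * a⁻¹ * (v⁻¹ * (a * v' * a⁻¹)) * v'⁻¹ := by group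
      _ = a * v * a⁻¹ * ((a * v' * a⁻¹) * v⁻¹) * v'⁻¹ := by rw [h1]
      _ = a * (v * v') * a⁻¹ * (v⁻¹ * v'⁻¹) := by group
  | inv x _ ihx =>
    obtain ⟨v, hv, rfl⟩ := ihx
    refine ⟨v⁻¹, V.inv_mem hv, ?_⟩
    have h1 : v * (a * v⁻¹ * a⁻¹) = (a * v⁻¹ * a⁻¹) * v := hVc _ hv _ (hcv _ (V.inv_mem hv))
    calc (a * v * a⁻¹ * v⁻¹)⁻¹ = v * (a * v⁻¹ * a⁻¹) := by group
      _ = (a * v⁻¹ * a⁻¹) * v := h1
      _ = a * v⁻¹ * a⁻¹ * v⁻¹⁻¹ := by group

variable [Finite G] {p : ℕ} [Fact p.Prime] {V P : Subgroup G} {T : Sylow p ↥P} {M : Subgroup ↥P} {q : ℕ}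

section COV
variable {A E H : Subgroup G} {w : G}

/-- C0odd (M): `p` odd ⇒ `[V,A] ∩ C_V(E) = 1`. -/
theorem C0odd (Hy : Hyp p V P T M) (K : Tool p V P q A E H w) (hp : p ≠ 2) : ⁅V, A⁆ ⊓ fixV V E = ⊥ := by
  obtain ⟨z, hzH, hz1, hzc⟩ := K.hz hp
  have hzE : z ∈ E := K.hHE hzH
  have hZH : Subgroup.zpowers z ≤ H := (Subgroup.zpowers_le).2 hzH
  have hZE : Subgroup.zpowers z ≤ E := hZH.trans K.hHE
  have hVc : ∀ x ∈ V, ∀ y ∈ V, x * y = y * x := by
    intro x hx y hy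
    have := Hy.hV.1.is_comm.comm ⟨x, hx⟩ ⟨y, hy⟩
    exact congrArg Subtype.val this
  have hZV : ∀ h ∈ Subgroup.zpowers z, cjs h V = V := fun h hh => cj_norm (Hy.hPV (K.hEP (hZE hh)))
  have hVp : IsPGroup p ↥V := F2_aux_isPGroup Hy.hV
  have hcopZ : (Nat.card ↥(Subgroup.zpowers z)).Coprime p :=
    Nat.Coprime.coprime_dvd_left (Subgroup.card_dvd_of_le hZH) K.hHp
  have hcop : ∀ X : Subgroup G, X ≤ V → (Nat.card ↥(Subgroup.zpowers z)).Coprime (Nat.card ↥X) := by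
    intro X hX
    obtain ⟨n, hn⟩ := (hVp.to_le hX).exists_card_eq
    rw [hn]
    exact Nat.Coprime.pow_right n hcopZ
  obtain ⟨_, hV2⟩ := COPR hVc hZV (hcop V le_rfl)
  -- the main claim
  have hmain : ⁅V, A⁆ ≤ ⁅V, Subgroup.zpowers z⁆ := by
    rw [Subgroup.commutator_le]
    intro v hv a ha
    by_cases ha1 : a = 1
    · subst ha1
      simp
    have haN : a ∈ Subgroup.normalizer (V : Set G) := Hy.hPV (K.hEP (K.hAE ha))
    set N : Subgroup G := Subgroup.closure {x | ∃ v ∈ V, x = a * v * a⁻¹ * v⁻¹} with hN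
    have hform := C0odd_aux_form hVc haN
    have hcv : ∀ v ∈ V, a * v * a⁻¹ ∈ V := fun v hv => (Subgroup.mem_normalizer_iff.1 haN v).1 hv
    have hNV : N ≤ V := by
      rw [hN, Subgroup.closure_le]
      rintro x ⟨v, hv, rfl⟩
      exact V.mul_mem (hcv v hv) (V.inv_mem hv)
    have hNC : N ⊓ fixV V E = ⊥ := by
      rw [eq_bot_iff]
      rintro x ⟨hxN, hxC⟩
      obtain ⟨v, hv, rfl⟩ := hform x hxN
      have hvA : v ∈ fixV V A := K.hquot a ha ha1 v hv hxC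
      have hcomm : a * v = v * a := (mem_fix.1 hvA).2 a ha
      rw [Subgroup.mem_bot]
      rw [hcomm]
      group
    have hcomm_a : ∀ h ∈ Subgroup.zpowers z, h * a = a * h := by
      intro h hh
      have hzcent : z ∈ Subgroup.centralizer ({a} : Set G) := by
        rw [Subgroup.mem_centralizer_iff]
        intro y hy
        rw [Set.mem_singleton_iff] at hy
        subst hy
        exact (hzc y (K.hAE ha)).symm
      have : h ∈ Subgroup.centralizer ({a} : Set G) := (Subgroup.zpowers_le.2 hzcent) hh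
      rw [Subgroup.mem_centralizer_iff] at this
      exact (this a rfl).symm
    have hZN_le : ∀ h ∈ Subgroup.zpowers z, cjs h N ≤ N := by
      intro h hh x hx
      rw [cj_mem] at hx
      obtain ⟨v, hv, hxv⟩ := hform _ hx
      have hhV : h ∈ Subgroup.normalizer (V : Set G) := Hy.hPV (K.hEP (hZE hh))
      have hv' : h * v * h⁻¹ ∈ V := (Subgroup.mem_normalizer_iff.1 hhV v).1 hv
      have hha := hcomm_a h hh
      have hha' : h * a⁻¹ = a⁻¹ * h := by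
        have : a⁻¹ * (h * a) * a⁻¹ = a⁻¹ * (a * h) * a⁻¹ := by rw [hha]
        have h2 : a⁻¹ * (h * a) * a⁻¹ = a⁻¹ * h := by group
        have h3 : a⁻¹ * (a * h) * a⁻¹ = h * a⁻¹ := by group
        rw [h2, h3] at this
        exact this.symm
      have hx' : x = a * (h * v * h⁻¹) * a⁻¹ * (h * v * h⁻¹)⁻¹ := by
        have e1 : x = h * (h⁻¹ * x * h) * h⁻¹ := by group
        rw [e1, hxv]
        calc h * (a * v * a⁻¹ * v⁻¹) * h⁻¹ = (h * a) * v * (a⁻¹ * (h⁻¹ * h)) * v⁻¹ * h⁻¹ := by group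
          _ = (a * h) * v * (a⁻¹ * (h⁻¹ * h)) * v⁻¹ * h⁻¹ := by rw [hha]
          _ = a * (h * v) * (a⁻¹ * h⁻¹) * (h * v⁻¹ * h⁻¹) := by group
          _ = a * (h * v) * (h * a)⁻¹ * (h * v⁻¹ * h⁻¹) := by rw [mul_inv_rev]
          _ = a * (h * v) * (a * h)⁻¹ * (h * v⁻¹ * h⁻¹) := by rw [hha]
          _ = a * (h * v * h⁻¹) * a⁻¹ * (h * v * h⁻¹)⁻¹ := by group
      rw [hx']
      exact Subgroup.subset_closure ⟨_, hv', rfl⟩
    have hZN : ∀ h ∈ Subgroup.zpowers z, cjs h N = N := by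
      intro h hh
      refine le_antisymm (hZN_le h hh) ?_
      have := cj_mono (g := h) (hZN_le h⁻¹ (Subgroup.inv_mem _ hh))
      rwa [cj_cj_inv] at this
    have hNc : ∀ x ∈ N, ∀ y ∈ N, x * y = y * x := fun x hx y hy => hVc x (hNV hx) y (hNV hy)
    obtain ⟨hN1, _⟩ := COPR hNc hZN (hcop N hNV)
    have hfixN : fixV N (Subgroup.zpowers z) = ⊥ := by
      rw [eq_bot_iff]
      intro x hx
      obtain ⟨hxN, hxc⟩ := mem_fix.1 hx
      have hzx : z * x = x * z := hxc z (Subgroup.mem_zpowers z)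
      have hzx' : z * x * z⁻¹ = x := by rw [hzx]; group
      have hxC : x ∈ fixV V E := K.hfixH z hzH hz1 x (hNV hxN) hzx'
      have : x ∈ N ⊓ fixV V E := ⟨hxN, hxC⟩
      rwa [hNC] at this
    rw [hfixN, sup_bot_eq] at hN1
    have hNle : N ≤ ⁅V, Subgroup.zpowers z⁆ := by
      rw [← hN1]
      exact Subgroup.commutator_mono hNV le_rfl
    apply hNle
    have hmem : a * v * a⁻¹ * v⁻¹ ∈ N := Subgroup.subset_closure ⟨v, hv, rfl⟩
    have : ⁅v, a⁆ = (a * v * a⁻¹ * v⁻¹)⁻¹ := by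
      rw [commutatorElement_def]; group
    rw [this]
    exact N.inv_mem hmem
  rw [eq_bot_iff]
  calc ⁅V, A⁆ ⊓ fixV V E ≤ ⁅V, Subgroup.zpowers z⁆ ⊓ fixV V (Subgroup.zpowers z) :=
        inf_le_inf hmain (fix_anti hZE)
    _ = ⊥ := hV2

end COV

end Cfsg.Agent.S3000P
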