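import Mathlib
import Cfsg.Agent.Helper28.S3000Defs
import Cfsg.Agent.Helper15.S3000C0odd
import Cfsg.Agent.Helper2.S3000TKD4

/-!
# s3000pieces, piece C0two, core (helper15)

`p = 2`: for two packages `(A,E)`, `(A,E')` over the same `A`, both based at `M`:
`[V,A] ∩ C_V(E) = [V,A] ∩ C_V(E')` (the `Y`-argument of the blueprint, in elementwise form).
-/

set_option autoImplicit false

namespace Cfsg.Agent.S3000P

open Cfsg.Agent.S2789P Cfsg.Agent.S2999P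
open scoped commutatorElement

variable {G : Type*} [Group G]

/-- elements of `E ⊔ F` are products when `E` and `F` commute elementwise -/
theorem C0two_aux_mem_sup {E F : Subgroup G} (hc : ∀ x ∈ E, ∀ y ∈ F, x * y = y * x) {x : G} (hx : x ∈ E ⊔ F) :
    ∃ y ∈ E, ∃ z ∈ F, y * z = x := by
  have hc' : ∀ (a : E) (b : F), Commute (E.subtype a) (F.subtype b) := fun a b => hc _ a.2 _ b.2
  have h1 := MonoidHom.noncommCoprod_range E.subtype F.subtype hc'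
  rw [Subgroup.range_subtype, Subgroup.range_subtype] at h1
  rw [← h1] at hx
  obtain ⟨⟨a, b⟩, rfl⟩ := hx
  exact ⟨a, a.2, b, b.2, by simp [MonoidHom.noncommCoprod_apply]⟩

variable [Finite G] {p : ℕ} [Fact p.Prime] {V P : Subgroup G} {T : Sylow p ↥P} {M : Subgroup ↥P} {q : ℕ}

section COV
variable {A E H : Subgroup G} {w : G}
variable {E' H' : Subgroup G} {w' : G}

/-- one inclusion of C0two -/
theorem C0two_aux_le (Hy : Hyp p V P T M) (hq2 : 2 < q) (K : Tool p V P q A E H w)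
    (K' : Tool p V P q A E' H' w') (hB' : Based (MM M) A E') (hp : p = 2)
    (hpt : ∃ z₀ : G, (∀ x ∈ P, x * z₀ = z₀ * x → x ∈ MM M) ∧ (∀ h ∈ H, h ∈ MM M) ∧
      ∃ r₀ ∈ ⁅fixV V A, H⁆, ∃ c₀ ∈ fixV V E ⊓ fixV V E', z₀ = r₀ * c₀ ∧ r₀ ≠ 1) :
    ⁅V, A⁆ ⊓ fixV V E' ≤ fixV V E := by
  have hVc : ∀ x ∈ V, ∀ y ∈ V, x * y = y * x := by
    intro x hx y hy
    have := Hy.hV.1.is_comm.comm ⟨x, hx⟩ ⟨y, hy⟩
    exact congrArg Subtype.val this
  have hAP : A ≤ P := K.hA.le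
  have hHP : H ≤ P := K.hHE.trans K.hEP
  have hRU : ⁅V, A⁆ ≤ fixV V A := F3_quad Hy hAP K.hA.so
  have hUV : fixV V A ≤ V := fix_le V A
  have hCV : fixV V E ≤ V := fix_le V E
  obtain ⟨hRc1, hRc2, hRc3, _⟩ := Tool.Rc Hy K
  obtain ⟨htr, _⟩ := Tool.Rc_act Hy hq2 K
  set Rc : Subgroup G := ⁅fixV V A, H⁆ with hRcdef
  have hRcU : Rc ≤ fixV V A := by
    rw [← hRc1]; exact le_sup_left
  have hRcV : Rc ≤ V := hRcU.trans hUV
  -- `H` normalises `Rc`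
  have hHRc : ∀ h ∈ H, ∀ r ∈ Rc, h * r * h⁻¹ ∈ Rc := by
    intro h hh r hr
    have hU : cjs h (fixV V A) = fixV V A := by
      rw [← cj_fix A (Hy.hPV (hHP hh)), K.hHA h hh]
    have h1 : cjs h Rc = Rc := by
      rw [hRcdef, cj_comm, hU, cj_self hh]
    have : h * r * h⁻¹ ∈ cjs h Rc := cj_mem_conj.2 hr
    rwa [h1] at this
  -- `H` centralises `C`
  have hHC : ∀ h ∈ H, ∀ c ∈ fixV V E, h * c * h⁻¹ = c := by
    intro h hh c hc
    have := (mem_fix.1 hc).2 h (K.hHE hh)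
    rw [this]; group
  -- decomposition of `R`
  have hdec : ∀ y ∈ ⁅V, A⁆, ∃ r ∈ Rc, ∃ c ∈ ⁅V, A⁆ ⊓ fixV V E, y = r * c := by
    intro y hy
    have hyU : y ∈ Rc ⊔ fixV V E := by rw [hRc1]; exact hRU hy
    obtain ⟨r, hr, c, hc, hrc⟩ := C0two_aux_mem_sup (fun x hx z hz => hVc x (hRcV hx) z (hCV hz)) hyU
    refine ⟨r, hr, c, ⟨?_, hc⟩, hrc.symm⟩
    have : c = r⁻¹ * y := by rw [← hrc]; group
    rw [this]
    exact Subgroup.mul_mem _ (Subgroup.inv_mem _ (hRc3 hr)) hy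
  -- a nonidentity element of `A`
  have hAne : ∃ a₀ ∈ A, a₀ ≠ 1 := by
    by_contra hcon
    push Not at hcon
    have hbot : A = ⊥ := (Subgroup.eq_bot_iff_forall _).2 hcon
    have hc := K.hA.card
    rw [hbot, Subgroup.card_bot] at hc
    omega
  obtain ⟨a₀, ha₀, ha₀1⟩ := hAne
  have ha₀N : a₀ ∈ Subgroup.normalizer (V : Set G) := Hy.hPV (hAP ha₀)
  set N₀ : Subgroup G := Subgroup.closure {x | ∃ v ∈ V, x = a₀ * v * a₀⁻¹ * v⁻¹} with hN₀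
  have hform := C0odd_aux_form hVc ha₀N
  have hN₀R : N₀ ≤ ⁅V, A⁆ := by
    rw [hN₀, Subgroup.closure_le]
    rintro x ⟨v, hv, rfl⟩
    have h1 : ⁅v, a₀⁆ ∈ ⁅V, A⁆ := Subgroup.commutator_mem_commutator hv ha₀
    have h2 : a₀ * v * a₀⁻¹ * v⁻¹ = ⁅v, a₀⁆⁻¹ := by
      rw [commutatorElement_def]; group
    rw [h2]
    exact Subgroup.inv_mem _ h1
  have hN₀V : N₀ ≤ V := hN₀R.trans (hRU.trans hUV)
  -- `H`-conjugates of elements of `N₀` lie in `N₀ ⊔ Rc`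
  have hconjN : ∀ h ∈ H, ∀ n ∈ N₀, h * n * h⁻¹ ∈ N₀ ⊔ Rc := by
    intro h hh n hn
    obtain ⟨r, hr, c, hc, hnrc⟩ := hdec n (hN₀R hn)
    have h1 : h * n * h⁻¹ = (h * r * h⁻¹ * r⁻¹) * n := by
      have e1 : h * n * h⁻¹ = (h * r * h⁻¹) * (h * c * h⁻¹) := by rw [hnrc]; group
      rw [e1, hHC h hh c hc.2, hnrc]; group
    rw [h1]
    exact Subgroup.mul_mem _ (Subgroup.mem_sup_right (Subgroup.mul_mem _ (hHRc h hh r hr) (Subgroup.inv_mem _ hr)))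
      (Subgroup.mem_sup_left hn)
  -- `R ≤ N₀ ⊔ Rc`
  have hRD : ⁅V, A⁆ ≤ N₀ ⊔ Rc := by
    rw [Subgroup.commutator_le]
    intro v hv a ha
    by_cases ha1 : a = 1
    · subst ha1; simp
    obtain ⟨h, hh, hha⟩ := K.htransA hp a₀ ha₀ ha₀1 a ha ha1
    have hhN : h ∈ Subgroup.normalizer (V : Set G) := Hy.hPV (hHP hh)
    have hv1 : h⁻¹ * v * h ∈ V := by
      have := (Subgroup.mem_normalizer_iff.1 (Subgroup.inv_mem _ hhN) v).1 hv
      simpa using this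
    have hn : a₀ * (h⁻¹ * v * h) * a₀⁻¹ * (h⁻¹ * v * h)⁻¹ ∈ N₀ := Subgroup.subset_closure ⟨_, hv1, rfl⟩
    have h2 : ⁅v, a⁆ = (h * (a₀ * (h⁻¹ * v * h) * a₀⁻¹ * (h⁻¹ * v * h)⁻¹) * h⁻¹)⁻¹ := by
      rw [commutatorElement_def, ← hha]; group
    rw [h2]
    exact Subgroup.inv_mem _ (hconjN h hh _ hn)
  -- the main argument
  rintro y ⟨hyR, hyC'⟩
  obtain ⟨r, hr, c, hc, hyrc⟩ := hdec y hyR
  by_cases hr1 : r = 1
  · rw [hyrc, hr1, one_mul]; exact hc.2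
  exfalso
  by_cases hc1 : c = 1
  · -- `y = r ∈ Rc ∩ C_V(E')`, `r ≠ 1`: contradiction with `E' ≰ M`
    have hyr : y = r := by rw [hyrc, hc1, mul_one]
    obtain ⟨z₀, hzM, hHM, r₀, hr₀, c₀, hc₀, hz₀rc, hr₀1⟩ := hpt
    have hc₀C' : c₀ ∈ fixV V E' := hc₀.2
    obtain ⟨h, hh, hhr⟩ := htr r hr hr1 r₀ hr₀ hr₀1
    apply hB'.hEM
    intro e' he'
    have hrC' : r ∈ fixV V E' := by rw [← hyr]; exact hyC'
    have e1 : e' * r = r * e' := (mem_fix.1 hrC').2 e' he'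
    have e2 : e' * c₀ = c₀ * e' := (mem_fix.1 hc₀C').2 e' he'
    have e3 : h * c₀ * h⁻¹ = c₀ := hHC h hh c₀ hc₀.1
    have hxP : h * e' * h⁻¹ ∈ P :=
      Subgroup.mul_mem _ (Subgroup.mul_mem _ (hHP hh) (K'.hEP he')) (Subgroup.inv_mem _ (hHP hh))
    have hcomm : (h * e' * h⁻¹) * z₀ = z₀ * (h * e' * h⁻¹) := by
      have hz : z₀ = h * (r * c₀) * h⁻¹ := by
        calc z₀ = r₀ * c₀ := hz₀rc
          _ = (h * r * h⁻¹) * (h * c₀ * h⁻¹) := by rw [hhr, e3]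
          _ = h * (r * c₀) * h⁻¹ := by group
      rw [hz]
      have e4 : e' * (r * c₀) = (r * c₀) * e' := by
        rw [← mul_assoc, e1, mul_assoc, e2, ← mul_assoc]
      calc h * e' * h⁻¹ * (h * (r * c₀) * h⁻¹) = h * (e' * (r * c₀)) * h⁻¹ := by group
        _ = h * ((r * c₀) * e') * h⁻¹ := by rw [e4]
        _ = h * (r * c₀) * h⁻¹ * (h * e' * h⁻¹) := by group
    have hxM : h * e' * h⁻¹ ∈ MM M := hzM _ hxP hcomm
    have hhM : h ∈ MM M := hHM h hh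
    have : e' = h⁻¹ * (h * e' * h⁻¹) * h := by group
    rw [this]
    exact Subgroup.mul_mem _ (Subgroup.mul_mem _ (Subgroup.inv_mem _ hhM) hxM) hhM
  · -- `c ≠ 1`: then `y` lies in some `N_a`, so `y ∉ C_V(E')` unless `y = 1`
    have hcD : c ∈ N₀ ⊔ Rc := hRD hc.1
    obtain ⟨n, hn, r₂, hr₂, hnr⟩ := C0two_aux_mem_sup (fun x hx z hz => hVc x (hN₀V hx) z (hRcV hz)) hcD
    -- `n = r₂⁻¹ * c`
    have hn' : n = r₂⁻¹ * c := by
      have : n = c * r₂⁻¹ := by rw [← hnr]; group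
      rw [this]
      exact hVc c (hCV hc.2) r₂⁻¹ (hRcV (Subgroup.inv_mem _ hr₂))
    have hr₂1 : r₂⁻¹ ≠ 1 := by
      intro h0
      rw [h0, one_mul] at hn'
      -- `n = c ∈ N₀ ∩ C = 1`
      obtain ⟨v, hv, hnv⟩ := hform n hn
      have hvA : v ∈ fixV V A := K.hquot a₀ ha₀ ha₀1 v hv (by rw [← hnv, hn']; exact hc.2)
      have hcomm : a₀ * v = v * a₀ := (mem_fix.1 hvA).2 a₀ ha₀
      apply hc1
      rw [← hn', hnv, hcomm]; group
    obtain ⟨h, hh, hhr⟩ := htr r₂⁻¹ (Subgroup.inv_mem _ hr₂) hr₂1 r hr hr1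
    have hy : y = h * n * h⁻¹ := by
      rw [hyrc, hn', ← hhr]
      have e3 : h * c * h⁻¹ = c := hHC h hh c hc.2
      calc h * r₂⁻¹ * h⁻¹ * c = h * r₂⁻¹ * h⁻¹ * (h * c * h⁻¹) := by rw [e3]
        _ = h * (r₂⁻¹ * c) * h⁻¹ := by group
    obtain ⟨v, hv, hnv⟩ := hform n hn
    have hhN : h ∈ Subgroup.normalizer (V : Set G) := Hy.hPV (hHP hh)
    have hv' : h * v * h⁻¹ ∈ V := (Subgroup.mem_normalizer_iff.1 hhN v).1 hv
    have haA : h * a₀ * h⁻¹ ∈ A := by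
      have : h * a₀ * h⁻¹ ∈ cjs h A := cj_mem_conj.2 ha₀
      rwa [K.hHA h hh] at this
    have ha1 : h * a₀ * h⁻¹ ≠ 1 := by
      intro h0
      apply ha₀1
      have : a₀ = h⁻¹ * (h * a₀ * h⁻¹) * h := by group
      rw [this, h0]; group
    have hy' : y = (h * a₀ * h⁻¹) * (h * v * h⁻¹) * (h * a₀ * h⁻¹)⁻¹ * (h * v * h⁻¹)⁻¹ := by
      rw [hy, hnv]; group
    have hvA : h * v * h⁻¹ ∈ fixV V A := K'.hquot _ haA ha1 _ hv' (by rw [← hy']; exact hyC')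
    have hcomm : (h * a₀ * h⁻¹) * (h * v * h⁻¹) = (h * v * h⁻¹) * (h * a₀ * h⁻¹) := (mem_fix.1 hvA).2 _ haA
    have hy1 : y = 1 := by
      rw [hy', hcomm]; group
    -- `r * c = 1` with `r ∈ Rc`, `c ∈ C`: `r = 1`
    apply hr1
    have hrc : r = c⁻¹ := by
      have : r * c = 1 := by rw [← hyrc, hy1]
      exact eq_inv_of_mul_eq_one_left this
    have : r ∈ Rc ⊓ fixV V E := ⟨hr, by rw [hrc]; exact Subgroup.inv_mem _ hc.2⟩
    rw [hRc2] at this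
    exact (Subgroup.mem_bot).1 this

end COV

end Cfsg.Agent.S3000P
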