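import Mathlib
import Cfsg.Agent.Helper15.KChar1
import Cfsg.Agent.Helper14.FrattiniChain
import Cfsg.Agent.Helper1.PGroup
import Cfsg.Agent.Helper23.OmegaOne

set_option autoImplicit false
set_option linter.unusedSectionVars false
set_option linter.style.haveILetI false

/-! S1946: a Sylow subgroup controlling the fusion of its elements of order `p` (or `4`) has a
normal complement.  The local lemmas. -/

namespace Cfsg.Agent.Helper15

open Subgroup Cfsg.Agent.Helper14
open scoped commutatorElement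

variable {G : Type*} [Group G]

/-- in a nilpotent group `P`, a subgroup `Q ≤ ⁅P, Q⁆` is trivial -/
theorem eq_bot_of_le_commutator (P Q : Subgroup G) [hP : Group.IsNilpotent P] (hQP : Q ≤ P)
    (h : Q ≤ ⁅P, Q⁆) : Q = ⊥ := by
  obtain ⟨n, hn⟩ := (Subgroup.isNilpotent_iff_lowerCentralSeries P).mp hP
  have key : ∀ i, Q ≤ P.lowerCentralSeries i := by
    intro i
    induction i with
    | zero => exact hQP
    | succ i ih =>
      rw [Subgroup.lowerCentralSeries_succ, Subgroup.commutator_comm]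
      exact h.trans (Subgroup.commutator_mono le_rfl ih)
  have := key n
  rw [hn] at this
  exact eq_bot_iff.mpr this

theorem frattini_ne_top_of_nontrivial {Q : Type*} [Group Q] [Finite Q] [Nontrivial Q] :
    frattini Q ≠ ⊤ := by
  intro h
  rcases eq_top_or_exists_le_coatom (⊥ : Subgroup Q) with h1 | ⟨M, hM, -⟩
  · exact bot_ne_top h1
  · have := frattini_le_coatom hM
    rw [h, top_le_iff] at this
    exact hM.1 this

variable {p : ℕ} [Fact p.Prime]

/-- the structure of a minimal subgroup on which a `p'`-element acts nontrivially: its exponent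
divides `p`, or `4` if `p = 2` -/
theorem exponent_of_minimal_noncentralized [Finite G] (Q : Subgroup G) (hQ : IsPGroup p Q) (a : G)
    (haQ : a ∈ normalizer (Q : Set G)) (hcop : Nat.Coprime (orderOf a) p)
    (hmin : ∀ H : Subgroup G, H < Q → a ∈ normalizer (H : Set G) → a ∈ centralizer (H : Set G))
    (hna : a ∉ centralizer (Q : Set G)) :
    ∀ x ∈ Q, x ^ p = 1 ∨ (p = 2 ∧ x ^ 4 = 1) := by
  have hp := (Fact.out : p.Prime)
  obtain ⟨N, hN⟩ : ∃ N : Subgroup G, N = zpowers a := ⟨_, rfl⟩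
  have haN : a ∈ N := by rw [hN]; exact mem_zpowers a
  have hNQ : N ≤ normalizer (Q : Set G) := by rw [hN]; exact zpowers_le.mpr haQ
  -- the chain argument
  have hchain : ∀ D : Subgroup G, D ≤ Q → a ∈ centralizer (D : Set G) → ⁅N, Q⁆ ≤ D → False := by
    intro D hDQ haD hND
    apply hna
    have hND' : N ≤ centralizer (D : Set G) := by rw [hN]; exact zpowers_le.mpr haD
    exact mem_centralizer_of_stabilizes_chain Q D Q N hQ hDQ le_rfl hND' hND haN hcop
  -- `Q` is nontrivial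
  have hQne : Q ≠ ⊥ := by
    intro h
    apply hna
    rw [h, mem_centralizer_iff]
    intro x hx
    rw [SetLike.mem_coe, mem_bot] at hx
    rw [hx]; simp
  haveI : Nontrivial Q := (Subgroup.nontrivial_iff_ne_bot Q).mpr hQne
  -- the Frattini subgroup
  obtain ⟨Φ, hΦ⟩ : ∃ Φ : Subgroup G, Φ = (frattini ↥Q).map Q.subtype := ⟨_, rfl⟩
  have hΦQ : Φ ≤ Q := by rw [hΦ]; exact Subgroup.map_subtype_le _
  have hΦne : Φ ≠ Q := by
    intro h
    apply frattini_ne_top_of_nontrivial (Q := ↥Q)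
    apply Subgroup.map_injective Q.subtype_injective
    rw [← hΦ, h, ← MonoidHom.range_eq_map, Subgroup.range_subtype]
  have hNΦ : normalizer (Q : Set G) ≤ normalizer (Φ : Set G) := by
    have := normalizer_range_le_normalizer_map Q.subtype Q.subtype_injective
      (frattini ↥Q) inferInstance
    rwa [Subgroup.range_subtype, ← hΦ] at this
  have haΦ : a ∈ centralizer (Φ : Set G) := hmin Φ (lt_of_le_of_ne hΦQ hΦne) (hNΦ haQ)
  have hNcΦ : N ≤ centralizer (Φ : Set G) := by rw [hN]; exact zpowers_le.mpr haΦ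
  have hcommΦ : ∀ x ∈ Q, ∀ y ∈ Q, y⁻¹ * x⁻¹ * y * x ∈ Φ := by
    intro x hx y hy
    have h1 : ⁅(⟨y, hy⟩ : Q)⁻¹, (⟨x, hx⟩ : Q)⁻¹⁆ ∈ frattini ↥Q :=
      Cfsg.Agent.Helper1.IsPGroup.commutator_le_frattini hQ
        (Subgroup.commutator_mem_commutator (mem_top _) (mem_top _))
    rw [hΦ]
    refine ⟨_, h1, ?_⟩
    simp [commutatorElement_def]
  have hpowΦ : ∀ x ∈ Q, x ^ p ∈ Φ := by
    intro x hx
    have h1 : (⟨x, hx⟩ : Q) ^ p ∈ frattini ↥Q := Cfsg.Agent.Helper1.IsPGroup.pow_mem_frattini hQ _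
    rw [hΦ]
    exact ⟨_, h1, by simp⟩
  -- `Φ` is central in `Q`
  have hΦc : Q ≤ centralizer (Φ : Set G) := by
    by_contra hcon
    obtain ⟨H, hH⟩ : ∃ H : Subgroup G, H = Q ⊓ centralizer (Φ : Set G) := ⟨_, rfl⟩
    have hHQ : H ≤ Q := by rw [hH]; exact inf_le_left
    have hHlt : H < Q := by
      refine lt_of_le_of_ne hHQ ?_
      intro h
      apply hcon
      rw [← h, hH]
      exact inf_le_right
    have haH : a ∈ normalizer (H : Set G) := by
      apply mem_normalizer_fintype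
      intro h hh
      rw [SetLike.mem_coe, hH] at hh ⊢
      refine ⟨(mem_normalizer_iff.mp haQ h).mp hh.1, ?_⟩
      show a * h * a⁻¹ ∈ centralizer (Φ : Set G)
      rw [mem_centralizer_iff]
      intro d hd
      have h1 : d * a = a * d := mem_centralizer_iff.mp haΦ d hd
      have h2 : d * h = h * d := mem_centralizer_iff.mp hh.2 d hd
      have h3 : a⁻¹ * d = d * a⁻¹ := by
        calc a⁻¹ * d = a⁻¹ * (d * a) * a⁻¹ := by group
          _ = a⁻¹ * (a * d) * a⁻¹ := by rw [h1]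
          _ = d * a⁻¹ := by group
      calc d * (a * h * a⁻¹) = (d * a) * h * a⁻¹ := by group
        _ = a * (d * h) * a⁻¹ := by rw [h1]; group
        _ = a * h * (d * a⁻¹) := by rw [h2]; group
        _ = a * h * a⁻¹ * d := by rw [← h3]; group
    have haHc : a ∈ centralizer (H : Set G) := hmin H hHlt haH
    apply hchain H hHQ haHc
    rw [Subgroup.commutator_le]
    intro b hb x hx
    have hbQ := hNQ hb
    have hbΦ := hNcΦ hb
    rw [hH]
    refine ⟨?_, ?_⟩
    · rw [commutatorElement_def]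
      exact Q.mul_mem ((mem_normalizer_iff.mp hbQ x).mp hx) (Q.inv_mem hx)
    · show ⁅b, x⁆ ∈ centralizer (Φ : Set G)
      rw [mem_centralizer_iff]
      intro d hd
      have hd' : x⁻¹ * d * x ∈ Φ := by
        have := (mem_normalizer_iff.mp (hNΦ (le_normalizer (Q.inv_mem hx))) d).mp hd
        simpa using this
      have h1 : d * b = b * d := mem_centralizer_iff.mp hbΦ d hd
      have h2 : (x⁻¹ * d * x) * b = b * (x⁻¹ * d * x) := mem_centralizer_iff.mp hbΦ _ hd'
      rw [commutatorElement_def]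
      have h3 : d * b * x = b * x * (x⁻¹ * d * x) := by rw [h1]; group
      have h4 : (x⁻¹ * d * x) * b⁻¹ = b⁻¹ * (x⁻¹ * d * x) := by
        calc (x⁻¹ * d * x) * b⁻¹ = b⁻¹ * (b * (x⁻¹ * d * x)) * b⁻¹ := by group
          _ = b⁻¹ * ((x⁻¹ * d * x) * b) * b⁻¹ := by rw [h2]
          _ = b⁻¹ * (x⁻¹ * d * x) := by group
      calc d * (b * x * b⁻¹ * x⁻¹) = (d * b * x) * b⁻¹ * x⁻¹ := by group
        _ = b * x * ((x⁻¹ * d * x) * b⁻¹) * x⁻¹ := by rw [h3]; group
        _ = b * x * (b⁻¹ * (x⁻¹ * d * x)) * x⁻¹ := by rw [h4]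
        _ = b * x * b⁻¹ * x⁻¹ * d := by group
  have hcentral : ∀ d ∈ Φ, ∀ x ∈ Q, Commute d x := by
    intro d hd x hx
    exact mem_centralizer_iff.mp (hΦc hx) d hd
  -- the power map
  obtain ⟨e, he⟩ : ∃ e : ℕ, e = if p = 2 then 4 else p := ⟨_, rfl⟩
  have hcp : ∀ x ∈ Q, ∀ y ∈ Q, (y⁻¹ * x⁻¹ * y * x) ^ p = 1 := by
    intro x hx y hy
    obtain ⟨c, hc⟩ : ∃ c, c = y⁻¹ * x⁻¹ * y * x := ⟨_, rfl⟩
    rw [← hc]
    have hcΦ : c ∈ Φ := hc ▸ hcommΦ x hx y hy
    have hcy : Commute c y := hcentral c hcΦ y hy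
    have h1 : x⁻¹ * y * x = y * c := by rw [hc]; group
    have h2 : (x⁻¹ * y * x) ^ p = x⁻¹ * y ^ p * x := by
      have := (MulAut.conj x⁻¹).toMonoidHom.map_pow y p
      simpa [MulAut.conj_apply] using this.symm
    have h3 : Commute (y ^ p) x := hcentral _ (hpowΦ y hy) x hx
    have h4 : x⁻¹ * y ^ p * x = y ^ p := by
      calc x⁻¹ * y ^ p * x = x⁻¹ * (y ^ p * x) := by group
        _ = x⁻¹ * (x * y ^ p) := by rw [h3.eq]
        _ = y ^ p := by group
    have h5 : (y * c) ^ p = y ^ p * c ^ p := (hcy.symm).mul_pow p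
    rw [h1, h5, h4] at h2
    exact mul_left_cancel (a := y ^ p) (by rw [h2, mul_one])
  have hmulpow : ∀ x ∈ Q, ∀ y ∈ Q, (x * y) ^ e = x ^ e * y ^ e := by
    intro x hx y hy
    obtain ⟨c, hc⟩ : ∃ c, c = y⁻¹ * x⁻¹ * y * x := ⟨_, rfl⟩
    have hcΦ : c ∈ Φ := hc ▸ hcommΦ x hx y hy
    have hcpow : c ^ p = 1 := hc ▸ hcp x hx y hy
    have hyx : y * x = x * y * c := by rw [hc]; group
    have key := Cfsg.Agent.Helper23.mul_pow_of_central_comm x y c hyx
      (hcentral c hcΦ x hx) (hcentral c hcΦ y hy) e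
    rw [key]
    have : c ^ (e * (e - 1) / 2) = 1 := by
      by_cases hp2 : p = 2
      · rw [he, if_pos hp2]
        rw [hp2] at hcpow
        have : (4 * (4 - 1) / 2 : ℕ) = 2 * 3 := by norm_num
        rw [this, pow_mul, hcpow, one_pow]
      · rw [he, if_neg hp2]
        obtain ⟨k, hk⟩ := hp.odd_of_ne_two hp2
        have : p * (p - 1) / 2 = p * k := by
          have : p - 1 = 2 * k := by omega
          rw [this, ← mul_assoc, mul_comm p 2, mul_assoc, Nat.mul_div_cancel_left _ (by norm_num)]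
        rw [this, pow_mul, hcpow, one_pow]
    rw [this, mul_one]
  have hpowe : ∀ x ∈ Q, x ^ e ∈ Φ := by
    intro x hx
    by_cases hp2 : p = 2
    · rw [he, if_pos hp2]
      have h1 := hpowΦ x hx
      rw [hp2] at h1
      have : x ^ 4 = (x ^ 2) ^ 2 := by rw [← pow_mul]
      rw [this]
      exact Φ.pow_mem h1 2
    · rw [he, if_neg hp2]; exact hpowΦ x hx
  -- the kernel of the power map
  obtain ⟨Ω, hΩ⟩ : ∃ Ω : Subgroup G, ∀ x, x ∈ Ω ↔ x ∈ Q ∧ x ^ e = 1 := by
    refine ⟨{ carrier := {x | x ∈ Q ∧ x ^ e = 1}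
              one_mem' := ⟨Q.one_mem, one_pow _⟩
              mul_mem' := ?_
              inv_mem' := ?_ }, fun x => Iff.rfl⟩
    · rintro x y ⟨hx, hxe⟩ ⟨hy, hye⟩
      exact ⟨Q.mul_mem hx hy, by rw [hmulpow x hx y hy, hxe, hye, one_mul]⟩
    · rintro x ⟨hx, hxe⟩
      exact ⟨Q.inv_mem hx, by rw [inv_pow, hxe, inv_one]⟩
  have hΩQ : Ω ≤ Q := fun x hx => ((hΩ x).mp hx).1
  by_cases hΩeq : Ω = Q
  · intro x hx
    have hxe : x ^ e = 1 := ((hΩ x).mp (hΩeq ▸ hx)).2
    by_cases hp2 : p = 2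
    · right
      rw [he, if_pos hp2] at hxe
      exact ⟨hp2, hxe⟩
    · left
      rw [he, if_neg hp2] at hxe
      exact hxe
  · exfalso
    have hΩlt : Ω < Q := lt_of_le_of_ne hΩQ hΩeq
    have haΩ : a ∈ normalizer (Ω : Set G) := by
      apply mem_normalizer_fintype
      intro x hx
      rw [SetLike.mem_coe, hΩ] at hx ⊢
      refine ⟨(mem_normalizer_iff.mp haQ x).mp hx.1, ?_⟩
      have := (MulAut.conj a).toMonoidHom.map_pow x e
      simp only [MulEquiv.coe_toMonoidHom, MulAut.conj_apply] at this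
      rw [← this, hx.2]; group
    have haΩc : a ∈ centralizer (Ω : Set G) := hmin Ω hΩlt haΩ
    apply hchain Ω hΩQ haΩc
    rw [Subgroup.commutator_le]
    intro b hb x hx
    have hbQ := hNQ hb
    have hbΦ := hNcΦ hb
    rw [hΩ, commutatorElement_def]
    have hbx : b * x * b⁻¹ ∈ Q := (mem_normalizer_iff.mp hbQ x).mp hx
    refine ⟨Q.mul_mem hbx (Q.inv_mem hx), ?_⟩
    rw [hmulpow _ hbx _ (Q.inv_mem hx)]
    have h1 : (b * x * b⁻¹) ^ e = b * x ^ e * b⁻¹ := by
      have := (MulAut.conj b).toMonoidHom.map_pow x e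
      simp only [MulEquiv.coe_toMonoidHom, MulAut.conj_apply] at this
      exact this.symm
    have h2 : x ^ e * b = b * x ^ e := mem_centralizer_iff.mp hbΦ _ (hpowe x hx)
    rw [h1, inv_pow]
    calc b * x ^ e * b⁻¹ * (x ^ e)⁻¹ = (b * x ^ e) * b⁻¹ * (x ^ e)⁻¹ := by group
      _ = (x ^ e * b) * b⁻¹ * (x ^ e)⁻¹ := by rw [h2]
      _ = 1 := by group

/-- if `P` controls the fusion of its elements of order dividing `p` (or `4`), then every
`p'`-element normalizing a subgroup `Q ≤ P` centralizes it -/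
theorem centralizes_of_controls_omega [Finite G] (P : Sylow p G)
    (hfus : ∀ a ∈ (P : Subgroup G), (a ^ p = 1 ∨ (p = 2 ∧ a ^ 4 = 1)) → ∀ g : G,
      g * a * g⁻¹ ∈ (P : Subgroup G) → ∃ x ∈ (P : Subgroup G), g * a * g⁻¹ = x * a * x⁻¹) :
    ∀ (n : ℕ) (Q : Subgroup G), Q ≤ (P : Subgroup G) → Nat.card Q = n →
      ∀ a ∈ normalizer (Q : Set G), Nat.Coprime (orderOf a) p → a ∈ centralizer (Q : Set G) := by
  intro n
  induction n using Nat.strong_induction_on with
  | _ n ih =>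
  intro Q hQP hn a haQ hcop
  by_contra hna
  have hQ : IsPGroup p Q := P.2.to_le hQP
  have hmin : ∀ H : Subgroup G, H < Q → a ∈ normalizer (H : Set G) →
      a ∈ centralizer (H : Set G) := by
    intro H hH haH
    have hcard : Nat.card H < n := by
      rw [← hn]
      by_contra hcon
      push Not at hcon
      exact hH.ne (Subgroup.eq_of_le_of_card_ge hH.le hcon)
    exact ih _ hcard H (hH.le.trans hQP) rfl a haH hcop
  have hexp := exponent_of_minimal_noncentralized Q hQ a haQ hcop hmin hna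
  obtain ⟨N, hN⟩ : ∃ N : Subgroup G, N = zpowers a := ⟨_, rfl⟩
  have haN : a ∈ N := by rw [hN]; exact mem_zpowers a
  have hNQ : N ≤ normalizer (Q : Set G) := by rw [hN]; exact zpowers_le.mpr haQ
  have hRQ : ⁅N, Q⁆ ≤ Q := by
    rw [Subgroup.commutator_le]
    intro b hb x hx
    rw [commutatorElement_def]
    exact Q.mul_mem ((mem_normalizer_iff.mp (hNQ hb) x).mp hx) (Q.inv_mem hx)
  have haR : a ∈ normalizer ((⁅N, Q⁆ : Subgroup G) : Set G) := by
    rw [mem_normalizer_iff_map_cj, Subgroup.map_commutator, map_cj_eq_self_of_mem haN,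
      mem_normalizer_iff_map_cj.mp haQ]
  have hReq : ⁅N, Q⁆ = Q := by
    by_contra hne
    have haRc := hmin _ (lt_of_le_of_ne hRQ hne) haR
    apply hna
    have hND' : N ≤ centralizer ((⁅N, Q⁆ : Subgroup G) : Set G) := by
      intro b hb
      rw [hN] at hb
      exact zpowers_le.mpr haRc hb
    exact mem_centralizer_of_stabilizes_chain Q ⁅N, Q⁆ Q N hQ hRQ le_rfl hND' le_rfl haN hcop
  have hle : ⁅N, Q⁆ ≤ ⁅(P : Subgroup G), Q⁆ := by
    rw [Subgroup.commutator_le]
    intro b hb x hx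
    have hbx : b * x * b⁻¹ ∈ Q := (mem_normalizer_iff.mp (hNQ hb) x).mp hx
    obtain ⟨u, hu, hux⟩ := hfus x (hQP hx) (hexp x hx) b (hQP hbx)
    rw [commutatorElement_def, hux]
    exact Subgroup.commutator_mem_commutator hu hx
  rw [hReq] at hle
  haveI : Group.IsNilpotent (P : Subgroup G) := P.2.isNilpotent
  have hbot := eq_bot_of_le_commutator (P : Subgroup G) Q hQP hle
  apply hna
  rw [hbot, mem_centralizer_iff]
  intro x hx
  rw [SetLike.mem_coe, mem_bot] at hx
  rw [hx]; simp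

end Cfsg.Agent.Helper15
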