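import Mathlib
import Cfsg.Agent.Helper26.S3911Defs

set_option autoImplicit false

/-! board `s3912pieces`, piece QA -/

namespace Cfsg.Agent.S3912P

open Cfsg.Agent.S3911P

universe u

/-- QA (M): the image of a Sylow `2`-subgroup in `G ⧸ N`, `|N|` odd, is a Sylow `2`-subgroup isomorphic to it. -/
theorem QA {G : Type u} [Group G] [Finite G] (N : Subgroup G) [N.Normal] (hN : Odd (Nat.card ↥N))
    (P : Sylow 2 G) : ∃ P' : Sylow 2 (G ⧸ N), Nonempty (↥(P : Subgroup G) ≃* ↥(P' : Subgroup (G ⧸ N))) := by
  have hsurj : Function.Surjective (QuotientGroup.mk' N) := QuotientGroup.mk'_surjective N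
  refine ⟨P.mapSurjective hsurj, ?_⟩
  have hcoe : ((P.mapSurjective hsurj : Sylow 2 (G ⧸ N)) : Subgroup (G ⧸ N))
      = (P : Subgroup G).map (QuotientGroup.mk' N) := rfl
  rw [hcoe]
  -- the restriction of the quotient map to `P` is injective
  have hinj : Function.Injective ((QuotientGroup.mk' N).subgroupMap (P : Subgroup G)) := by
    rw [injective_iff_map_eq_one]
    intro x hx
    have hx' : (QuotientGroup.mk' N) (x : G) = 1 := by
      have := congrArg Subtype.val hx
      simpa using this
    have hxN : (x : G) ∈ N := by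
      rw [QuotientGroup.mk'_apply, QuotientGroup.eq_one_iff] at hx'
      exact hx'
    -- the order of `x` is a power of two dividing the odd number `|N|`
    obtain ⟨k, hk⟩ := P.2 x
    have hk' : (x : G) ^ 2 ^ k = 1 := by
      have := congrArg Subtype.val hk
      simpa using this
    have hd1 : orderOf (x : G) ∣ 2 ^ k := orderOf_dvd_of_pow_eq_one hk'
    have hd2 : orderOf (x : G) ∣ Nat.card ↥N := by
      have : orderOf (⟨(x : G), hxN⟩ : ↥N) ∣ Nat.card ↥N := orderOf_dvd_natCard _
      rwa [Subgroup.orderOf_mk] at this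
    have hcop : Nat.Coprime (2 ^ k) (Nat.card ↥N) :=
      Nat.Coprime.pow_left k (Nat.coprime_two_left.mpr hN)
    have h1 : orderOf (x : G) = 1 := Nat.eq_one_of_dvd_coprimes hcop hd1 hd2
    exact Subtype.ext (orderOf_eq_one_iff.mp h1)
  exact ⟨MulEquiv.ofBijective _ ⟨hinj, (QuotientGroup.mk' N).subgroupMap_surjective _⟩⟩

end Cfsg.Agent.S3912P
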