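import Mathlib
import Cfsg.Agent.Helper26.S3911Defs

set_option autoImplicit false

/-! board `s3912pieces`, piece QB -/

namespace Cfsg.Agent.S3912P

open Cfsg.Agent.S3911P

universe u

/-- QB (M/L): `N ⊴ G` of order `2`, `N₂ ⊴ G` with `N ≤ N₂`, `|N₂| = 2 s^t` with `s` an odd prime, `t ≥ 1`:
then `G` has a nontrivial normal subgroup of odd order (the Sylow `s`-subgroup of `N₂`). -/
theorem QB {G : Type*} [Group G] [Finite G] (N N₂ : Subgroup G) [N.Normal] [N₂.Normal] (hNN : N ≤ N₂)
    (hN : Nat.card ↥N = 2) (s t : ℕ) (hs : s.Prime) (hs2 : s ≠ 2) (ht : 1 ≤ t)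
    (hN₂ : Nat.card ↥N₂ = 2 * s ^ t) : ∃ K : Subgroup G, K.Normal ∧ K ≠ ⊥ ∧ Odd (Nat.card ↥K) := by
  haveI : Fact s.Prime := ⟨hs⟩
  obtain ⟨S⟩ : Nonempty (Sylow s ↥N₂) := inferInstance
  have hfac : (2 * s ^ t).factorization s = t := by
    have h2 : (2 : ℕ) ≠ 0 := by norm_num
    have hst : s ^ t ≠ 0 := pow_ne_zero _ hs.ne_zero
    rw [Nat.factorization_mul h2 hst, Nat.factorization_pow]
    simp only [Finsupp.coe_add, Finsupp.coe_smul, Pi.add_apply, Pi.smul_apply, smul_eq_mul]
    rw [Nat.Prime.factorization_self hs, mul_one]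
    have : (Nat.factorization 2) s = 0 := by
      rw [Nat.Prime.factorization Nat.prime_two]
      simp [Finsupp.single_apply, Ne.symm hs2]
    rw [this, zero_add]
  have hScard : Nat.card ↥(S : Subgroup ↥N₂) = s ^ t := by
    rw [Sylow.card_eq_multiplicity, hN₂, hfac]
  have hidx : (S : Subgroup ↥N₂).index = 2 := by
    have h := (S : Subgroup ↥N₂).card_mul_index
    rw [hScard, hN₂] at h
    have hpos : 0 < s ^ t := pow_pos hs.pos t
    have : s ^ t * (S : Subgroup ↥N₂).index = s ^ t * 2 := by rw [h, mul_comm]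
    exact Nat.eq_of_mul_eq_mul_left hpos this
  haveI hSn : (S : Subgroup ↥N₂).Normal := Subgroup.normal_of_index_eq_two hidx
  haveI hSc : (S : Subgroup ↥N₂).Characteristic := Sylow.characteristic_of_normal S hSn
  refine ⟨(S : Subgroup ↥N₂).map N₂.subtype, ?_, ?_, ?_⟩
  · exact ConjAct.normal_of_characteristic_of_normal
  · have hcard : Nat.card ↥((S : Subgroup ↥N₂).map N₂.subtype) = s ^ t := by
      rw [← hScard]
      exact Nat.card_congr
        ((S : Subgroup ↥N₂).equivMapOfInjective N₂.subtype N₂.subtype_injective).symm.toEquiv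
    intro hbot
    rw [hbot, Subgroup.card_bot] at hcard
    have : 1 < s ^ t := Nat.one_lt_pow (by omega) hs.one_lt
    omega
  · have hcard : Nat.card ↥((S : Subgroup ↥N₂).map N₂.subtype) = s ^ t := by
      rw [← hScard]
      exact Nat.card_congr
        ((S : Subgroup ↥N₂).equivMapOfInjective N₂.subtype N₂.subtype_injective).symm.toEquiv
    rw [hcard]
    exact Odd.pow (hs.odd_of_ne_two hs2)

end Cfsg.Agent.S3912P
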