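import Mathlib
import Cfsg.Prelude.Def_Transfer
import Cfsg.Agent.Helper4.S4404Defs

/-! Board `s4404pieces`, rows CNT (`card_modEq_card_cent`) and WCEN (`Wc_eq_bot_iff`). -/

set_option autoImplicit false
set_option linter.unusedSectionVars false

namespace Cfsg.Agent.S4404P

open Subgroup
open scoped commutatorElement

variable {S : Type*} [Group S] [Finite S]

/-- CNT : an `r`-group acting by conjugation on a subgroup `X` it normalises: `|X| ≡ |C_X(G₀)|` mod `r`. -/
theorem card_modEq_card_cent (r : ℕ) [Fact r.Prime] (G₀ X : Subgroup S) (hG₀ : IsPGroup r ↥G₀)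
    (hN : G₀ ≤ normalizer (X : Set S)) :
    Nat.card ↥X ≡ Nat.card ↥(X ⊓ centralizer (G₀ : Set S)) [MOD r] := by
  let act : MulAction ↥G₀ ↥X :=
    { smul := fun g x => ⟨(g : S) * (x : S) * (g : S)⁻¹,
        (Subgroup.mem_normalizer_iff.mp (hN g.2) (x : S)).mp x.2⟩
      one_smul := fun x => by
        apply Subtype.ext
        change ((1 : ↥G₀) : S) * (x : S) * ((1 : ↥G₀) : S)⁻¹ = (x : S)
        simp
      mul_smul := fun g h x => by
        apply Subtype.ext
        change ((g * h : ↥G₀) : S) * (x : S) * ((g * h : ↥G₀) : S)⁻¹ =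
          (g : S) * ((h : S) * (x : S) * (h : S)⁻¹) * (g : S)⁻¹
        simp [mul_assoc] }
  have hsmul : ∀ (g : ↥G₀) (x : ↥X), ((g • x : ↥X) : S) = (g : S) * (x : S) * (g : S)⁻¹ := fun _ _ => rfl
  have h1 := hG₀.card_modEq_card_fixedPoints (↥X)
  have h2 : Nat.card ↥(MulAction.fixedPoints ↥G₀ ↥X) = Nat.card ↥(X ⊓ centralizer (G₀ : Set S)) := by
    apply Nat.card_congr
    refine
      { toFun := fun x => ⟨((x : ↥X) : S), ⟨(x : ↥X).2, ?_⟩⟩
        invFun := fun y => ⟨⟨(y : S), y.2.1⟩, ?_⟩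
        left_inv := fun x => rfl
        right_inv := fun y => rfl }
    · show ((x : ↥X) : S) ∈ centralizer (G₀ : Set S)
      rw [Subgroup.mem_centralizer_iff]
      intro g hg
      have h3 := congrArg Subtype.val (x.2 ⟨g, hg⟩)
      rw [hsmul] at h3
      change g * ((x : ↥X) : S) * g⁻¹ = ((x : ↥X) : S) at h3
      calc g * ((x : ↥X) : S) = g * ((x : ↥X) : S) * g⁻¹ * g := by group
        _ = ((x : ↥X) : S) * g := by rw [h3]
    · intro g
      apply Subtype.ext
      rw [hsmul]
      change (g : S) * (y : S) * (g : S)⁻¹ = (y : S)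
      have h3 := (Subgroup.mem_centralizer_iff.mp y.2.2) (g : S) g.2
      rw [h3, mul_inv_cancel_right]
  rw [← h2]
  exact h1

/-- WCEN : `g` centralises `M` iff `[M, g] = 1`. -/
theorem Wc_eq_bot_iff (M : Subgroup S) (g : S) : Wc M g = ⊥ ↔ g ∈ centralizer (M : Set S) := by
  unfold Wc
  rw [Subgroup.commutator_comm, Subgroup.commutator_eq_bot_iff_le_centralizer, Subgroup.zpowers_le]

end Cfsg.Agent.S4404P
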