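import Mathlib
import Cfsg.Agent.Helper9.S4415Defs

/-! Board `s4415pieces`, rows MOD11 (`comE_zpowers`) and MOD10 (`card_range_sq`). -/

set_option autoImplicit false
set_option linter.unusedVariables false

namespace Cfsg.Agent.S4415P

open Subgroup

variable {S : Type*} [Group S] [Finite S] {E : Type*} [AddCommGroup E] [Module (ZMod 3) E] [Finite E]

/-- the subgroup of all `y` with `ρ y v - v ∈ range (ρ g - 1)` for all `v`. -/
def MOD11_aux_sub (ρ : Representation (ZMod 3) S E) (g : S) : Subgroup S where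
  carrier := {y | ∀ v : E, ρ y v - v ∈ LinearMap.range (Nb ρ g)}
  one_mem' := by
    intro v
    simp
  mul_mem' := by
    intro x y hx hy v
    have h1 := hx (ρ y v)
    have h2 := hy v
    have : ρ (x * y) v - v = (ρ x (ρ y v) - ρ y v) + (ρ y v - v) := by
      rw [map_mul]; simp
    rw [this]
    exact Submodule.add_mem _ h1 h2
  inv_mem' := by
    intro x hx v
    have h1 := hx (ρ x⁻¹ v)
    have h3 : ρ x (ρ x⁻¹ v) = v := by
      rw [← Module.End.mul_apply, ← map_mul]; simp
    have : ρ x⁻¹ v - v = -(ρ x (ρ x⁻¹ v) - ρ x⁻¹ v) := by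
      rw [h3]; abel
    rw [this]
    exact Submodule.neg_mem _ h1

theorem MOD11_aux_mem (ρ : Representation (ZMod 3) S E) (g : S) : g ∈ MOD11_aux_sub ρ g := by
  intro v
  exact ⟨v, by rw [Nb_apply]⟩

/-- MOD11 : `[E, ⟨g⟩] = range (ρ g - 1)`. -/
theorem comE_zpowers (ρ : Representation (ZMod 3) S E) (g : S) :
    ComE ρ (zpowers g) = LinearMap.range (Nb ρ g) := by
  apply le_antisymm
  · apply Submodule.span_le.2
    rintro w ⟨y, hy, v, rfl⟩
    have hle : zpowers g ≤ MOD11_aux_sub ρ g := (Subgroup.zpowers_le).2 (MOD11_aux_mem ρ g)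
    exact hle hy v
  · rintro w ⟨v, rfl⟩
    rw [Nb_apply]
    exact sub_mem_ComE ρ (Subgroup.mem_zpowers g) v

end Cfsg.Agent.S4415P
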