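import Mathlib

set_option autoImplicit false

/-! S5956, piece RESTRKER: kernels of powers of `y - 1` on an invariant subspace. -/

namespace Cfsg.Agent.S5956P

namespace RESTRKER

theorem coe_pow_apply {F V : Type*} [Field F] [AddCommGroup V] [Module F V]
    (y : Module.End F V) (W : Submodule F V) (hW : ∀ v ∈ W, y v ∈ W) (i : ℕ) (w : W) :
    ((((y.restrict hW - 1) ^ i) w : W) : V) = ((y - 1) ^ i) (w : V) := by
  induction i generalizing w with
  | zero => rfl
  | succ i ih =>
    rw [pow_succ, pow_succ, Module.End.mul_apply, Module.End.mul_apply, ih]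
    congr 1

end RESTRKER

/-- RESTRKER: kernels of powers of `y - 1` on an invariant subspace -/
theorem finrank_ker_restrict_pow {F V : Type*} [Field F] [AddCommGroup V] [Module F V]
    [FiniteDimensional F V] (y : Module.End F V) (W : Submodule F V)
    (hW : ∀ v ∈ W, y v ∈ W) (i : ℕ) :
    Module.finrank F (LinearMap.ker ((y.restrict hW - 1) ^ i)) =
      Module.finrank F ↥(W ⊓ LinearMap.ker ((y - 1) ^ i)) := by
  suffices hE : (LinearMap.ker ((y.restrict hW - 1) ^ i)).map W.subtype =
      W ⊓ LinearMap.ker ((y - 1) ^ i) by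
    rw [← Submodule.finrank_map_subtype_eq W (LinearMap.ker ((y.restrict hW - 1) ^ i)), hE]
  ext v
  rw [Submodule.mem_map, Submodule.mem_inf, LinearMap.mem_ker]
  constructor
  · rintro ⟨w, hw, rfl⟩
    rw [LinearMap.mem_ker] at hw
    refine ⟨w.2, ?_⟩
    rw [Submodule.subtype_apply, ← RESTRKER.coe_pow_apply y W hW i w, hw]
    rfl
  · rintro ⟨hvW, hv⟩
    refine ⟨⟨v, hvW⟩, ?_, rfl⟩
    rw [LinearMap.mem_ker]
    apply Subtype.ext
    rw [RESTRKER.coe_pow_apply y W hW i ⟨v, hvW⟩]
    exact hv

end Cfsg.Agent.S5956P
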