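import Mathlib
import Cfsg.Prelude.Def_ClassicalGeometry
import Cfsg.Agent.Helper1.S5956Defs
import Cfsg.Agent.Helper7.S5955PRODB

set_option autoImplicit false
open scoped MatrixGroups

/-! S5956, piece MODELSUM: orthogonal sums of models. -/

namespace Cfsg.Agent.S5956P

open Polynomial Cfsg.Agent.Helper2.SympInvol Cfsg.Agent.Helper2.SympUnits Cfsg.Agent.S5961P
  Cfsg.Agent.S5955P

/-- MODELSUM (uses S5955 `prod_isYSp`) -/
theorem prod_model {F V₁ V₂ : Type*} [Field F] [AddCommGroup V₁] [Module F V₁]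
    [FiniteDimensional F V₁] [AddCommGroup V₂] [Module F V₂] [FiniteDimensional F V₂]
    (B₁ : LinearMap.BilinForm F V₁) (B₂ : LinearMap.BilinForm F V₂)
    (y₁ : Module.End F V₁) (y₂ : Module.End F V₂) (r : ℕ)
    (h₁ : IsYSp B₁ y₁ r) (h₂ : IsYSp B₂ y₂ r) :
    IsYSp (prodB B₁ B₂) (y₁.prodMap y₂) r ∧
    ∀ i : ℕ, Module.finrank F (LinearMap.ker ((y₁.prodMap y₂ - 1) ^ i)) =
      Module.finrank F (LinearMap.ker ((y₁ - 1) ^ i)) +
        Module.finrank F (LinearMap.ker ((y₂ - 1) ^ i)) := by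
  refine ⟨(prod_isYSp B₁ B₂ y₁ y₂ r h₁ h₂).1, fun i => ?_⟩
  rw [PRODB.prodMap_sub_one, PRODB.prodMap_pow, LinearMap.ker_prodMap, PRODB.finrank_prod_sub]

end Cfsg.Agent.S5956P
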