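import Mathlib
import Cfsg.Prelude.Def_ClassicalGeometry
import Cfsg.Agent.Helper1.S5956Defs
import Cfsg.Agent.Helper15.S5956MODELSUM
import Cfsg.Agent.Helper8.S5956MODELV
import Cfsg.Agent.Helper24.S5956MODELW

set_option autoImplicit false
open scoped MatrixGroups
universe u

/-! S5956, piece MODELIND: a model for every admissible Jordan type. -/

namespace Cfsg.Agent.S5956P

open Polynomial Cfsg.Agent.Helper2.SympInvol Cfsg.Agent.Helper2.SympUnits Cfsg.Agent.S5961P
  Cfsg.Agent.S5955P

namespace MODELIND

theorem kdim_cons (a : ℕ) (μ : Multiset ℕ) (i : ℕ) : kdim (a ::ₘ μ) i = min i a + kdim μ i := by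
  unfold kdim
  rw [Multiset.map_cons, Multiset.sum_cons]

/-- the zero model -/
theorem exists_zero_model {F : Type u} [Field F] (r : ℕ) :
    ∃ (V : Type u) (_ : AddCommGroup V) (_ : Module F V) (_ : FiniteDimensional F V)
      (B : LinearMap.BilinForm F V) (y : Module.End F V), IsYSp B y r ∧
      ∀ i : ℕ, Module.finrank F (LinearMap.ker ((y - 1) ^ i)) = 0 := by
  refine ⟨PUnit.{u + 1}, inferInstance, inferInstance, inferInstance, 0, 1, ?_, ?_⟩
  · refine ⟨fun v => rfl, ?_, fun u v => rfl, Subsingleton.elim _ _⟩
    intro m _ hm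
    exact absurd (Subsingleton.elim m 0) hm
  · intro i
    exact Module.finrank_zero_of_subsingleton

end MODELIND

/-- MODELIND (uses MODELV, MODELW, MODELSUM) -/
theorem exists_model_of_multiset {F : Type u} [Field F] {p : ℕ} [Fact p.Prime] [CharP F p]
    (hp2 : p ≠ 2) (μ : Multiset ℕ) (hμ : ∀ a ∈ μ, 0 < a ∧ a ≤ p)
    (hpar : ∀ a : ℕ, Odd a → Even (μ.count a)) :
    ∃ (V : Type u) (_ : AddCommGroup V) (_ : Module F V) (_ : FiniteDimensional F V)
      (B : LinearMap.BilinForm F V) (y : Module.End F V), IsYSp B y p ∧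
      ∀ i : ℕ, Module.finrank F (LinearMap.ker ((y - 1) ^ i)) = kdim μ i := by
  suffices H : ∀ (n : ℕ) (μ : Multiset ℕ), Multiset.card μ = n → (∀ a ∈ μ, 0 < a ∧ a ≤ p) →
      (∀ a : ℕ, Odd a → Even (μ.count a)) →
      ∃ (V : Type u) (_ : AddCommGroup V) (_ : Module F V) (_ : FiniteDimensional F V)
        (B : LinearMap.BilinForm F V) (y : Module.End F V), IsYSp B y p ∧
        ∀ i : ℕ, Module.finrank F (LinearMap.ker ((y - 1) ^ i)) = kdim μ i from
    H _ μ rfl hμ hpar
  intro n
  induction n using Nat.strong_induction_on with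
  | _ n ih =>
    intro μ hcard hμ hpar
    by_cases h0 : μ = 0
    · subst h0
      exact MODELIND.exists_zero_model p
    · obtain ⟨a, ha⟩ := Multiset.exists_mem_of_ne_zero h0
      obtain ⟨ha0, hap⟩ := hμ a ha
      rcases Nat.even_or_odd a with hae | hao
      · -- even part: split off one block
        have hμeq : a ::ₘ μ.erase a = μ := Multiset.cons_erase ha
        have hc : Multiset.card (μ.erase a) < n := by
          rw [← hcard, ← hμeq, Multiset.card_cons, hμeq]
          exact Nat.lt_succ_self _
        have hμ' : ∀ b ∈ μ.erase a, 0 < b ∧ b ≤ p :=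
          fun b hb => hμ b (Multiset.mem_of_mem_erase hb)
        have hpar' : ∀ b : ℕ, Odd b → Even ((μ.erase a).count b) := by
          intro b hb
          have hne : b ≠ a := by
            rintro rfl
            exact (Nat.not_even_iff_odd.mpr hb) hae
          rw [Multiset.count_erase_of_ne hne]
          exact hpar b hb
        obtain ⟨V', _, _, _, B', y', hY', hk'⟩ := ih _ hc (μ.erase a) rfl hμ' hpar'
        obtain ⟨V₁, _, _, _, B₁, y₁, hY₁, hk₁⟩ := exists_model_cyclic (F := F) hp2 a hae ha0 hap
        obtain ⟨hP, hkP⟩ := prod_model B₁ B' y₁ y' p hY₁ hY'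
        refine ⟨V₁ × V', inferInstance, inferInstance, inferInstance, prodB B₁ B',
          y₁.prodMap y', hP, fun i => ?_⟩
        rw [hkP i, hk₁ i, hk' i, ← hμeq, MODELIND.kdim_cons, hμeq]
      · -- odd part: split off two blocks
        have hev := hpar a hao
        have hpos : 0 < μ.count a := Multiset.count_pos.mpr ha
        have h2 : 2 ≤ μ.count a := by
          obtain ⟨x, hx⟩ := hev
          omega
        have ha' : a ∈ μ.erase a := by
          rw [← Multiset.count_pos, Multiset.count_erase_self]
          omega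
        have hμeq : a ::ₘ a ::ₘ (μ.erase a).erase a = μ := by
          rw [Multiset.cons_erase ha', Multiset.cons_erase ha]
        have hc : Multiset.card ((μ.erase a).erase a) < n := by
          rw [← hcard]
          conv_rhs => rw [← hμeq]
          rw [Multiset.card_cons, Multiset.card_cons]
          omega
        have hμ' : ∀ b ∈ (μ.erase a).erase a, 0 < b ∧ b ≤ p :=
          fun b hb => hμ b (Multiset.mem_of_mem_erase (Multiset.mem_of_mem_erase hb))
        have hpar' : ∀ b : ℕ, Odd b → Even (((μ.erase a).erase a).count b) := by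
          intro b hb
          by_cases hba : b = a
          · subst hba
            rw [Multiset.count_erase_self, Multiset.count_erase_self]
            obtain ⟨x, hx⟩ := hev
            exact ⟨x - 1, by omega⟩
          · rw [Multiset.count_erase_of_ne hba, Multiset.count_erase_of_ne hba]
            exact hpar b hb
        obtain ⟨V', _, _, _, B', y', hY', hk'⟩ :=
          ih _ hc ((μ.erase a).erase a) rfl hμ' hpar'
        obtain ⟨V₁, _, _, _, B₁, y₁, hY₁, hk₁⟩ := exists_model_double (F := F) a ha0 hap
        obtain ⟨hP, hkP⟩ := prod_model B₁ B' y₁ y' p hY₁ hY'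
        refine ⟨V₁ × V', inferInstance, inferInstance, inferInstance, prodB B₁ B',
          y₁.prodMap y', hP, fun i => ?_⟩
        rw [hkP i, hk₁ i, hk' i]
        conv_rhs => rw [← hμeq]
        rw [ MODELIND.kdim_cons, MODELIND.kdim_cons]
        ring

end Cfsg.Agent.S5956P
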