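import Mathlib
import Cfsg.Prelude.Def_ClassicalGeometry
import Cfsg.Agent.Helper1.S5956Defs
import Cfsg.Agent.Helper25.S5955TRANSPORT

set_option autoImplicit false
open scoped MatrixGroups

/-! S5956, piece TRANSPORTK: a model is realised by a symplectic matrix with the same kernel
dimensions. -/

namespace Cfsg.Agent.S5956P

open Polynomial Cfsg.Agent.Helper2.SympInvol Cfsg.Agent.Helper2.SympUnits Cfsg.Agent.S5961P
  Cfsg.Agent.S5955P

namespace TRANSPORTK

theorem conj_pow {F V W : Type*} [Field F] [AddCommGroup V] [Module F V] [AddCommGroup W]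
    [Module F W] (e : V ≃ₗ[F] W) (y : Module.End F V) (X : Module.End F W)
    (h : ∀ v, e (y v) = X (e v)) (k : ℕ) (v : V) : (X ^ k) (e v) = e ((y ^ k) v) := by
  induction k generalizing v with
  | zero => rfl
  | succ k ih => rw [pow_succ, pow_succ, Module.End.mul_apply, Module.End.mul_apply, ← h, ih]

theorem ker_map {F V W : Type*} [Field F] [AddCommGroup V] [Module F V] [AddCommGroup W]
    [Module F W] (e : V ≃ₗ[F] W) (y : Module.End F V) (X : Module.End F W)
    (h : ∀ v, e (y v) = X (e v)) :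
    (LinearMap.ker y).map (e : V →ₗ[F] W) = LinearMap.ker X := by
  ext w
  rw [Submodule.mem_map, LinearMap.mem_ker]
  constructor
  · rintro ⟨v, hv, rfl⟩
    rw [LinearMap.mem_ker] at hv
    rw [LinearEquiv.coe_coe, ← h, hv, map_zero]
  · intro hw
    refine ⟨e.symm w, ?_, by rw [LinearEquiv.coe_coe, LinearEquiv.apply_symm_apply]⟩
    rw [LinearMap.mem_ker]
    apply e.injective
    rw [h, LinearEquiv.apply_symm_apply, hw, map_zero]

end TRANSPORTK

/-- TRANSPORTK (uses S5955 `exists_sp_of_ysp`) -/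
theorem exists_sp_of_model {F V : Type*} [Field F] [AddCommGroup V] [Module F V]
    [FiniteDimensional F V] (B : LinearMap.BilinForm F V) (y : Module.End F V) (r : ℕ)
    (h : IsYSp B y r) (d : ℕ) (hd : Module.finrank F V = 2 * d) :
    ∃ x : Matrix.symplecticGroup (Fin d) F,
      (x : Matrix (Fin d ⊕ Fin d) (Fin d ⊕ Fin d) F) ^ r = 1 ∧
      ∀ i : ℕ, Module.finrank F (LinearMap.ker
        ((Matrix.toLin' (x : Matrix (Fin d ⊕ Fin d) (Fin d ⊕ Fin d) F) - 1) ^ i)) =
        Module.finrank F (LinearMap.ker ((y - 1) ^ i)) := by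
  obtain ⟨x, e, _, hxe⟩ := exists_sp_of_ysp B y r h d hd
  refine ⟨x, ?_, ?_⟩
  · apply Matrix.toLin'.injective
    rw [Matrix.toLin'_pow, Matrix.toLin'_one]
    apply LinearMap.ext
    intro w
    obtain ⟨v, rfl⟩ := e.surjective w
    rw [TRANSPORTK.conj_pow e y _ hxe r v, h.pow]
    rfl
  · intro i
    have h1 : ∀ v, e ((y - 1) v) =
        (Matrix.toLin' (x : Matrix (Fin d ⊕ Fin d) (Fin d ⊕ Fin d) F) - 1) (e v) := by
      intro v
      rw [LinearMap.sub_apply, LinearMap.sub_apply, map_sub, hxe]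
      rfl
    have h2 : ∀ v, e (((y - 1) ^ i) v) =
        ((Matrix.toLin' (x : Matrix (Fin d ⊕ Fin d) (Fin d ⊕ Fin d) F) - 1) ^ i) (e v) :=
      fun v => (TRANSPORTK.conj_pow e (y - 1) _ h1 i v).symm
    rw [← TRANSPORTK.ker_map e _ _ h2, LinearEquiv.finrank_map_eq]

end Cfsg.Agent.S5956P
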