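import Mathlib
import Cfsg.Prelude.Def_ClassicalGeometry
import Cfsg.Agent.Helper1.S5956Defs

set_option autoImplicit false

/-! S5956, piece UNIQ: a multiset of positive integers is determined by its kernel-dimension
function. -/

namespace Cfsg.Agent.S5956P

namespace UNIQ

/-- the number of parts `≥ i` -/
def cge (μ : Multiset ℕ) (i : ℕ) : ℕ := Multiset.card (μ.filter (fun b => i ≤ b))

theorem kdim_cons (a : ℕ) (μ : Multiset ℕ) (i : ℕ) : kdim (a ::ₘ μ) i = min i a + kdim μ i := by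
  unfold kdim
  rw [Multiset.map_cons, Multiset.sum_cons]

theorem cge_cons (a : ℕ) (μ : Multiset ℕ) (i : ℕ) :
    cge (a ::ₘ μ) i = (if i ≤ a then 1 else 0) + cge μ i := by
  unfold cge
  by_cases h : i ≤ a
  · rw [Multiset.filter_cons_of_pos _ h, Multiset.card_cons, if_pos h, add_comm]
  · rw [Multiset.filter_cons_of_neg _ h, if_neg h, zero_add]

theorem cge_zero (i : ℕ) : cge 0 i = 0 := rfl

theorem kdim_succ (μ : Multiset ℕ) (i : ℕ) : kdim μ (i + 1) = kdim μ i + cge μ (i + 1) := by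
  induction μ using Multiset.induction_on with
  | empty => rfl
  | cons a μ ih =>
    rw [kdim_cons, kdim_cons, cge_cons, ih]
    have : min (i + 1) a = min i a + (if i + 1 ≤ a then 1 else 0) := by
      split_ifs <;> omega
    omega

theorem count_add_cge (μ : Multiset ℕ) (b : ℕ) : μ.count b + cge μ (b + 1) = cge μ b := by
  induction μ using Multiset.induction_on with
  | empty => rfl
  | cons a μ ih =>
    rw [Multiset.count_cons, cge_cons, cge_cons]
    split_ifs <;> omega

end UNIQ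

/-- UNIQ: a multiset of positive integers is determined by its kernel-dimension function -/
theorem multiset_eq_of_kdim {μ₁ μ₂ : Multiset ℕ} (h₁ : ∀ b ∈ μ₁, 0 < b) (h₂ : ∀ b ∈ μ₂, 0 < b)
    (h : ∀ i : ℕ, kdim μ₁ i = kdim μ₂ i) : μ₁ = μ₂ := by
  have hc : ∀ i, UNIQ.cge μ₁ (i + 1) = UNIQ.cge μ₂ (i + 1) := by
    intro i
    have e1 := UNIQ.kdim_succ μ₁ i
    have e2 := UNIQ.kdim_succ μ₂ i
    have e3 := h i
    have e4 := h (i + 1)
    omega
  ext b
  rcases Nat.eq_zero_or_pos b with rfl | hb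
  · rw [Multiset.count_eq_zero_of_notMem (fun hm => lt_irrefl 0 (h₁ 0 hm)),
      Multiset.count_eq_zero_of_notMem (fun hm => lt_irrefl 0 (h₂ 0 hm))]
  · obtain ⟨b', rfl⟩ : ∃ b', b = b' + 1 := ⟨b - 1, by omega⟩
    have e1 := UNIQ.count_add_cge μ₁ (b' + 1)
    have e2 := UNIQ.count_add_cge μ₂ (b' + 1)
    have e3 := hc b'
    have e4 := hc (b' + 1)
    omega

end Cfsg.Agent.S5956P
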