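import Mathlib
import Cfsg.Prelude.Def_ClassicalGeometry
import Cfsg.Agent.Helper1.S5956Defs

set_option autoImplicit false

/-! S5956, piece COMB: choosing summands realising a sub-multiset. -/

namespace Cfsg.Agent.S5956P

namespace COMB

theorem blockMS_succ {k : ℕ} (a : Fin (k + 1) → ℕ) :
    blockMS a = Multiset.replicate (mult (a 0)) (a 0) + blockMS (Fin.tail a) := by
  unfold blockMS
  rw [Fin.sum_univ_succ]
  rfl

theorem even_count_blockMS {k : ℕ} (a : Fin k → ℕ) (b : ℕ) (hb : Odd b) :
    Even ((blockMS a).count b) := by
  unfold blockMS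
  rw [Multiset.count_sum']
  apply Finset.even_sum
  intro j _
  rw [Multiset.count_replicate]
  split_ifs with h
  · rw [h, mult_odd hb]
    exact even_two
  · exact Even.zero

end COMB

/-- COMB: choosing summands realising a sub-multiset -/
theorem exists_subfamily {k : ℕ} (a : Fin k → ℕ) (ν : Multiset ℕ) (hν : ν ≤ blockMS a)
    (hpar : ∀ b : ℕ, Odd b → Even (ν.count b)) :
    ∃ s : Finset (Fin k), ∑ j ∈ s, mult (a j) * a j = ν.sum := by
  induction k generalizing ν with
  | zero =>
    have h0 : blockMS a = 0 := by
      unfold blockMS
      rw [Finset.univ_eq_empty, Finset.sum_empty]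
    rw [h0] at hν
    have hν0 : ν = 0 := Multiset.le_zero.mp hν
    refine ⟨∅, ?_⟩
    rw [hν0, Finset.sum_empty, Multiset.sum_zero]
  | succ k ih =>
    have hμ : blockMS a = Multiset.replicate (mult (a 0)) (a 0) + blockMS (Fin.tail a) :=
      COMB.blockMS_succ a
    by_cases hc : ν.count (a 0) ≤ (blockMS (Fin.tail a)).count (a 0)
    · have hle : ν ≤ blockMS (Fin.tail a) := by
        rw [Multiset.le_iff_count]
        intro b
        by_cases hb : b = a 0
        · rw [hb]
          exact hc
        · have h1 := Multiset.le_iff_count.mp hν b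
          rw [hμ, Multiset.count_add, Multiset.count_replicate, if_neg (Ne.symm hb),
            zero_add] at h1
          exact h1
      obtain ⟨s', hs'⟩ := ih (Fin.tail a) ν hle hpar
      refine ⟨s'.map (Fin.succEmb k), ?_⟩
      rw [Finset.sum_map]
      exact hs'
    · rw [not_le] at hc
      have hm : (blockMS (Fin.tail a)).count (a 0) + mult (a 0) ≤ ν.count (a 0) := by
        rcases Nat.even_or_odd (a 0) with he | ho
        · rw [mult_even he]
          omega
        · rw [mult_odd ho]
          obtain ⟨x, hx⟩ := hpar (a 0) ho
          obtain ⟨y, hy⟩ := COMB.even_count_blockMS (Fin.tail a) (a 0) ho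
          omega
      have hrep : Multiset.replicate (mult (a 0)) (a 0) ≤ ν := by
        rw [Multiset.le_iff_count]
        intro b
        rw [Multiset.count_replicate]
        split_ifs with h
        · rw [← h]
          omega
        · exact Nat.zero_le _
      have hνeq : ν = (ν - Multiset.replicate (mult (a 0)) (a 0)) +
          Multiset.replicate (mult (a 0)) (a 0) := (tsub_add_cancel_of_le hrep).symm
      have hle : ν - Multiset.replicate (mult (a 0)) (a 0) ≤ blockMS (Fin.tail a) := by
        rw [Multiset.le_iff_count]
        intro b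
        rw [Multiset.count_sub, Multiset.count_replicate]
        have h1 := Multiset.le_iff_count.mp hν b
        rw [hμ, Multiset.count_add, Multiset.count_replicate] at h1
        split_ifs at h1 ⊢ with h <;> omega
      have hpar' : ∀ b, Odd b →
          Even ((ν - Multiset.replicate (mult (a 0)) (a 0)).count b) := by
        intro b hb
        rw [Multiset.count_sub, Multiset.count_replicate]
        split_ifs with h
        · rw [h, mult_odd hb]
          obtain ⟨x, hx⟩ := hpar b hb
          rw [hx]
          rcases Nat.eq_zero_or_pos x with rfl | hx0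
          · exact ⟨0, by omega⟩
          · exact ⟨x - 1, by omega⟩
        · rw [Nat.sub_zero]
          exact hpar b hb
      obtain ⟨s', hs'⟩ := ih (Fin.tail a) _ hle hpar'
      refine ⟨insert 0 (s'.map (Fin.succEmb k)), ?_⟩
      have hnot : (0 : Fin (k + 1)) ∉ s'.map (Fin.succEmb k) := by
        rw [Finset.mem_map]
        rintro ⟨x, _, hx⟩
        exact Fin.succ_ne_zero x hx
      rw [Finset.sum_insert hnot, Finset.sum_map]
      conv_rhs => rw [hνeq, Multiset.sum_add, Multiset.sum_replicate, smul_eq_mul, ← hs']
      rw [add_comm]
      rfl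

end Cfsg.Agent.S5956P
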