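import Mathlib
import Cfsg.Agent.Helper15.SylowGraph
import Cfsg.Agent.Helper9.PResidual

set_option autoImplicit false

namespace Cfsg.Agent.Helper15

open Cfsg

variable {G : Type*} [Group G] {p : ℕ}

/-- In a strongly `p`-embedded subgroup `H`, normalizers of nontrivial `p`-subgroups of `H` lie
in `H`. -/
theorem normalizer_le_of_stronglyEmbedded [Finite G] [Fact p.Prime] {H : Subgroup G}
    (hH : ∀ g : G, g ∉ H → ¬ p ∣ Nat.card ↥(H ⊓ H.map (MulAut.conj g).toMonoidHom))
    {Q : Subgroup G} (hQ : IsPGroup p Q) (hQ1 : Q ≠ ⊥) (hQH : Q ≤ H) :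
    Subgroup.normalizer (Q : Set G) ≤ H := by
  intro g hg
  by_contra hgH
  apply hH g hgH
  have hle : Q ≤ H ⊓ H.map (MulAut.conj g).toMonoidHom := by
    intro q hq
    refine ⟨hQH hq, ?_⟩
    show q ∈ H.map (MulAut.conj g).toMonoidHom
    rw [Cfsg.Agent.Helper1.mem_map_conj_iff]
    apply hQH
    have hg' : g⁻¹ ∈ Subgroup.normalizer (Q : Set G) := Subgroup.inv_mem _ hg
    have := (Subgroup.mem_normalizer_iff.mp hg' q).mp hq
    simpa using this
  exact dvd_trans (dvd_card_of_isPGroup_ne_bot hQ hQ1) (Subgroup.card_dvd_of_le hle)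

/-- A strongly `p`-embedded subgroup contains a Sylow `p`-subgroup of `G`. -/
theorem exists_sylow_le_of_stronglyEmbedded [Finite G] [Fact p.Prime] {H : Subgroup G}
    (hpH : p ∣ Nat.card H)
    (hH : ∀ g : G, g ∉ H → ¬ p ∣ Nat.card ↥(H ⊓ H.map (MulAut.conj g).toMonoidHom)) :
    ∃ S : Sylow p G, (S : Subgroup G) ≤ H := by
  obtain ⟨x, hx⟩ := exists_prime_orderOf_dvd_card' p hpH
  have hp : p.Prime := Fact.out
  have hxord : orderOf (x : G) = p := by rw [Subgroup.orderOf_coe]; exact hx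
  have hx1 : (x : G) ≠ 1 := by
    intro h
    rw [h, orderOf_one] at hxord
    exact hp.ne_one hxord.symm
  have hZ1 : IsPGroup p (Subgroup.zpowers (x : G)) := by
    apply IsPGroup.of_card (n := 1)
    rw [Nat.card_zpowers, hxord, pow_one]
  obtain ⟨S, hS⟩ := hZ1.exists_le_sylow
  refine ⟨S, le_of_inf_ne_bot_of_stronglyEmbedded hH S.isPGroup' ?_⟩
  rw [inf_ne_bot_iff]
  exact ⟨x, hS (Subgroup.mem_zpowers _), x.2, hx1⟩

/-- S3059: `G = H · O^p(N)` for a strongly `p`-embedded `H` and normal `N` of order divisible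
by `p`. -/
theorem stronglyEmbedded_sup_pResidual [Finite G] [Fact p.Prime] (H : Subgroup G)
    (hpH : p ∣ Nat.card H)
    (hse : ∀ g : G, g ∉ H → ¬ p ∣ Nat.card ↥(H ⊓ H.map (MulAut.conj g).toMonoidHom))
    (N : Subgroup G) [hNn : N.Normal] (hN : p ∣ Nat.card N) :
    H ⊔ Subgroup.closure {g : G | g ∈ N ∧ (orderOf g).Coprime p} = ⊤ := by
  have hp : p.Prime := Fact.out
  obtain ⟨S, hSH⟩ := exists_sylow_le_of_stronglyEmbedded hpH hse
  -- an element of order p in H ⊓ N
  obtain ⟨y, hy⟩ := exists_prime_orderOf_dvd_card' p hN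
  have hyord : orderOf (y : G) = p := by rw [Subgroup.orderOf_coe]; exact hy
  have hZy : IsPGroup p (Subgroup.zpowers (y : G)) := by
    apply IsPGroup.of_card (n := 1)
    rw [Nat.card_zpowers, hyord, pow_one]
  obtain ⟨S', hS'⟩ := hZy.exists_le_sylow
  obtain ⟨g, hg⟩ := MulAction.exists_smul_eq G S' S
  set x : G := g * (y : G) * g⁻¹ with hx
  have hxS : x ∈ S := by
    rw [← hg, Cfsg.Agent.Helper1.mem_sylow_smul_iff]
    have : g⁻¹ * x * g = (y : G) := by rw [hx]; group
    rw [this]; exact hS' (Subgroup.mem_zpowers _)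
  have hxN : x ∈ N := hNn.conj_mem _ y.2 g
  have hxord : orderOf x = p := by
    have : x = (MulAut.conj g) (y : G) := by simp [hx]
    rw [this, MulEquiv.orderOf_eq]; exact hyord
  have hx1 : x ≠ 1 := by
    intro h
    rw [h, orderOf_one] at hxord
    exact hp.ne_one hxord.symm
  have hZx : IsPGroup p ((Subgroup.zpowers x).subgroupOf N) := by
    have : IsPGroup p (Subgroup.zpowers x) := by
      apply IsPGroup.of_card (n := 1)
      rw [Nat.card_zpowers, hxord, pow_one]
    exact this.comap_subtype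
  obtain ⟨Q, hQ⟩ := hZx.exists_le_sylow
  set Qg : Subgroup G := (Q : Subgroup N).map N.subtype with hQg
  have hxQ : x ∈ Qg :=
    ⟨⟨x, hxN⟩, hQ (by rw [Subgroup.mem_subgroupOf]; exact Subgroup.mem_zpowers x), rfl⟩
  have hQgp : IsPGroup p Qg := Q.isPGroup'.map _
  have hQgH : Qg ≤ H := by
    apply le_of_inf_ne_bot_of_stronglyEmbedded hse hQgp
    rw [inf_ne_bot_iff]
    exact ⟨x, hxQ, hSH hxS, hx1⟩
  have hQg1 : Qg ≠ ⊥ := by
    intro h
    rw [h, Subgroup.mem_bot] at hxQ
    exact hx1 hxQ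
  have hNQ : Subgroup.normalizer (Qg : Set G) ≤ H :=
    normalizer_le_of_stronglyEmbedded hse hQgp hQg1 hQgH
  have hfr : Subgroup.normalizer (Qg : Set G) ⊔ N = ⊤ := Sylow.normalizer_sup_eq_top Q
  -- N = Qg ⊔ K
  set K : Subgroup G := Subgroup.closure {g : G | g ∈ N ∧ (orderOf g).Coprime p} with hK
  have hNle : N ≤ Qg ⊔ K := by
    have h1 := Cfsg.Agent.Helper9.sylow_sup_pResidual Q
    have h2 : ((Q : Subgroup N) ⊔ Cfsg.pResidual p N).map N.subtype = N := by
      rw [h1, ← MonoidHom.range_eq_map, Subgroup.range_subtype]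
    rw [Subgroup.map_sup] at h2
    have h3 : (Cfsg.pResidual p N).map N.subtype ≤ K := by
      unfold Cfsg.pResidual
      rw [MonoidHom.map_closure, hK]
      apply Subgroup.closure_mono
      rintro _ ⟨n, hn, rfl⟩
      refine ⟨n.2, ?_⟩
      have : orderOf ((N.subtype n : G)) = orderOf n := Subgroup.orderOf_coe n
      rw [this]; exact hn
    calc N = (Q : Subgroup N).map N.subtype ⊔ (Cfsg.pResidual p N).map N.subtype := h2.symm
      _ ≤ Qg ⊔ K := sup_le_sup le_rfl h3
  rw [eq_top_iff, ← hfr]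
  apply sup_le (hNQ.trans le_sup_left)
  exact hNle.trans (sup_le (hQgH.trans le_sup_left) le_sup_right)

end Cfsg.Agent.Helper15
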