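import Mathlib
import Cfsg.Agent.Helper15.StrongEmb
import Cfsg.Agent.Helper23.Cyclic
import Cfsg.Agent.Lead.GenCent

set_option autoImplicit false

/-! Normal subgroups of order divisible by `p` in a group with a strongly `p`-embedded subgroup
meet in a subgroup of order divisible by `p`. -/

namespace Cfsg.Agent.Helper15

variable {G : Type*} [Group G] {p : ℕ}

/-- A Sylow `p`-subgroup meets any normal subgroup of order divisible by `p` in an element of
order `p`. -/
theorem exists_orderOf_eq_mem_sylow_mem_normal [Finite G] [Fact p.Prime] (S : Sylow p G)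
    (N : Subgroup G) [hNn : N.Normal] (hN : p ∣ Nat.card N) :
    ∃ x : G, x ∈ S ∧ x ∈ N ∧ orderOf x = p := by
  obtain ⟨y, hy⟩ := exists_prime_orderOf_dvd_card' p hN
  have hyord : orderOf (y : G) = p := by rw [Subgroup.orderOf_coe]; exact hy
  have hZy : IsPGroup p (Subgroup.zpowers (y : G)) := by
    apply IsPGroup.of_card (n := 1)
    rw [Nat.card_zpowers, hyord, pow_one]
  obtain ⟨S', hS'⟩ := hZy.exists_le_sylow
  obtain ⟨g, hg⟩ := MulAction.exists_smul_eq G S' S
  refine ⟨g * (y : G) * g⁻¹, ?_, hNn.conj_mem _ y.2 g, ?_⟩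
  · rw [← hg, Cfsg.Agent.Helper1.mem_sylow_smul_iff]
    have : g⁻¹ * (g * (y : G) * g⁻¹) * g = (y : G) := by group
    rw [this]; exact hS' (Subgroup.mem_zpowers _)
  · have : g * (y : G) * g⁻¹ = (MulAut.conj g) (y : G) := by simp
    rw [this, MulEquiv.orderOf_eq]; exact hyord

/-- `G = H N` for `H` strongly `p`-embedded, `N` normal of order divisible by `p`. -/
theorem stronglyEmbedded_sup_normal [Finite G] [Fact p.Prime] (H : Subgroup G)
    (hpH : p ∣ Nat.card H)
    (hse : ∀ g : G, g ∉ H → ¬ p ∣ Nat.card ↥(H ⊓ H.map (MulAut.conj g).toMonoidHom))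
    (N : Subgroup G) [hNn : N.Normal] (hN : p ∣ Nat.card N) : H ⊔ N = ⊤ := by
  rw [eq_top_iff, ← stronglyEmbedded_sup_pResidual H hpH hse N hN]
  apply sup_le_sup le_rfl
  rw [Subgroup.closure_le]
  intro g hg
  exact hg.1

/-- S3058 with an explicit strongly `p`-embedded subgroup. -/
theorem dvd_card_inf_of_stronglyEmbedded [Finite G] [Fact p.Prime] (H : Subgroup G)
    (hHtop : H ≠ ⊤) (hpH : p ∣ Nat.card H)
    (hse : ∀ g : G, g ∉ H → ¬ p ∣ Nat.card ↥(H ⊓ H.map (MulAut.conj g).toMonoidHom))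
    (N M : Subgroup G) [hNn : N.Normal] [hMn : M.Normal] (hN : p ∣ Nat.card N)
    (hM : p ∣ Nat.card M) : p ∣ Nat.card ↥(N ⊓ M) := by
  have hp : p.Prime := Fact.out
  by_contra hK
  obtain ⟨S, hSH⟩ := exists_sylow_le_of_stronglyEmbedded hpH hse
  obtain ⟨a, haS, haN, haord⟩ := exists_orderOf_eq_mem_sylow_mem_normal S N hN
  obtain ⟨b, hbS, hbM, hbord⟩ := exists_orderOf_eq_mem_sylow_mem_normal S M hM
  set K : Subgroup G := N ⊓ M with hKdef
  have hKn : K.Normal := by rw [hKdef]; infer_instance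
  have hcopK : (Nat.card K).Coprime p := ((Nat.Prime.coprime_iff_not_dvd hp).mpr hK).symm
  -- p-elements of K are trivial
  have hSK : ∀ x : G, x ∈ S → x ∈ K → x = 1 := by
    intro x hxS hxK
    obtain ⟨k, hk⟩ := (S.isPGroup'.to_le (Subgroup.zpowers_le.mpr hxS))
      ⟨x, Subgroup.mem_zpowers x⟩
    have h1 : orderOf x ∣ p ^ k := by
      apply orderOf_dvd_of_pow_eq_one
      have := congrArg Subtype.val hk
      simpa using this
    have h2 : orderOf x ∣ Nat.card K := by
      have := orderOf_dvd_natCard (⟨x, hxK⟩ : K)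
      rwa [Subgroup.orderOf_mk] at this
    have h3 : orderOf x = 1 :=
      Nat.eq_one_of_dvd_coprimes (hcopK.pow_right k) h2 h1
    exact orderOf_eq_one_iff.mp h3
  have ha1 : a ≠ 1 := by
    intro h
    rw [h, orderOf_one] at haord
    exact hp.ne_one haord.symm
  have hb1 : b ≠ 1 := by
    intro h
    rw [h, orderOf_one] at hbord
    exact hp.ne_one hbord.symm
  -- commutator in K for x ∈ N, y ∈ M
  have hcommK : ∀ x ∈ N, ∀ y ∈ M, x * y * x⁻¹ * y⁻¹ ∈ K := by
    intro x hx y hy
    refine ⟨?_, ?_⟩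
    · have h1 : y * x⁻¹ * y⁻¹ ∈ N := hNn.conj_mem _ (N.inv_mem hx) y
      have : x * y * x⁻¹ * y⁻¹ = x * (y * x⁻¹ * y⁻¹) := by group
      rw [this]; exact N.mul_mem hx h1
    · have h1 : x * y * x⁻¹ ∈ M := hMn.conj_mem _ hy x
      exact M.mul_mem h1 (M.inv_mem hy)
  have hab : a * b = b * a := by
    have h1 : a * b * a⁻¹ * b⁻¹ = 1 :=
      hSK _ (S.mul_mem (S.mul_mem (S.mul_mem haS hbS) (S.inv_mem haS)) (S.inv_mem hbS))
        (hcommK a haN b hbM)
    calc a * b = a * b * a⁻¹ * b⁻¹ * (b * a) := by group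
      _ = b * a := by rw [h1, one_mul]
  set A : Subgroup G := Subgroup.closure {a, b} with hA
  have hAS : A ≤ S := by
    rw [hA, Subgroup.closure_le]
    rintro x (rfl | rfl)
    · exact haS
    · exact hbS
  have haA : a ∈ A := Subgroup.subset_closure (by simp)
  have hbA : b ∈ A := Subgroup.subset_closure (by simp)
  have hcommset : ∀ x ∈ ({a, b} : Set G), ∀ y ∈ ({a, b} : Set G), x * y = y * x := by
    rintro x (rfl | rfl) y (rfl | rfl)
    · rfl
    · exact hab
    · exact hab.symm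
    · rfl
  have hAcomm : IsMulCommutative A := Subgroup.isMulCommutative_closure hcommset
  have hAnc : ¬ IsCyclic A := by
    intro hcyc
    have h1 : Subgroup.zpowers a = Subgroup.zpowers b := by
      apply Cfsg.Agent.Helper23.eq_of_card_eq_of_isCyclic A hcyc _ _
        (Subgroup.zpowers_le.mpr haA) (Subgroup.zpowers_le.mpr hbA)
      rw [Nat.card_zpowers, Nat.card_zpowers, haord, hbord]
    have h2 : a ∈ Subgroup.zpowers b := h1 ▸ Subgroup.mem_zpowers a
    have h3 : a ∈ M := (Subgroup.zpowers_le.mpr hbM) h2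
    exact ha1 (hSK a haS ⟨haN, h3⟩)
  have hAK : A ≤ Subgroup.normalizer (K : Set G) := by
    rw [Subgroup.normalizer_eq_top K]; exact le_top
  have hcop : (Nat.card A).Coprime (Nat.card K) := by
    obtain ⟨k, hk⟩ := IsPGroup.iff_card.mp (S.isPGroup'.to_le hAS)
    rw [hk]
    exact (hcopK.symm).pow_left k
  have hgen := Cfsg.Agent.Lead.generated_by_centralizers A K hAnc hAK hcop
  have hKH : K ≤ H := by
    rw [← hgen]
    apply iSup₂_le
    rintro x ⟨hxA, hx1⟩
    have hZ : IsPGroup p (Subgroup.zpowers x) :=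
      S.isPGroup'.to_le (Subgroup.zpowers_le.mpr (hAS hxA))
    have hZ1 : Subgroup.zpowers x ≠ ⊥ := by
      intro h
      rw [Subgroup.zpowers_eq_bot] at h
      exact hx1 h
    have hZH : Subgroup.zpowers x ≤ H := Subgroup.zpowers_le.mpr (hSH (hAS hxA))
    refine le_trans inf_le_right (le_trans ?_ (normalizer_le_of_stronglyEmbedded hse hZ hZ1 hZH))
    intro g hg
    rw [Subgroup.mem_centralizer_singleton_iff] at hg
    rw [Subgroup.mem_normalizer_iff]
    intro h
    have hc : Commute g x := hg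
    constructor
    · rintro ⟨k, rfl⟩
      refine ⟨k, ?_⟩
      show x ^ k = g * x ^ k * g⁻¹
      have := (hc.zpow_right k).eq
      rw [this]; group
    · rintro ⟨k, hk⟩
      refine ⟨k, ?_⟩
      have h2 : g * x ^ k * g⁻¹ = x ^ k := by
        have := (hc.zpow_right k).eq
        rw [this]; group
      have h3 : g * x ^ k * g⁻¹ = g * h * g⁻¹ := by rw [h2]; exact hk
      have := mul_left_cancel (mul_right_cancel h3)
      exact this
  have hNH : N ≤ H := by
    intro x hx
    by_contra hxH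
    apply hse x hxH
    have hbH : b ∈ H := hSH hbS
    have h1 : x * b * x⁻¹ ∈ H := by
      have : x * b * x⁻¹ = x * b * x⁻¹ * b⁻¹ * b := by group
      rw [this]
      exact H.mul_mem (hKH (hcommK x hx b hbM)) hbH
    have h2 : x * b * x⁻¹ ∈ H.map (MulAut.conj x).toMonoidHom := by
      rw [Cfsg.Agent.Helper1.mem_map_conj_iff]
      have : x⁻¹ * (x * b * x⁻¹) * x = b := by group
      rw [this]; exact hbH
    have hle : Subgroup.zpowers (x * b * x⁻¹) ≤ H ⊓ H.map (MulAut.conj x).toMonoidHom :=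
      Subgroup.zpowers_le.mpr ⟨h1, h2⟩
    have hord : orderOf (x * b * x⁻¹) = p := by
      have : x * b * x⁻¹ = (MulAut.conj x) b := by simp
      rw [this, MulEquiv.orderOf_eq]; exact hbord
    have := Subgroup.card_dvd_of_le hle
    rwa [Nat.card_zpowers, hord] at this
  apply hHtop
  rw [eq_top_iff, ← stronglyEmbedded_sup_normal H hpH hse N hN]
  exact sup_le le_rfl hNH

end Cfsg.Agent.Helper15
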