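import Mathlib

/-! Supersolvability criterion via the subgroups `⟨x, x^g⟩` (S3033): general lemmas. -/

set_option autoImplicit false

namespace Cfsg.Agent.Helper15.SSolv

variable {G : Type*} [Group G]

/-- the hypothesis of S3033 -/
def Hyp (G : Type*) [Group G] : Prop :=
  ∀ (p q : ℕ), p.Prime → q.Prime → p ≠ q → ∀ (x g : G), (∃ a : ℕ, orderOf x = p ^ a) →
    (∃ b : ℕ, orderOf g = q ^ b) →
      ¬ q ^ 2 ∣ Nat.card ↥(Subgroup.zpowers x ⊔ Subgroup.zpowers (g * x * g⁻¹))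

theorem hyp_subgroup (hG : Hyp G) (H : Subgroup G) : Hyp ↥H := by
  intro p q hp hq hpq x g ⟨a, ha⟩ ⟨b, hb⟩ hdvd
  apply hG p q hp hq hpq (x : G) (g : G) ⟨a, by rw [Subgroup.orderOf_coe]; exact ha⟩
    ⟨b, by rw [Subgroup.orderOf_coe]; exact hb⟩
  have h1 : (Subgroup.zpowers x ⊔ Subgroup.zpowers (g * x * g⁻¹)).map H.subtype =
      Subgroup.zpowers (x : G) ⊔ Subgroup.zpowers ((g : G) * x * (g : G)⁻¹) := by
    rw [Subgroup.map_sup, MonoidHom.map_zpowers, MonoidHom.map_zpowers]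
    rfl
  rw [← h1, Subgroup.card_map_of_injective H.subtype_injective]
  exact hdvd

/-- lifting an element which is an `s`-element modulo `C` to an `s`-element -/
theorem exists_lift [Finite G] (x : G) (C : Subgroup G) {s : ℕ} (hs : s.Prime) (j : ℕ)
    (hx : x ^ (s ^ j) ∈ C) :
    ∃ x' : G, (∃ e : ℕ, orderOf x' = s ^ e) ∧ x⁻¹ * x' ∈ C ∧ x' ∈ Subgroup.zpowers x := by
  have hn : orderOf x ≠ 0 := (orderOf_pos x).ne'
  obtain ⟨e, o, hso, hno⟩ := Nat.exists_eq_pow_mul_and_not_dvd hn s hs.ne_one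
  by_cases hj : j = 0
  · refine ⟨1, ⟨0, by simp⟩, ?_, Subgroup.one_mem _⟩
    rw [hj, pow_zero, pow_one] at hx
    simpa using C.inv_mem hx
  have hcop : Nat.Coprime o (s ^ j) := by
    apply Nat.Coprime.pow_right
    exact ((Nat.Prime.coprime_iff_not_dvd hs).mpr hso).symm
  have h1 : 1 < s ^ j := Nat.one_lt_pow hj hs.one_lt
  obtain ⟨c, -, hc⟩ := Nat.exists_mul_mod_eq_one_of_coprime hcop h1
  refine ⟨x ^ (o * c), ?_, ?_, Subgroup.pow_mem _ (Subgroup.mem_zpowers x) _⟩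
  · have h2 : (x ^ (o * c)) ^ (s ^ e) = 1 := by
      rw [← pow_mul]
      have : o * c * s ^ e = orderOf x * c := by rw [hno]; ring
      rw [this, pow_mul, pow_orderOf_eq_one, one_pow]
    have h3 := orderOf_dvd_of_pow_eq_one h2
    obtain ⟨e', -, he'⟩ := (Nat.dvd_prime_pow hs).mp h3
    exact ⟨e', he'⟩
  · have h4 : o * c = s ^ j * (o * c / s ^ j) + 1 := by
      have := Nat.div_add_mod (o * c) (s ^ j)
      rw [hc] at this
      exact this.symm
    rw [h4, pow_succ, pow_mul]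
    have : x⁻¹ * ((x ^ s ^ j) ^ (o * c / s ^ j) * x) = (x ^ s ^ j) ^ (o * c / s ^ j) := by
      have hcomm : Commute ((x ^ s ^ j) ^ (o * c / s ^ j)) x :=
        ((Commute.refl x).pow_left _).pow_left _
      rw [hcomm.eq]; group
    rw [this]
    exact C.pow_mem hx _

theorem hyp_quotient [Finite G] (hG : Hyp G) (N : Subgroup G) [N.Normal] : Hyp (G ⧸ N) := by
  intro p q hp hq hpq x g ⟨a, ha⟩ ⟨b, hb⟩ hdvd
  obtain ⟨x₀, rfl⟩ := QuotientGroup.mk_surjective x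
  obtain ⟨g₀, rfl⟩ := QuotientGroup.mk_surjective g
  have hx₀ : x₀ ^ (p ^ a) ∈ N := by
    rw [← QuotientGroup.eq_one_iff, QuotientGroup.mk_pow, ← ha, pow_orderOf_eq_one]
  have hg₀ : g₀ ^ (q ^ b) ∈ N := by
    rw [← QuotientGroup.eq_one_iff, QuotientGroup.mk_pow, ← hb, pow_orderOf_eq_one]
  obtain ⟨x', hx'o, hx'N, -⟩ := exists_lift x₀ N hp a hx₀
  obtain ⟨g', hg'o, hg'N, -⟩ := exists_lift g₀ N hq b hg₀
  have hxe : (QuotientGroup.mk x' : G ⧸ N) = QuotientGroup.mk x₀ := by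
    rw [eq_comm, QuotientGroup.eq]; exact hx'N
  have hge : (QuotientGroup.mk g' : G ⧸ N) = QuotientGroup.mk g₀ := by
    rw [eq_comm, QuotientGroup.eq]; exact hg'N
  apply hG p q hp hq hpq x' g' hx'o hg'o
  have h1 : (Subgroup.zpowers x' ⊔ Subgroup.zpowers (g' * x' * g'⁻¹)).map (QuotientGroup.mk' N) =
      Subgroup.zpowers (QuotientGroup.mk x₀ : G ⧸ N) ⊔
        Subgroup.zpowers ((QuotientGroup.mk g₀ : G ⧸ N) * QuotientGroup.mk x₀ *
          (QuotientGroup.mk g₀ : G ⧸ N)⁻¹) := by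
    rw [Subgroup.map_sup, MonoidHom.map_zpowers, MonoidHom.map_zpowers, ← hxe, ← hge]
    rfl
  rw [← h1] at hdvd
  exact hdvd.trans (Subgroup.card_map_dvd _ _)

/-- an element lies in a subgroup if all its powers of prime power order do -/
theorem mem_of_primary [Finite G] (X : Subgroup G) :
    ∀ (n : ℕ) (g : G), orderOf g = n →
      (∀ k : ℕ, (∃ q e : ℕ, q.Prime ∧ orderOf (g ^ k) = q ^ e) → g ^ k ∈ X) → g ∈ X := by
  intro n
  induction n using Nat.strong_induction_on with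
  | _ n ih =>
    intro g hgn hall
    have hn0 : n ≠ 0 := by rw [← hgn]; exact (orderOf_pos g).ne'
    by_cases hn1 : n = 1
    · rw [hn1, orderOf_eq_one_iff] at hgn
      rw [hgn]; exact X.one_mem
    let q := n.minFac
    have hq : q.Prime := Nat.minFac_prime hn1
    obtain ⟨e, m, hqm, hnm⟩ := Nat.exists_eq_pow_mul_and_not_dvd hn0 q hq.ne_one
    have he0 : e ≠ 0 := by
      intro he
      rw [he, pow_zero, one_mul] at hnm
      exact hqm (hnm ▸ Nat.minFac_dvd n)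
    have hm0 : m ≠ 0 := by
      intro hm; rw [hm, mul_zero] at hnm; exact hn0 hnm
    have hqe1 : 1 < q ^ e := Nat.one_lt_pow he0 hq.one_lt
    -- the `q`-part
    have h2 : orderOf (g ^ m) = q ^ e := by
      rw [orderOf_pow_of_dvd hm0 (by rw [hgn, hnm]; exact dvd_mul_left _ _), hgn, hnm,
        Nat.mul_div_cancel _ (Nat.pos_of_ne_zero hm0)]
    have hg2 : g ^ m ∈ X := hall m ⟨q, e, hq, h2⟩
    by_cases hm1 : m = 1
    · rw [hm1, pow_one] at hg2; exact hg2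
    -- the `q'`-part
    have h1 : orderOf (g ^ (q ^ e)) = m := by
      rw [orderOf_pow_of_dvd (by positivity) (by rw [hgn, hnm]; exact dvd_mul_right _ _), hgn, hnm,
        Nat.mul_div_cancel_left _ (by positivity)]
    have hmn : m < n := by
      rw [hnm]
      calc m = 1 * m := (one_mul m).symm
        _ < q ^ e * m := Nat.mul_lt_mul_of_pos_right hqe1 (Nat.pos_of_ne_zero hm0)
    have hg1 : g ^ (q ^ e) ∈ X := by
      apply ih m hmn _ h1
      intro k hk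
      rw [← pow_mul] at hk ⊢
      exact hall _ hk
    have hcop : Nat.Coprime (q ^ e) m :=
      Nat.Coprime.pow_left _ ((Nat.Prime.coprime_iff_not_dvd hq).mpr hqm)
    have hbez := Nat.gcd_eq_gcd_ab (q ^ e) m
    rw [hcop.gcd_eq_one] at hbez
    have hg : g = (g ^ (q ^ e)) ^ (Nat.gcdA (q ^ e) m) * (g ^ m) ^ (Nat.gcdB (q ^ e) m) := by
      rw [← zpow_natCast, ← zpow_natCast, ← zpow_mul, ← zpow_mul, ← zpow_add, ← hbez]
      simp
    rw [hg]
    exact X.mul_mem (X.zpow_mem hg1 _) (X.zpow_mem hg2 _)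

/-- a subgroup of exponent `r` whose order is not divisible by `r²` has order `1` or `r` -/
theorem card_le_of_not_sq_dvd [Finite G] {r : ℕ} (hr : r.Prime) (D : Subgroup G)
    (hD : ∀ a ∈ D, ∃ k : ℕ, a ^ (r ^ k) = 1) (hnd : ¬ r ^ 2 ∣ Nat.card D) :
    Nat.card D = 1 ∨ Nat.card D = r := by
  have : Fact r.Prime := ⟨hr⟩
  have hpg : IsPGroup r ↥D := by
    intro a
    obtain ⟨k, hk⟩ := hD a a.2
    exact ⟨k, Subtype.ext (by simpa using hk)⟩
  obtain ⟨n, hn⟩ := IsPGroup.iff_card.mp hpg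
  rw [hn] at hnd ⊢
  have hn2 : n < 2 := by
    by_contra hcon
    push Not at hcon
    exact hnd (pow_dvd_pow r hcon)
  interval_cases n
  · left; simp
  · right; simp

/-- **Key consequence of the hypothesis.** If `x` is an `s`-element and `N` is a normal abelian
subgroup of exponent `r ≠ s`, then `x` normalizes the cyclic group generated by `[u, x]`. -/
theorem hyp_comm [Finite G] (hG : Hyp G) {r s : ℕ} (hr : r.Prime) (hs : s.Prime) (hsr : s ≠ r)
    (N : Subgroup G) [hN : N.Normal] (hNr : ∀ a ∈ N, a ^ r = 1)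
    (x : G) (hx : ∃ j : ℕ, orderOf x = s ^ j) (u : G) (hu : u ∈ N) :
    x * (u * (x * u * x⁻¹)⁻¹) * x⁻¹ ∈ Subgroup.zpowers (u * (x * u * x⁻¹)⁻¹) := by
  have huo : ∃ b : ℕ, orderOf u = r ^ b := by
    have h1 := orderOf_dvd_of_pow_eq_one (hNr u hu)
    rcases (Nat.dvd_prime hr).mp h1 with h | h
    · exact ⟨0, by rw [h, pow_zero]⟩
    · exact ⟨1, by rw [h, pow_one]⟩
  have hK := hG s r hs hr hsr x u hx huo
  obtain ⟨K, hKdef⟩ : ∃ K, K = Subgroup.zpowers x ⊔ Subgroup.zpowers (u * x * u⁻¹) := ⟨_, rfl⟩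
  rw [← hKdef] at hK
  obtain ⟨w, hw⟩ : ∃ w, w = u * (x * u * x⁻¹)⁻¹ := ⟨_, rfl⟩
  rw [← hw]
  have hxK : x ∈ K := by
    rw [hKdef]; exact (le_sup_left : Subgroup.zpowers x ≤ _) (Subgroup.mem_zpowers x)
  have hxK' : u * x * u⁻¹ ∈ K := by
    rw [hKdef]; exact (le_sup_right : Subgroup.zpowers (u * x * u⁻¹) ≤ _) (Subgroup.mem_zpowers _)
  have hwK : w ∈ K := by
    have : w = (u * x * u⁻¹) * x⁻¹ := by rw [hw]; group
    rw [this]
    exact K.mul_mem hxK' (K.inv_mem hxK)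
  have hwN : w ∈ N := by
    rw [hw]
    exact N.mul_mem hu (N.inv_mem (hN.conj_mem u hu x))
  have hcK : x * w * x⁻¹ ∈ K := K.mul_mem (K.mul_mem hxK hwK) (K.inv_mem hxK)
  have hcN : x * w * x⁻¹ ∈ N := hN.conj_mem w hwN x
  by_cases hw1 : w = 1
  · rw [hw1]; simp
  have hD : ∀ a ∈ K ⊓ N, ∃ k : ℕ, a ^ (r ^ k) = 1 := by
    intro a ha
    exact ⟨1, by rw [pow_one]; exact hNr a ha.2⟩
  have hDc : ¬ r ^ 2 ∣ Nat.card ↥(K ⊓ N) := by
    intro hd
    exact hK (hd.trans (Subgroup.card_dvd_of_le inf_le_left))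
  have : Fact r.Prime := ⟨hr⟩
  have hwo : orderOf w = r := orderOf_eq_prime (hNr w hwN) hw1
  have hle : Subgroup.zpowers w ≤ K ⊓ N := by
    rw [Subgroup.zpowers_le]; exact ⟨hwK, hwN⟩
  have hcz : Nat.card (Subgroup.zpowers w) = r := by rw [Nat.card_zpowers, hwo]
  have heq : Subgroup.zpowers w = K ⊓ N := by
    apply Subgroup.eq_of_le_of_card_ge hle
    rcases card_le_of_not_sq_dvd hr (K ⊓ N) hD hDc with h | h
    · rw [h, hcz]; exact hr.one_lt.le
    · rw [h, hcz]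
  rw [heq]
  exact ⟨hcK, hcN⟩

end Cfsg.Agent.Helper15.SSolv
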