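import Mathlib
import Cfsg.Agent.Helper14.CharP

set_option autoImplicit false

namespace Cfsg.Agent.Helper15

open Cfsg

/-- Characteristic `p` (`C_G(O_p(G)) ≤ O_p(G)`) transfers along an isomorphism. -/
theorem charP_of_mulEquiv {G H : Type*} [Group G] [Group H] (p : ℕ) (e : G ≃* H)
    (h : Subgroup.centralizer (pCore p G : Set G) ≤ pCore p G) :
    Subgroup.centralizer (pCore p H : Set H) ≤ pCore p H := by
  have hmap : (pCore p G).map e.toMonoidHom = pCore p H := Cfsg.Agent.Helper14.pCore_map_equiv p e
  intro x hx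
  have h1 : e.symm x ∈ Subgroup.centralizer (pCore p G : Set G) := by
    rw [Subgroup.mem_centralizer_iff]
    intro y hy
    have hy' : e y ∈ pCore p H := by
      rw [← hmap]; exact ⟨y, hy, rfl⟩
    have := Subgroup.mem_centralizer_iff.mp hx (e y) hy'
    apply e.injective
    simpa using this
  have h2 := h h1
  rw [← hmap]
  exact ⟨e.symm x, h2, by simp⟩

/-- Subnormal subgroups of a group of characteristic `p` have characteristic `p`. -/
theorem charP_of_isSubnormal {X : Type*} [Group X] [Finite X] {p : ℕ} [Fact p.Prime]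
    (hX : Subgroup.centralizer (pCore p X : Set X) ≤ pCore p X) (Y : Subgroup X)
    (hY : Y.IsSubnormal) :
    Subgroup.centralizer (pCore p ↥Y : Set ↥Y) ≤ pCore p ↥Y := by
  induction hY with
  | top => exact charP_of_mulEquiv p Subgroup.topEquiv.symm hX
  | step H K h_le hSubn hN ih =>
    have h1 := Cfsg.Agent.Helper14.charP_of_normal_or_pResidual_normal (G := ↥K) (p := p) ih
      (H.subgroupOf K) (Or.inl hN)
    exact charP_of_mulEquiv p (Subgroup.subgroupOfEquivOfLe h_le) h1

/-- A subgroup `H` containing `O_p(G)` of a group `G` of characteristic `p` has characteristic `p`. -/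
theorem charP_of_pCore_le {G : Type*} [Group G] {p : ℕ}
    (hG : Subgroup.centralizer (pCore p G : Set G) ≤ pCore p G) (H : Subgroup G)
    (hQH : pCore p G ≤ H) :
    Subgroup.centralizer (pCore p ↥H : Set ↥H) ≤ pCore p ↥H := by
  have hQle : (pCore p G).subgroupOf H ≤ pCore p ↥H := by
    apply Cfsg.Agent.Helper14.le_pCore p
    · infer_instance
    · exact (Cfsg.Agent.Helper14.pCore_isPGroup (G := G) p).comap_subtype
  intro x hx
  apply hQle
  rw [Subgroup.mem_subgroupOf]
  apply hG
  rw [Subgroup.mem_centralizer_iff]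
  intro y hy
  have := Subgroup.mem_centralizer_iff.mp hx ⟨y, hQH hy⟩ (hQle (by rw [Subgroup.mem_subgroupOf]; exact hy))
  exact congrArg Subtype.val this

/-- A subgroup `L` normalized by `O_p(G)` in a group `G` of characteristic `p` has
characteristic `p`. -/
theorem charP_of_pCore_le_normalizer {G : Type*} [Group G] [Finite G] {p : ℕ} [Fact p.Prime]
    (hG : Subgroup.centralizer (pCore p G : Set G) ≤ pCore p G) (L : Subgroup G)
    (hL : pCore p G ≤ Subgroup.normalizer (L : Set G)) :
    Subgroup.centralizer (pCore p ↥L : Set ↥L) ≤ pCore p ↥L := by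
  have hH := charP_of_pCore_le hG (L ⊔ pCore p G) le_sup_right
  have hLH : L ≤ L ⊔ pCore p G := le_sup_left
  have hN : (L.subgroupOf (L ⊔ pCore p G)).Normal :=
    (Subgroup.normal_subgroupOf_iff_le_normalizer hLH).mpr (sup_le Subgroup.le_normalizer hL)
  have h1 := Cfsg.Agent.Helper14.charP_of_normal_or_pResidual_normal
    (G := ↥(L ⊔ pCore p G)) (p := p) hH (L.subgroupOf (L ⊔ pCore p G)) (Or.inl hN)
  exact charP_of_mulEquiv p (Subgroup.subgroupOfEquivOfLe hLH) h1

end Cfsg.Agent.Helper15
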