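import Mathlib
import Cfsg.Prelude.Def_Solvable
import Cfsg.Prelude.Def_Transfer
import Cfsg.Prelude.Def_Local
import Cfsg.Prelude.Def_LocalEven
import Cfsg.Prelude.Def_Amalgam
import Cfsg.Agent.Helper14.PCore
import Cfsg.Agent.Helper14.PMinimal

/-! # S3044 / S3045 (isolated p-minimal subgroups): definitions and the context structure

Blueprint: `departures/helper15_S3044_blueprint.md`. -/

set_option autoImplicit false

namespace Cfsg.Agent.Helper15.Iso44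

open Cfsg Subgroup

variable {G : Type*} [Group G]

/-- `L = ⟨N_G(S), P' : S ≤ P' p-minimal, P' ≠ P⟩`. -/
def Lsub (p : ℕ) (S : Sylow p G) (P : Subgroup G) : Subgroup G :=
  Subgroup.normalizer ((S : Subgroup G) : Set G) ⊔
    ⨆ P' : {P' : Subgroup G // (S : Subgroup G) ≤ P' ∧ Cfsg.IsPMinimal p ↥P' ∧ P' ≠ P},
      (P' : Subgroup G)

/-- `D = O^p(P)` inside `G`. -/
def Dsub (p : ℕ) (P : Subgroup G) : Subgroup G := (Cfsg.pResidual p ↥P).map P.subtype

/-- `Y = ⟨D^G⟩`. -/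
def Ysub (p : ℕ) (P : Subgroup G) : Subgroup G :=
  Subgroup.normalClosure (((Cfsg.pResidual p ↥P).map P.subtype : Subgroup G) : Set G)

/-- `O = O_p(Y)` inside `G`. -/
def Osub (p : ℕ) (P : Subgroup G) : Subgroup G := Cfsg.pCoreOf p (Ysub p P)

/-- `Q_L = O_p(L)` inside `G`. -/
def QLsub (p : ℕ) (S : Sylow p G) (P : Subgroup G) : Subgroup G := Cfsg.pCoreOf p (Lsub p S P)

/-- `Y_L = Y ∩ core_G(L)`. -/
def YLsub (p : ℕ) (S : Sylow p G) (P : Subgroup G) : Subgroup G :=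
  Ysub p P ⊓ (Lsub p S P).normalCore

/-- The standing hypotheses of S3044/S3045. -/
structure Ctx (p : ℕ) (S : Sylow p G) (P : Subgroup G) : Prop where
  hSP : (S : Subgroup G) ≤ P
  hPmin : Cfsg.IsPMinimal p ↥P
  hiso : ¬ Cfsg.pCoreOf p (Lsub p S P) ≤ Cfsg.pCoreOf p P

/-- full preimage in `G` of a subgroup of `Y / O_p(Y)` -/
def pb (p : ℕ) (P : Subgroup G) [(Cfsg.pCore p ↥(Ysub p P)).Normal]
    (K : Subgroup (↥(Ysub p P) ⧸ Cfsg.pCore p ↥(Ysub p P))) : Subgroup G :=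
  (K.comap (QuotientGroup.mk' (Cfsg.pCore p ↥(Ysub p P)))).map (Ysub p P).subtype

/-- "`Y/O_p(Y)` is a `p'`-group", said inside `G`. -/
def PPrimeQuot (p : ℕ) (P : Subgroup G) : Prop :=
  ∀ T : Subgroup G, IsPGroup p ↥T → T ≤ Ysub p P → T ≤ Osub p P

end Cfsg.Agent.Helper15.Iso44
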