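import Cfsg.Agent.Helper15.Iso44Defs
import Cfsg.Agent.Helper14.Irreducible2
import Cfsg.Agent.Helper14.Amalgam5
import Cfsg.Agent.Helper14.Large

/-! # S3044 / S3045: basic lemmas (board `s3044pieces`, piece BAS) -/

set_option autoImplicit false
set_option linter.unusedSectionVars false
set_option linter.style.haveILetI false

namespace Cfsg.Agent.Helper15.Iso44

open Cfsg Subgroup

variable {G : Type*} [Group G] [Finite G] {p : ℕ} [Fact p.Prime] {S : Sylow p G} {P : Subgroup G}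

private theorem bas_le_normalizer_map_subtype (H : Subgroup G) (K : Subgroup ↥H) [hK : K.Normal] :
    H ≤ normalizer ((K.map H.subtype : Subgroup G) : Set G) := by
  intro h hh
  rw [Subgroup.mem_normalizer_iff]
  intro x
  constructor
  · rintro ⟨y, hy, rfl⟩
    exact ⟨⟨h, hh⟩ * y * ⟨h, hh⟩⁻¹, hK.conj_mem y hy ⟨h, hh⟩, rfl⟩
  · rintro ⟨y, hy, hyx⟩
    refine ⟨⟨h, hh⟩⁻¹ * y * ⟨h, hh⟩⁻¹⁻¹, hK.conj_mem y hy ⟨h, hh⟩⁻¹, ?_⟩
    have : (H.subtype y : G) = h * x * h⁻¹ := hyx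
    simp only [inv_inv, Subgroup.subtype_apply, Subgroup.coe_mul, Subgroup.coe_inv] at this ⊢
    rw [this]; group

theorem D_le_P : Dsub p P ≤ P := Subgroup.map_subtype_le _

theorem P_le_normalizer_D : P ≤ normalizer (Dsub p P : Set G) :=
  bas_le_normalizer_map_subtype P (pResidual p ↥P)

theorem D_sup_S (h : Ctx p S P) : Dsub p P ⊔ (S : Subgroup G) = P := by
  have hSyl := Cfsg.Agent.Helper14.isSylowIn_of_sylow_le S h.hSP
  have h1 := Cfsg.Agent.Helper14.pResidual_sup_sylow (p := p) hSyl.toSylow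
  have h2 : ((hSyl.toSylow : Sylow p ↥P) : Subgroup ↥P) = (S : Subgroup G).subgroupOf P := rfl
  rw [h2] at h1
  have h3 := congrArg (Subgroup.map P.subtype) h1
  rw [Subgroup.map_sup, Subgroup.map_subgroupOf_eq_of_le h.hSP, ← MonoidHom.range_eq_map,
    Subgroup.range_subtype] at h3
  exact h3

theorem S_le_L : (S : Subgroup G) ≤ Lsub p S P := Subgroup.le_normalizer.trans le_sup_left

theorem normalizer_S_le_L : normalizer ((S : Subgroup G) : Set G) ≤ Lsub p S P := le_sup_left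

theorem QL_le_S : QLsub p S P ≤ (S : Subgroup G) :=
  Cfsg.Agent.Helper14.pCoreOf_le_of_isSylowIn
    (Cfsg.Agent.Helper14.isSylowIn_of_sylow_le S S_le_L)

theorem QL_le_L : QLsub p S P ≤ Lsub p S P := Cfsg.Agent.Helper14.pCoreOf_le p _

theorem L_le_normalizer_QL : Lsub p S P ≤ normalizer (QLsub p S P : Set G) :=
  Cfsg.Agent.Helper14.le_normalizer_pCoreOf p _

theorem QL_isPGroup : IsPGroup p ↥(QLsub p S P) := Cfsg.Agent.Helper14.pCoreOf_isPGroup p _

theorem le_QP {T : Subgroup G} (hT : IsPGroup p ↥T) (hTP : T ≤ P)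
    (hPT : P ≤ normalizer (T : Set G)) : T ≤ pCoreOf p P :=
  Cfsg.Agent.Helper14.le_pCoreOf p hTP hPT hT

instance Y_normal : (Ysub p P).Normal := Subgroup.normalClosure_normal

theorem D_le_Y : Dsub p P ≤ Ysub p P := Subgroup.le_normalClosure

instance O_normal : (Osub p P).Normal := by
  haveI : (Cfsg.pCore p ↥(Ysub p P)).Characteristic := Cfsg.Agent.Helper14.pCore_characteristic p
  exact ConjAct.normal_of_characteristic_of_normal

theorem O_le_Y : Osub p P ≤ Ysub p P := Cfsg.Agent.Helper14.pCoreOf_le p _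

theorem O_isPGroup : IsPGroup p ↥(Osub p P) := Cfsg.Agent.Helper14.pCoreOf_isPGroup p _

theorem O_le_pCore : Osub p P ≤ pCore p G :=
  Cfsg.Agent.Helper14.le_pCore p O_normal O_isPGroup

theorem O_le_S : Osub p P ≤ (S : Subgroup G) :=
  O_le_pCore.trans (Cfsg.Agent.Helper14.pCore_le_sylow p S)

theorem le_O {T : Subgroup G} (hT : IsPGroup p ↥T) (hTY : T ≤ Ysub p P)
    (hYT : Ysub p P ≤ normalizer (T : Set G)) : T ≤ Osub p P :=
  Cfsg.Agent.Helper14.le_pCoreOf p hTY hYT hT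

theorem O_eq : Osub p P = pCore p G ⊓ Ysub p P := by
  apply le_antisymm
  · exact le_inf O_le_pCore O_le_Y
  · haveI : (pCore p G).Normal := Cfsg.Agent.Helper14.pCore_normal p
    have hN : (pCore p G ⊓ Ysub p P).Normal := inferInstance
    refine le_O ((Cfsg.Agent.Helper14.pCore_isPGroup p).to_le inf_le_left) inf_le_right ?_
    rw [Subgroup.normalizer_eq_top]
    exact le_top

instance YL_normal : (YLsub p S P).Normal := by
  haveI : (Lsub p S P).normalCore.Normal := Subgroup.normalCore_normal _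
  unfold YLsub
  infer_instance

theorem YL_le_Y : YLsub p S P ≤ Ysub p P := inf_le_left

theorem YL_le_L : YLsub p S P ≤ Lsub p S P := inf_le_right.trans (Subgroup.normalCore_le _)

theorem normal_le_YL {N : Subgroup G} (hN : N.Normal) (hNY : N ≤ Ysub p P)
    (hNL : N ≤ Lsub p S P) : N ≤ YLsub p S P :=
  le_inf hNY (Subgroup.normal_le_normalCore.2 hNL)

theorem O_le_YL : Osub p P ≤ YLsub p S P :=
  normal_le_YL O_normal O_le_Y (O_le_S.trans S_le_L)

/-- `Y` is generated by its `p'`-elements. -/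
theorem Y_le_of_pprime_mem (H : Subgroup G)
    (hH : ∀ y ∈ Ysub p P, (orderOf y).Coprime p → y ∈ H) : Ysub p P ≤ H := by
  set T : Set G := {y | y ∈ Ysub p P ∧ (orderOf y).Coprime p} with hT
  have hTH : Subgroup.closure T ≤ H := (Subgroup.closure_le _).2 fun y hy => hH y hy.1 hy.2
  have hnc : Subgroup.normalClosure T ≤ Subgroup.closure T := by
    unfold Subgroup.normalClosure
    apply Subgroup.closure_mono
    intro x hx
    obtain ⟨a, ha, hax⟩ := Group.mem_conjugatesOfSet_iff.1 hx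
    obtain ⟨c, hc⟩ := isConj_iff.1 hax
    refine ⟨?_, ?_⟩
    · rw [← hc]; exact (Y_normal (p := p) (P := P)).conj_mem a ha.1 c
    · have : orderOf x = orderOf a := by
        rw [← hc]
        exact orderOf_injective (MulAut.conj c).toMonoidHom (MulAut.conj c).injective a
      rw [this]; exact ha.2
  have hD : Dsub p P ≤ Subgroup.normalClosure T := by
    unfold Dsub Cfsg.pResidual
    rw [MonoidHom.map_closure, Subgroup.closure_le]
    rintro _ ⟨g, hg, rfl⟩
    apply Subgroup.subset_normalClosure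
    refine ⟨D_le_Y (p := p) (P := P) ⟨g, Subgroup.subset_closure hg, rfl⟩, ?_⟩
    have : orderOf ((P.subtype g : G)) = orderOf g := Subgroup.orderOf_coe g
    rw [this]; exact hg
  have hY : Ysub p P ≤ Subgroup.normalClosure T :=
    Subgroup.normalClosure_le_normal hD
  exact hY.trans (hnc.trans hTH)

theorem P_not_le_L (h : Ctx p S P) : ¬ P ≤ Lsub p S P := by
  intro hPL
  apply h.hiso
  exact le_QP QL_isPGroup (QL_le_S.trans h.hSP) (hPL.trans L_le_normalizer_QL)

theorem D_not_le_L (h : Ctx p S P) : ¬ Dsub p P ≤ Lsub p S P := by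
  intro hDL
  exact P_not_le_L h ((D_sup_S h).symm.le.trans (sup_le hDL S_le_L))

theorem Y_not_le_L (h : Ctx p S P) : ¬ Ysub p P ≤ Lsub p S P :=
  fun hYL => D_not_le_L h (D_le_Y.trans hYL)

theorem D_not_le_O (h : Ctx p S P) : ¬ Dsub p P ≤ Osub p P :=
  fun hDO => D_not_le_L h (hDO.trans (O_le_S.trans S_le_L))

/-! ### `pb` API -/
section pbapi
variable [hn : (Cfsg.pCore p ↥(Ysub p P)).Normal]

theorem mem_pb (K : Subgroup (↥(Ysub p P) ⧸ Cfsg.pCore p ↥(Ysub p P))) (g : G) :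
    g ∈ pb p P K ↔
      ∃ hg : g ∈ Ysub p P, QuotientGroup.mk' (Cfsg.pCore p ↥(Ysub p P)) ⟨g, hg⟩ ∈ K := by
  unfold pb
  constructor
  · rintro ⟨y, hy, rfl⟩
    exact ⟨y.2, hy⟩
  · rintro ⟨hg, hK⟩
    exact ⟨⟨g, hg⟩, hK, rfl⟩

theorem pb_le_Y (K : Subgroup (↥(Ysub p P) ⧸ Cfsg.pCore p ↥(Ysub p P))) :
    pb p P K ≤ Ysub p P := Subgroup.map_subtype_le _

theorem O_le_pb (K : Subgroup (↥(Ysub p P) ⧸ Cfsg.pCore p ↥(Ysub p P))) :
    Osub p P ≤ pb p P K := by
  unfold Osub Cfsg.pCoreOf pb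
  apply Subgroup.map_mono
  intro x hx
  rw [Subgroup.mem_comap]
  have : QuotientGroup.mk' (Cfsg.pCore p ↥(Ysub p P)) x = 1 :=
    (QuotientGroup.eq_one_iff x).2 hx
  rw [this]; exact K.one_mem

theorem pb_le_pb_iff (K K' : Subgroup (↥(Ysub p P) ⧸ Cfsg.pCore p ↥(Ysub p P))) :
    pb p P K ≤ pb p P K' ↔ K ≤ K' := by
  constructor
  · intro hle k hk
    obtain ⟨y, rfl⟩ := QuotientGroup.mk'_surjective (Cfsg.pCore p ↥(Ysub p P)) k
    have h1 : (y : G) ∈ pb p P K := (mem_pb K _).2 ⟨y.2, hk⟩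
    obtain ⟨_, h2⟩ := (mem_pb K' _).1 (hle h1)
    exact h2
  · intro hle
    exact Subgroup.map_mono (Subgroup.comap_mono hle)

theorem pb_top :
    pb p P (⊤ : Subgroup (↥(Ysub p P) ⧸ Cfsg.pCore p ↥(Ysub p P))) = Ysub p P := by
  unfold pb
  rw [Subgroup.comap_top, ← MonoidHom.range_eq_map, Subgroup.range_subtype]

theorem pb_bot :
    pb p P (⊥ : Subgroup (↥(Ysub p P) ⧸ Cfsg.pCore p ↥(Ysub p P))) = Osub p P := by
  unfold pb Osub Cfsg.pCoreOf
  rw [MonoidHom.comap_bot, QuotientGroup.ker_mk']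

end pbapi

end Cfsg.Agent.Helper15.Iso44
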