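import Mathlib
import Cfsg.Agent.Helper26.ZJ
import Cfsg.Agent.Helper26.ZJInst

set_option autoImplicit false

/-! Variant of `Cfsg.Agent.Helper26.ZJ` (generic Glauberman ZJ-theorem) in which the family is
only required to be equivariant under *inner* automorphisms and `restrict` only for `p`-subgroups.
The proofs are those of helper26's `ZJ.lean`.  Used for the strongly closed version (S3079, S3082). -/

namespace Cfsg.Agent.Helper15

open Subgroup Cfsg Cfsg.Agent.Helper26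
open scoped commutatorElement

variable {G : Type*} [Group G]

/-- A family of abelian subgroups attached to each subgroup, conjugation-equivariant. -/
structure ZJFamilyC (p : ℕ) (𝒜 : Subgroup G → Set (Subgroup G)) : Prop where
  le : ∀ T A, A ∈ 𝒜 T → A ≤ T
  comm : ∀ T A, A ∈ 𝒜 T → ∀ x ∈ A, ∀ y ∈ A, x * y = y * x
  nonempty : ∀ T, (𝒜 T).Nonempty
  equiv : ∀ (g : G) T A, A ∈ 𝒜 T →
    A.map (MulAut.conj g).toMonoidHom ∈ 𝒜 (T.map (MulAut.conj g).toMonoidHom)
  restrict : ∀ S T A : Subgroup G, IsPGroup p S → A ∈ 𝒜 S → A ≤ T → T ≤ S → A ∈ 𝒜 T ∧ 𝒜 T ⊆ 𝒜 S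
  repl : ∀ S B : Subgroup G, IsPGroup p S → B ≤ S → S ≤ normalizer (B : Set G) →
    ∀ A ∈ 𝒜 S, ⁅B, B⁆ ≤ A → ¬ B ≤ A →
      ∃ A' ∈ 𝒜 S, ⁅B, B⁆ ≤ A' ∧ ¬ B ≤ A' ∧ B ≤ normalizer (A' : Set G)

variable {p : ℕ} {𝒜 : Subgroup G → Set (Subgroup G)}

theorem map_conj_map_conj_inv (g : G) (T : Subgroup G) :
    (T.map (MulAut.conj g).toMonoidHom).map (MulAut.conj g⁻¹).toMonoidHom = T := by
  ext x
  constructor
  · rintro ⟨_, ⟨y, hy, rfl⟩, rfl⟩
    simpa [MulAut.conj_apply, mul_assoc] using hy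
  · intro hx
    exact ⟨g * x * g⁻¹, ⟨x, hx, by simp [MulAut.conj_apply]⟩, by simp [MulAut.conj_apply, mul_assoc]⟩

theorem ZJFamilyC.map_sInf_le (h : ZJFamilyC p 𝒜) (g : G) (T : Subgroup G) :
    (sInf (𝒜 T)).map (MulAut.conj g).toMonoidHom ≤ sInf (𝒜 (T.map (MulAut.conj g).toMonoidHom)) := by
  rintro _ ⟨x, hx, rfl⟩
  rw [SetLike.mem_coe, mem_sInf] at hx
  rw [mem_sInf]
  intro A' hA'
  have h1 := h.equiv g⁻¹ _ A' hA'
  rw [map_conj_map_conj_inv] at h1
  obtain ⟨y, hy, hyx⟩ := hx _ h1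
  have : (MulAut.conj g).toMonoidHom x = y := by
    have h2 : g⁻¹ * y * g⁻¹⁻¹ = x := by simpa [MulAut.conj_apply] using hyx
    rw [← h2]
    simp [MulAut.conj_apply, mul_assoc]
  rw [this]
  exact hy

theorem ZJFamilyC.map_sInf (h : ZJFamilyC p 𝒜) (g : G) (T : Subgroup G) :
    (sInf (𝒜 T)).map (MulAut.conj g).toMonoidHom = sInf (𝒜 (T.map (MulAut.conj g).toMonoidHom)) := by
  apply le_antisymm (h.map_sInf_le g T)
  have h1 := h.map_sInf_le g⁻¹ (T.map (MulAut.conj g).toMonoidHom)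
  rw [map_conj_map_conj_inv] at h1
  intro y hy
  have h2 : (MulAut.conj g⁻¹).toMonoidHom y ∈ sInf (𝒜 T) := h1 ⟨y, hy, rfl⟩
  exact ⟨_, h2, by simp [MulAut.conj_apply, mul_assoc]⟩

theorem ZJFamilyC.mem_normalizer_sInf [Finite G] (h : ZJFamilyC p 𝒜) {T : Subgroup G} {g : G}
    (hg : g ∈ normalizer (T : Set G)) : g ∈ normalizer ((sInf (𝒜 T) : Subgroup G) : Set G) := by
  apply mem_normalizer_of_map_conj_le
  rw [h.map_sInf, map_conj_eq_of_mem_normalizer hg]

theorem ZJFamilyC.inf_normal_aux' [Finite G] [Fact p.Prime] (h : ZJFamilyC p 𝒜) (hst : Cfsg.Agent.Helper26.StabHypSub p G)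
    (S : Sylow p G) :
    ∀ n : ℕ, ∀ B : Subgroup G, B.Normal → IsPGroup p B → Nat.card B = n →
      (sInf (𝒜 (S : Subgroup G)) ⊓ B).Normal := by
  intro n
  induction n using Nat.strong_induction_on with
  | _ n ih =>
  intro B hBn hBp hcard
  by_contra hV
  have := hBn
  have hBS : B ≤ S := (Cfsg.Agent.Helper14.le_pCore p hBn hBp).trans
    (Cfsg.Agent.Helper14.pCore_le_sylow p S)
  have hSW : (S : Subgroup G) ≤ normalizer ((sInf (𝒜 (S : Subgroup G)) : Subgroup G) : Set G) :=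
    fun s hs => h.mem_normalizer_sInf (le_normalizer hs)
  have hWle : ∀ A ∈ 𝒜 (S : Subgroup G), sInf (𝒜 (S : Subgroup G)) ≤ A := fun A hA => sInf_le hA
  -- (iii)
  have hB1 : normalClosure ((sInf (𝒜 (S : Subgroup G)) ⊓ B : Subgroup G) : Set G) = B := by
    by_contra hne
    have hle : normalClosure ((sInf (𝒜 (S : Subgroup G)) ⊓ B : Subgroup G) : Set G) ≤ B :=
      normalClosure_le_normal inf_le_right
    have hlt := lt_of_le_of_ne hle hne
    have hcardlt : Nat.card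
        (normalClosure ((sInf (𝒜 (S : Subgroup G)) ⊓ B : Subgroup G) : Set G)) < n := by
      rw [← hcard]
      exact lt_of_not_ge (fun hge => hlt.ne (Subgroup.eq_of_le_of_card_ge hlt.le hge))
    have := ih _ hcardlt _ normalClosure_normal (hBp.to_le hle) rfl
    have e : sInf (𝒜 (S : Subgroup G)) ⊓
        normalClosure ((sInf (𝒜 (S : Subgroup G)) ⊓ B : Subgroup G) : Set G) =
          sInf (𝒜 (S : Subgroup G)) ⊓ B :=
      le_antisymm (le_inf inf_le_left (inf_le_right.trans hle))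
        (le_inf inf_le_left subset_normalClosure)
    rw [e] at this
    exact hV this
  -- (iv)
  have hBne : B ≠ ⊥ := by
    rintro rfl
    apply hV
    rw [inf_bot_eq]
    infer_instance
  have hB'lt : ⁅B, B⁆ < B :=
    Cfsg.Agent.Lead.commutator_lt_of_isPGroup hBp hBp le_normalizer hBne
  have hB'n : (⁅B, B⁆).Normal := inferInstance
  have hcardlt' : Nat.card (⁅B, B⁆ : Subgroup G) < n := by
    rw [← hcard]
    exact lt_of_not_ge (fun hge => hB'lt.ne (Subgroup.eq_of_le_of_card_ge hB'lt.le hge))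
  have hV'n : (sInf (𝒜 (S : Subgroup G)) ⊓ ⁅B, B⁆).Normal :=
    ih _ hcardlt' _ hB'n (hBp.to_le hB'lt.le) rfl
  -- (v)
  have hVB : ⁅sInf (𝒜 (S : Subgroup G)) ⊓ B, B⁆ ≤ sInf (𝒜 (S : Subgroup G)) ⊓ ⁅B, B⁆ := by
    apply le_inf
    · rw [commutator_le]
      intro v hv y hy
      have hyN := hSW (hBS hy)
      have h1 : y * v⁻¹ * y⁻¹ ∈ sInf (𝒜 (S : Subgroup G)) :=
        (mem_normalizer_iff.mp hyN _).mp (inv_mem hv.1)
      have e : ⁅v, y⁆ = v * (y * v⁻¹ * y⁻¹) := by rw [commutatorElement_def]; group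
      rw [e]
      exact mul_mem hv.1 h1
    · exact commutator_mono inf_le_right le_rfl
  -- (vi)
  have hB'W : ⁅B, B⁆ ≤ sInf (𝒜 (S : Subgroup G)) := by
    have := commutator_normalClosure_le (hK := hV'n) hVB
    rw [hB1] at this
    exact this.trans inf_le_left
  -- (viii)
  have hex : ∃ A ∈ 𝒜 (S : Subgroup G), ¬ B ≤ A := by
    by_contra hall
    push Not at hall
    apply hV
    have : B ≤ sInf (𝒜 (S : Subgroup G)) := le_sInf hall
    rw [inf_eq_right.mpr this]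
    exact hBn
  obtain ⟨A, hA, hBA⟩ := hex
  -- (ix)
  obtain ⟨A', hA', hB'A', hBA', hBNA'⟩ := h.repl S B S.isPGroup' hBS
    (by rw [normalizer_eq_top]; exact le_top) A hA (hB'W.trans (hWle A hA)) hBA
  -- (x), (xi)
  obtain ⟨L, hLn, hCL, hLpow, hLq⟩ := hst B hBn hBp
  have hA'L : A' ≤ L := by
    apply hLq A' (S.isPGroup'.to_le (h.le _ _ hA'))
    rw [eq_bot_iff]
    have h1 : ⁅B, A'⁆ ≤ A' := by
      rw [commutator_le]
      intro y hy z hzA
      have hyN := hBNA' hy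
      have h2 : y * z * y⁻¹ ∈ A' := (mem_normalizer_iff.mp hyN z).mp hzA
      rw [commutatorElement_def]
      exact mul_mem h2 (inv_mem hzA)
    refine (commutator_mono h1 le_rfl).trans ?_
    rw [commutator_le]
    intro x hx y hy
    rw [commutatorElement_eq_one_iff_mul_comm.mpr (h.comm _ A' hA' x hx y hy)]
    exact one_mem _
  -- (xii)
  have := hLn
  have hA'T : A' ≤ (S : Subgroup G) ⊓ L := le_inf (h.le _ _ hA') hA'L
  obtain ⟨hA'memT, hsub⟩ := h.restrict S ((S : Subgroup G) ⊓ L) A' S.isPGroup' hA' hA'T inf_le_left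
  have hfr := normalizer_sylow_inf_sup_eq_top S L (centralizer (B : Set G)) hCL hLpow
  have hXn : (sInf (𝒜 ((S : Subgroup G) ⊓ L)) ⊓ B).Normal := by
    rw [← normalizer_eq_top_iff, eq_top_iff, ← hfr]
    apply sup_le
    · intro g hg
      have h1 := h.mem_normalizer_sInf hg
      apply mem_normalizer_of_map_conj_le
      rintro _ ⟨x, hx, rfl⟩
      simp only [MulEquiv.coe_toMonoidHom, MulAut.conj_apply]
      exact ⟨(mem_normalizer_iff.mp h1 x).mp hx.1, hBn.conj_mem x hx.2 g⟩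
    · intro c hc
      apply mem_normalizer_of_map_conj_le
      rintro _ ⟨x, hx, rfl⟩
      simp only [MulEquiv.coe_toMonoidHom, MulAut.conj_apply]
      have h1 : x * c = c * x := (mem_centralizer_iff.mp hc) x hx.2
      have e : c * x * c⁻¹ = x := by rw [← h1, mul_inv_cancel_right]
      rw [e]
      exact hx
  have hVX : sInf (𝒜 (S : Subgroup G)) ⊓ B ≤ sInf (𝒜 ((S : Subgroup G) ⊓ L)) ⊓ B :=
    le_inf (inf_le_left.trans (sInf_le_sInf hsub)) inf_le_right
  have hBX : B ≤ sInf (𝒜 ((S : Subgroup G) ⊓ L)) ⊓ B := by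
    have := normalClosure_le_normal (N := sInf (𝒜 ((S : Subgroup G) ⊓ L)) ⊓ B) hVX
    rwa [hB1] at this
  exact hBA' ((hBX.trans inf_le_left).trans (sInf_le hA'memT))

theorem ZJFamilyC.sInf_le_pCore' [Finite G] [Fact p.Prime] (h : ZJFamilyC p 𝒜) (hst : Cfsg.Agent.Helper26.StabHypSub p G)
    (hc : centralizer (pCore p G : Set G) ≤ pCore p G) (S : Sylow p G) :
    sInf (𝒜 (S : Subgroup G)) ≤ pCore p G := by
  obtain ⟨L, hLn, hCL, hLpow, hLq⟩ := hst (pCore p G) inferInstance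
    (Cfsg.Agent.Helper14.pCore_isPGroup p)
  have hLp : IsPGroup p L := by
    intro x
    obtain ⟨k, hk⟩ := hLpow x.1 x.2
    obtain ⟨m, hm⟩ := (Cfsg.Agent.Helper14.pCore_isPGroup (G := G) p) ⟨_, hc hk⟩
    refine ⟨k + m, ?_⟩
    apply Subtype.ext
    have h2 := congrArg Subtype.val hm
    simp only [SubmonoidClass.coe_pow, OneMemClass.coe_one] at h2 ⊢
    rw [pow_add, pow_mul]
    exact h2
  have hLQ : L ≤ pCore p G := Cfsg.Agent.Helper14.le_pCore p hLn hLp
  have hSW : (S : Subgroup G) ≤ normalizer ((sInf (𝒜 (S : Subgroup G)) : Subgroup G) : Set G) :=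
    fun s hs => h.mem_normalizer_sInf (le_normalizer hs)
  obtain ⟨A₀, hA₀⟩ := h.nonempty (S : Subgroup G)
  have hle0 : sInf (𝒜 (S : Subgroup G)) ≤ A₀ := sInf_le hA₀
  refine (hLq (sInf (𝒜 (S : Subgroup G)))
    (S.isPGroup'.to_le (hle0.trans (h.le _ _ hA₀))) ?_).trans hLQ
  rw [eq_bot_iff]
  have h1 : ⁅pCore p G, sInf (𝒜 (S : Subgroup G))⁆ ≤ sInf (𝒜 (S : Subgroup G)) := by
    rw [commutator_le]
    intro y hy z hzW
    have hyN := hSW (Cfsg.Agent.Helper14.pCore_le_sylow p S hy)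
    have h2 : y * z * y⁻¹ ∈ sInf (𝒜 (S : Subgroup G)) := (mem_normalizer_iff.mp hyN z).mp hzW
    rw [commutatorElement_def]
    exact mul_mem h2 (inv_mem hzW)
  refine (commutator_mono h1 le_rfl).trans ?_
  rw [commutator_le]
  intro x hx y hy
  have hle : sInf (𝒜 (S : Subgroup G)) ≤ A₀ := sInf_le hA₀
  rw [commutatorElement_eq_one_iff_mul_comm.mpr (h.comm _ A₀ hA₀ x (hle hx) y (hle hy))]
  exact one_mem _

/-- Generic ZJ-theorem. -/
theorem ZJFamilyC.normal_sInf' [Finite G] [Fact p.Prime] (h : ZJFamilyC p 𝒜) (hst : Cfsg.Agent.Helper26.StabHypSub p G)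
    (hc : centralizer (pCore p G : Set G) ≤ pCore p G) (S : Sylow p G) :
    (sInf (𝒜 (S : Subgroup G))).Normal := by
  have := h.inf_normal_aux' hst S _ (pCore p G) inferInstance
    (Cfsg.Agent.Helper14.pCore_isPGroup p) rfl
  rwa [inf_eq_left.mpr (h.sInf_le_pCore' hst hc S)] at this

end Cfsg.Agent.Helper15
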