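import Mathlib
import Cfsg.Prelude.Def_TwoFusion
import Cfsg.Prelude.Def_LocalEven
import Cfsg.Agent.Helper15.ZJConj

set_option autoImplicit false

/-! Glauberman's ZJ-theorem for strongly closed subgroups (S3079, S3082). -/

namespace Cfsg.Agent.Helper15

open Subgroup Cfsg Cfsg.Agent.Helper26
open scoped commutatorElement

variable {G : Type*} [Group G]

/-- the part of `T` fused into `D` -/
def dpart (D T : Subgroup G) : Subgroup G := closure {x | x ∈ T ∧ ∃ g : G, g * x * g⁻¹ ∈ D}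

theorem dpart_le (D T : Subgroup G) : dpart D T ≤ T := by
  unfold dpart
  rw [closure_le]
  intro x hx
  exact hx.1

theorem dpart_mono (D : Subgroup G) {T S : Subgroup G} (h : T ≤ S) : dpart D T ≤ dpart D S := by
  unfold dpart
  apply Subgroup.closure_mono
  intro x hx
  exact ⟨h hx.1, hx.2⟩

theorem dpart_map_conj (D T : Subgroup G) (g : G) :
    (dpart D T).map (MulAut.conj g).toMonoidHom = dpart D (T.map (MulAut.conj g).toMonoidHom) := by
  unfold dpart
  rw [MonoidHom.map_closure]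
  congr 1
  ext y
  constructor
  · rintro ⟨x, ⟨hxT, k, hk⟩, rfl⟩
    refine ⟨⟨x, hxT, rfl⟩, k * g⁻¹, ?_⟩
    have : k * g⁻¹ * (MulAut.conj g).toMonoidHom x * (k * g⁻¹)⁻¹ = k * x * k⁻¹ := by
      simp [MulAut.conj_apply]; group
    rw [this]; exact hk
  · rintro ⟨⟨x, hxT, rfl⟩, k, hk⟩
    refine ⟨x, ⟨hxT, k * g, ?_⟩, rfl⟩
    have : k * g * x * (k * g)⁻¹ = k * (MulAut.conj g).toMonoidHom x * k⁻¹ := by
      simp [MulAut.conj_apply]; group
    rw [this]; exact hk

theorem le_normalizer_dpart [Finite G] (D T : Subgroup G) : T ≤ normalizer (dpart D T : Set G) := by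
  intro t ht
  apply mem_normalizer_of_map_conj_le
  rw [dpart_map_conj]
  apply dpart_mono
  rintro _ ⟨x, hx, rfl⟩
  simp only [MulEquiv.coe_toMonoidHom, MulAut.conj_apply]
  exact T.mul_mem (T.mul_mem ht hx) (T.inv_mem ht)

variable {p : ℕ} [Fact p.Prime]

/-- for a `p`-subgroup `S ≤ P^h`, the `D`-part is `S ∩ D^h` -/
theorem dpart_eq_of_le {P : Sylow p G} {D : Subgroup G}
    (hD : IsStronglyClosed D (P : Subgroup G)) {S : Subgroup G} {h : G}
    (hS : S ≤ (P : Subgroup G).map (MulAut.conj h).toMonoidHom) :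
    dpart D S = S ⊓ D.map (MulAut.conj h).toMonoidHom := by
  unfold dpart
  have : {x | x ∈ S ∧ ∃ g : G, g * x * g⁻¹ ∈ D} =
      ((S ⊓ D.map (MulAut.conj h).toMonoidHom : Subgroup G) : Set G) := by
    ext x
    constructor
    · rintro ⟨hxS, g, hg⟩
      refine ⟨hxS, ?_⟩
      obtain ⟨y, hy, hyx⟩ := hS hxS
      have hyx' : h * y * h⁻¹ = x := by simpa [MulAut.conj_apply] using hyx
      -- y = h⁻¹ x h is a conjugate of g x g⁻¹ ∈ D lying in P
      have e : y = (h⁻¹ * g⁻¹) * (g * x * g⁻¹) * (h⁻¹ * g⁻¹)⁻¹ := by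
        rw [← hyx']; group
      have hyD : y ∈ D := by
        have := hD.2 (g * x * g⁻¹) hg (h⁻¹ * g⁻¹) (by rw [← e]; exact hy)
        rwa [← e] at this
      exact ⟨y, hyD, hyx⟩
    · rintro ⟨hxS, y, hy, hyx⟩
      refine ⟨hxS, h⁻¹, ?_⟩
      have hyx' : h * y * h⁻¹ = x := by simpa [MulAut.conj_apply] using hyx
      have : h⁻¹ * x * h⁻¹⁻¹ = y := by rw [← hyx']; group
      rw [this]; exact hy
  rw [this, closure_eq]

theorem exists_le_conj_sylow [Finite G] (P : Sylow p G) {S : Subgroup G} (hS : IsPGroup p S) :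
    ∃ h : G, S ≤ (P : Subgroup G).map (MulAut.conj h).toMonoidHom := by
  obtain ⟨Q, hQ⟩ := hS.exists_le_sylow
  obtain ⟨g, hg⟩ := MulAction.exists_smul_eq G P Q
  refine ⟨g, ?_⟩
  have h2 : ((g • P : Sylow p G) : Subgroup G) =
      (P : Subgroup G).map (MulAut.conj g).toMonoidHom := rfl
  rw [← h2, hg]
  exact hQ

theorem dpart_sylow {P : Sylow p G} {D : Subgroup G}
    (hD : IsStronglyClosed D (P : Subgroup G)) : dpart D (P : Subgroup G) = D := by
  have h1 : (P : Subgroup G) ≤ (P : Subgroup G).map (MulAut.conj (1 : G)).toMonoidHom := by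
    intro x hx
    exact ⟨x, hx, by simp⟩
  rw [dpart_eq_of_le hD h1]
  have : D.map (MulAut.conj (1 : G)).toMonoidHom = D := by
    ext x
    constructor
    · rintro ⟨y, hy, rfl⟩
      simpa using hy
    · intro hx
      exact ⟨x, hx, by simp⟩
  rw [this]
  exact inf_eq_right.mpr hD.1

/-- elements of the `D`-part of a `p`-subgroup are fused into `D` -/
theorem exists_conj_mem_of_mem_dpart [Finite G] {P : Sylow p G} {D : Subgroup G}
    (hD : IsStronglyClosed D (P : Subgroup G)) {S : Subgroup G} (hS : IsPGroup p S)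
    {x : G} (hx : x ∈ dpart D S) : ∃ g : G, g * x * g⁻¹ ∈ D := by
  obtain ⟨h, hh⟩ := exists_le_conj_sylow P hS
  rw [dpart_eq_of_le hD hh] at hx
  obtain ⟨y, hy, hyx⟩ := hx.2
  refine ⟨h⁻¹, ?_⟩
  have hyx' : h * y * h⁻¹ = x := by simpa [MulAut.conj_apply] using hyx
  have : h⁻¹ * x * h⁻¹⁻¹ = y := by rw [← hyx']; group
  rw [this]; exact hy

/-- relative replacement: `famEl e Dₛ` for `Dₛ` normal in the `p`-group `S` -/
theorem famEl_repl_rel [Finite G] (hp : p ≠ 2) (e : ℕ) (he : e = 0 ∨ Odd e)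
    (S B Ds : Subgroup G) (hS : IsPGroup p S) (hBS : B ≤ S) (hSB : S ≤ normalizer (B : Set G))
    (hDS : Ds ≤ S) (hSD : S ≤ normalizer (Ds : Set G))
    (A : Subgroup G) (hA : A ∈ famEl e Ds) (hBA : ⁅B, B⁆ ≤ A) (hnBA : ¬ B ≤ A) :
    ∃ A' ∈ famEl e Ds, ⁅B, B⁆ ≤ A' ∧ ¬ B ≤ A' ∧ B ≤ normalizer (A' : Set G) := by
  have hB₀n : (B.subgroupOf S).Normal := (normal_subgroupOf_iff_le_normalizer hBS).mpr hSB
  have hD₀n : (Ds.subgroupOf S).Normal := (normal_subgroupOf_iff_le_normalizer hDS).mpr hSD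
  have hAS : A ≤ S := hA.1.trans hDS
  have hcomm_eq : (⁅B.subgroupOf S, B.subgroupOf S⁆).map S.subtype = ⁅B, B⁆ := by
    rw [map_commutator, subgroupOf_map_subtype, inf_eq_left.mpr hBS]
  have hA₀ : A.subgroupOf S ∈ famEl e (Ds.subgroupOf S) := by
    refine ⟨?_, ⟨comm_subgroupOf hA.2.1.1, ?_⟩, ?_⟩
    · intro x hx
      exact mem_subgroupOf.mpr (hA.1 (mem_subgroupOf.mp hx))
    · intro x hx
      apply Subtype.ext
      rw [SubmonoidClass.coe_pow, OneMemClass.coe_one]
      exact hA.2.1.2 x.1 (mem_subgroupOf.mp hx)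
    · intro Y hYD hYc
      have h1 : (∀ x ∈ Y.map S.subtype, ∀ y ∈ Y.map S.subtype, x * y = y * x) ∧
          ∀ x ∈ Y.map S.subtype, x ^ e = 1 := by
        refine ⟨comm_map_subtype hYc.1, ?_⟩
        rintro _ ⟨y, hy, rfl⟩
        have := congrArg Subtype.val (hYc.2 y hy)
        simpa using this
      have hle : Y.map S.subtype ≤ Ds := by
        rintro _ ⟨y, hy, rfl⟩
        exact mem_subgroupOf.mp (hYD hy)
      have := hA.2.2 _ hle h1
      rw [card_map_subtype] at this
      rw [card_subgroupOf_of_le hAS]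
      exact this
  have h1 : ⁅B.subgroupOf S, B.subgroupOf S⁆ ≤ A.subgroupOf S := by
    intro x hx
    rw [mem_subgroupOf]
    apply hBA
    rw [← hcomm_eq]
    exact ⟨x, hx, rfl⟩
  have h2 : ¬ B.subgroupOf S ≤ A.subgroupOf S := by
    intro hle
    apply hnBA
    intro b hb
    have : (⟨b, hBS hb⟩ : S) ∈ A.subgroupOf S := hle (mem_subgroupOf.mpr hb)
    exact mem_subgroupOf.mp this
  obtain ⟨A₁, hA₁, hBA₁, hnBA₁, hNA₁⟩ := replacement_famEl' hS hp e he (Ds.subgroupOf S)
    (B.subgroupOf S) (A.subgroupOf S) hA₀ h1 h2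
  refine ⟨A₁.map S.subtype, ?_, ?_, ?_, ?_⟩
  · refine ⟨?_, ⟨comm_map_subtype hA₁.2.1.1, ?_⟩, ?_⟩
    · rintro _ ⟨y, hy, rfl⟩
      exact mem_subgroupOf.mp (hA₁.1 hy)
    · rintro _ ⟨y, hy, rfl⟩
      have := congrArg Subtype.val (hA₁.2.1.2 y hy)
      simpa using this
    · intro Y hY hYc
      have h3 : (∀ x ∈ Y.subgroupOf S, ∀ y ∈ Y.subgroupOf S, x * y = y * x) ∧
          ∀ x ∈ Y.subgroupOf S, x ^ e = 1 := by
        refine ⟨comm_subgroupOf hYc.1, ?_⟩
        intro x hx
        apply Subtype.ext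
        rw [SubmonoidClass.coe_pow, OneMemClass.coe_one]
        exact hYc.2 x.1 (mem_subgroupOf.mp hx)
      have hle : Y.subgroupOf S ≤ Ds.subgroupOf S := by
        intro x hx
        exact mem_subgroupOf.mpr (hY (mem_subgroupOf.mp hx))
      have := hA₁.2.2 _ hle h3
      rw [card_subgroupOf_of_le (hY.trans hDS)] at this
      rw [card_map_subtype]
      exact this
  · rw [← hcomm_eq]
    exact map_mono hBA₁
  · intro hle
    apply hnBA₁
    intro x hx
    obtain ⟨y, hy, hyx⟩ := hle (mem_subgroupOf.mp hx)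
    have : y = x := Subtype.ext hyx
    rwa [← this]
  · intro b hb
    have hbN : (⟨b, hBS hb⟩ : S) ∈ normalizer (A₁ : Set S) := hNA₁ (mem_subgroupOf.mpr hb)
    apply mem_normalizer_of_map_conj_le
    rintro _ ⟨_, ⟨y, hy, rfl⟩, rfl⟩
    have h3 := (mem_normalizer_iff.mp hbN y).mp hy
    refine ⟨_, h3, ?_⟩
    simp [MulAut.conj_apply]

/-- the family attached to a strongly closed subgroup -/
def famSC (e : ℕ) (D : Subgroup G) : Subgroup G → Set (Subgroup G) :=
  fun T => famEl e (dpart D T)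

theorem zjFamilyC_famSC [Finite G] (hp : p ≠ 2) (e : ℕ) (he : e = 0 ∨ Odd e)
    (P : Sylow p G) (D : Subgroup G) (hD : IsStronglyClosed D (P : Subgroup G)) :
    ZJFamilyC p (famSC e D) where
  le := fun T _ hA => hA.1.trans (dpart_le D T)
  comm := fun _ _ hA => hA.2.1.1
  nonempty := fun T => famEl_nonempty e (dpart D T)
  equiv := by
    intro g T A hA
    have := famEl_equiv (MulAut.conj g) hA
    rw [dpart_map_conj] at this
    exact this
  restrict := by
    intro S T A hS hA hAT hTS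
    apply famEl_restrict hA ?_ (dpart_mono D hTS)
    intro x hx
    obtain ⟨g, hg⟩ := exists_conj_mem_of_mem_dpart hD hS (hA.1 hx)
    exact subset_closure ⟨hAT hx, g, hg⟩
  repl := by
    intro S B hS hBS hSB A hA hBA hnBA
    exact famEl_repl_rel hp e he S B (dpart D S) hS hBS hSB (dpart_le D S)
      (le_normalizer_dpart D S) A hA hBA hnBA

/-- **ZJ-theorem for strongly closed subgroups**, generic form. -/
theorem normal_sInf_famEl_of_stronglyClosed [Finite G] (hp : p ≠ 2) (e : ℕ) (he : e = 0 ∨ Odd e)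
    (P : Sylow p G) (D : Subgroup G) (hD : IsStronglyClosed D (P : Subgroup G))
    (hst : StabHypSub p G) (hc : centralizer (pCore p G : Set G) ≤ pCore p G) :
    (sInf (famEl e D)).Normal := by
  have := (zjFamilyC_famSC hp e he P D hD).normal_sInf' hst hc P
  unfold famSC at this
  rwa [dpart_sylow hD] at this

/-- `p`-stability in the normalizer form gives the quotient-free stability hypothesis -/
theorem stabHyp_of_isNormalizerPStable (hst : IsNormalizerPStable p G) : StabHyp p G := by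
  intro P hPn hPp
  have := hPn
  have hNtop : normalizer (P : Set G) = ⊤ := normalizer_eq_top_iff.mpr hPn
  have hmemN : ∀ g : G, g ∈ normalizer (P : Set G) := fun g => by rw [hNtop]; exact mem_top g
  refine ⟨((pCore p (↥(normalizer (P : Set G)) ⧸
      (centralizer (P : Set G)).subgroupOf (normalizer (P : Set G)))).comap
        (QuotientGroup.mk' ((centralizer (P : Set G)).subgroupOf (normalizer (P : Set G))))).map
          (normalizer (P : Set G)).subtype, ?_, ?_, ?_, ?_⟩
  · have hn : ((pCore p (↥(normalizer (P : Set G)) ⧸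
        (centralizer (P : Set G)).subgroupOf (normalizer (P : Set G)))).comap
          (QuotientGroup.mk' ((centralizer (P : Set G)).subgroupOf
            (normalizer (P : Set G))))).Normal :=
      Subgroup.Normal.comap (Cfsg.Agent.Helper14.pCore_normal p) _
    constructor
    rintro _ ⟨y, hy, rfl⟩ g
    refine ⟨⟨g, hmemN g⟩ * y * ⟨g, hmemN g⟩⁻¹, hn.conj_mem y hy _, ?_⟩
    simp
  · intro c hc
    have hcN : c ∈ normalizer (P : Set G) := hmemN c
    refine ⟨⟨c, hcN⟩, ?_, rfl⟩
    rw [SetLike.mem_coe, mem_comap]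
    have : (QuotientGroup.mk' ((centralizer (P : Set G)).subgroupOf (normalizer (P : Set G))))
        ⟨c, hcN⟩ = 1 := by
      rw [QuotientGroup.mk'_apply, QuotientGroup.eq_one_iff, mem_subgroupOf]
      exact hc
    rw [this]
    exact one_mem _
  · rintro _ ⟨y, hy, rfl⟩
    rw [SetLike.mem_coe, mem_comap] at hy
    obtain ⟨k, hk⟩ := (Cfsg.Agent.Helper14.pCore_isPGroup p) ⟨_, hy⟩
    refine ⟨k, ?_⟩
    have h2 := congrArg Subtype.val hk
    simp only [SubmonoidClass.coe_pow, OneMemClass.coe_one] at h2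
    rw [← map_pow, QuotientGroup.mk'_apply, QuotientGroup.eq_one_iff, mem_subgroupOf] at h2
    simpa using h2
  · intro a ha
    refine ⟨⟨a, hmemN a⟩, ?_, rfl⟩
    rw [SetLike.mem_coe, mem_comap]
    exact hst P hPp a (hmemN a) ha

/-- `Ω₁(Z(J_e(D)))` as an intersection -/
theorem omegaOne_centerThompsonOf_eq [Finite G] (D : Subgroup G) :
    omegaOne p (centerThompsonOf p D) = sInf (famEl p D) := by
  rw [← omegaCenterThompson_map_eq]
  unfold omegaCenterThompson omegaOne centerThompsonOf thompsonSubgroupOf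
  rw [MonoidHom.map_closure]
  congr 1
  ext y
  constructor
  · rintro ⟨⟨⟨x, hx, rfl⟩, hyc⟩, hyp⟩
    refine ⟨x, ⟨⟨hx, ?_⟩, ?_⟩, rfl⟩
    · show x ∈ centralizer ((thompsonSubgroup p ↥D : Subgroup D) : Set D)
      have hyc : D.subtype x ∈ centralizer
          (((thompsonSubgroup p ↥D).map D.subtype : Subgroup G) : Set G) := hyc
      rw [mem_centralizer_iff]
      intro j hj
      apply Subtype.ext
      have := (mem_centralizer_iff.mp hyc) (D.subtype j) ⟨j, hj, rfl⟩
      simpa using this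
    · apply Subtype.ext
      simpa using hyp
  · rintro ⟨x, ⟨⟨hx, hxc⟩, hxp⟩, rfl⟩
    refine ⟨⟨⟨x, hx, rfl⟩, ?_⟩, ?_⟩
    · show D.subtype x ∈ centralizer
          (((thompsonSubgroup p ↥D).map D.subtype : Subgroup G) : Set G)
      have hxc : x ∈ centralizer ((thompsonSubgroup p ↥D : Subgroup D) : Set D) := hxc
      rw [mem_centralizer_iff]
      rintro _ ⟨j, hj, rfl⟩
      have := congrArg Subtype.val ((mem_centralizer_iff.mp hxc) j hj)
      simpa using this
    · have := congrArg Subtype.val hxp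
      simpa using this

end Cfsg.Agent.Helper15
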