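import Mathlib
import Cfsg.Agent.Lead.TNC11
import Cfsg.Agent.Helper14.SylowIn
import Cfsg.Agent.Helper15.ZJStrongly

set_option autoImplicit false
set_option linter.unusedSectionVars false

/-! Normal `p`-complement theorems for strongly closed subgroups via the lead's `ControlHyp`
framework (S3082). -/

namespace Cfsg.Agent.Helper15

open Subgroup Cfsg Cfsg.Agent.Lead.TNC Cfsg.Agent.Helper14
open scoped commutatorElement

universe u

variable {p : ℕ} [Fact p.Prime]

/-- strong closure passes to quotients by normal `p'`-subgroups -/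
theorem stronglyClosed_map_mk {G : Type*} [Group G] [Finite G] (P : Sylow p G) (K : Subgroup G)
    [hKn : K.Normal] {D : Subgroup G}
    (hD : IsStronglyClosed D (P : Subgroup G)) :
    IsStronglyClosed (D.map (QuotientGroup.mk' K)) ((P : Subgroup G).map (QuotientGroup.mk' K)) := by
  refine ⟨map_mono hD.1, ?_⟩
  rintro _ ⟨x, hx, rfl⟩ gbar hg
  obtain ⟨g, rfl⟩ := QuotientGroup.mk'_surjective K gbar
  obtain ⟨u, hu, hug⟩ := hg
  have hug' : (QuotientGroup.mk' K) u = (QuotientGroup.mk' K) (g * x * g⁻¹) := by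
    rw [hug]; simp
  have hyK : u⁻¹ * (g * x * g⁻¹) ∈ K := QuotientGroup.eq.mp hug'
  have hyKP : g * x * g⁻¹ ∈ K ⊔ (P : Subgroup G) := by
    have e : g * x * g⁻¹ = u * (u⁻¹ * (g * x * g⁻¹)) := by group
    rw [e]
    exact mul_mem (mem_sup_right hu) (mem_sup_left hyK)
  have hPsyl : IsSylowIn p (P : Subgroup G) (K ⊔ (P : Subgroup G)) :=
    ⟨le_sup_right, P.isPGroup', fun Q _ hQp hle => P.is_maximal' hQp hle⟩
  have hyp : IsPGroup p (zpowers (g * x * g⁻¹)) := by
    have h1 : IsPGroup p (zpowers x) := P.isPGroup'.to_le (zpowers_le.mpr (hD.1 hx))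
    have h2 := h1.map (MulAut.conj g).toMonoidHom
    rw [MonoidHom.map_zpowers] at h2
    exact h2
  obtain ⟨U, hU, hyU⟩ := exists_isSylowIn_ge (zpowers_le.mpr hyKP) hyp
  obtain ⟨k, hk, hUk⟩ := hPsyl.exists_conj hU
  obtain ⟨c, hc, v, hv, rfl⟩ := mem_sup_of_normal_left.mp hk
  have h1 : (c * v)⁻¹ * (g * x * g⁻¹) * (c * v) ∈ (P : Subgroup G) := by
    have := hyU (mem_zpowers (g * x * g⁻¹))
    rw [hUk] at this
    exact (mem_map_cj _ _).mp this
  have h2 : (c⁻¹ * g) * x * (c⁻¹ * g)⁻¹ ∈ (P : Subgroup G) := by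
    have e : (c⁻¹ * g) * x * (c⁻¹ * g)⁻¹ = v * ((c * v)⁻¹ * (g * x * g⁻¹) * (c * v)) * v⁻¹ := by
      group
    rw [e]
    exact mul_mem (mul_mem hv h1) (inv_mem hv)
  have h3 : (c⁻¹ * g) * x * (c⁻¹ * g)⁻¹ ∈ D := hD.2 x hx (c⁻¹ * g) h2
  refine ⟨_, h3, ?_⟩
  have hc1 : (QuotientGroup.mk' K) c = 1 := by
    rw [QuotientGroup.mk'_apply, QuotientGroup.eq_one_iff]; exact hc
  simp only [map_mul, map_inv, hc1, inv_one, one_mul]

/-- the control hypothesis "`N_G(W(D))` has a normal `p`-complement for some strongly closed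
subgroup `D` of `P`" -/
def ofStronglyClosed (F : CharFunctor.{u} p) : ControlHyp.{u} p where
  Hyp G _ _ P := ∃ D : Subgroup G, IsStronglyClosed D (P : Subgroup G) ∧
    HasNormalPComplement p (normalizer (F.W D : Set G))
  iso := by
    rintro G H _ _ _ _ e P Q hPQ ⟨D, hD, h⟩
    refine ⟨D.map e.toMonoidHom, ⟨?_, ?_⟩, ?_⟩
    · rw [← hPQ]; exact map_mono hD.1
    · rintro _ ⟨x, hx, rfl⟩ g hg
      rw [← hPQ] at hg
      obtain ⟨y, hy, hyg⟩ := hg
      have hy' : y = e.symm g * x * (e.symm g)⁻¹ := by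
        apply e.injective
        have : e y = g * e x * g⁻¹ := hyg
        rw [this]; simp
      have := hD.2 x hx (e.symm g) (hy' ▸ hy)
      exact ⟨_, this, by simp⟩
    · have h1 := npc_map_of_npc e.toMonoidHom _ h
      refine npc_of_eq ?_ h1
      rw [map_equiv_normalizer_eq, F.map e.toMonoidHom _ e.injective.injOn]
  sub := by
    rintro G _ _ P M PM hPM ⟨D, hD, h⟩
    have hPM' : (P : Subgroup G) ≤ M := by rw [← hPM]; exact Subgroup.map_subtype_le _
    refine ⟨D.subgroupOf M, ⟨?_, ?_⟩, ?_⟩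
    · intro x hx
      have h1 : (x : G) ∈ (P : Subgroup G) := hD.1 (mem_subgroupOf.mp hx)
      rw [← hPM] at h1
      obtain ⟨y, hy, hyx⟩ := h1
      have : y = x := Subtype.ext hyx
      rwa [← this]
    · intro x hx g hg
      rw [mem_subgroupOf]
      have h1 : ((g * x * g⁻¹ : M) : G) ∈ (P : Subgroup G) := by
        rw [← hPM]; exact ⟨_, hg, rfl⟩
      have := hD.2 (x : G) (mem_subgroupOf.mp hx) (g : G) (by simpa using h1)
      simpa using this
    · apply npc_normalizer_of_map M
      refine npc_of_eq ?_ h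
      rw [← F.map M.subtype _ M.subtype_injective.injOn, subgroupOf_map_subtype,
        inf_eq_left.mpr (hD.1.trans hPM')]
  quot := by
    rintro G _ _ P K _ hK PK hPK ⟨D, hD, h⟩
    have hDp : IsPGroup p D := P.isPGroup'.to_le hD.1
    refine ⟨D.map (QuotientGroup.mk' K), ?_, ?_⟩
    · rw [← hPK]
      exact stronglyClosed_map_mk P K hD
    · have h1 := npc_map_of_npc (QuotientGroup.mk' K) _ h
      refine npc_of_eq ?_ h1
      rw [F.map _ _ (injOn_mk' K hK hDp),
        ← Cfsg.Agent.Helper7.normalizer_map_mk_eq hK (hDp.to_le (F.le _))]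
  loc := by
    intro G _ _ P hP h
    exact ⟨P, ⟨le_rfl, fun x _ g hg => hg⟩, h _ (F.stronglyChar _) (F.ne_bot _ P.2 hP)⟩

theorem sc_endgame (hp2 : p ≠ 2) (F : CharFunctor.{u} p) (e : ℕ) (he : e = 0 ∨ Odd e)
    (hF : ∀ (G : Type u) [Group G] [Finite G] (D : Subgroup G),
      F.W D = sInf (Cfsg.Agent.Helper26.famEl e D))
    (G : Type u) [Group G] [Finite G] (P : Sylow p G)
    (hH : (ofStronglyClosed F).Hyp G P) (hS : MinStructure p G P) : False := by
  obtain ⟨D, hD, h⟩ := hH
  have hst := stabHypSub_of_minStructure hp2 hS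
  have hn := normal_sInf_famEl_of_stronglyClosed hp2 e he P D hD hst hS.centralizer_le
  rw [← hF] at hn
  have htop := normalizer_eq_top_iff.mpr hn
  exact hS.not_npc (npc_of_top (npc_of_eq htop h))

/-- abstract normal `p`-complement theorem for strongly closed subgroups -/
theorem sc_npc (hp2 : p ≠ 2) (F : CharFunctor.{u} p) (e : ℕ) (he : e = 0 ∨ Odd e)
    (hF : ∀ (G : Type u) [Group G] [Finite G] (D : Subgroup G),
      F.W D = sInf (Cfsg.Agent.Helper26.famEl e D))
    (G : Type u) [Group G] [Finite G] (P : Sylow p G) (D : Subgroup G)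
    (hD : IsStronglyClosed D (P : Subgroup G))
    (h : HasNormalPComplement p (normalizer (F.W D : Set G))) : HasNormalPComplement p G :=
  (ofStronglyClosed F).npc (sc_endgame hp2 F e he hF) G P ⟨D, hD, h⟩

/-- `omegaOne` commutes with homomorphisms injective on the subgroup -/
theorem omegaOne_map_of_injOn {G H : Type*} [Group G] [Group H] (f : G →* H) (X : Subgroup G)
    (hinj : Set.InjOn f (X : Set G)) (q : ℕ) :
    omegaOne q (X.map f) = (omegaOne q X).map f := by
  unfold omegaOne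
  rw [MonoidHom.map_closure]
  congr 1
  ext y
  constructor
  · rintro ⟨⟨x, hx, rfl⟩, hyp⟩
    refine ⟨x, ⟨hx, ?_⟩, rfl⟩
    apply hinj (X.pow_mem hx q) X.one_mem
    rw [map_pow, map_one]; exact hyp
  · rintro ⟨x, ⟨hx, hxp⟩, rfl⟩
    exact ⟨⟨x, hx, rfl⟩, by rw [← map_pow, hxp, map_one]⟩

/-- the functor `P ↦ Ω₁(Z(J_e(P)))` -/
def omegaZJFunctor (p : ℕ) [Fact p.Prime] : CharFunctor.{u} p where
  W P := omegaOne p (centerThompsonOf p P)
  le P := (omegaOne_le p _).trans (inf_le_left.trans ((jFunctor p).le P))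
  map := by
    intro G H _ _ f P hinj
    have h1 : centerThompsonOf p (P.map f) = (centerThompsonOf p P).map f := by
      unfold centerThompsonOf
      have hj := (jFunctor p).map f P hinj
      have hj' : thompsonSubgroupOf p (P.map f) = (thompsonSubgroupOf p P).map f := hj
      rw [hj']
      exact (zFunctor p).map f (thompsonSubgroupOf p P) (hinj.mono ((jFunctor p).le P))
    rw [h1]
    exact omegaOne_map_of_injOn f _
      (hinj.mono (inf_le_left.trans ((jFunctor p).le P))) p
  ne_bot := by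
    intro G _ _ P hP hne
    have hpp : p.Prime := Fact.out
    have hJp : IsPGroup p (thompsonSubgroupOf p P) := hP.to_le ((jFunctor p).le P)
    have hJne : thompsonSubgroupOf p P ≠ ⊥ := (jFunctor p).ne_bot P hP hne
    have hZne : centerThompsonOf p P ≠ ⊥ := (zFunctor p).ne_bot (thompsonSubgroupOf p P) hJp hJne
    have hZp : IsPGroup p (centerThompsonOf p P) := hJp.to_le inf_le_left
    have hdvd : p ∣ Nat.card (centerThompsonOf p P) := by
      obtain ⟨k, hk⟩ := IsPGroup.iff_card.mp hZp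
      rw [hk]
      apply dvd_pow_self
      rintro rfl
      rw [pow_zero] at hk
      exact hZne (Subgroup.card_eq_one.mp hk)
    obtain ⟨x, hx⟩ := exists_prime_orderOf_dvd_card' p hdvd
    intro h0
    have hxmem : (x : G) ∈ omegaOne p (centerThompsonOf p P) := by
      apply Subgroup.subset_closure
      refine ⟨x.2, ?_⟩
      have : x ^ p = 1 := orderOf_dvd_iff_pow_eq_one.mp (dvd_of_eq hx)
      have := congrArg Subtype.val this
      simpa using this
    rw [h0, mem_bot] at hxmem
    have hx1 : x = 1 := Subtype.ext hxmem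
    rw [hx1, orderOf_one] at hx
    exact hpp.one_lt.ne hx

end Cfsg.Agent.Helper15
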