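import Mathlib
import Cfsg.Agent.Helper2.S2400.Defs
import Cfsg.Agent.Helper2.Stein.Tab
import Cfsg.Prelude.Def_KGroupFacts
import Cfsg.Prelude.Def_Steinberg

set_option autoImplicit false
set_option linter.unusedSectionVars false
set_option linter.unusedVariables false

/-! S2400 piece SAMEL (helper15): lifts of elements of the same long root subgroup commute. -/

namespace Cfsg.Agent.S2400P

open scoped commutatorElement
open Cfsg.Lie Cfsg.Agent.Helper2.Stb Cfsg.Agent.Helper2.StPerf Cfsg.Agent.Helper2.Stein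
open Cfsg.Agent.S2086P (CL cl map_cl cl_eq commute_comm CL_of_comm)

universe u

variable {K : Type*} [Field K] {G : Type*} [Group G] {E : Type*} [Group E]

namespace SAMEL

theorem isS_sub_one : ∀ l : ZMod 8, IsL l → IsS (l - 1) := by decide

end SAMEL

theorem clr_same_long (S : B2C K G) (ψ : E →* G) (hψ : Function.Surjective ψ)
    (hc : ψ.ker ≤ Subgroup.center E) (h45 : ∀ k, CLr S ψ k (k + 1)) (l : ZMod 8) (hl : IsL l) :
    CLr S ψ l l := by
  intro t u e e' he he'
  have hS : IsS (l - 1) := SAMEL.isS_sub_one l hl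
  have hrel := S.circ.relI (l - 1) hS 1 (Or.inl rfl) 1 (S.e2 (l - 1) 1 * u)
  have i1 : l - 1 + 3 * 1 = l + 2 := by ring
  have i2 : l - 1 + 2 * 1 = l + 1 := by ring
  have i3 : l - 1 + 1 = l := by ring
  rw [i1, i2, i3] at hrel
  have harg : S.e2 (l - 1) 1 * 1 ^ 2 * (S.e2 (l - 1) 1 * u) = u := by
    rw [one_pow, mul_one, ← mul_assoc, S.e2_sq, one_mul]
  rw [harg] at hrel
  have c1 : Commute (S.X l t) (S.X (l - 1) 1) := by
    have := S.circ.comm45 (l - 1) 1 t
    rw [i3] at this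
    exact this.symm
  have c2 : Commute (S.X l t) (S.X (l + 2) (S.e2 (l - 1) 1 * u)) := S.circ.commLL l hl _ _
  have hCL := CL_of_comm ψ hψ hc c1 c2
  rw [hrel] at hCL
  obtain ⟨y₁, hy₁⟩ := hψ (S.X (l + 1) (S.e1 (l - 1) 1 * 1 * (S.e2 (l - 1) 1 * u)))
  have h1 : Commute e (y₁ * e') := hCL e (y₁ * e') he (by rw [map_mul, hy₁, he'])
  have h2 : Commute e y₁ := h45 l t _ e y₁ he hy₁
  have : e' = y₁⁻¹ * (y₁ * e') := by group
  rw [this]
  exact h2.inv_right.mul_right h1

end Cfsg.Agent.S2400P
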