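import Mathlib
import Cfsg.Agent.Helper2.S2400.Defs
import Cfsg.Agent.Helper2.Stein.Tab
import Cfsg.Prelude.Def_KGroupFacts
import Cfsg.Prelude.Def_Steinberg

set_option autoImplicit false
set_option linter.unusedSectionVars false
set_option linter.unusedVariables false

/-! S2400 piece SAMESA (helper15): lifts of elements of the same root subgroup commute when
`|K| = 3`, and for short roots in characteristic two. -/

namespace Cfsg.Agent.S2400P

open scoped commutatorElement
open Cfsg.Lie Cfsg.Agent.Helper2.Stb Cfsg.Agent.Helper2.StPerf Cfsg.Agent.Helper2.Stein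
open Cfsg.Agent.S2086P (CL cl map_cl cl_eq commute_comm CL_of_comm)

universe u

variable {K : Type*} [Field K] {G : Type*} [Group G] {E : Type*} [Group E]

namespace SAMESA

theorem isS_sub_two : ∀ k : ZMod 8, IsS k → IsS (k - 2) := by decide

theorem X_zero (S : B2C K G) (k : ZMod 8) : S.X k 0 = 1 := by
  have h := S.circ.add k 0 0
  rw [add_zero] at h
  exact mul_eq_left.mp h

theorem X_neg (S : B2C K G) (k : ZMod 8) (t : K) : S.X k (-t) = (S.X k t)⁻¹ := by
  apply eq_inv_of_mul_eq_one_left
  rw [S.circ.add, neg_add_cancel, X_zero]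

/-- in a field with three elements every element is `0`, `t` or `-t` (for `t ≠ 0`) -/
theorem trichotomy [Fintype K] (h3 : Fintype.card K = 3) {t : K} (ht : t ≠ 0) (u : K) :
    u = 0 ∨ u = t ∨ u = -t := by
  classical
  have h3t : (3 : ℕ) • t = 0 := by
    rw [← h3]; exact card_nsmul_eq_zero
  have hne : t ≠ -t := by
    intro h
    have h2 : t + t = 0 := by
      nth_rewrite 2 [h]; exact add_neg_cancel t
    apply ht
    have : (3 : ℕ) • t = t + t + t := by
      rw [succ_nsmul, succ_nsmul, one_nsmul]
    rw [this, h2, zero_add] at h3t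
    exact h3t
  have hcard : ({0, t, -t} : Finset K).card = 3 := by
    rw [Finset.card_insert_of_notMem, Finset.card_insert_of_notMem, Finset.card_singleton]
    · rw [Finset.mem_singleton]; exact hne
    · rw [Finset.mem_insert, Finset.mem_singleton]
      rintro (h | h)
      · exact ht h.symm
      · exact ht (neg_eq_zero.mp h.symm)
  have huniv : ({0, t, -t} : Finset K) = Finset.univ := by
    apply Finset.eq_univ_of_card
    rw [hcard, h3]
  have hu : u ∈ ({0, t, -t} : Finset K) := by rw [huniv]; exact Finset.mem_univ u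
  rw [Finset.mem_insert, Finset.mem_insert, Finset.mem_singleton] at hu
  exact hu

end SAMESA

theorem clr_same_of_card_three [Fintype K] (S : B2C K G) (ψ : E →* G)
    (hψ : Function.Surjective ψ) (hc : ψ.ker ≤ Subgroup.center E) (h3 : Fintype.card K = 3)
    (k : ZMod 8) : CLr S ψ k k := by
  intro t u e e' he he'
  have hcen0 : ∀ x : E, ψ x = S.X k 0 → x ∈ Subgroup.center E := by
    intro x hx
    apply hc
    rw [MonoidHom.mem_ker, hx, SAMESA.X_zero]
  by_cases ht : t = 0
  · subst ht
    exact (Subgroup.mem_center_iff.mp (hcen0 e he) e').symm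
  · rcases SAMESA.trichotomy h3 ht u with hu | hu | hu
    · subst hu
      exact Subgroup.mem_center_iff.mp (hcen0 e' he') e
    · subst hu
      have hz : e' * e⁻¹ ∈ Subgroup.center E := by
        apply hc
        rw [MonoidHom.mem_ker, map_mul, map_inv, he, he', mul_inv_cancel]
      have h1 : Commute e (e' * e⁻¹) := Subgroup.mem_center_iff.mp hz e
      have : e' = (e' * e⁻¹) * e := by group
      rw [this]
      exact h1.mul_right (Commute.refl e)
    · subst hu
      have hz : e' * e ∈ Subgroup.center E := by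
        apply hc
        rw [MonoidHom.mem_ker, map_mul, he, he', SAMESA.X_neg, inv_mul_cancel]
      have h1 : Commute e (e' * e) := Subgroup.mem_center_iff.mp hz e
      have : e' = (e' * e) * e⁻¹ := by group
      rw [this]
      exact h1.mul_right (Commute.refl e).inv_right

theorem clr_same_short_of_two (S : B2C K G) (ψ : E →* G) (hψ : Function.Surjective ψ)
    (hc : ψ.ker ≤ Subgroup.center E) (h2 : (2 : K) = 0) (h45 : ∀ k, CLr S ψ k (k + 1))
    (k : ZMod 8) (hk : IsS k) : CLr S ψ k k := by
  intro t u e e' he he'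
  have hS : IsS (k - 2) := SAMESA.isS_sub_two k hk
  have hrel := S.circ.relI (k - 2) hS 1 (Or.inl rfl) 1 (S.e1 (k - 2) 1 * u)
  have i1 : k - 2 + 3 * 1 = k + 1 := by ring
  have i2 : k - 2 + 2 * 1 = k := by ring
  have i3 : k - 2 + 1 = k - 1 := by ring
  rw [i1, i2, i3] at hrel
  have harg : S.e1 (k - 2) 1 * 1 * (S.e1 (k - 2) 1 * u) = u := by
    rw [mul_one, ← mul_assoc, S.e1_sq, one_mul]
  rw [harg] at hrel
  -- `X k t` commutes with `X (k-2) 1`
  have c1 : Commute (S.X k t) (S.X (k - 2) 1) := by
    have hII := S.circ.relII (k - 2) hS 1 (Or.inl rfl) 1 t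
    rw [i2, i3, h2, zero_mul, zero_mul, zero_mul, SAMESA.X_zero] at hII
    exact (commutatorElement_eq_one_iff_commute.mp hII).symm
  have c2 : Commute (S.X k t) (S.X (k + 1) (S.e1 (k - 2) 1 * u)) := S.circ.comm45 k _ _
  have hCL := CL_of_comm ψ hψ hc c1 c2
  rw [hrel] at hCL
  obtain ⟨y₂, hy₂⟩ := hψ (S.X (k - 1) (S.e2 (k - 2) 1 * 1 ^ 2 * (S.e1 (k - 2) 1 * u)))
  have h1 : Commute e (e' * y₂) := hCL e (e' * y₂) he (by rw [map_mul, hy₂, he'])
  have h2' : Commute e y₂ := by
    have h := (h45 (k - 1))
    have i4 : k - 1 + 1 = k := by ring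
    rw [i4] at h
    exact (h _ t y₂ e hy₂ he).symm
  have : e' = (e' * y₂) * y₂⁻¹ := by group
  rw [this]
  exact h1.mul_right h2'.inv_right

end Cfsg.Agent.S2400P
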