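import Mathlib
import Cfsg.Agent.Helper2.S2400.Defs
import Cfsg.Agent.Helper2.Stein.Tab
import Cfsg.Prelude.Def_KGroupFacts
import Cfsg.Prelude.Def_Steinberg

set_option autoImplicit false
set_option linter.unusedSectionVars false
set_option linter.unusedVariables false

/-! S2400 piece SAMESD (helper15): lifts of elements of the same short root subgroup commute
(field with a suitable scalar `d`). -/

namespace Cfsg.Agent.S2400P

open scoped commutatorElement
open Cfsg.Lie Cfsg.Agent.Helper2.Stb Cfsg.Agent.Helper2.StPerf Cfsg.Agent.Helper2.Stein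
open Cfsg.Agent.S2086P (CL cl map_cl cl_eq commute_comm CL_of_comm)

universe u

variable {K : Type*} [Field K] {G : Type*} [Group G] {E : Type*} [Group E]

namespace SAMESD

theorem cA_succ_self : ∀ k : ZMod 8, IsS k → cA (k + 1) k = 1 := by decide

/-- elements of the same root subgroup commute -/
theorem commute_same (S : B2C K G) (k : ZMod 8) (t u : K) : Commute (S.X k t) (S.X k u) := by
  show S.X k t * S.X k u = S.X k u * S.X k t
  rw [S.circ.add, S.circ.add, add_comm]

section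
variable (S : B2C K G) (ψ : E →* G) (hψ : Function.Surjective ψ)
  (hc : ψ.ker ≤ Subgroup.center E)
include hc

/-- the commutator of lifts of two commuting elements is central -/
theorem cl_mem_center {g g' : G} (h : Commute g g') : cl ψ hψ g g' ∈ Subgroup.center E := by
  unfold cl
  apply comm_mem_center_of_map ψ hc
  rw [Function.surjInv_eq hψ, Function.surjInv_eq hψ]
  exact h

theorem cl_add_left (k : ZMod 8) (t t' u : K) :
    cl ψ hψ (S.X k (t + t')) (S.X k u) =
      cl ψ hψ (S.X k t) (S.X k u) * cl ψ hψ (S.X k t') (S.X k u) := by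
  obtain ⟨a, ha⟩ := hψ (S.X k t)
  obtain ⟨a', ha'⟩ := hψ (S.X k t')
  obtain ⟨c, hc'⟩ := hψ (S.X k u)
  have h1 : ψ (a * a') = S.X k (t + t') := by rw [map_mul, ha, ha', S.circ.add]
  rw [← cl_eq ψ hψ hc h1 hc', ← cl_eq ψ hψ hc ha hc', ← cl_eq ψ hψ hc ha' hc']
  apply comm_mul_left_of_central
  apply comm_mem_center_of_map ψ hc
  rw [ha', hc']
  exact commute_same S k t' u

theorem cl_add_right (k : ZMod 8) (t u u' : K) :
    cl ψ hψ (S.X k t) (S.X k (u + u')) =
      cl ψ hψ (S.X k t) (S.X k u) * cl ψ hψ (S.X k t) (S.X k u') := by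
  obtain ⟨a, ha⟩ := hψ (S.X k t)
  obtain ⟨c, hc1⟩ := hψ (S.X k u)
  obtain ⟨c', hc2⟩ := hψ (S.X k u')
  have h1 : ψ (c * c') = S.X k (u + u') := by rw [map_mul, hc1, hc2, S.circ.add]
  rw [← cl_eq ψ hψ hc ha h1, ← cl_eq ψ hψ hc ha hc1, ← cl_eq ψ hψ hc ha hc2]
  apply comm_mul_right_of_central
  apply comm_mem_center_of_map ψ hc
  rw [ha, hc2]
  exact commute_same S k t u'

/-- invariance under the torus element `h_{ρ_{k+1}}(v)` -/
theorem cl_scale (k : ZMod 8) (hk : IsS k) {v : K} (hv : v ≠ 0) (t u : K) :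
    cl ψ hψ (S.X k (v * t)) (S.X k (v * u)) = cl ψ hψ (S.X k t) (S.X k u) := by
  obtain ⟨g, hg⟩ := hψ (S.H (k + 1) v)
  obtain ⟨a, ha⟩ := hψ (S.X k t)
  obtain ⟨c, hc'⟩ := hψ (S.X k u)
  have hcen : ⁅a, c⁆ ∈ Subgroup.center E := by
    apply comm_mem_center_of_map ψ hc
    rw [ha, hc']
    exact commute_same S k t u
  have e1 : ψ (g * a * g⁻¹) = S.X k (v * t) := by
    rw [map_mul, map_mul, map_inv, hg, ha, S.conj (k + 1) v hv k t, cA_succ_self k hk, zpow_one]
  have e2 : ψ (g * c * g⁻¹) = S.X k (v * u) := by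
    rw [map_mul, map_mul, map_inv, hg, hc', S.conj (k + 1) v hv k u, cA_succ_self k hk, zpow_one]
  rw [← cl_eq ψ hψ hc e1 e2, ← cl_eq ψ hψ hc ha hc']
  have h3 : ⁅g * a * g⁻¹, g * c * g⁻¹⁆ = g * ⁅a, c⁆ * g⁻¹ := by
    simp only [commutatorElement_def]; group
  rw [h3, Subgroup.mem_center_iff.mp hcen g, mul_inv_cancel_right]

end

end SAMESD

theorem clr_same_short_of_scalar (S : B2C K G) (ψ : E →* G) (hψ : Function.Surjective ψ)
    (hc : ψ.ker ≤ Subgroup.center E) {d : K} (hd0 : d ≠ 0) (hd1 : d + 1 ≠ 0)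
    (hd : 1 + d + d ^ 2 ≠ 0) (k : ZMod 8) (hk : IsS k) : CLr S ψ k k := by
  have key := bimul_eq_one_of_scale (fun t u => cl ψ hψ (S.X k t) (S.X k u))
    (fun t t' u => SAMESD.cl_add_left S ψ hψ hc k t t' u)
    (fun t u u' => SAMESD.cl_add_right S ψ hψ hc k t u u') hd
    (fun t u => SAMESD.cl_scale S ψ hψ hc k hk hd0 t u)
    (fun t u => SAMESD.cl_scale S ψ hψ hc k hk hd1 t u)
  intro t u e e' he he'
  have h1 : ⁅e, e'⁆ = 1 := by
    rw [cl_eq ψ hψ hc he he']
    exact key t u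
  exact commutatorElement_eq_one_iff_commute.mp h1

end Cfsg.Agent.S2400P
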