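import Mathlib
import Cfsg.Agent.Helper10.S2092.DefsM

set_option autoImplicit false
set_option linter.unusedSectionVars false
set_option linter.unusedVariables false

/-! S2092 wave M (driver helper10; helper15): the `Matrix.single` calculus of the model root
elements `xs a b t = 1 + t • N a b`, `xl a t = 1 + t • L a` of `Sp_{2n}(F)`, shared by the pieces
XMATC, XMATD, XMEM, XTOR. -/

namespace Cfsg.Agent.S2092P

open Matrix Cfsg.Agent.S3352P Cfsg.Agent.S2096P

variable {n : ℕ} {F : Type*} [Field F]

namespace XLIB15

/-- the sign `ε = sg a * sg b` -/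
def ep (F : Type*) [Field F] (a b : J n) : F := sgF F a * sgF F b

/-- the nilpotent part `E_{a,b} - ε E_{-b,-a}` of a short root element -/
def nm (a b : J n) : Matrix (J n) (J n) F :=
  Matrix.single a b (1 : F) - (ep F a b) • Matrix.single (ng b) (ng a) (1 : F)

/-- the nilpotent part `E_{a,-a}` of a long root element -/
def lm (a : J n) : Matrix (J n) (J n) F := Matrix.single a (ng a) (1 : F)

theorem xs_eq (a b : J n) (t : F) : xs a b t = 1 + t • (nm a b : Matrix (J n) (J n) F) := rfl

theorem xl_eq (a : J n) (t : F) : xl a t = 1 + t • (lm a : Matrix (J n) (J n) F) := rfl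

theorem ep_mul_self (a b : J n) : ep F a b * ep F a b = 1 := by
  unfold ep
  calc sgF F a * sgF F b * (sgF F a * sgF F b)
      = (sgF F a * sgF F a) * (sgF F b * sgF F b) := by ring
    _ = 1 := by rw [sgF_mul_self, sgF_mul_self, one_mul]

theorem ep_ng_right (a b : J n) : ep F a (ng b) = - ep F a b := by
  unfold ep
  rw [sgF_ng]
  ring

theorem ep_ng_left (a b : J n) : ep F (ng a) b = - ep F a b := by
  unfold ep
  rw [sgF_ng]
  ring

theorem ep_comm (a b : J n) : ep F a b = ep F b a := by
  unfold ep
  ring

theorem single_mul (a b c d : J n) :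
    Matrix.single a b (1 : F) * Matrix.single c d (1 : F) =
      if b = c then Matrix.single a d (1 : F) else 0 := by
  split_ifs with h
  · subst h
    rw [Matrix.single_mul_single_same, mul_one]
  · rw [Matrix.single_mul_single_of_ne _ _ _ _ h]

theorem nm_mul_nm (a b c d : J n) :
    (nm a b : Matrix (J n) (J n) F) * nm c d =
      (if b = c then Matrix.single a d (1 : F) else 0)
        - ep F c d • (if b = ng d then Matrix.single a (ng c) (1 : F) else 0)
        - ep F a b • (if ng a = c then Matrix.single (ng b) d (1 : F) else 0)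
        + (ep F a b * ep F c d) •
          (if ng a = ng d then Matrix.single (ng b) (ng c) (1 : F) else 0) := by
  unfold nm
  rw [sub_mul, mul_sub, mul_sub, Matrix.smul_mul, Matrix.mul_smul, Matrix.smul_mul,
    Matrix.mul_smul, single_mul, single_mul, single_mul, single_mul, smul_smul]
  abel

theorem nm_mul_lm (a b c : J n) :
    (nm a b : Matrix (J n) (J n) F) * lm c =
      (if b = c then Matrix.single a (ng c) (1 : F) else 0)
        - ep F a b • (if ng a = c then Matrix.single (ng b) (ng c) (1 : F) else 0) := by
  unfold nm lm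
  rw [sub_mul, Matrix.smul_mul, single_mul, single_mul]

theorem lm_mul_nm (c a b : J n) :
    (lm c : Matrix (J n) (J n) F) * nm a b =
      (if ng c = a then Matrix.single c b (1 : F) else 0)
        - ep F a b • (if ng c = ng b then Matrix.single c (ng a) (1 : F) else 0) := by
  unfold nm lm
  rw [mul_sub, Matrix.mul_smul, single_mul, single_mul]

theorem lm_mul_lm (a c : J n) :
    (lm a : Matrix (J n) (J n) F) * lm c =
      if ng a = c then Matrix.single a (ng c) (1 : F) else 0 := by
  unfold lm
  rw [single_mul]

theorem ng_eq_iff {a b : J n} : ng a = b ↔ a = ng b := by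
  constructor
  · intro h
    rw [← h, ng_ng]
  · intro h
    rw [h, ng_ng]

theorem ng_eq_ng_iff {a b : J n} : ng a = ng b ↔ a = b :=
  ⟨fun h => ng_injective h, fun h => by rw [h]⟩

theorem one_add_smul_mul (A B : Matrix (J n) (J n) F) (s t : F) :
    (1 + s • A) * (1 + t • B) = 1 + s • A + t • B + (s * t) • (A * B) := by
  rw [mul_add, add_mul, add_mul, one_mul, mul_one, one_mul, smul_mul_smul_comm]
  abel

end XLIB15

end Cfsg.Agent.S2092P
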