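import Mathlib
import Cfsg.Agent.Helper15.S2092XLIB

set_option autoImplicit false
set_option linter.unusedSectionVars false
set_option linter.unusedVariables false

/-! S2092 wave M piece XMEM (driver helper10; helper15): the model root elements are symplectic. -/

namespace Cfsg.Agent.S2092P

open Matrix Cfsg.Agent.S3352P Cfsg.Agent.S2096P

variable {n : ℕ} {F : Type*} [Field F]

open XLIB15

namespace XMEM

theorem J_apply (x y : J n) :
    (Matrix.J (Fin n) F) x y = if y = ng x then - sgF F x else 0 := by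
  rcases x with i | i <;> rcases y with j | j
  · simp [Matrix.J]
  · by_cases h : i = j
    · subst h
      simp [Matrix.J]
    · have h' : (Sum.inr j : J n) ≠ Sum.inr i := fun e => h (Sum.inr_injective e).symm
      simp [Matrix.J, h, h']
  · by_cases h : i = j
    · subst h
      simp [Matrix.J]
    · have h' : (Sum.inl j : J n) ≠ Sum.inl i := fun e => h (Sum.inl_injective e).symm
      simp [Matrix.J, h, h']
  · simp [Matrix.J]

theorem single_mul_J (c d : J n) :
    Matrix.single c d (1 : F) * Matrix.J (Fin n) F =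
      (-sgF F d) • Matrix.single c (ng d) (1 : F) := by
  ext x y
  by_cases hx : x = c
  · subst hx
    rw [Matrix.single_mul_apply_same, one_mul, J_apply, Matrix.smul_apply, Matrix.single_apply]
    by_cases hy : y = ng d
    · rw [if_pos hy, if_pos ⟨rfl, hy.symm⟩, smul_eq_mul, mul_one]
    · rw [if_neg hy, if_neg (fun h => hy h.2.symm), smul_zero]
  · rw [Matrix.single_mul_apply_of_ne _ _ _ _ _ hx, Matrix.smul_apply, Matrix.single_apply,
      if_neg (fun h => hx h.1.symm), smul_zero]

theorem J_mul_single (d c : J n) :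
    Matrix.J (Fin n) F * Matrix.single d c (1 : F) =
      sgF F d • Matrix.single (ng d) c (1 : F) := by
  ext x y
  by_cases hy : y = c
  · subst hy
    rw [Matrix.mul_single_apply_same, mul_one, J_apply, Matrix.smul_apply, Matrix.single_apply]
    by_cases hd : d = ng x
    · rw [if_pos hd, if_pos ⟨by rw [hd, ng_ng], rfl⟩, hd, sgF_ng, smul_eq_mul, mul_one]
    · rw [if_neg hd, if_neg (fun h => hd (by rw [← h.1, ng_ng])), smul_zero]
  · rw [Matrix.mul_single_apply_of_ne _ _ _ _ _ hy, Matrix.smul_apply, Matrix.single_apply,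
      if_neg (fun h => hy h.2.symm), smul_zero]

theorem ep_mul_sg (a b : J n) : ep F a b * sgF F a = sgF F b := by
  unfold ep
  calc sgF F a * sgF F b * sgF F a = (sgF F a * sgF F a) * sgF F b := by ring
    _ = sgF F b := by rw [sgF_mul_self, one_mul]

/-- the criterion: `1 + t • N` is symplectic when `N J + J Nᵀ = 0` and `N J Nᵀ = 0` -/
theorem mem_of (N : Matrix (J n) (J n) F) (t : F)
    (h1 : N * Matrix.J (Fin n) F + Matrix.J (Fin n) F * Nᵀ = 0)
    (h2 : N * Matrix.J (Fin n) F * Nᵀ = 0) :
    1 + t • N ∈ symplecticGroup (Fin n) F := by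
  rw [SymplecticGroup.mem_iff, Matrix.transpose_add, Matrix.transpose_one, Matrix.transpose_smul]
  have e : (1 + t • N) * Matrix.J (Fin n) F * (1 + t • Nᵀ) =
      Matrix.J (Fin n) F + t • (N * Matrix.J (Fin n) F + Matrix.J (Fin n) F * Nᵀ) +
        (t * t) • (N * Matrix.J (Fin n) F * Nᵀ) := by
    simp only [add_mul, mul_add, one_mul, mul_one, Matrix.smul_mul, Matrix.mul_smul, smul_add,
      smul_smul]
    abel
  rw [e, h1, h2, smul_zero, smul_zero, add_zero, add_zero]

end XMEM

open XMEM

/-! ### XMEM [M]: the root elements are symplectic -/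

theorem xs_mem {a b : J n} (hab : IsRoot a b) (t : F) : xs a b t ∈ symplecticGroup (Fin n) F := by
  rw [xs_eq]
  have hT : (nm a b : Matrix (J n) (J n) F)ᵀ =
      Matrix.single b a (1 : F) - ep F a b • Matrix.single (ng a) (ng b) (1 : F) := by
    unfold nm
    rw [Matrix.transpose_sub, Matrix.transpose_smul, Matrix.transpose_single,
      Matrix.transpose_single]
  have hNJ : (nm a b : Matrix (J n) (J n) F) * Matrix.J (Fin n) F =
      (-sgF F b) • Matrix.single a (ng b) (1 : F) - (sgF F b) • Matrix.single (ng b) a (1 : F) := by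
    unfold nm
    rw [sub_mul, Matrix.smul_mul, single_mul_J, single_mul_J, ng_ng, sgF_ng, smul_smul, neg_neg,
      ep_mul_sg]
  have hJN : Matrix.J (Fin n) F * (nm a b : Matrix (J n) (J n) F)ᵀ =
      (sgF F b) • Matrix.single (ng b) a (1 : F) + (sgF F b) • Matrix.single a (ng b) (1 : F) := by
    rw [hT, mul_sub, Matrix.mul_smul, J_mul_single, J_mul_single, ng_ng, sgF_ng, smul_smul,
      mul_neg, ep_mul_sg, neg_smul, sub_neg_eq_add]
  apply mem_of
  · rw [hNJ, hJN, neg_smul]
    abel
  · rw [hNJ, hT]
    simp only [sub_mul, mul_sub, Matrix.smul_mul, Matrix.mul_smul, single_mul]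
    rw [if_neg (ng_ne b), if_neg (fun h => hab.1 (ng_injective h).symm), if_neg hab.1,
      if_neg (fun h => ng_ne a h.symm)]
    simp

theorem xl_mem (a : J n) (t : F) : xl a t ∈ symplecticGroup (Fin n) F := by
  rw [xl_eq]
  have hT : (lm a : Matrix (J n) (J n) F)ᵀ = Matrix.single (ng a) a (1 : F) := by
    unfold lm
    rw [Matrix.transpose_single]
  have hLJ : (lm a : Matrix (J n) (J n) F) * Matrix.J (Fin n) F =
      (sgF F a) • Matrix.single a a (1 : F) := by
    unfold lm
    rw [single_mul_J, ng_ng, sgF_ng, neg_neg]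
  have hJL : Matrix.J (Fin n) F * (lm a : Matrix (J n) (J n) F)ᵀ =
      (-sgF F a) • Matrix.single a a (1 : F) := by
    rw [hT, J_mul_single, ng_ng, sgF_ng]
  apply mem_of
  · rw [hLJ, hJL, neg_smul]
    abel
  · rw [hLJ, hT, Matrix.smul_mul, single_mul, if_neg (fun h => ng_ne a h.symm), smul_zero]

end Cfsg.Agent.S2092P
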