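import Mathlib
import Cfsg.Agent.Helper15.S2092XLIB

set_option autoImplicit false
set_option linter.unusedSectionVars false
set_option linter.unusedVariables false

/-! S2092 wave M piece XMATC (driver helper10; helper15): `xs_orthC`, `xs_sl`. -/

namespace Cfsg.Agent.S2092P

open Matrix Cfsg.Agent.S3352P Cfsg.Agent.S2096P

variable {n : ℕ} {F : Type*} [Field F]

open XLIB15

/-! ### XMATC [M]: `orthC`, `sl` -/

theorem xs_orthC {a b : J n} (hab : IsRoot a b) (s t : F) :
    xs a b s * xs b (ng a) t = xl a (2 * s * t) * xs b (ng a) t * xs a b s := by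
  have hAB : (nm a b : Matrix (J n) (J n) F) * nm b (ng a) = lm a := by
    rw [nm_mul_nm, if_pos rfl, if_neg (fun h => hab.1 (by rw [ng_ng] at h; exact h.symm)),
      if_neg (fun h => hab.2 (ng_eq_iff.mp h)), if_neg (fun h => ng_ne (ng a) h.symm)]
    simp [lm]
  have hBA : (nm b (ng a) : Matrix (J n) (J n) F) * nm a b = - lm a := by
    rw [nm_mul_nm, if_neg (ng_ne a), if_neg (fun h => hab.1 (ng_injective h)),
      if_neg (fun h => hab.2 h.symm), if_pos rfl, ng_ng]
    have : ep F b (ng a) * ep F a b = -1 := by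
      rw [ep_ng_right, ep_comm b a, neg_mul, ep_mul_self]
    rw [this]
    simp [lm]
  have hLB : (lm a : Matrix (J n) (J n) F) * nm b (ng a) = 0 := by
    rw [lm_mul_nm, if_neg (fun h => hab.2 (ng_eq_iff.mp h)),
      if_neg (fun h => ng_ne (ng a) h.symm)]
    simp
  have hLA : (lm a : Matrix (J n) (J n) F) * nm a b = 0 := by
    rw [lm_mul_nm, if_neg (ng_ne a), if_neg (fun h => hab.1 (ng_injective h))]
    simp
  have hLL : (lm a : Matrix (J n) (J n) F) * lm a = 0 := by
    rw [lm_mul_lm, if_neg (ng_ne a)]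
  rw [xs_eq, xs_eq, xl_eq, one_add_smul_mul, one_add_smul_mul, hLB, smul_zero, add_zero,
    mul_add, mul_one, add_mul, add_mul, one_mul, smul_mul_smul_comm, smul_mul_smul_comm, hLA,
    smul_zero, add_zero, hAB, hBA]
  rw [smul_neg]
  have e : (2 * s * t) • (lm a : Matrix (J n) (J n) F) = (s * t) • lm a + (s * t) • lm a := by
    rw [← add_smul]
    congr 1
    ring
  rw [e, mul_comm t s]
  abel

theorem xs_sl {a b : J n} (hab : IsRoot a b) (s t : F) :
    xs a b s * xl b t =
      xs a (ng b) (s * t) * xl a (sgF F a * sgF F b * s ^ 2 * t) * xl b t * xs a b s := by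
  have hALb : (nm a b : Matrix (J n) (J n) F) * lm b = Matrix.single a (ng b) (1 : F) := by
    rw [nm_mul_lm, if_pos rfl, if_neg (fun h => hab.2 (ng_eq_iff.mp h))]
    simp
  have hLbA : (lm b : Matrix (J n) (J n) F) * nm a b =
      -(ep F a b • Matrix.single b (ng a) (1 : F)) := by
    rw [lm_mul_nm, if_neg (fun h => hab.2 h.symm), if_pos rfl]
    simp
  have hC : (nm a (ng b) : Matrix (J n) (J n) F) =
      Matrix.single a (ng b) (1 : F) + ep F a b • Matrix.single b (ng a) (1 : F) := by
    unfold nm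
    rw [ep_ng_right, ng_ng, neg_smul, sub_neg_eq_add]
  have hCLa : (nm a (ng b) : Matrix (J n) (J n) F) * lm a = 0 := by
    rw [nm_mul_lm, if_neg (fun h => hab.2 h.symm), if_neg (ng_ne a)]
    simp
  have hCLb : (nm a (ng b) : Matrix (J n) (J n) F) * lm b = 0 := by
    rw [nm_mul_lm, if_neg (ng_ne b), if_neg (fun h => hab.2 (ng_eq_iff.mp h))]
    simp
  have hCA : (nm a (ng b) : Matrix (J n) (J n) F) * nm a b = -(ep F a b • lm a) := by
    rw [nm_mul_nm, if_neg (fun h => hab.2 h.symm), if_pos rfl, if_neg (ng_ne a),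
      if_neg (fun h => hab.1 (ng_injective h))]
    simp [lm]
  have hLaLb : (lm a : Matrix (J n) (J n) F) * lm b = 0 := by
    rw [lm_mul_lm, if_neg (fun h => hab.2 (ng_eq_iff.mp h))]
  have hLaA : (lm a : Matrix (J n) (J n) F) * nm a b = 0 := by
    rw [lm_mul_nm, if_neg (ng_ne a), if_neg (fun h => hab.1 (ng_injective h))]
    simp
  have hP1 : xs a (ng b) (s * t) * xl a (sgF F a * sgF F b * s ^ 2 * t) =
      1 + (s * t) • (nm a (ng b) : Matrix (J n) (J n) F) + (ep F a b * s ^ 2 * t) • lm a := by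
    rw [xs_eq, xl_eq, one_add_smul_mul, hCLa, smul_zero, add_zero]
    rfl
  have hP2 : xl b t * xs a b s =
      1 + t • (lm b : Matrix (J n) (J n) F) + s • nm a b
        - (t * s * ep F a b) • Matrix.single b (ng a) (1 : F) := by
    rw [xs_eq, xl_eq, one_add_smul_mul, hLbA, smul_neg, smul_smul, sub_eq_add_neg]
  rw [mul_assoc, hP1, hP2, xs_eq, xl_eq, one_add_smul_mul, hALb]
  have hLaS : (lm a : Matrix (J n) (J n) F) * Matrix.single b (ng a) (1 : F) = 0 := by
    unfold lm
    rw [single_mul, if_neg (fun h => hab.2 (ng_eq_iff.mp h))]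
  have hCS : (nm a (ng b) : Matrix (J n) (J n) F) * Matrix.single b (ng a) (1 : F) = 0 := by
    unfold nm
    rw [sub_mul, Matrix.smul_mul, single_mul, single_mul, if_neg (ng_ne b),
      if_neg (fun h => hab.2 (ng_eq_iff.mp h))]
    simp
  simp only [mul_add, add_mul, mul_sub, mul_one, one_mul, Matrix.smul_mul,
    Matrix.mul_smul, hCLb, hCA, hLaLb, hLaA, hLaS, hCS, smul_zero, add_zero, smul_neg,
    smul_smul]
  rw [hC]
  module

end Cfsg.Agent.S2092P
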