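import Mathlib
import Cfsg.Agent.Helper15.S2092XLIB

set_option autoImplicit false
set_option linter.unusedSectionVars false
set_option linter.unusedVariables false

/-! S2092 wave M piece XMATD (driver helper10; helper15): `xs_slcomm`, `xl_ll`. -/

namespace Cfsg.Agent.S2092P

open Matrix Cfsg.Agent.S3352P Cfsg.Agent.S2096P

variable {n : ℕ} {F : Type*} [Field F]

open XLIB15

/-! ### XMATD [S-M]: `slcomm`, `ll` -/

theorem xs_slcomm {a b c : J n} (hab : IsRoot a b) (h1 : c ≠ b) (h2 : c ≠ ng a) (s t : F) :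
    xs a b s * xl c t = xl c t * xs a b s := by
  have hAL : (nm a b : Matrix (J n) (J n) F) * lm c = 0 := by
    rw [nm_mul_lm, if_neg h1.symm, if_neg h2.symm]
    simp
  have hLA : (lm c : Matrix (J n) (J n) F) * nm a b = 0 := by
    rw [lm_mul_nm, if_neg (fun h => h2 (ng_eq_iff.mp h)), if_neg (fun h => h1 (ng_injective h))]
    simp
  rw [xs_eq, xl_eq, one_add_smul_mul, one_add_smul_mul, hAL, hLA, smul_zero, smul_zero]
  abel

theorem xl_ll {a c : J n} (h : c ≠ ng a) (s t : F) : xl a s * xl c t = xl c t * xl a s := by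
  have h1 : (lm a : Matrix (J n) (J n) F) * lm c = 0 := by
    rw [lm_mul_lm, if_neg h.symm]
  have h2 : (lm c : Matrix (J n) (J n) F) * lm a = 0 := by
    rw [lm_mul_lm, if_neg (fun h' : ng c = a => h (ng_eq_iff.mp h'))]
  rw [xl_eq, xl_eq, one_add_smul_mul, one_add_smul_mul, h1, h2, smul_zero, smul_zero]
  abel

end Cfsg.Agent.S2092P
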