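import Mathlib
import Cfsg.Agent.Helper15.S2092XLIB

set_option autoImplicit false
set_option linter.unusedSectionVars false
set_option linter.unusedVariables false

/-! S2092 wave M piece XTOR (driver helper10; helper15): the torus acts on the model root elements
through the characters. -/

namespace Cfsg.Agent.S2092P

open Matrix Cfsg.Agent.S3352P Cfsg.Agent.S2096P

variable {n : ℕ} {F : Type*} [Field F]

open XLIB15

namespace XTOR

theorem diag_mul_single (χ : J n → F) (a b : J n) :
    Matrix.diagonal χ * Matrix.single a b (1 : F) = χ a • Matrix.single a b (1 : F) := by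
  ext x y
  rw [Matrix.diagonal_mul, Matrix.smul_apply, Matrix.single_apply]
  by_cases h : a = x ∧ b = y
  · rw [if_pos h, h.1]
    rfl
  · rw [if_neg h, mul_zero, smul_zero]

theorem single_mul_diag (χ : J n → F) (a b : J n) :
    Matrix.single a b (1 : F) * Matrix.diagonal χ = χ b • Matrix.single a b (1 : F) := by
  ext x y
  rw [Matrix.mul_diagonal, Matrix.smul_apply, Matrix.single_apply]
  by_cases h : a = x ∧ b = y
  · rw [if_pos h, h.2, smul_eq_mul, mul_comm]
  · rw [if_neg h, zero_mul, smul_zero]

end XTOR

open XTOR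

/-! ### XTOR [S-M]: the torus acts through the characters -/

theorem hm_conj_xs (d : Fin n → Fˣ) {a b : J n} (hab : IsRoot a b) (t : F) :
    hm d * xs a b t = xs a b (chi d a * (chi d b)⁻¹ * t) * hm d := by
  rw [xs_eq, xs_eq]
  unfold nm hm
  rw [mul_add, add_mul, mul_one, one_mul, Matrix.mul_smul, Matrix.smul_mul, mul_sub, sub_mul,
    Matrix.mul_smul, Matrix.smul_mul, diag_mul_single, diag_mul_single, single_mul_diag,
    single_mul_diag, chi_ng, chi_ng]
  congr 1
  have ha := chi_ne_zero d a
  have hb := chi_ne_zero d b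
  rw [smul_sub, smul_sub, smul_smul, smul_smul, smul_smul, smul_smul, smul_smul, smul_smul]
  congr 2
  · field_simp
  · field_simp

theorem hm_conj_xl (d : Fin n → Fˣ) (a : J n) (t : F) :
    hm d * xl a t = xl a (chi d a ^ 2 * t) * hm d := by
  rw [xl_eq, xl_eq]
  unfold lm hm
  rw [mul_add, add_mul, mul_one, one_mul, Matrix.mul_smul, Matrix.smul_mul, diag_mul_single,
    single_mul_diag, chi_ng]
  congr 1
  have ha := chi_ne_zero d a
  rw [smul_smul, smul_smul]
  congr 1
  field_simp

end Cfsg.Agent.S2092P
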