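import Mathlib
import Cfsg.Prelude.Def_JComponents
import Cfsg.Agent.Helper26.Thompson
import Cfsg.Agent.Helper14.PCore
import Cfsg.Agent.Helper17.Basic
import Cfsg.Agent.Helper7.Layer
import Cfsg.Agent.Helper10.PGroupBasic
import Cfsg.Agent.S2941

/-!
# J-components, part 1: general lemmas

* `maxEA p P`: the elementary abelian `p`-subgroups of largest order of a subgroup `P`, seen in `G`;
  `thompsonSubgroupOf p P = sSup (maxEA p P)`.
* small lemmas about groups of order four and conjugation.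
-/

set_option autoImplicit false

namespace Cfsg.Agent.Helper15.JComp

open Cfsg Subgroup
open scoped commutatorElement

variable {G : Type*} [Group G]

/-! ### conjugation helpers -/

theorem conj_mem_of_mem_normalizer {H : Subgroup G} {g x : G} (hg : g ∈ normalizer (H : Set G))
    (hx : x ∈ H) : g * x * g⁻¹ ∈ H :=
  (mem_normalizer_iff.mp hg x).mp hx

theorem conj_inv_mem_of_mem_normalizer {H : Subgroup G} {g x : G} (hg : g ∈ normalizer (H : Set G))
    (hx : x ∈ H) : g⁻¹ * x * g ∈ H := by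
  have := conj_mem_of_mem_normalizer (inv_mem hg) hx
  simpa using this

theorem conj_mem_centralizer {H : Subgroup G} {g c : G} (hg : g ∈ normalizer (H : Set G))
    (hc : c ∈ centralizer (H : Set G)) : g * c * g⁻¹ ∈ centralizer (H : Set G) := by
  rw [mem_centralizer_iff] at hc ⊢
  intro h hh
  have h1 : g⁻¹ * h * g ∈ H := conj_inv_mem_of_mem_normalizer hg hh
  have h2 := hc _ h1
  calc h * (g * c * g⁻¹) = g * ((g⁻¹ * h * g) * c) * g⁻¹ := by group
    _ = g * (c * (g⁻¹ * h * g)) * g⁻¹ := by rw [h2]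
    _ = g * c * g⁻¹ * h := by group

theorem normalizer_le_normalizer_centralizer (H : Subgroup G) :
    normalizer (H : Set G) ≤ normalizer ((centralizer (H : Set G) : Subgroup G) : Set G) := by
  apply Cfsg.Agent.S2941.le_normalizer_of_conj_mem
  intro g hg c hc
  exact conj_mem_centralizer hg hc

theorem le_normalizer_inf {A B : Subgroup G} :
    normalizer (A : Set G) ⊓ normalizer (B : Set G) ≤ normalizer ((A ⊓ B : Subgroup G) : Set G) := by
  apply Cfsg.Agent.S2941.le_normalizer_of_conj_mem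
  rintro g ⟨hgA, hgB⟩ x ⟨hxA, hxB⟩
  exact ⟨conj_mem_of_mem_normalizer hgA hxA, conj_mem_of_mem_normalizer hgB hxB⟩

theorem le_normalizer_sup {A B : Subgroup G} :
    normalizer (A : Set G) ⊓ normalizer (B : Set G) ≤ normalizer ((A ⊔ B : Subgroup G) : Set G) := by
  apply Cfsg.Agent.S2941.le_normalizer_of_conj_mem
  rintro g ⟨hgA, hgB⟩ x hx
  rw [sup_eq_closure] at hx
  have : ∀ y ∈ closure ((A : Set G) ∪ B), g * y * g⁻¹ ∈ A ⊔ B := by
    apply Cfsg.Agent.S2941.conj_closure_mem
    rintro y (hy | hy)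
    · exact mem_sup_left (conj_mem_of_mem_normalizer hgA hy)
    · exact mem_sup_right (conj_mem_of_mem_normalizer hgB hy)
  exact this x hx

theorem le_normalizer_commutator {A B : Subgroup G} :
    normalizer (A : Set G) ⊓ normalizer (B : Set G) ≤ normalizer ((⁅A, B⁆ : Subgroup G) : Set G) := by
  apply Cfsg.Agent.S2941.le_normalizer_of_conj_mem
  rintro g ⟨hgA, hgB⟩ x hx
  rw [Subgroup.commutator_def] at hx
  have : ∀ y ∈ closure {y | ∃ a ∈ A, ∃ b ∈ B, ⁅a, b⁆ = y}, g * y * g⁻¹ ∈ ⁅A, B⁆ := by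
    apply Cfsg.Agent.S2941.conj_closure_mem
    rintro _ ⟨a, ha, b, hb, rfl⟩
    have e : g * ⁅a, b⁆ * g⁻¹ = ⁅g * a * g⁻¹, g * b * g⁻¹⁆ := by
      simp only [commutatorElement_def]; group
    rw [e]
    exact commutator_mem_commutator (conj_mem_of_mem_normalizer hgA ha)
      (conj_mem_of_mem_normalizer hgB hb)
  exact this x hx

theorem map_conj_eq_of_mem_normalizer {H : Subgroup G} {g : G} (hg : g ∈ normalizer (H : Set G)) :
    H.map (MulAut.conj g).toMonoidHom = H :=
  Subgroup.mem_normalizer_iff_map_conj_eq.mp hg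

/-- `omegaOne p` of a subgroup is normalized by its normalizer. -/
theorem normalizer_le_normalizer_omegaOne (p : ℕ) (H : Subgroup G) :
    normalizer (H : Set G) ≤ normalizer ((omegaOne p H : Subgroup G) : Set G) := by
  apply Cfsg.Agent.S2941.le_normalizer_of_conj_mem
  intro g hg x hx
  unfold omegaOne at hx ⊢
  have : ∀ y ∈ closure {x : G | x ∈ H ∧ x ^ p = 1}, g * y * g⁻¹ ∈ closure {x : G | x ∈ H ∧ x ^ p = 1} := by
    apply Cfsg.Agent.S2941.conj_closure_mem
    rintro y ⟨hyH, hyp⟩
    apply Subgroup.subset_closure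
    refine ⟨conj_mem_of_mem_normalizer hg hyH, ?_⟩
    rw [conj_pow, hyp]; group
  exact this x hx

theorem omegaOne_le (p : ℕ) (H : Subgroup G) : omegaOne p H ≤ H := by
  unfold omegaOne
  rw [closure_le]
  intro x hx
  exact hx.1

/-- `Ω₁(Z(X))` is normalized by `N(X)`. -/
theorem normalizer_le_normalizer_omegaCenterOf (X : Subgroup G) :
    normalizer (X : Set G) ≤ normalizer ((omegaCenterOf X : Subgroup G) : Set G) := by
  unfold omegaCenterOf
  refine le_trans ?_ (normalizer_le_normalizer_omegaOne 2 _)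
  refine le_trans ?_ le_normalizer_inf
  exact le_inf le_rfl (normalizer_le_normalizer_centralizer X)

theorem omegaCenterOf_le (X : Subgroup G) : omegaCenterOf X ≤ X ⊓ centralizer (X : Set G) :=
  omegaOne_le 2 _

/-! ### `maxEA` -/

/-- elementary abelian `p`-subgroups of `P` of largest order, as subgroups of `G` -/
def maxEA (p : ℕ) (P : Subgroup G) : Set (Subgroup G) :=
  {E | E ≤ P ∧ IsElementaryAbelian p E ∧
    ∀ F : Subgroup G, F ≤ P → IsElementaryAbelian p F → Nat.card F ≤ Nat.card E}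

open Cfsg.Agent.Helper26 in
theorem map_subtype_mem_maxEA {p : ℕ} {P : Subgroup G} {A : Subgroup P}
    (hA : A ∈ maxElementaryAbelianSubgroups p P) : A.map P.subtype ∈ maxEA p P := by
  refine ⟨?_, isElementaryAbelian_map _ hA.1, ?_⟩
  · rintro _ ⟨x, _, rfl⟩
    exact x.2
  · intro F hFP hF
    rw [card_map_subtype, ← card_subgroupOf_of_le hFP]
    exact hA.2 _ (isElementaryAbelian_subgroupOf P hF)

open Cfsg.Agent.Helper26 in
theorem subgroupOf_mem_of_mem_maxEA {p : ℕ} {P : Subgroup G} {E : Subgroup G}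
    (hE : E ∈ maxEA p P) : E.subgroupOf P ∈ maxElementaryAbelianSubgroups p P := by
  refine ⟨isElementaryAbelian_subgroupOf P hE.2.1, ?_⟩
  intro B hB
  rw [card_subgroupOf_of_le hE.1, ← card_map_subtype]
  apply hE.2.2 _ _ (isElementaryAbelian_map _ hB)
  rintro _ ⟨x, _, rfl⟩
  exact x.2

theorem thompsonSubgroupOf_eq_sSup_maxEA (p : ℕ) (P : Subgroup G) :
    thompsonSubgroupOf p P = sSup (maxEA p P) := by
  apply le_antisymm
  · unfold thompsonSubgroupOf thompsonSubgroup
    rw [map_le_iff_le_comap]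
    apply sSup_le
    intro A hA
    rw [← map_le_iff_le_comap]
    exact le_sSup (map_subtype_mem_maxEA hA)
  · apply sSup_le
    intro E hE
    unfold thompsonSubgroupOf thompsonSubgroup
    have h1 : E.subgroupOf P ≤ sSup (maxElementaryAbelianSubgroups p P) :=
      le_sSup (subgroupOf_mem_of_mem_maxEA hE)
    have h2 := map_mono (f := P.subtype) h1
    rwa [map_subgroupOf_eq_of_le hE.1] at h2

theorem le_thompsonSubgroupOf_of_mem_maxEA {p : ℕ} {P E : Subgroup G} (hE : E ∈ maxEA p P) :
    E ≤ thompsonSubgroupOf p P := by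
  rw [thompsonSubgroupOf_eq_sSup_maxEA]
  exact le_sSup hE

theorem maxEA_nonempty [Finite G] (p : ℕ) (P : Subgroup G) : (maxEA p P).Nonempty := by
  obtain ⟨A, hA⟩ := Cfsg.Agent.Helper26.exists_mem_maxElementaryAbelianSubgroups (G := P) p
  exact ⟨_, map_subtype_mem_maxEA hA⟩

theorem card_eq_of_mem_maxEA {p : ℕ} {P E F : Subgroup G} (hE : E ∈ maxEA p P) (hF : F ∈ maxEA p P) :
    Nat.card E = Nat.card F :=
  le_antisymm (hF.2.2 E hE.1 hE.2.1) (hE.2.2 F hF.1 hF.2.1)

/-- an elementary abelian subgroup of `P` at least as large as a member of `maxEA p P` is a member -/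
theorem mem_maxEA_of_card_le {p : ℕ} {P E F : Subgroup G} (hE : E ∈ maxEA p P) (hFP : F ≤ P)
    (hF : IsElementaryAbelian p F) (hc : Nat.card E ≤ Nat.card F) : F ∈ maxEA p P :=
  ⟨hFP, hF, fun F' hF'P hF' => (hE.2.2 F' hF'P hF').trans hc⟩

/-- if `J(S) = J(T)` then `S` and `T` have the same elementary abelian subgroups of largest order -/
theorem maxEA_le_of_thompson_eq [Finite G] {p : ℕ} {S T : Subgroup G}
    (h : thompsonSubgroupOf p S = thompsonSubgroupOf p T) : maxEA p S ⊆ maxEA p T := by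
  intro E hE
  have hET : E ≤ T := by
    have h1 := le_thompsonSubgroupOf_of_mem_maxEA hE
    rw [h] at h1
    exact h1.trans (Cfsg.Agent.S2941.thompsonSubgroupOf_le p T)
  obtain ⟨F, hF⟩ := maxEA_nonempty p T
  have hFS : F ≤ S := by
    have h1 := le_thompsonSubgroupOf_of_mem_maxEA hF
    rw [← h] at h1
    exact h1.trans (Cfsg.Agent.S2941.thompsonSubgroupOf_le p S)
  have h2 : Nat.card F ≤ Nat.card E := hE.2.2 F hFS hF.2.1
  exact mem_maxEA_of_card_le hF hET hE.2.1 h2

theorem maxEA_eq_of_thompson_eq [Finite G] {p : ℕ} {S T : Subgroup G}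
    (h : thompsonSubgroupOf p S = thompsonSubgroupOf p T) : maxEA p S = maxEA p T :=
  Set.Subset.antisymm (maxEA_le_of_thompson_eq h) (maxEA_le_of_thompson_eq h.symm)

open Cfsg.Agent.Helper26 in
/-- an element of order dividing `p` of `P` commuting with a member of `maxEA p P` lies in it -/
theorem mem_of_mem_maxEA_of_commute [Finite G] {p : ℕ} {P E : Subgroup G} (hE : E ∈ maxEA p P)
    {x : G} (hxP : x ∈ P) (hx : x ^ p = 1) (hc : ∀ a ∈ E, a * x = x * a) : x ∈ E := by
  have hEA : IsElementaryAbelian p (E ⊔ zpowers x) := by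
    apply isElementaryAbelian_sup hE.2.1 (isElementaryAbelian_zpowers_of_orderOf_eq hx)
    rintro a ha _ ⟨i, rfl⟩
    exact ((Commute.zpow_right (hc a ha) i) : Commute a (x ^ i)).eq
  have hle' : E ⊔ zpowers x ≤ P := sup_le hE.1 (by rw [zpowers_le]; exact hxP)
  have hcard := hE.2.2 _ hle' hEA
  have hle : E ≤ E ⊔ zpowers x := le_sup_left
  have heq : E = E ⊔ zpowers x := eq_of_le_of_card_ge hle hcard
  rw [heq]
  exact mem_sup_right (mem_zpowers x)

/-- `Ω₁(Z(J(P)))` lies in every elementary abelian subgroup of largest order of `P` -/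
theorem omegaCenterOf_thompson_le_of_mem_maxEA [Finite G] {P E : Subgroup G} (hE : E ∈ maxEA 2 P) :
    omegaCenterOf (thompsonSubgroupOf 2 P) ≤ E := by
  unfold omegaCenterOf omegaOne
  rw [closure_le]
  rintro x ⟨⟨hxJ, hxc⟩, hx2⟩
  apply mem_of_mem_maxEA_of_commute hE ((Cfsg.Agent.S2941.thompsonSubgroupOf_le 2 P) hxJ) hx2
  intro a ha
  exact (mem_centralizer_iff.mp hxc a (le_thompsonSubgroupOf_of_mem_maxEA hE ha))

open Cfsg.Agent.Helper26 in
/-- conjugates of members of `maxEA` inside `P` are members -/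
theorem map_conj_mem_maxEA {p : ℕ} {P E : Subgroup G} (hE : E ∈ maxEA p P) (g : G)
    (h : E.map (MulAut.conj g).toMonoidHom ≤ P) : E.map (MulAut.conj g).toMonoidHom ∈ maxEA p P := by
  refine mem_maxEA_of_card_le hE h (isElementaryAbelian_map _ hE.2.1) ?_
  exact le_of_eq (Nat.card_congr ((MulAut.conj g).subgroupMap E).toEquiv)

/-- `P` normalizes `J(P)` -/
theorem le_normalizer_thompsonSubgroupOf (p : ℕ) (P : Subgroup G) :
    P ≤ normalizer ((thompsonSubgroupOf p P : Subgroup G) : Set G) := by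
  apply Cfsg.Agent.S2941.le_normalizer_of_conj_mem
  intro g hg x hx
  rw [thompsonSubgroupOf_eq_sSup_maxEA] at hx ⊢
  have hle : (sSup (maxEA p P)).map (MulAut.conj g).toMonoidHom ≤ sSup (maxEA p P) := by
    rw [map_le_iff_le_comap]
    apply sSup_le
    intro E hE
    rw [← map_le_iff_le_comap]
    have hmem : E.map (MulAut.conj g).toMonoidHom ∈ maxEA p P := by
      apply map_conj_mem_maxEA hE
      rintro _ ⟨e, he, rfl⟩
      exact P.mul_mem (P.mul_mem hg (hE.1 he)) (P.inv_mem hg)
    exact le_sSup hmem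
  exact hle ⟨x, hx, rfl⟩

/-! ### groups of order four -/

/-- In a subgroup `W` of order `4` with a subgroup `F` of order `2`, the product of two elements outside `F` is in `F`. -/
theorem mul_mem_of_card_four [Finite G] {W F : Subgroup G} (hW : Nat.card W = 4) (hF : Nat.card F = 2)
    (hFW : F ≤ W) {u v : G} (hu : u ∈ W) (hv : v ∈ W) (huF : u ∉ F) (hvF : v ∉ F) : u * v ∈ F := by
  have hidx : (F.subgroupOf W).index = 2 := by
    have h1 := Cfsg.Agent.Helper26.card_mul_relIndex_of_le hFW
    rw [hF, hW] at h1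
    have : F.relIndex W = 2 := by omega
    exact this
  have := Subgroup.mul_mem_iff_of_index_two hidx (a := ⟨u, hu⟩) (b := ⟨v, hv⟩)
  simp only [mem_subgroupOf] at this
  have h2 : (u ∈ F ↔ v ∈ F) := ⟨fun h => absurd h huF, fun h => absurd h hvF⟩
  exact this.mpr h2

/-- a proper subgroup of a group of order four has order at most two -/
theorem card_le_two_of_lt [Finite G] {W F : Subgroup G} (hW : Nat.card W = 4) (hFW : F ≤ W)
    (hne : ¬ W ≤ F) : Nat.card F ≤ 2 := by
  have hdvd : Nat.card F ∣ 4 := hW ▸ Subgroup.card_dvd_of_le hFW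
  have hle : Nat.card F ≤ 4 := Nat.le_of_dvd (by norm_num) hdvd
  have hne4 : Nat.card F ≠ 4 := by
    intro h4
    apply hne
    have : F = W := eq_of_le_of_card_ge hFW (by rw [hW, h4])
    rw [this]
  have hne3 : Nat.card F ≠ 3 := by
    intro h3
    rw [h3] at hdvd
    norm_num at hdvd
  omega

end Cfsg.Agent.Helper15.JComp
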