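import Cfsg.Agent.Helper15.JComp16
import Cfsg.Agent.Helper14.Asym8

/-!
# J-components, part 17: the unique maximal 2-local overgroup of `K J(T)` (S2950)
-/

set_option autoImplicit false
set_option linter.unusedSectionVars false
set_option linter.style.haveILetI false

namespace Cfsg.Agent.Helper15.JComp

open Cfsg Subgroup Cfsg.Agent.Helper7
open scoped commutatorElement

section Local17

variable {X : Type*} [Group X] [Finite X] {T K : Subgroup X}

theorem LocalSetup.K_le_thompson (h : LocalSetup T K) : K ≤ thompsonSubgroup 2 X := by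
  haveI hYc : (thompsonSubgroup 2 X).Characteristic :=
    Cfsg.Agent.Helper26.thompsonSubgroup_characteristic 2
  have hYn : (thompsonSubgroup 2 X).Normal := inferInstance
  have hJY : thompsonSubgroupOf 2 T ≤ thompsonSubgroup 2 X := h.toBase.J_le_thompson
  have h1 : ⁅K, thompsonSubgroupOf 2 T⁆ = K := h.hK.2.1
  rw [← h1]
  exact (commutator_mono le_rfl hJY).trans (commutator_le_right K _)

theorem LocalSetup.thompson_le_normalizer_K (h : LocalSetup T K) :
    thompsonSubgroup 2 X ≤ normalizer (K : Set X) := by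
  obtain ⟨-, E, A, hA, b, hbA, hE, hKb, -, hYE, -⟩ := h.exists_factor
  intro y hy
  exact h.mem_normalizer_K_of_mem_normalizer_E hA hbA hE hKb (hYE hy)

end Local17

section Global17

variable {G : Type*} [Group G] [Finite G]

/-- two `J(T)`-components inside a member of `ℒ(T)` normalize each other -/
theorem jc_normalizes_of_le
    (hZ : ∀ S : Sylow 2 G, centralizer ((omegaCenterOf (S : Subgroup G) : Subgroup G) : Set G) ≤
      normalizer ((S : Subgroup G) : Set G))
    {T L K' K'' : Subgroup G} (hsolv : Group.IsSolvable ↥L) (hTL : IsSylowTwoIn T L)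
    (hCP : centralizer ((pCoreOf 2 L : Subgroup G) : Set G) ≤ pCoreOf 2 L)
    (hK' : IsJComponent T K') (hK'' : IsJComponent T K'') (hK'L : K' ≤ L) (hK''L : K'' ≤ L) :
    K' ≤ normalizer (K'' : Set G) := by
  have h' := localSetup_of_overgroup hZ hsolv hTL hCP hK' hK'L
  have h'' := localSetup_of_overgroup hZ hsolv hTL hCP hK'' hK''L
  have h1 : K'.subgroupOf L ≤ normalizer ((K''.subgroupOf L : Subgroup ↥L) : Set ↥L) :=
    h'.K_le_thompson.trans h''.thompson_le_normalizer_K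
  rw [← subgroupOf_normalizer_eq hK''L] at h1
  intro k hk
  exact mem_subgroupOf.mp (h1 (mem_subgroupOf.mpr (show ((⟨k, hK'L hk⟩ : ↥L) : G) ∈ K' from hk)))

/-- every `2`-local subgroup lies in a maximal one -/
theorem exists_isMaximalTwoLocal_ge {L₁ : Subgroup G} (h : IsTwoLocal L₁) :
    ∃ L : Subgroup G, IsMaximalTwoLocal L ∧ L₁ ≤ L := by
  have hwf : WellFounded ((· > ·) : Subgroup G → Subgroup G → Prop) := wellFounded_gt
  obtain ⟨L, ⟨hL2, hL₁L⟩, hmax⟩ := hwf.has_min {L : Subgroup G | IsTwoLocal L ∧ L₁ ≤ L}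
    ⟨L₁, h, le_rfl⟩
  refine ⟨L, ⟨hL2, ?_⟩, hL₁L⟩
  intro N hN hLN
  by_contra hne
  exact hmax N ⟨hN, hL₁L.trans hLN⟩ (lt_of_le_of_ne hLN (fun h => hne h.symm))

/-- an element permuting a family of subgroups normalizes their join -/
theorem mem_normalizer_biSup {s : Set (Subgroup G)} {A : Subgroup G → Subgroup G} {x : G}
    (h : ∀ i ∈ s, ∃ j ∈ s, (A i).map (MulAut.conj x).toMonoidHom ≤ A j) :
    x ∈ normalizer ((⨆ i ∈ s, A i : Subgroup G) : Set G) := by
  rw [mem_normalizer_iff_map_conj_eq]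
  apply eq_of_le_of_card_ge
  · rw [Subgroup.map_iSup]
    apply iSup_le
    intro i
    rw [Subgroup.map_iSup]
    apply iSup_le
    intro hi
    obtain ⟨j, hj, hle⟩ := h i hi
    exact hle.trans (le_biSup A hj)
  · exact le_of_eq (card_map_conj _ x).symm

/-- the standing hypotheses on `M` and `T`, with the consequences proved so far -/
structure StraddleCtx (M T : Subgroup G) : Prop where
  hL : IsCharacteristicTwoType G
  hN : ∀ N : Subgroup G, IsTwoLocal N → Group.IsSolvable ↥N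
  hZ : ∀ S : Sylow 2 G, centralizer ((omegaCenterOf (S : Subgroup G) : Subgroup G) : Set G) ≤
      normalizer ((S : Subgroup G) : Set G)
  hT : T ∈ maxStraddlingTwoSubgroups M
  hNJ : normalizer ((thompsonSubgroupOf 2 T : Subgroup G) : Set G) ≤ M
  partA : ∀ {L : Subgroup G}, IsTwoLocal L → ¬ L ≤ M → ∀ {T₀ : Subgroup G}, IsSylowTwoIn T₀ L →
    thompsonSubgroupOf 2 T ≤ T₀ →
    thompsonSubgroupOf 2 T₀ = thompsonSubgroupOf 2 T ∧ T₀ ∈ straddlingTwoSubgroups M ∧
      L ∈ jOvergroups T₀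
  main : ∀ {L : Subgroup G}, IsTwoLocal L → ¬ L ≤ M → T ≤ L →
    L ∈ jOvergroups T ∧ ∃ K : Subgroup G, IsJComponent T K ∧ K ≤ L

theorem straddleCtx_mk (hL : IsCharacteristicTwoType G)
    (hN : ∀ N : Subgroup G, IsTwoLocal N → Group.IsSolvable ↥N)
    (hZ : ∀ S : Sylow 2 G, centralizer ((omegaCenterOf (S : Subgroup G) : Subgroup G) : Set G) ≤
      normalizer ((S : Subgroup G) : Set G))
    (S : Sylow 2 G) {M T : Subgroup G}
    (hMJ : normalizer ((thompsonSubgroupOf 2 (S : Subgroup G) : Subgroup G) : Set G) ≤ M)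
    (hT : T ∈ maxStraddlingTwoSubgroups M) : StraddleCtx M T :=
  ⟨hL, hN, hZ, hT, normalizer_thompson_le_of_maxStraddling S hMJ hT,
    fun hL2 hLM _ hT₀ hJ => straddle_partA hL S hMJ hT hL2 hLM hT₀ hJ,
    fun hL2 hLM hTL => straddle_main hL hN hZ S hMJ hT hL2 hLM hTL⟩

namespace StraddleCtx

variable {M T : Subgroup G}

theorem hT2 (c : StraddleCtx M T) : IsPGroup 2 T := c.hT.1.1

theorem hJ2 (c : StraddleCtx M T) : IsPGroup 2 (thompsonSubgroupOf 2 T) := thompson_isPGroup c.hT2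

/-- a Sylow `2`-subgroup of a `2`-local `L' ≰ M` containing `J(T)` -/
theorem exists_sylow (c : StraddleCtx M T) {L' : Subgroup G} (hL2 : IsTwoLocal L')
    (hLM : ¬ L' ≤ M) (hJL : thompsonSubgroupOf 2 T ≤ L') :
    ∃ T' : Subgroup G, IsSylowTwoIn T' L' ∧ thompsonSubgroupOf 2 T ≤ T' ∧
      thompsonSubgroupOf 2 T' = thompsonSubgroupOf 2 T ∧ L' ∈ jOvergroups T' := by
  obtain ⟨T', hT', hJT'⟩ := exists_isSylowTwoIn_ge c.hJ2 hJL
  obtain ⟨h1, -, h3⟩ := c.partA hL2 hLM hT' hJT'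
  exact ⟨T', hT', hJT', h1, h3⟩

theorem normalizes (c : StraddleCtx M T) {L' K' K'' : Subgroup G} (hL2 : IsTwoLocal L')
    (hLM : ¬ L' ≤ M) (hJL : thompsonSubgroupOf 2 T ≤ L')
    (hK' : IsJComponent T K') (hK'' : IsJComponent T K'') (hK'L : K' ≤ L') (hK''L : K'' ≤ L') :
    K' ≤ normalizer (K'' : Set G) := by
  obtain ⟨T', hT', -, hJ', hov⟩ := c.exists_sylow hL2 hLM hJL
  exact jc_normalizes_of_le c.hZ (c.hN L' hL2) hT' hov.2.2 (isJComponent_congr hJ' hK')
    (isJComponent_congr hJ' hK'') hK'L hK''L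

theorem subnormal (c : StraddleCtx M T) {L' K' : Subgroup G} (hL2 : IsTwoLocal L')
    (hLM : ¬ L' ≤ M) (hJL : thompsonSubgroupOf 2 T ≤ L')
    (hK' : IsJComponent T K') (hK'L : K' ≤ L') : (K'.subgroupOf L').IsSubnormal := by
  obtain ⟨T', hT', -, hJ', hov⟩ := c.exists_sylow hL2 hLM hJL
  exact (jc_local c.hZ (c.hN L' hL2) hT' hov.2.2 (isJComponent_congr hJ' hK') hK'L).1

theorem wOf_ne_bot {K' : Subgroup G} (hK' : IsJComponent T K') : wOf K' ≠ ⊥ := by
  intro hbot
  have := jc_card_wOf hK'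
  rw [hbot, Subgroup.card_bot] at this
  norm_num at this

theorem mem_zero (c : StraddleCtx M T) {K' : Subgroup G} (hK' : IsJComponent T K')
    (hK'M : ¬ K' ≤ M) : K' ∈ jComponentsZero T := by
  refine ⟨hK', ?_⟩
  intro S' hJS' hS'
  have hL2' : IsTwoLocal (normalizer ((wOf K' : Subgroup G) : Set G)) :=
    ⟨wOf K', wOf_isPGroup K', wOf_ne_bot hK', rfl⟩
  have hL'M : ¬ normalizer ((wOf K' : Subgroup G) : Set G) ≤ M := fun hle =>
    hK'M ((le_normalizer.trans (normalizer_le_normalizer_wOf K')).trans hle)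
  exact (c.partA hL2' hL'M hS' hJS').1

/-- `N_G(K')` for a component `K' ≰ M` -/
theorem normalizer_facts (c : StraddleCtx M T) {K' : Subgroup G} (hK' : IsJComponent T K')
    (hK'M : ¬ K' ≤ M) :
    IsTwoLocal (normalizer (K' : Set G)) ∧ ¬ normalizer (K' : Set G) ≤ M ∧
      thompsonSubgroupOf 2 T ≤ normalizer (K' : Set G) := by
  have h1 := (jc_zero_normalizer_eq c.hL c.hN c.hZ c.hT2 (c.mem_zero hK' hK'M)).1
  refine ⟨?_, fun hle => hK'M (le_normalizer.trans hle), jc_thompson_le_normalizer hK'⟩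
  rw [h1]
  exact ⟨wOf K', wOf_isPGroup K', wOf_ne_bot hK', rfl⟩

/-- **generation**, at the level of `G` -/
theorem le_of_gen (c : StraddleCtx M T) {L' M₀ : Subgroup G} (hL2 : IsTwoLocal L')
    (hLM : ¬ L' ≤ M) (hJL : thompsonSubgroupOf 2 T ≤ L')
    (h1 : L' ⊓ normalizer ((thompsonSubgroupOf 2 T : Subgroup G) : Set G) ≤ M₀)
    (h2 : ∀ K' : Subgroup G, IsJComponent T K' → K' ≤ L' → K' ≤ M₀) : L' ≤ M₀ := by
  obtain ⟨T', hT', -, hJ', hov⟩ := c.exists_sylow hL2 hLM hJL
  have hbase : LocalBase (T'.subgroupOf L') :=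
    localBase_of_overgroup c.hZ (c.hN L' hL2) hT' hov.2.2
  have hJmap : (thompsonSubgroupOf 2 (T'.subgroupOf L')).map L'.subtype =
      thompsonSubgroupOf 2 T := by
    rw [← thompsonSubgroupOf_map L'.subtype_injective, map_subgroupOf_eq_of_le hT'.1, hJ']
  have htop : M₀.subgroupOf L' = ⊤ := by
    apply hbase.eq_top_of_components_le
    · change _ ≤ M₀.comap L'.subtype
      rw [← map_le_iff_le_comap]
      refine le_trans (le_inf (map_subtype_le _) ?_) h1
      refine (le_normalizer_map L'.subtype).trans ?_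
      rw [hJmap]
    · intro K₁ hK₁
      change _ ≤ M₀.comap L'.subtype
      rw [← map_le_iff_le_comap]
      apply h2 _ _ (map_subtype_le _)
      have := (isJComponent_map_iff L'.subtype_injective).mpr hK₁
      rw [map_subgroupOf_eq_of_le hT'.1] at this
      exact isJComponent_congr hJ'.symm this
  exact subgroupOf_eq_top.mp htop

/-- conjugating a component by an element of `N_G(J(T))` -/
theorem conj_component {K' : Subgroup G} (hK' : IsJComponent T K') {m : G}
    (hm : m ∈ normalizer ((thompsonSubgroupOf 2 T : Subgroup G) : Set G)) :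
    IsJComponent T (K'.map (MulAut.conj m).toMonoidHom) := by
  have hcmi : Function.Injective (MulAut.conj m).toMonoidHom := (MulAut.conj m).injective
  have h1 := (isJComponent_map_iff hcmi).mpr hK'
  apply isJComponent_congr _ h1
  rw [thompsonSubgroupOf_map hcmi]
  exact (Cfsg.Agent.Helper7.map_conj_eq_of_mem_normalizer hm).symm

/-- the components not in `M` normalizing `K` -/
def compFamily (M T K : Subgroup G) : Set (Subgroup G) :=
  {K'' | IsJComponent T K'' ∧ ¬ K'' ≤ M ∧ K'' ≤ normalizer (K : Set G)}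

theorem not_map_conj_le {M K' : Subgroup G} {m : G} (hmM : m ∈ M) (hK'M : ¬ K' ≤ M) :
    ¬ K'.map (MulAut.conj m).toMonoidHom ≤ M := by
  intro hle
  apply hK'M
  intro x hx
  have h1 : m * x * m⁻¹ ∈ M := hle ⟨x, hx, rfl⟩
  have : x = m⁻¹ * (m * x * m⁻¹) * m := by group
  rw [this]
  exact M.mul_mem (M.mul_mem (M.inv_mem hmM) h1) hmM

/-- **uniqueness**: every maximal `2`-local subgroup containing `K J(T)` is the normalizer of the
join of the `W_{K''}`, `K''` a component outside `M` normalizing `K` -/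
theorem unique_max (c : StraddleCtx M T) {K : Subgroup G} (hK : IsJComponent T K)
    (hKM : ¬ K ≤ M) {L' : Subgroup G} (hL' : IsMaximalTwoLocal L')
    (hKJ : K ⊔ thompsonSubgroupOf 2 T ≤ L') :
    L' = normalizer ((⨆ K'' ∈ compFamily M T K, wOf K'' : Subgroup G) : Set G) := by
  obtain ⟨Ws, hWs⟩ : ∃ Ws : Subgroup G, Ws = ⨆ K'' ∈ compFamily M T K, wOf K'' := ⟨_, rfl⟩
  rw [← hWs]
  obtain ⟨hL₀2, hL₀M, hJL₀⟩ := c.normalizer_facts hK hKM
  have hKL' : K ≤ L' := le_sup_left.trans hKJ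
  have hJL' : thompsonSubgroupOf 2 T ≤ L' := le_sup_right.trans hKJ
  have hL'M : ¬ L' ≤ M := fun h => hKM (hKL'.trans h)
  have hKmem : K ∈ compFamily M T K := ⟨hK, hKM, le_normalizer⟩
  have hW1 : Ws ≠ ⊥ := by
    intro hbot
    apply wOf_ne_bot hK
    rw [eq_bot_iff, ← hbot, hWs]
    exact le_biSup wOf hKmem
  have hW2 : IsPGroup 2 Ws := by
    apply (Cfsg.Agent.Helper14.pCoreOf_isPGroup 2 (normalizer (K : Set G))).to_le
    rw [hWs]
    apply iSup₂_le
    intro K'' hK''
    have hsn := c.subnormal hL₀2 hL₀M hJL₀ hK''.1 hK''.2.2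
    exact (wOf_le_pCoreOf K'').trans
      (Cfsg.Agent.Helper14.pCoreOf_le_pCoreOf_of_isSubnormal hK''.2.2 hsn)
  have hLs2 : IsTwoLocal (normalizer (Ws : Set G)) := ⟨Ws, hW2, hW1, rfl⟩
  have hle : L' ≤ normalizer (Ws : Set G) := by
    apply c.le_of_gen hL'.1 hL'M hJL'
    · intro m hm
      obtain ⟨hmL', hmJ⟩ := mem_inf.mp hm
      have hmM : m ∈ M := c.hNJ hmJ
      have hcmi : Function.Injective (MulAut.conj m).toMonoidHom := (MulAut.conj m).injective
      rw [hWs]
      apply mem_normalizer_biSup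
      intro K'' hK''
      refine ⟨K''.map (MulAut.conj m).toMonoidHom, ⟨conj_component hK''.1 hmJ,
        not_map_conj_le hmM hK''.2.1, ?_⟩, ?_⟩
      · obtain ⟨Km, hKmdef⟩ : ∃ Km : Subgroup G, Km = K.map (MulAut.conj m).toMonoidHom :=
          ⟨_, rfl⟩
        have hKm : IsJComponent T Km := hKmdef ▸ conj_component hK hmJ
        have hKmL' : Km ≤ L' := by
          rw [hKmdef]
          rintro _ ⟨x, hx, rfl⟩
          exact L'.mul_mem (L'.mul_mem hmL' (hKL' hx)) (L'.inv_mem hmL')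
        have hKmM : ¬ Km ≤ M := hKmdef ▸ not_map_conj_le hmM hKM
        have hKNKm : K ≤ normalizer (Km : Set G) :=
          c.normalizes hL'.1 hL'M hJL' hK hKm hKL' hKmL'
        obtain ⟨hLm2, hLmM, hJLm⟩ := c.normalizer_facts hKm hKmM
        have h3 : K''.map (MulAut.conj m).toMonoidHom ≤ normalizer (Km : Set G) := by
          have := map_mono (f := (MulAut.conj m).toMonoidHom) hK''.2.2
          rwa [map_equiv_normalizer_eq, ← hKmdef] at this
        exact c.normalizes hLm2 hLmM hJLm (conj_component hK''.1 hmJ) hK h3 hKNKm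
      · rw [wOf_map hcmi]
    · intro K' hK' hK'L' x hx
      rw [hWs]
      apply mem_normalizer_biSup
      intro K'' hK''
      refine ⟨K'', hK'', ?_⟩
      have h1 : K' ≤ normalizer (K : Set G) :=
        c.normalizes hL'.1 hL'M hJL' hK' hK hK'L' hKL'
      have h2 : K' ≤ normalizer (K'' : Set G) :=
        c.normalizes hL₀2 hL₀M hJL₀ hK' hK''.1 h1 hK''.2.2
      have h3 : x ∈ normalizer ((wOf K'' : Subgroup G) : Set G) :=
        normalizer_le_normalizer_wOf K'' (h2 hx)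
      exact le_of_eq (Cfsg.Agent.Helper7.map_conj_eq_of_mem_normalizer h3)
  exact (hL'.2 _ hLs2 hle).symm

/-- **S2950** -/
theorem unique_maximal (c : StraddleCtx M T) {K : Subgroup G}
    (hK : K ∈ jComponentsOutside M T) :
    ∃ L : Subgroup G, IsMaximalTwoLocal L ∧ K ⊔ thompsonSubgroupOf 2 T ≤ L ∧
      (∀ L' : Subgroup G, IsMaximalTwoLocal L' → K ⊔ thompsonSubgroupOf 2 T ≤ L' → L' = L) ∧
      (K.subgroupOf L).IsSubnormal ∧ IsSylowTwoIn T L := by
  obtain ⟨⟨hKc, -⟩, hKM, hU⟩ := hK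
  have hU2 : IsTwoLocal (normalizer ((pCoreOf 2 (K ⊔ T) : Subgroup G) : Set G)) :=
    ⟨_, Cfsg.Agent.Helper14.pCoreOf_isPGroup 2 _, hU, rfl⟩
  obtain ⟨L, hLmax, hUL⟩ := exists_isMaximalTwoLocal_ge hU2
  have hKTL : K ⊔ T ≤ L := (Cfsg.Agent.Helper14.le_normalizer_pCoreOf 2 (K ⊔ T)).trans hUL
  have hKL : K ≤ L := le_sup_left.trans hKTL
  have hTL : T ≤ L := le_sup_right.trans hKTL
  have hLM : ¬ L ≤ M := fun h => hKM (hKL.trans h)
  obtain ⟨hov, -⟩ := c.main hLmax.1 hLM hTL
  have hJL : thompsonSubgroupOf 2 T ≤ L := (Cfsg.Agent.S2941.thompsonSubgroupOf_le 2 T).trans hTL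
  have hKJL : K ⊔ thompsonSubgroupOf 2 T ≤ L := sup_le hKL hJL
  refine ⟨L, hLmax, hKJL, ?_, c.subnormal hLmax.1 hLM hJL hKc hKL, hov.1⟩
  intro L' hL' hKJ'
  rw [c.unique_max hKc hKM hL' hKJ', c.unique_max hKc hKM hLmax hKJL]

end StraddleCtx

end Global17

end Cfsg.Agent.Helper15.JComp
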