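import Mathlib
import Cfsg.Agent.Helper27.S3001QDefs

/-!
# s3001qpieces, piece G6 (helper15): `|X̂| · |X ∩ R| = |X|` for `X ≤ N_G(R)`.
-/

set_option autoImplicit false

namespace Cfsg.Agent.S3001P

open Cfsg.Agent.S2789P Cfsg.Agent.S2999P Cfsg.Agent.S3000P

universe u

variable {G : Type u} [Group G]

theorem G6_aux_surj {R X : Subgroup G} (hX : X ≤ NR R) : Function.Surjective (hatHom hX) := by
  rintro ⟨y, hy⟩
  obtain ⟨x, hx, rfl⟩ := hy
  exact ⟨⟨(x : G), hx⟩, Subtype.ext rfl⟩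

theorem G6_aux_ker {R X : Subgroup G} (hX : X ≤ NR R) : (hatHom hX).ker = (X ⊓ R).subgroupOf X := by
  ext x
  rw [MonoidHom.mem_ker, Subgroup.mem_subgroupOf, Subgroup.mem_inf]
  constructor
  · intro h
    have h1 : qpi R ⟨(x : G), hX x.2⟩ = 1 := by
      have := congrArg Subtype.val h
      rw [coe_hatHom] at this
      exact this
    have h2 : (⟨(x : G), hX x.2⟩ : ↥(NR R)) ∈ R.subgroupOf (NR R) := (QuotientGroup.eq_one_iff _).1 h1
    exact ⟨x.2, h2⟩
  · rintro ⟨_, h2⟩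
    apply Subtype.ext
    rw [coe_hatHom]
    exact (QuotientGroup.eq_one_iff _).2 h2

theorem card_hat [Finite G] {R X : Subgroup G} (hX : X ≤ NR R) :
    Nat.card ↥(hat R X) * Nat.card ↥(X ⊓ R : Subgroup G) = Nat.card ↥X := by
  have h1 := Subgroup.card_mul_index (hatHom hX).ker
  rw [Subgroup.index_ker, MonoidHom.range_eq_top.2 (G6_aux_surj hX), Subgroup.card_top, G6_aux_ker hX] at h1
  have h2 : Nat.card ↥((X ⊓ R).subgroupOf X) = Nat.card ↥(X ⊓ R : Subgroup G) :=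
    Nat.card_congr (Subgroup.subgroupOfEquivOfLe inf_le_left).toEquiv
  rw [h2] at h1
  rw [mul_comm]
  exact h1

end Cfsg.Agent.S3001P
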