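import Mathlib
import Cfsg.Agent.Helper27.S3001QDefs

/-!
# s3001qpieces, piece G9a (helper15): pull-back of `ActsAsSL2OnSection` along `N_G(R) → N_G(R)/R`.
-/

set_option autoImplicit false

namespace Cfsg.Agent.S3001P

open Cfsg.Agent.S2789P Cfsg.Agent.S2999P Cfsg.Agent.S3000P

universe u

variable {G : Type u} [Group G]

theorem G9a_aux_mem_pre {R : Subgroup G} {Y : Subgroup (QG R)} {x : G} :
    x ∈ pre R Y ↔ ∃ h : x ∈ NR R, qpi R ⟨x, h⟩ ∈ Y := by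
  unfold pre
  constructor
  · rintro ⟨a, ha, rfl⟩
    exact ⟨a.2, ha⟩
  · rintro ⟨h, hy⟩
    exact ⟨⟨x, h⟩, hy, rfl⟩

theorem G9a_aux_pre_le_NR {R : Subgroup G} (Y : Subgroup (QG R)) : pre R Y ≤ NR R := by
  intro x hx
  obtain ⟨h, _⟩ := G9a_aux_mem_pre.1 hx
  exact h

/-- the projection `pre R U → U` -/
def G9a_aux_theta {R : Subgroup G} (U : Subgroup (QG R)) : ↥(pre R U) →* ↥U :=
  MonoidHom.codRestrict ((qpi R).comp (Subgroup.inclusion (G9a_aux_pre_le_NR U))) U (by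
    intro x
    obtain ⟨h, hy⟩ := G9a_aux_mem_pre.1 x.2
    exact hy)

theorem G9a_aux_theta_coe {R : Subgroup G} (U : Subgroup (QG R)) (x : ↥(pre R U)) :
    ((G9a_aux_theta U x : ↥U) : QG R) = qpi R ⟨(x : G), G9a_aux_pre_le_NR U x.2⟩ := rfl

theorem G9a_aux_theta_surj {R : Subgroup G} (U : Subgroup (QG R)) : Function.Surjective (G9a_aux_theta U) := by
  rintro ⟨y, hy⟩
  obtain ⟨a, rfl⟩ := QuotientGroup.mk'_surjective (R.subgroupOf (NR R)) y
  have hmem : (a : G) ∈ pre R U := G9a_aux_mem_pre.2 ⟨a.2, hy⟩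
  exact ⟨⟨(a : G), hmem⟩, Subtype.ext rfl⟩

theorem G9a_aux_hatHom_surj {R X : Subgroup G} (hX : X ≤ NR R) : Function.Surjective (hatHom hX) := by
  rintro ⟨y, hy⟩
  obtain ⟨x, hx, rfl⟩ := hy
  exact ⟨⟨(x : G), hx⟩, Subtype.ext rfl⟩

/-- conjugation by `e ∈ E ≤ N_G(R)` preserves `pre R U` when `hat R E` normalises `U` -/
theorem G9a_aux_conj_mem {R E : Subgroup G} (hE : E ≤ NR R) {U : Subgroup (QG R)}
    (hN : hat R E ≤ Subgroup.normalizer ((U : Subgroup (QG R)) : Set (QG R))) {e x : G} (he : e ∈ E)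
    (hx : x ∈ pre R U) : e * x * e⁻¹ ∈ pre R U := by
  obtain ⟨hxN, hxU⟩ := G9a_aux_mem_pre.1 hx
  have heN : e ∈ NR R := hE he
  have hmem : e * x * e⁻¹ ∈ NR R := (NR R).mul_mem ((NR R).mul_mem heN hxN) ((NR R).inv_mem heN)
  refine G9a_aux_mem_pre.2 ⟨hmem, ?_⟩
  have heq : qpi R ⟨e * x * e⁻¹, hmem⟩ = qpi R ⟨e, heN⟩ * qpi R ⟨x, hxN⟩ * (qpi R ⟨e, heN⟩)⁻¹ := by
    rw [← map_inv, ← map_mul, ← map_mul]
    rfl
  rw [heq]
  have hehat : qpi R ⟨e, heN⟩ ∈ hat R E := ⟨⟨e, heN⟩, he, rfl⟩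
  exact (Subgroup.mem_normalizer_iff.1 (hN hehat) _).1 hxU

theorem sl2_pull {R : Subgroup G} {F : Type*} [Field F] {Rs : Subgroup (Matrix.SpecialLinearGroup (Fin 2) F)}
    {E : Subgroup G} (hE : E ≤ NR R) {U U0 : Subgroup (QG R)}
    (h : Cfsg.ActsAsSL2OnSection F Rs (hat R E) U U0) : Cfsg.ActsAsSL2OnSection F Rs E (pre R U) (pre R U0) := by
  obtain ⟨hN, hU0, ρ', ψ', hrange, hsurj, hker, heqv⟩ := h
  refine ⟨?_, ?_, ρ'.comp (hatHom hE), ψ'.comp (G9a_aux_theta U), ?_, ?_, ?_, ?_⟩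
  · -- `E` normalises `pre R U`
    intro e he
    rw [Subgroup.mem_normalizer_iff]
    intro x
    constructor
    · intro hx
      exact G9a_aux_conj_mem hE hN he hx
    · intro hx
      have := G9a_aux_conj_mem hE hN (E.inv_mem he) hx
      have e1 : e⁻¹ * (e * x * e⁻¹) * e⁻¹⁻¹ = x := by group
      rwa [e1] at this
  · -- `pre R U0 ≤ pre R U`
    intro x hx
    obtain ⟨hxN, hxU⟩ := G9a_aux_mem_pre.1 hx
    exact G9a_aux_mem_pre.2 ⟨hxN, hU0 hxU⟩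
  · -- range
    rw [MonoidHom.range_comp, MonoidHom.range_eq_top.2 (G9a_aux_hatHom_surj hE), ← MonoidHom.range_eq_map]
    exact hrange
  · -- surjectivity
    exact hsurj.comp (G9a_aux_theta_surj U)
  · -- kernel
    intro u
    rw [MonoidHom.comp_apply, hker, G9a_aux_theta_coe]
    constructor
    · intro hu
      exact G9a_aux_mem_pre.2 ⟨_, hu⟩
    · intro hu
      obtain ⟨_, hu'⟩ := G9a_aux_mem_pre.1 hu
      exact hu'
  · -- equivariance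
    intro e u
    obtain ⟨w', hw', hψ⟩ := heqv (hatHom hE e) (G9a_aux_theta U u)
    have hmem : (e : G) * (u : G) * (e : G)⁻¹ ∈ pre R U := G9a_aux_conj_mem hE hN e.2 u.2
    refine ⟨⟨(e : G) * (u : G) * (e : G)⁻¹, hmem⟩, rfl, ?_⟩
    have hw : G9a_aux_theta U ⟨(e : G) * (u : G) * (e : G)⁻¹, hmem⟩ = w' := by
      apply Subtype.ext
      rw [hw', G9a_aux_theta_coe, coe_hatHom, G9a_aux_theta_coe, ← map_inv, ← map_mul, ← map_mul]
      rfl
    rw [MonoidHom.comp_apply, hw, hψ]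
    rfl

end Cfsg.Agent.S3001P
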