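import Mathlib
import Cfsg.Agent.Helper27.S3001QDefs
import Cfsg.Agent.Helper15.S3001G9a

/-!
# s3001qpieces, piece S8 (helper15): pull-back of the `T`-invariance of the family.
-/

set_option autoImplicit false
set_option linter.unusedVariables false

namespace Cfsg.Agent.S3001P

open Cfsg.Agent.S2789P Cfsg.Agent.S2999P Cfsg.Agent.S3000P

universe u

variable {G : Type u} [Group G]

/-- S8: pull-back of the `T`-invariance of the family (TINV) -/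
theorem QTINV {R P Tg : Subgroup G} (hP : P ≤ NR R) (hPR : P ⊓ R = ⊥) (hTg : Tg ≤ P)
    {r : ℕ} {Eh : Fin r → Subgroup (QG R)} (hE : ∀ i, Eh i ≤ hat R P)
    (h : ∀ i, ∀ t ∈ hat R Tg, ∃ j, cjs t (Eh i) = Eh j) :
    ∀ i, ∀ t ∈ Tg, ∃ j, cjs t (P ⊓ pre R (Eh i)) = P ⊓ pre R (Eh j) := by
  intro i t ht
  have htP : t ∈ P := hTg ht
  have htN : t ∈ NR R := hP htP
  have hthat : qpi R ⟨t, htN⟩ ∈ hat R Tg := ⟨⟨t, htN⟩, ht, rfl⟩
  obtain ⟨j, hj⟩ := h i _ hthat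
  refine ⟨j, ?_⟩
  ext x
  rw [cj_mem, Subgroup.mem_inf, Subgroup.mem_inf, G9a_aux_mem_pre, G9a_aux_mem_pre, ← hj]
  constructor
  · rintro ⟨h1, h2, h3⟩
    have hxP : x ∈ P := by
      have : x = t * (t⁻¹ * x * t) * t⁻¹ := by group
      rw [this]
      exact P.mul_mem (P.mul_mem htP h1) (P.inv_mem htP)
    refine ⟨hxP, hP hxP, ?_⟩
    rw [cj_mem]
    have heq : (qpi R ⟨t, htN⟩)⁻¹ * qpi R ⟨x, hP hxP⟩ * qpi R ⟨t, htN⟩ = qpi R ⟨t⁻¹ * x * t, h2⟩ := by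
      rw [← map_inv, ← map_mul, ← map_mul]
      rfl
    rw [heq]
    exact h3
  · rintro ⟨h1, h2, h3⟩
    have hmemP : t⁻¹ * x * t ∈ P := P.mul_mem (P.mul_mem (P.inv_mem htP) h1) htP
    refine ⟨hmemP, hP hmemP, ?_⟩
    rw [cj_mem] at h3
    have heq : (qpi R ⟨t, htN⟩)⁻¹ * qpi R ⟨x, h2⟩ * qpi R ⟨t, htN⟩ = qpi R ⟨t⁻¹ * x * t, hP hmemP⟩ := by
      rw [← map_inv, ← map_mul, ← map_mul]
      rfl
    rw [← heq]
    exact h3

end Cfsg.Agent.S3001P
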