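import Mathlib
import Cfsg.Agent.Helper26.S3818Defs
import Cfsg.Agent.Helper22.S3818A5

/-! Board `s3818pieces`, row A6 (core): faithful irreducible, `N` abelian normal ⟹ `Bound` or `N ≤ Z(G)`. -/

set_option autoImplicit false

namespace Cfsg.Agent.S3818P

open Module

/-- an irreducible representation has positive dimension. -/
theorem A6_aux_finrank_pos {G : Type*} [Group G] {k : Type*} [Field k] {V : Type*} [AddCommGroup V] [Module k V]
    [FiniteDimensional k V] (ρ : Representation k G V) [ρ.IsIrreducible] : 0 < finrank k V := by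
  by_contra h
  have h0 : finrank k V = 0 := by omega
  haveI : Subsingleton V := finrank_zero_iff.1 h0
  have hnt : Nontrivial (Subrepresentation ρ) := inferInstance
  obtain ⟨a, b, hab⟩ := hnt
  apply hab
  apply Subrepresentation.toSubmodule_injective
  ext v
  have hv : v = 0 := Subsingleton.elim _ _
  rw [hv]
  simp

/-- A6 (core): the output of A4 (for the given `N`) is a hypothesis. -/
theorem A6_aux_core {G : Type*} [Group G] [Finite G] {p : ℕ}
    (hp : p.Prime) (hp3 : 3 < p) (x : G) (hx : x ^ p = 1)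
    (hgen : Subgroup.normalClosure ({x} : Set G) = ⊤)
    {k : Type*} [Field k] {V : Type*} [AddCommGroup V] [Module k V] [FiniteDimensional k V]
    (ρ : Representation k G V) [ρ.IsIrreducible] (hfaith : Function.Injective ρ)
    (N : Subgroup G) [N.Normal]
    (h4 : Bound ρ x ∨ IsField ↥(Algebra.adjoin k (ρ '' (N : Set G)))) :
    Bound ρ x ∨ N ≤ Subgroup.center G := by
  rcases h4 with hb | hF
  · exact Or.inl hb
  set B : Subalgebra k (Module.End k V) := Algebra.adjoin k (ρ '' (N : Set G)) with hB
  have hg : ρ x * ρ x⁻¹ = 1 := by rw [← map_mul, mul_inv_cancel, map_one]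
  have hg' : ρ x⁻¹ * ρ x = 1 := by rw [← map_mul, inv_mul_cancel, map_one]
  -- conjugation by `ρ x` preserves `B`
  have hnorm : ∀ b ∈ B, ρ x * b * ρ x⁻¹ ∈ B := by
    intro b hb
    induction hb using Algebra.adjoin_induction with
    | mem y hy =>
      obtain ⟨n, hn, rfl⟩ := hy
      apply Algebra.subset_adjoin
      refine ⟨x * n * x⁻¹, ‹N.Normal›.conj_mem n hn x, ?_⟩
      rw [map_mul, map_mul]
    | algebraMap r =>
      have : ρ x * (algebraMap k (Module.End k V) r) * ρ x⁻¹ = algebraMap k (Module.End k V) r := by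
        rw [Algebra.algebraMap_eq_smul_one, mul_smul_comm, mul_one, smul_mul_assoc, hg]
      rw [this]; exact Subalgebra.algebraMap_mem _ r
    | add a b _ _ ha hb =>
      have : ρ x * (a + b) * ρ x⁻¹ = ρ x * a * ρ x⁻¹ + ρ x * b * ρ x⁻¹ := by
        rw [mul_add, add_mul]
      rw [this]; exact Subalgebra.add_mem _ ha hb
    | mul a b _ _ ha hb =>
      have : ρ x * (a * b) * ρ x⁻¹ = (ρ x * a * ρ x⁻¹) * (ρ x * b * ρ x⁻¹) := by
        calc ρ x * (a * b) * ρ x⁻¹ = ρ x * a * 1 * b * ρ x⁻¹ := by simp [mul_assoc]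
          _ = ρ x * a * (ρ x⁻¹ * ρ x) * b * ρ x⁻¹ := by rw [hg']
          _ = (ρ x * a * ρ x⁻¹) * (ρ x * b * ρ x⁻¹) := by simp [mul_assoc]
      rw [this]; exact Subalgebra.mul_mem _ ha hb
  by_cases hnt : ∃ b ∈ B, ρ x * b * ρ x⁻¹ ≠ b
  · -- A5
    left
    have hgp : ρ x ^ p = 1 := by rw [← map_pow, hx, map_one]
    have h5 := A5_semilinear B hF (ρ x) (ρ x⁻¹) hg hg' hnorm p hp hgp hnt
    have hpos := A6_aux_finrank_pos ρ
    unfold Bound
    set d := finrank k (LinearMap.ker (ρ x - 1)) with hd
    have h5d : 5 * d ≤ p * d := Nat.mul_le_mul_right d (by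
      have := hp.two_le
      rcases Nat.lt_or_ge p 5 with h | h
      · exfalso
        have h4 : p = 4 := by omega
        rw [h4] at hp
        exact absurd hp (by norm_num)
      · exact h)
    omega
  · -- `x` centralises `N`
    right
    push_neg at hnt
    have hxN : ∀ n ∈ N, x * n = n * x := by
      intro n hn
      have h1 := hnt (ρ n) (Algebra.subset_adjoin ⟨n, hn, rfl⟩)
      apply hfaith
      rw [map_mul, map_mul]
      calc ρ x * ρ n = ρ x * ρ n * (ρ x⁻¹ * ρ x) := by rw [hg', mul_one]
        _ = (ρ x * ρ n * ρ x⁻¹) * ρ x := by simp [mul_assoc]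
        _ = ρ n * ρ x := by rw [h1]
    have hcent : x ∈ Subgroup.centralizer (N : Set G) := by
      rw [Subgroup.mem_centralizer_iff]
      intro n hn
      exact (hxN n hn).symm
    have hle : Subgroup.normalClosure ({x} : Set G) ≤ Subgroup.centralizer (N : Set G) :=
      Subgroup.normalClosure_le_normal (Set.singleton_subset_iff.2 hcent)
    rw [hgen] at hle
    intro n hn
    rw [Subgroup.mem_center_iff]
    intro g
    have := Subgroup.mem_centralizer_iff.1 (hle (Subgroup.mem_top g)) n hn
    exact this.symm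

end Cfsg.Agent.S3818P
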