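import Mathlib
import Cfsg.Agent.Helper7.S5655.Defs

/-! # S5655 `k = 1`, chapter (B) (helper15): the only extra definition.

`PD D e f d ζ`: the data of a non-degenerate plane `⟨e, f⟩` with two unit vectors `e` and `w = ζ • e + f` which are neither
proportional nor orthogonal: `h e e = 1`, `f ⊥ e`, `h f f = d ≠ 0`, `ζ ≠ 0`, `N ζ + d = 1` (so `h w w = 1`, `h w e = ζ`,
`N ζ ∉ {0, 1}`).  The isotropic points of the plane are `⟨s • e + f⟩`, `N s = -d`. -/

set_option autoImplicit false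

namespace Cfsg.Agent.S5655K1

open Matrix
open Cfsg.Agent.S2644 Cfsg.Agent.Helper2.SUGen Cfsg.Agent.Helper28.SimMax Cfsg.Agent.MonoP

variable {K : Type*} [Field K] {q n : ℕ}

/-- plane data (see the header) -/
structure PD (D : Frob K q) (e f : Fin n → K) (d ζ : K) : Prop where
  hee : Cfsg.hermForm n K q e e = 1
  hff : Cfsg.hermForm n K q f f = d
  hef : Cfsg.hermForm n K q e f = 0
  hfe : Cfsg.hermForm n K q f e = 0
  hd0 : d ≠ 0
  hζ0 : ζ ≠ 0
  hnorm : ζ * D.σ ζ + d = 1

end Cfsg.Agent.S5655K1
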