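import Mathlib
import Cfsg.Agent.Helper7.S5655.Defs
import Cfsg.Agent.Helper7.S5655.MonoLib
import Cfsg.Agent.Helper28.S5655QR
import Cfsg.Agent.Helper15.S5655BDefs

/-! # S5655 `k = 1`, chapter (B), piece PLANE (helper15): the calculus in the plane `⟨e, f⟩`. -/

set_option autoImplicit false

namespace Cfsg.Agent.S5655K1

open Matrix
open Cfsg.Agent.S2644 Cfsg.Agent.Helper2.SUGen Cfsg.Agent.Helper28.SimMax Cfsg.Agent.MonoP

variable {K : Type*} [Field K] {q n : ℕ}

local notation "h" => Cfsg.hermForm n K q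
local notation "T" => Cfsg.unitaryTransvection n q

theorem PD.dfix {D : Frob K q} {e f : Fin n → K} {d ζ : K} (P : PD D e f d ζ) : D.σ d = d := by
  rw [← P.hff]
  exact h_self_fix D f

theorem PD.h_comb {D : Frob K q} {e f : Fin n → K} {d ζ : K} (P : PD D e f d ζ) (a b a' b' : K) :
    h (a • e + b • f) (a' • e + b' • f) = a * D.σ a' + d * (b * D.σ b') := by
  simp only [h_add_left, h_add_right D, h_smul_left, h_smul_right D, P.hee, P.hff, P.hef, P.hfe]
  ring

theorem PD.h_left {D : Frob K q} {e f : Fin n → K} {d ζ : K} (P : PD D e f d ζ) (a b : K) :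
    h (a • e + b • f) e = a ∧ h (a • e + b • f) f = d * b := by
  constructor
  · rw [h_add_left, h_smul_left, h_smul_left, P.hee, P.hfe]; ring
  · rw [h_add_left, h_smul_left, h_smul_left, P.hef, P.hff]; ring

theorem PD.comb_eq_zero {D : Frob K q} {e f : Fin n → K} {d ζ : K} (P : PD D e f d ζ) {a b : K}
    (h0 : a • e + b • f = 0) : a = 0 ∧ b = 0 := by
  have h1 := (P.h_left a b).1
  have h2 := (P.h_left a b).2
  rw [h0, h_zero_left] at h1 h2
  refine ⟨h1.symm, ?_⟩
  rcases mul_eq_zero.mp h2.symm with h3 | h3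
  · exact absurd h3 P.hd0
  · exact h3

theorem PD.hww {D : Frob K q} {e f : Fin n → K} {d ζ : K} (P : PD D e f d ζ) :
    h (ζ • e + f) (ζ • e + f) = 1 := by
  have := P.h_comb ζ 1 ζ 1
  rw [one_smul] at this
  rw [this, map_one, mul_one, mul_one]
  exact P.hnorm

theorem PD.re_comb {D : Frob K q} {e f : Fin n → K} {d ζ : K} (P : PD D e f d ζ) (c a b : K) :
    T e c *ᵥ (a • e + b • f) = ((1 + c) * a) • e + b • f := by
  rw [T_mulVec, (P.h_left a b).1]
  module

theorem PD.rw_comb {D : Frob K q} {e f : Fin n → K} {d ζ : K} (P : PD D e f d ζ) (c a b : K) :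
    T (ζ • e + f) c *ᵥ (a • e + b • f) =
      (a + c * (a * D.σ ζ + d * b) * ζ) • e + (b + c * (a * D.σ ζ + d * b)) • f := by
  have := P.h_comb a b ζ 1
  rw [one_smul, map_one, mul_one] at this
  rw [T_mulVec, this]
  module

theorem PD.perp_fix {D : Frob K q} {e f : Fin n → K} {d ζ : K} (P : PD D e f d ζ) (a b c : K)
    (z : Fin n → K) (h1 : h z e = 0) (h2 : h z f = 0) : T (a • e + b • f) c *ᵥ z = z := by
  rw [T_mulVec, h_add_right D, h_smul_right D, h_smul_right D, h1, h2]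
  simp

theorem PD.T_mul_T (D : Frob K q) (v : Fin n → K) (hv : h v v = 1) (c c' : K) :
    T v c * T v c' = T v (c + c' + c * c') := by
  apply mat_ext
  intro z
  rw [← mulVec_mulVec, T_mulVec, T_mulVec, T_mulVec, h_add_left, h_smul_left, hv]
  module

theorem PD.pres_unit (D : Frob K q) (v : Fin n → K) (hv : h v v = 1) (c : K) (hc : IsU D (1 + c)) :
    Pres (q := q) (T v c) := by
  apply QR.pres D
  rw [hv]
  have : (1 + c) * D.σ (1 + c) = 1 := hc
  rw [map_add, map_one] at this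
  linear_combination this

theorem PD.unit_inv (D : Frob K q) (v : Fin n → K) (hv : h v v = 1) (c : K) (hc : IsU D (1 + c)) :
    IsU D (1 + ((1 + c)⁻¹ - 1)) ∧ T v c * T v ((1 + c)⁻¹ - 1) = 1 ∧ T v ((1 + c)⁻¹ - 1) * T v c = 1 := by
  have hne : (1 + c) ≠ 0 := IsU.ne_zero D hc
  have e0 : c + ((1 + c)⁻¹ - 1) + c * ((1 + c)⁻¹ - 1) = 0 := by
    field_simp
    ring
  have e0' : ((1 + c)⁻¹ - 1) + c + ((1 + c)⁻¹ - 1) * c = 0 := by
    rw [← e0]; ring
  refine ⟨?_, ?_, ?_⟩
  · have : 1 + ((1 + c)⁻¹ - 1) = (1 + c)⁻¹ := by ring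
    rw [this]
    exact IsU.inv D hc
  · rw [PD.T_mul_T D v hv, e0]
    exact Cfsg.Agent.S5658P.T_zero v
  · rw [PD.T_mul_T D v hv, e0']
    exact Cfsg.Agent.S5658P.T_zero v

end Cfsg.Agent.S5655K1
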