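import Mathlib
import Cfsg.Agent.Helper24.S5704.Defs
import Cfsg.Agent.Helper28.S5704GLUE

set_option autoImplicit false
set_option linter.unusedSectionVars false
set_option linter.unusedVariables false

/-! # S5704, chapter SEED (driver helper15): definitions

Setting (`Ctx`): `P = 1`, `hT : TData Q e 1 GU GW`, `Kr e ⊓ omegaGL ⇑Q ≤ M ≤ omegaGL ⇑Q`.
`SeedA`, `SeedB`, `SeedMix`: one Siegel element `ρ(u ⊗ z, v) ∈ M` with `v` a pure tensor, of type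
(A) (`v = u' ⊗ z`, `u' ⊥ u`, `u' ∉ F u`), (B) (`v = u ⊗ z₀`, `z₀ ⊥ z`, `z₀ ∉ F z`), mixed (`v = u' ⊗ z₀`). -/

namespace Cfsg.Agent.S5704P

open Matrix Cfsg.Agent.S5637P Cfsg.Agent.S5704S Cfsg.Agent.Helper28.Sg

variable {F : Type*} [Field F] {n a b : ℕ} (e : Fin n ≃ Fin a × Fin b)

/-- the standing hypotheses of the middle chapters of S5704 (`P = 1`) -/
structure Ctx (Q : QuadraticForm F (Fin n → F)) (GU : Matrix (Fin a) (Fin a) F)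
    (GW : Matrix (Fin b) (Fin b) F) (M : Subgroup (GL (Fin n) F)) : Prop where
  tdata : TData Q e 1 GU GW
  nondeg : (QuadraticMap.polarBilin Q).Nondegenerate
  hn : 8 ≤ n
  ha : a = 2 ∨ 4 ≤ a
  hb : 4 ≤ b
  hHM : Kr e ⊓ Cfsg.Geo.omegaGL ⇑Q ≤ M
  hMO : M ≤ Cfsg.Geo.omegaGL ⇑Q

/-- `v` is not a multiple of `u` -/
def NotMul {m : ℕ} (u v : Fin m → F) : Prop := ∀ c : F, v ≠ c • u

/-- a seed of type (A): `ρ(u ⊗ z, u' ⊗ z) ∈ M`, `u' ⊥ u`, `u' ∉ F u` -/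
def SeedA (Q : QuadraticForm F (Fin n → F)) (GU : Matrix (Fin a) (Fin a) F)
    (M : Subgroup (GL (Fin n) F)) : Prop :=
  ∃ (u u' : Fin a → F) (z : Fin b → F), u ≠ 0 ∧ z ≠ 0 ∧ bf GU u u' = 0 ∧ NotMul u u' ∧
    InM Q (MO Q M) (tn e u z) (tn e u' z)

/-- a seed of type (B): `ρ(u ⊗ z, u ⊗ z₀) ∈ M`, `z₀ ⊥ z`, `z₀ ∉ F z` -/
def SeedB (Q : QuadraticForm F (Fin n → F)) (GW : Matrix (Fin b) (Fin b) F)
    (M : Subgroup (GL (Fin n) F)) : Prop :=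
  ∃ (u : Fin a → F) (z z₀ : Fin b → F), u ≠ 0 ∧ z ≠ 0 ∧ bf GW z z₀ = 0 ∧ NotMul z z₀ ∧
    InM Q (MO Q M) (tn e u z) (tn e u z₀)

/-- a mixed seed: `ρ(u ⊗ z, u' ⊗ z₀) ∈ M`, `z₀ ⊥ z`, `z₀ ∉ F z`, `u, u' ≠ 0` -/
def SeedMix (Q : QuadraticForm F (Fin n → F)) (GW : Matrix (Fin b) (Fin b) F)
    (M : Subgroup (GL (Fin n) F)) : Prop :=
  ∃ (u u' : Fin a → F) (z z₀ : Fin b → F), u ≠ 0 ∧ u' ≠ 0 ∧ z ≠ 0 ∧ bf GW z z₀ = 0 ∧ NotMul z z₀ ∧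
    InM Q (MO Q M) (tn e u z) (tn e u' z₀)

/-- `k` lies in `Z(U ⊗ L)`, `L = ⟨z, z₀⟩` totally isotropic, with parameters `(A₁, A₂, B, B')`:
`k (u ⊗ w) = u ⊗ w + (w,z) (A₁ u ⊗ z + B' u ⊗ z₀) + (w,z₀) (B u ⊗ z + A₂ u ⊗ z₀)` -/
def ZL (GW : Matrix (Fin b) (Fin b) F) (z z₀ : Fin b → F) (A₁ A₂ B B' : Matrix (Fin a) (Fin a) F)
    (k : GL (Fin n) F) : Prop :=
  ∀ (u : Fin a → F) (w : Fin b → F),
    (k : Matrix (Fin n) (Fin n) F) *ᵥ tn e u w =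
      tn e u w + bf GW w z • (tn e (A₁ *ᵥ u) z + tn e (B' *ᵥ u) z₀) +
        bf GW w z₀ • (tn e (B *ᵥ u) z + tn e (A₂ *ᵥ u) z₀)

end Cfsg.Agent.S5704P
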