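import Mathlib
import Cfsg.Agent.Helper15.S5704SEEDDefs

set_option autoImplicit false
set_option linter.unusedSectionVars false
set_option linter.unusedVariables false

/-! # S5704, chapter SEED (driver helper15): definitions, part 2 (CASE 2 calculus, after helper24's note)

`RK GU u u'` rank one matrix `x ↦ bf GU x u' • u`; `TU GU u s` matrix of the transvection `t_{u,s}`;
`IsAdj GU Θ Θ'` (`Θ'` is the `bf GU`-adjoint of `Θ`); `FixV`, `Slice`;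
`EGp e GW z z1 Θ Θ' C k`: `k (u ⊗ w) = u ⊗ w + (w,z1) Θu ⊗ z + (w,z) (Θ'u ⊗ z1 + Cu ⊗ z)`. -/

namespace Cfsg.Agent.S5704P

open Matrix Cfsg.Agent.S5637P Cfsg.Agent.S5704S Cfsg.Agent.Helper28.Sg

variable {F : Type*} [Field F] {n a b : ℕ} (e : Fin n ≃ Fin a × Fin b)

/-- `Θ'` is the `bf GU`-adjoint of `Θ` -/
def IsAdj (GU : Matrix (Fin a) (Fin a) F) (Θ Θ' : Matrix (Fin a) (Fin a) F) : Prop :=
  ∀ x y : Fin a → F, bf GU (Θ' *ᵥ x) y = bf GU x (Θ *ᵥ y)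

/-- the rank one matrix `x ↦ bf GU x u' • u` -/
def RK (GU : Matrix (Fin a) (Fin a) F) (u u' : Fin a → F) : Matrix (Fin a) (Fin a) F :=
  vecMulVec u (psi GU u')

theorem RK_mulVec (GU : Matrix (Fin a) (Fin a) F) (u u' x : Fin a → F) :
    RK GU u u' *ᵥ x = bf GU x u' • u := by
  unfold RK
  rw [vecMulVec_mulVec', psi_dot]

/-- the matrix of the transvection `t_{u,s} : x ↦ x + s (bf GU x u) u` -/
def TU (GU : Matrix (Fin a) (Fin a) F) (u : Fin a → F) (s : F) : Matrix (Fin a) (Fin a) F :=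
  1 + s • RK GU u u

theorem TU_mulVec (GU : Matrix (Fin a) (Fin a) F) (u : Fin a → F) (s : F) (x : Fin a → F) :
    TU GU u s *ᵥ x = x + (s * bf GU x u) • u := by
  unfold TU
  rw [add_mulVec, one_mulVec, smul_mulVec, RK_mulVec, smul_smul]

/-- `Θ` is a scalar matrix -/
def IsScal (Θ : Matrix (Fin a) (Fin a) F) : Prop := ∃ c : F, Θ = c • (1 : Matrix (Fin a) (Fin a) F)

/-- `g` fixes `V_z = U ⊗ z` pointwise -/
def FixV (z : Fin b → F) (g : GL (Fin n) F) : Prop :=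
  ∀ u : Fin a → F, (g : Matrix (Fin n) (Fin n) F) *ᵥ tn e u z = tn e u z

/-- the slice of `g` at `w`: `g (u ⊗ w) = u ⊗ w + Θu ⊗ z` -/
def Slice (z w : Fin b → F) (Θ : Matrix (Fin a) (Fin a) F) (g : GL (Fin n) F) : Prop :=
  ∀ u : Fin a → F, (g : Matrix (Fin n) (Fin n) F) *ᵥ tn e u w = tn e u w + tn e (Θ *ᵥ u) z

/-- `k (u ⊗ w) = u ⊗ w + (w,z1) Θu ⊗ z + (w,z) (Θ'u ⊗ z1 + Cu ⊗ z)` -/
def EGp (GW : Matrix (Fin b) (Fin b) F) (z z1 : Fin b → F) (Θ Θ' C : Matrix (Fin a) (Fin a) F)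
    (k : GL (Fin n) F) : Prop :=
  ∀ (u : Fin a → F) (w : Fin b → F),
    (k : Matrix (Fin n) (Fin n) F) *ᵥ tn e u w =
      tn e u w + bf GW w z1 • tn e (Θ *ᵥ u) z +
        bf GW w z • (tn e (Θ' *ᵥ u) z1 + tn e (C *ᵥ u) z)

end Cfsg.Agent.S5704P
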