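import Mathlib
import Cfsg.Agent.Helper21.S5950Defs
import Cfsg.Agent.Helper21.S5949Basic

set_option autoImplicit false

/-! S5950, piece J-KDIM: basic properties of `kdim N k = dim ker N^k`. -/

namespace Cfsg.Agent.S5949P

namespace JT

variable {F V V' V₁ V₂ : Type*} [Field F] [AddCommGroup V] [Module F V]
  [AddCommGroup V'] [Module F V'] [AddCommGroup V₁] [Module F V₁] [AddCommGroup V₂] [Module F V₂]

theorem kdim_conj (e : V ≃ₗ[F] V') (N : Module.End F V) (N' : Module.End F V')
    (h : ∀ v, e (N v) = N' (e v)) (k : ℕ) : kdim N' k = kdim N k := by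
  unfold kdim
  have hk : ∀ v, e ((N ^ k) v) = (N' ^ k) (e v) :=
    fun v => Basic.pow_intertwine e.toLinearMap N N' h k v
  have hmap : LinearMap.ker (N' ^ k) = (LinearMap.ker (N ^ k)).map (e : V →ₗ[F] V') := by
    ext w
    simp only [LinearMap.mem_ker, Submodule.mem_map]
    constructor
    · intro hw
      refine ⟨e.symm w, ?_, by simp⟩
      apply e.injective
      rw [hk, map_zero]
      simpa using hw
    · rintro ⟨v, hv, rfl⟩
      have := hk v
      rw [hv, map_zero] at this
      exact this.symm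
  rw [hmap]
  exact LinearEquiv.finrank_map_eq e _

/-- the product of two submodules is the product of the submodule types -/
def kdimProdSubEquiv (p : Submodule F V₁) (q : Submodule F V₂) : (p.prod q) ≃ₗ[F] (p × q) where
  toFun x := (⟨x.1.1, x.2.1⟩, ⟨x.1.2, x.2.2⟩)
  invFun y := ⟨(y.1.1, y.2.1), ⟨y.1.2, y.2.2⟩⟩
  map_add' _ _ := rfl
  map_smul' _ _ := rfl
  left_inv _ := rfl
  right_inv _ := rfl

theorem kdim_prodMap_pow (N₁ : Module.End F V₁) (N₂ : Module.End F V₂) (k : ℕ) :
    (N₁.prodMap N₂) ^ k = (N₁ ^ k).prodMap (N₂ ^ k) := by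
  induction k with
  | zero => simp [pow_zero]
  | succ k ih => rw [pow_succ, pow_succ, pow_succ, ih, LinearMap.prodMap_mul]

theorem kdim_prodMap [FiniteDimensional F V₁] [FiniteDimensional F V₂] (N₁ : Module.End F V₁)
    (N₂ : Module.End F V₂) (k : ℕ) : kdim (N₁.prodMap N₂) k = kdim N₁ k + kdim N₂ k := by
  unfold kdim
  rw [kdim_prodMap_pow, LinearMap.ker_prodMap,
    (kdimProdSubEquiv (LinearMap.ker (N₁ ^ k)) (LinearMap.ker (N₂ ^ k))).finrank_eq,
    Module.finrank_prod]

theorem kdim_zero (N : Module.End F V) : kdim N 0 = 0 := by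
  unfold kdim
  rw [pow_zero]
  have : LinearMap.ker (1 : Module.End F V) = ⊥ := LinearMap.ker_id
  rw [this, finrank_bot]

theorem kdim_mono [FiniteDimensional F V] (N : Module.End F V) {k l : ℕ} (h : k ≤ l) :
    kdim N k ≤ kdim N l := by
  unfold kdim
  apply Submodule.finrank_mono
  intro v hv
  rw [LinearMap.mem_ker] at hv ⊢
  obtain ⟨d, rfl⟩ := Nat.exists_eq_add_of_le h
  rw [add_comm, pow_add, Module.End.mul_apply, hv, map_zero]

theorem kdim_succ [FiniteDimensional F V] (N : Module.End F V) (j : ℕ) :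
    kdim N (j + 1) =
      kdim N j + Module.finrank F ↥(LinearMap.ker N ⊓ LinearMap.range (N ^ j)) := by
  unfold kdim
  have h1 := LinearMap.finrank_range_add_finrank_ker
    ((N ^ j).domRestrict (LinearMap.ker (N ^ (j + 1))))
  have hr : LinearMap.range ((N ^ j).domRestrict (LinearMap.ker (N ^ (j + 1)))) =
      LinearMap.ker N ⊓ LinearMap.range (N ^ j) := by
    ext w
    constructor
    · rintro ⟨⟨v, hv⟩, rfl⟩
      refine ⟨?_, ⟨v, rfl⟩⟩
      rw [LinearMap.mem_ker] at hv
      rw [SetLike.mem_coe, LinearMap.mem_ker]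
      rw [pow_succ', Module.End.mul_apply] at hv
      exact hv
    · rintro ⟨hw, ⟨v, rfl⟩⟩
      refine ⟨⟨v, ?_⟩, rfl⟩
      rw [SetLike.mem_coe, LinearMap.mem_ker] at hw
      rw [LinearMap.mem_ker]
      rw [pow_succ', Module.End.mul_apply]
      exact hw
  have hle : LinearMap.ker (N ^ j) ≤ LinearMap.ker (N ^ (j + 1)) := by
    intro v hv
    rw [LinearMap.mem_ker] at hv ⊢
    rw [pow_succ', Module.End.mul_apply, hv, map_zero]
  have hk : Module.finrank F
      (LinearMap.ker ((N ^ j).domRestrict (LinearMap.ker (N ^ (j + 1))))) =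
      Module.finrank F (LinearMap.ker (N ^ j)) := by
    rw [LinearMap.ker_domRestrict]
    exact (Submodule.comapSubtypeEquivOfLe hle).finrank_eq
  rw [hr, hk] at h1
  omega

theorem kdim_concave [FiniteDimensional F V] (N : Module.End F V) (k : ℕ) :
    kdim N (k + 2) + kdim N k ≤ 2 * kdim N (k + 1) := by
  have h1 := kdim_succ N k
  have h2 := kdim_succ N (k + 1)
  have hle : Module.finrank F ↥(LinearMap.ker N ⊓ LinearMap.range (N ^ (k + 1))) ≤
      Module.finrank F ↥(LinearMap.ker N ⊓ LinearMap.range (N ^ k)) := by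
    apply Submodule.finrank_mono
    apply inf_le_inf_left
    rintro w ⟨v, rfl⟩
    exact ⟨N v, by rw [pow_succ, Module.End.mul_apply]⟩
  have e : k + 1 + 1 = k + 2 := rfl
  rw [e] at h2
  omega

theorem kdim_of_pow_eq_zero [FiniteDimensional F V] (N : Module.End F V) {B k : ℕ}
    (hN : N ^ B = 0) (hk : B ≤ k) : kdim N k = Module.finrank F V := by
  unfold kdim
  rw [pow_eq_zero_of_le hk hN, LinearMap.ker_zero, finrank_top]

end JT

end Cfsg.Agent.S5949P
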