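import Mathlib
import Cfsg.Agent.Helper16.S64Defs

set_option autoImplicit false

/-! # S2933: shared definitions of the board `s2933pieces`
(blueprint: `departures/helper15_S2933_blueprint.md`). -/

namespace Cfsg.Agent.S2933P

open scoped commutatorElement

/-- The abstract setting (P): a group `T` with commuting automorphisms `τ` (`τ² = 1`) and `ρ` (`ρ³ = 1`),
a central four-group `V` which is exactly the fixed-point set of `τ`, is `ρ`-invariant, and on which `ρ` has no
non-trivial fixed point. -/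
structure PData {T : Type*} [Group T] (τ ρ : MulAut T) (V : Subgroup T) : Prop where
  tau_sq : ∀ x, τ (τ x) = x
  rho_cube : ∀ x, ρ (ρ (ρ x)) = x
  comm : ∀ x, τ (ρ x) = ρ (τ x)
  central : V ≤ Subgroup.center T
  card : Nat.card V = 4
  exp : ∀ v ∈ V, v * v = 1
  tau_fix : ∀ x, τ x = x ↔ x ∈ V
  rho_mem : ∀ v ∈ V, ρ v ∈ V
  rho_fpf : ∀ v ∈ V, ρ v = v → v = 1

/-- The conclusion of Theorem A. -/
def Concl (T : Type*) [Group T] : Prop :=
  (Nat.card T = 16 ∧ ∀ x : T, x * x = 1) ∨
  (∃ n : ℕ, 1 ≤ n ∧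
    Nonempty (T ≃* Multiplicative (ZMod (2 ^ n)) × Multiplicative (ZMod (2 ^ n)))) ∨
  (Nat.card T = 64 ∧ ¬ IsMulCommutative T)

/-- Normal form data of the Suzuki-type group of order 64 (Theorem B, case B). -/
structure UData {T : Type*} [Group T] (ρ : MulAut T) (s x w : T) : Prop where
  card : Nat.card T = 64
  fpf : Cfsg.Agent.Helper16.S64.Fpf3 ρ
  s_mem : s ∈ Subgroup.center T
  s_ne : s ≠ 1
  x_sq : x * x = s
  w_sq : w * w = s
  comm : ⁅x, w⁆ = ρ s

theorem PData.normal {T : Type*} [Group T] {τ ρ : MulAut T} {V : Subgroup T} (h : PData τ ρ V) :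
    V.Normal := by
  refine ⟨fun v hv g => ?_⟩
  have hc := Subgroup.mem_center_iff.mp (h.central hv) g
  have : g * v * g⁻¹ = v := by rw [hc, mul_inv_cancel_right]
  rw [this]; exact hv

end Cfsg.Agent.S2933P
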