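import Mathlib
import Cfsg.Agent.Helper2.S3086Defs
import Cfsg.Agent.Helper2.S3086Basic
import Cfsg.Agent.Helper2.S3086Defs2

/-! Board `s3086pieces` (S3086, the P(G,V)-theorem), row COP: coprime action of a single element `V = C_V(x) ⊕ [V,x]`,
and PGF: fixed points of `p`-subgroups of `GL(V)` (also on an invariant subspace, `COP_aux_fix_exists`). -/

set_option autoImplicit false

namespace Cfsg.Agent.S3086P

universe u

variable {p : ℕ} [Fact p.Prime] {V : Type u} [AddCommGroup V] [Module (ZMod p) V]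

theorem COP_aux_pow_apply {X : Module.End (ZMod p) V} {v : V} (h : X v = v) (i : ℕ) : (X ^ i) v = v := by
  induction i with
  | zero => simp
  | succ k ih => rw [pow_succ, Module.End.mul_apply, h, ih]

/-- `x^i v - v ∈ range (x - 1)` -/
theorem COP_aux_pow_sub_mem (X : Module.End (ZMod p) V) (v : V) (i : ℕ) :
    (X ^ i) v - v ∈ LinearMap.range (X - 1) := by
  refine ⟨(∑ j ∈ Finset.range i, X ^ j) v, ?_⟩
  rw [← Module.End.mul_apply, mul_geom_sum]
  simp

/-- COP (M): coprime action of a single element: `V = C_V(x) ⊕ [V,x]`. -/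
theorem COP [Finite V] {x : GLV p V} (hx : (orderOf x).Coprime p) :
    LinearMap.ker (Nop x) ⊓ LinearMap.range (Nop x) = ⊥ ∧ LinearMap.ker (Nop x) ⊔ LinearMap.range (Nop x) = ⊤ := by
  set n := orderOf x with hn
  set X : Module.End (ZMod p) V := toE x with hX
  have hXn : X ^ n = 1 := by
    rw [hX, ← toE_pow, hn, pow_orderOf_eq_one]; rfl
  have hN : Nop x = X - 1 := rfl
  rw [hN]
  set S : Module.End (ZMod p) V := ∑ i ∈ Finset.range n, X ^ i with hS
  have hNS : (X - 1) * S = 0 := by rw [hS, mul_geom_sum, hXn, sub_self]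
  have hSN : S * (X - 1) = 0 := by rw [hS, geom_sum_mul, hXn, sub_self]
  have hunit : IsUnit ((n : ℕ) : ZMod p) := (ZMod.isUnit_iff_coprime n p).mpr hx
  obtain ⟨c, hc⟩ := hunit.exists_left_inv
  have hcancel : ∀ v : V, c • (n • v) = v := by
    intro v
    rw [← Nat.cast_smul_eq_nsmul (ZMod p) n v, smul_smul, hc, one_smul]
  constructor
  · rw [eq_bot_iff]
    intro v hv
    obtain ⟨hv1, w, hw⟩ := hv
    have hXv : X v = v := by
      have : (X - 1) v = 0 := hv1
      rw [LinearMap.sub_apply, Module.End.one_apply, sub_eq_zero] at this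
      exact this
    have h1 : S v = n • v := by
      rw [hS, LinearMap.sum_apply, Finset.sum_congr rfl (fun i _ => COP_aux_pow_apply hXv i),
        Finset.sum_const, Finset.card_range]
    have h2 : S v = 0 := by
      rw [← hw, ← Module.End.mul_apply, hSN]; rfl
    rw [Submodule.mem_bot, ← hcancel v, ← h1, h2, smul_zero]
  · rw [eq_top_iff]
    intro v _
    have h1 : S v ∈ LinearMap.ker (X - 1) := by
      rw [LinearMap.mem_ker, ← Module.End.mul_apply, hNS]; rfl
    have h2 : S v - n • v ∈ LinearMap.range (X - 1) := by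
      have : S v - n • v = ∑ i ∈ Finset.range n, ((X ^ i) v - v) := by
        rw [Finset.sum_sub_distrib, Finset.sum_const, Finset.card_range, hS, LinearMap.sum_apply]
      rw [this]
      exact Submodule.sum_mem _ (fun i _ => COP_aux_pow_sub_mem X v i)
    have h3 : n • v ∈ LinearMap.ker (X - 1) ⊔ LinearMap.range (X - 1) := by
      have : n • v = S v + -(S v - n • v) := by abel
      rw [this]
      exact Submodule.add_mem_sup h1 (Submodule.neg_mem _ h2)
    rw [← hcancel v]
    exact Submodule.smul_mem _ c h3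

/-- a `p`-subgroup of `GL(V)` fixes a nonzero vector of every nonzero invariant subspace -/
theorem COP_aux_fix_exists [Finite V] {P : Subgroup (GLV p V)} (hP : IsPGroup p ↥P) (W : Submodule (ZMod p) V)
    (hW : ∀ b ∈ P, ∀ w ∈ W, b w ∈ W) (hne : W ≠ ⊥) : ∃ w ∈ W, w ≠ 0 ∧ ∀ b ∈ P, b w = w := by
  let act : MulAction ↥P ↥W :=
    { smul := fun b w => ⟨(b : GLV p V) (w : V), hW b b.2 w w.2⟩
      one_smul := fun w => Subtype.ext rfl
      mul_smul := fun b c w => Subtype.ext rfl }
  have hsmul : ∀ (b : ↥P) (w : ↥W), ((b • w : ↥W) : V) = (b : GLV p V) (w : V) := fun _ _ => rfl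
  have h1 := hP.card_modEq_card_fixedPoints (↥W)
  -- `p ∣ |W|`
  obtain ⟨w0, hw0W, hw0⟩ := (Submodule.ne_bot_iff W).mp hne
  have hpW : p ∣ Nat.card ↥W := by
    have hord : addOrderOf (⟨w0, hw0W⟩ : ↥W) ∣ p := by
      apply addOrderOf_dvd_of_nsmul_eq_zero
      rw [← Nat.cast_smul_eq_nsmul (ZMod p), ZMod.natCast_self, zero_smul]
    have hne1 : addOrderOf (⟨w0, hw0W⟩ : ↥W) ≠ 1 := by
      rw [Ne, AddMonoid.addOrderOf_eq_one_iff]
      intro h
      exact hw0 (congrArg Subtype.val h)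
    have : addOrderOf (⟨w0, hw0W⟩ : ↥W) = p :=
      ((Nat.dvd_prime (Fact.out : p.Prime)).mp hord).resolve_left hne1
    have h3 := addOrderOf_dvd_natCard (⟨w0, hw0W⟩ : ↥W)
    rwa [this] at h3
  have hpF : p ∣ Nat.card ↥(MulAction.fixedPoints ↥P ↥W) := by
    have := (Nat.modEq_zero_iff_dvd.mpr hpW).symm.trans h1
    exact Nat.modEq_zero_iff_dvd.mp this.symm
  have hFpos : 0 < Nat.card ↥(MulAction.fixedPoints ↥P ↥W) := by
    have : Nonempty ↥(MulAction.fixedPoints ↥P ↥W) := ⟨⟨0, fun b => Subtype.ext (by rw [hsmul]; simp)⟩⟩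
    exact Nat.card_pos
  have h2 : 1 < Nat.card ↥(MulAction.fixedPoints ↥P ↥W) :=
    lt_of_lt_of_le (Fact.out : p.Prime).one_lt (Nat.le_of_dvd hFpos hpF)
  have : Nontrivial ↥(MulAction.fixedPoints ↥P ↥W) := (Finite.one_lt_card_iff_nontrivial).mp h2
  obtain ⟨f, hf⟩ := exists_ne (⟨0, fun b => Subtype.ext (by rw [hsmul]; simp)⟩ : ↥(MulAction.fixedPoints ↥P ↥W))
  refine ⟨((f : ↥W) : V), (f : ↥W).2, ?_, ?_⟩
  · intro h0
    apply hf
    apply Subtype.ext
    apply Subtype.ext
    exact h0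
  · intro b hb
    have := congrArg Subtype.val (f.2 ⟨b, hb⟩)
    rw [hsmul] at this
    exact this

/-- PGF (S/M): a nontrivial `p`-subgroup of `GL(V)` has a proper fixed space `≠ ⊤` and (if `V ≠ 0`) `≠ ⊥`. -/
theorem PGF [Finite V] {P : Subgroup (GLV p V)} (hP : IsPGroup p ↥P) :
    (P ≠ ⊥ → fixS P ≠ ⊤) ∧ (Nontrivial V → fixS P ≠ ⊥) := by
  constructor
  · intro hne htop
    apply hne
    rw [eq_bot_iff]
    intro b hb
    rw [Subgroup.mem_bot]
    apply LinearEquiv.ext
    intro v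
    have : v ∈ fixS P := by rw [htop]; trivial
    exact this b hb
  · intro hV hbot
    have hne : (⊤ : Submodule (ZMod p) V) ≠ ⊥ := top_ne_bot
    obtain ⟨w, _, hw0, hw⟩ := COP_aux_fix_exists hP ⊤ (fun _ _ _ _ => trivial) hne
    have : w ∈ fixS P := hw
    rw [hbot, Submodule.mem_bot] at this
    exact hw0 this

end Cfsg.Agent.S3086P
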