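import Mathlib
import Cfsg.Agent.Helper15.S3086COP

/-! Board `s3086pieces` (S3086, the P(G,V)-theorem), row AXB: Thompson's `A × B`-lemma in the form needed. -/

set_option autoImplicit false

namespace Cfsg.Agent.S3086P

universe u

variable {p : ℕ} [Fact p.Prime] {V : Type u} [AddCommGroup V] [Module (ZMod p) V] [Finite V]

/-- AXB (M): Thompson's `A × B`-lemma in the form needed. -/
theorem AXB {X P : Subgroup (GLV p V)} (hP : IsPGroup p ↥P) (hXP : CommS X P)
    (hgen : Subgroup.closure {x | x ∈ X ∧ (orderOf x).Coprime p} = X) (hfix : fixS P ≤ fixS X) : X = ⊥ := by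
  rw [← hgen, Subgroup.closure_eq_bot_iff]
  rintro x ⟨hxX, hxo⟩
  rw [Set.mem_singleton_iff]
  obtain ⟨hinf, _⟩ := COP hxo
  -- `[V,x]` is `P`-invariant
  have hinv : ∀ b ∈ P, ∀ w ∈ LinearMap.range (Nop x), b w ∈ LinearMap.range (Nop x) := by
    rintro b hb _ ⟨v, rfl⟩
    refine ⟨b v, ?_⟩
    have hcomm : x * b = b * x := hXP x hxX b hb
    have h1 : x (b v) = b (x v) := by
      have := congrArg (fun g : GLV p V => g v) hcomm
      exact this
    change x (b v) - b v = b (x v - v)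
    rw [h1, map_sub]
  by_contra hx1
  have hne : LinearMap.range (Nop x) ≠ ⊥ := by
    intro hbot
    apply hx1
    apply LinearEquiv.ext
    intro v
    have : Nop x v ∈ LinearMap.range (Nop x) := ⟨v, rfl⟩
    rw [hbot, Submodule.mem_bot] at this
    have h2 : x v - v = 0 := this
    exact sub_eq_zero.mp h2
  obtain ⟨w, hwR, hw0, hwfix⟩ := COP_aux_fix_exists hP _ hinv hne
  have h1 : w ∈ fixS X := hfix hwfix
  have h2 : w ∈ LinearMap.ker (Nop x) := mem_ker_Nop.mpr (h1 x hxX)
  have h3 : w ∈ LinearMap.ker (Nop x) ⊓ LinearMap.range (Nop x) := ⟨h2, hwR⟩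
  rw [hinf, Submodule.mem_bot] at h3
  exact hw0 h3

end Cfsg.Agent.S3086P
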