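import Cfsg.Agent.Helper11.S3786Defs
import Cfsg.Agent.Helper21.S3786COPR

/-! # S3786 (Hall–Higman), board `s3786pieces`, row LY_faith (core): `T̂` is faithful on `C/Z(C)`.
The conclusion of `That_cent` for the abelian 2-group `Z(C) = C ⊓ C_H(C)` enters as the hypothesis `hcent`. -/

set_option autoImplicit false

namespace Cfsg.Agent.S3786P

open Subgroup

/-- `T̂ ≤ T` (inline copy of the easy half of row `That_le`) -/
theorem LY_faith_aux_That_le {H : Type*} [Group H] (T : Subgroup H) (p n : ℕ) : That T p n ≤ T := by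
  unfold That
  rw [closure_le]
  rintro z ⟨w, hw, -, rfl⟩
  exact T.pow_mem hw _

/-- `Z(C) = C ⊓ C_H(C)` is an abelian 2-group normalised by `T` -/
theorem LY_faith_aux_R {H : Type*} [Group H] {p : ℕ} {T : Subgroup H} {n : ℕ} {S₂ C : Subgroup H}
    (hC : CSet p T n S₂ C) :
    IsPGroup 2 ↥(C ⊓ centralizer (C : Set H)) ∧ T ≤ normalizer ((C ⊓ centralizer (C : Set H) : Subgroup H) : Set H) ∧
      ∀ a ∈ C ⊓ centralizer (C : Set H), ∀ b ∈ C ⊓ centralizer (C : Set H), a * b = b * a := by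
  refine ⟨hC.S_two.to_le (inf_le_left.trans hC.C_le), ?_, ?_⟩
  · intro t ht
    have htC : t ∈ normalizer (C : Set H) := hC.C_char (hC.S_norm ht)
    have htC' : t⁻¹ ∈ normalizer (C : Set H) := inv_mem htC
    -- conjugation by a normalising element preserves `C ⊓ C_H(C)`
    have key : ∀ s ∈ normalizer (C : Set H), ∀ a ∈ C ⊓ centralizer (C : Set H),
        s * a * s⁻¹ ∈ C ⊓ centralizer (C : Set H) := by
      intro s hs a ha
      have hs' : s⁻¹ ∈ normalizer (C : Set H) := inv_mem hs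
      refine mem_inf.2 ⟨(mem_normalizer_iff.1 hs a).1 (mem_inf.1 ha).1, ?_⟩
      rw [mem_centralizer_iff]
      intro c hc
      have hc' : s⁻¹ * c * s⁻¹⁻¹ ∈ C := (mem_normalizer_iff.1 hs' c).1 hc
      have := (mem_centralizer_iff.1 (mem_inf.1 ha).2) _ hc'
      calc c * (s * a * s⁻¹) = s * ((s⁻¹ * c * s⁻¹⁻¹) * a) * s⁻¹ := by group
        _ = s * (a * (s⁻¹ * c * s⁻¹⁻¹)) * s⁻¹ := by rw [this]
        _ = s * a * s⁻¹ * c := by group
    rw [mem_normalizer_iff]
    intro a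
    constructor
    · exact key t htC a
    · intro ha
      have := key t⁻¹ htC' _ ha
      have e : t⁻¹ * (t * a * t⁻¹) * t⁻¹⁻¹ = a := by group
      rwa [e] at this
  · intro a ha b hb
    exact ((mem_centralizer_iff.1 (mem_inf.1 ha).2) b (mem_inf.1 hb).1).symm

/-- LY_faith (core): `b ∈ T̂` centralising `Z(C)` and `C/Z(C)` is trivial. -/
theorem LY_faith_aux_core {H : Type*} [Group H] [Finite H] {p : ℕ} [Fact p.Prime] (hp2 : p ≠ 2) {T : Sylow p H} {n : ℕ}
    {S₂ C : Subgroup H} (hC : CSet p (T : Subgroup H) n S₂ C) {b : H} (hb : b ∈ That (T : Subgroup H) p n)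
    (hcent : ∀ a ∈ C, a ∈ centralizer (C : Set H) → b * a = a * b)
    (h : ∀ a ∈ C, b * a * b⁻¹ * a⁻¹ ∈ centralizer (C : Set H)) : b = 1 := by
  have hp : p.Prime := Fact.out
  have hbT : b ∈ (T : Subgroup H) := LY_faith_aux_That_le _ p n hb
  -- `b` has odd order
  have hcop : (orderOf b).Coprime 2 := by
    obtain ⟨k, hk⟩ := T.isPGroup' ⟨b, hbT⟩
    have hk' : b ^ p ^ k = 1 := by
      have := congrArg (Subtype.val) hk
      simpa using this
    obtain ⟨j, -, hj⟩ := (Nat.dvd_prime_pow hp).1 (orderOf_dvd_of_pow_eq_one hk')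
    rw [hj]
    exact Nat.Coprime.pow_left j ((Nat.coprime_primes hp Nat.prime_two).2 hp2)
  have hbS : b ∈ normalizer (S₂ : Set H) := hC.S_norm hbT
  have hbC : b ∈ normalizer (C : Set H) := hC.C_char hbS
  have hC2 : IsPGroup 2 ↥C := hC.S_two.to_le hC.C_le
  have h1 : b ∈ centralizer (C : Set H) := COPR 2 C hC2 b hcop hbC hcent h
  have h2 : b ∈ centralizer (S₂ : Set H) := hC.C_crit b hbS hcop h1
  have h3 : b ∈ That (T : Subgroup H) p n ⊓ centralizer (S₂ : Set H) := mem_inf.2 ⟨hb, h2⟩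
  rw [hC.S_faith] at h3
  exact mem_bot.1 h3

end Cfsg.Agent.S3786P
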