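import Mathlib
import Cfsg.Agent.Helper11.S4409Defs
import Cfsg.Agent.Lead.Coprime3

/-!
# S4409 board, piece CA2 (helper15): coprime action, `[[P,K],K] = [P,K]` for a `2`-group `P` and `K` of odd order.
-/

set_option autoImplicit false
set_option linter.unusedVariables false

namespace Cfsg.Agent.S4409P

open Subgroup
open scoped commutatorElement

variable {S : Type*} [Group S] [Finite S]

/-- CA2 (`Cfsg.Agent.S0027.result`) -/
theorem comm_comm (P K : Subgroup S) (hP : IsPGroup 2 ↥P) (hK : Odd (Nat.card ↥K))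
    (hKP : K ≤ normalizer (P : Set S)) : ⁅⁅P, K⁆, K⁆ = ⁅P, K⁆ := by
  haveI : Fact (Nat.Prime 2) := ⟨Nat.prime_two⟩
  have hcop : (Nat.card ↥K).Coprime (Nat.card ↥P) := by
    obtain ⟨n, hn⟩ := IsPGroup.iff_card.mp hP
    rw [hn]
    exact Nat.Coprime.pow_right n (Nat.coprime_two_right.mpr hK)
  haveI := hP.isNilpotent
  exact Cfsg.Agent.Lead.coprime_commutator_commutator K P hKP hcop (Or.inr inferInstance)

end Cfsg.Agent.S4409P
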