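import Mathlib
import Cfsg.Agent.Helper11.S4409Defs

/-!
# S4409 board, piece CA1N (helper15): `[P,K]` is normalised by `P` and by `K`.
-/

set_option autoImplicit false
set_option linter.unusedVariables false

namespace Cfsg.Agent.S4409P

open Subgroup
open scoped commutatorElement

variable {S : Type*} [Group S] [Finite S]

/-- CA1N : `[P,K]` is normalised by `P` and by `K`. -/
theorem comm_normal (P K : Subgroup S) (hKP : K ≤ normalizer (P : Set S)) :
    P ≤ normalizer ((⁅P, K⁆ : Subgroup S) : Set S) ∧ K ≤ normalizer ((⁅P, K⁆ : Subgroup S) : Set S) :=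
  ⟨Subgroup.normalizer_commutator_ge_left P K, Subgroup.normalizer_commutator_ge_right P K⟩

end Cfsg.Agent.S4409P
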