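import Mathlib
import Cfsg.Prelude.Def_Characters

set_option autoImplicit false

/-! S4751 piece S4Gb (helper15): an involution and an element of order three inverted by it,
both outside a normal subgroup of index six, generate a complement of order six. -/

namespace Cfsg.Agent.S4751P

open scoped ComplexConjugate
open scoped Pointwise

universe u

variable {G : Type u} [Group G] [Finite G]

/-- S4Gb -/
theorem s3_of_invol_three (C : Subgroup G) [C.Normal] (hidx : C.index = 6) (u d : G) (hu : u ^ 2 = 1)
    (hd : d ^ 3 = 1) (hud : u * d * u⁻¹ = d⁻¹) (huC : u ∉ C) (hdC : d ∉ C) :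
    Nat.card (Subgroup.closure ({u, d} : Set G)) = 6 ∧ Subgroup.closure ({u, d} : Set G) ⊓ C = ⊥ := by
  have hLsup : Subgroup.closure ({u, d} : Set G) = Subgroup.zpowers u ⊔ Subgroup.zpowers d := by
    rw [Subgroup.zpowers_eq_closure, Subgroup.zpowers_eq_closure, ← Subgroup.closure_union]
    congr 1
  set L := Subgroup.closure ({u, d} : Set G) with hL
  have huL : u ∈ L := Subgroup.subset_closure (by simp)
  have hdL : d ∈ L := Subgroup.subset_closure (by simp)
  -- upper bound for `|L|`
  have hnorm : Subgroup.zpowers u ≤ Subgroup.normalizer (Subgroup.zpowers d : Set G) := by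
    rw [Subgroup.zpowers_le]
    apply Subgroup.mem_normalizer_fintype
    intro n hn
    obtain ⟨m, rfl⟩ := Subgroup.mem_zpowers_iff.mp hn
    have h1 : u * d ^ m * u⁻¹ = (d⁻¹) ^ m := by
      rw [← hud, conj_zpow]
    show u * d ^ m * u⁻¹ ∈ Subgroup.zpowers d
    rw [h1]
    exact Subgroup.zpow_mem _ (Subgroup.inv_mem _ (Subgroup.mem_zpowers d)) m
  have hcoe := Subgroup.coe_mul_of_left_le_normalizer_right _ _ hnorm
  have hle6 : Nat.card L ≤ 6 := by
    have h1 : Nat.card L = Nat.card
        (((Subgroup.zpowers u : Set G) * (Subgroup.zpowers d : Set G) : Set G)) := by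
      rw [hLsup]
      exact Nat.card_congr (Equiv.setCongr hcoe)
    rw [h1]
    refine le_trans Set.natCard_mul_le ?_
    have hU : Nat.card (Subgroup.zpowers u : Set G) ≤ 2 := by
      show Nat.card (Subgroup.zpowers u) ≤ 2
      rw [Nat.card_zpowers]
      exact orderOf_le_of_pow_eq_one (by norm_num) hu
    have hD : Nat.card (Subgroup.zpowers d : Set G) ≤ 3 := by
      show Nat.card (Subgroup.zpowers d) ≤ 3
      rw [Nat.card_zpowers]
      exact orderOf_le_of_pow_eq_one (by norm_num) hd
    calc _ ≤ 2 * 3 := Nat.mul_le_mul hU hD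
      _ = 6 := by norm_num
  -- the image in `G ⧸ C`
  let π := QuotientGroup.mk' C
  have hπu : π u ≠ 1 := by
    intro h
    exact huC ((QuotientGroup.eq_one_iff u).mp h)
  have hπd : π d ≠ 1 := by
    intro h
    exact hdC ((QuotientGroup.eq_one_iff d).mp h)
  have ho2 : orderOf (π u) = 2 := by
    haveI : Fact (Nat.Prime 2) := ⟨Nat.prime_two⟩
    apply orderOf_eq_prime
    · rw [← map_pow, hu, map_one]
    · exact hπu
  have ho3 : orderOf (π d) = 3 := by
    haveI : Fact (Nat.Prime 3) := ⟨Nat.prime_three⟩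
    apply orderOf_eq_prime
    · rw [← map_pow, hd, map_one]
    · exact hπd
  have h2dvd : 2 ∣ Nat.card (L.map π) := by
    rw [← ho2]
    exact Subgroup.orderOf_dvd_natCard _ (Subgroup.mem_map_of_mem π huL)
  have h3dvd : 3 ∣ Nat.card (L.map π) := by
    rw [← ho3]
    exact Subgroup.orderOf_dvd_natCard _ (Subgroup.mem_map_of_mem π hdL)
  have h6dvd : 6 ∣ Nat.card (L.map π) := by
    have : Nat.Coprime 2 3 := by norm_num
    exact this.mul_dvd_of_dvd_of_dvd h2dvd h3dvd
  have hrel : C.relIndex L = Nat.card (L.map π) := by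
    have := Subgroup.relIndex_ker (K := L) π
    rwa [QuotientGroup.ker_mk'] at this
  have hmul : C.relIndex L * Nat.card (C.subgroupOf L) = Nat.card L :=
    Subgroup.index_mul_card (C.subgroupOf L)
  have hpos : 0 < Nat.card (C.subgroupOf L) := Nat.card_pos
  have hk6 : 6 ≤ C.relIndex L := by
    rw [hrel]
    exact Nat.le_of_dvd Nat.card_pos h6dvd
  have hsub1 : Nat.card (C.subgroupOf L) = 1 := by
    by_contra hne
    have h2 : 2 ≤ Nat.card (C.subgroupOf L) := by omega
    have : 6 * 2 ≤ C.relIndex L * Nat.card (C.subgroupOf L) := Nat.mul_le_mul hk6 h2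
    omega
  constructor
  · rw [hsub1, mul_one] at hmul
    omega
  · have hbot : C.subgroupOf L = ⊥ := Subgroup.card_eq_one.mp hsub1
    have := Subgroup.subgroupOf_eq_bot.mp hbot
    rw [inf_comm]
    exact disjoint_iff.mp this

end Cfsg.Agent.S4751P
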