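import Mathlib
import Cfsg.Prelude.Def_Characters

set_option autoImplicit false

/-! S4751 piece S4Gc (helper15): a normal four-group `P` with a complement `L` of order six acting
faithfully generates a copy of `S₄`. -/

namespace Cfsg.Agent.S4751P

open scoped ComplexConjugate
open scoped Pointwise

universe u

variable {G : Type u} [Group G] [Finite G]

/-- S4Gc -/
theorem s4_of_complement (P L : Subgroup G) [P.Normal] (hP4 : Nat.card P = 4) (hL6 : Nat.card L = 6)
    (hLC : L ⊓ Subgroup.centralizer (P : Set G) = ⊥) (hab : ∀ a ∈ P, ∀ b ∈ P, a * b = b * a) :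
    Nat.card (P ⊔ L : Subgroup G) = 24 ∧ (P ⊔ L) ⊓ Subgroup.centralizer (P : Set G) = P ∧
      Nonempty ((P ⊔ L : Subgroup G) ≃* Equiv.Perm (Fin 4)) := by
  have hPC : P ≤ Subgroup.centralizer (P : Set G) := by
    intro a ha
    rw [Subgroup.mem_centralizer_iff]
    intro b hb
    exact hab b hb a ha
  have hPL : Disjoint P L := by
    rw [disjoint_iff, eq_bot_iff, ← hLC]
    intro x hx
    exact Subgroup.mem_inf.mpr ⟨(Subgroup.mem_inf.mp hx).2, hPC (Subgroup.mem_inf.mp hx).1⟩
  set S : Subgroup G := P ⊔ L with hS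
  have hPS : P ≤ S := le_sup_left
  have hLS : L ≤ S := le_sup_right
  -- cardinality
  have hrelL : P.relIndex L = 6 := by
    have h1 : P.relIndex L * Nat.card (P.subgroupOf L) = Nat.card L :=
      Subgroup.index_mul_card (P.subgroupOf L)
    have h2 : P.subgroupOf L = ⊥ := Subgroup.subgroupOf_eq_bot.mpr hPL
    rw [h2, Subgroup.card_bot, mul_one, hL6] at h1
    exact h1
  have hrelS : P.relIndex S = 6 := by
    rw [hS, Subgroup.relIndex_sup_left, hrelL]
  have hcardS : Nat.card S = 24 := by
    have h1 : P.relIndex S * Nat.card (P.subgroupOf S) = Nat.card S :=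
      Subgroup.index_mul_card (P.subgroupOf S)
    have h2 : Nat.card (P.subgroupOf S) = Nat.card P :=
      Nat.card_congr (Subgroup.subgroupOfEquivOfLe hPS).toEquiv
    rw [hrelS, h2, hP4] at h1
    omega
  -- Dedekind
  have hded : S ⊓ Subgroup.centralizer (P : Set G) = P := by
    apply le_antisymm
    · intro x hx
      obtain ⟨hxS, hxC⟩ := Subgroup.mem_inf.mp hx
      have hcoe : (x : G) ∈ ((P : Set G) * (L : Set G)) := by
        rw [← Subgroup.normal_mul]
        exact hxS
      obtain ⟨a, ha, l, hl, rfl⟩ := Set.mem_mul.mp hcoe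
      have hlC : l ∈ Subgroup.centralizer (P : Set G) := by
        have : l = a⁻¹ * (a * l) := by group
        rw [this]
        exact Subgroup.mul_mem _ (Subgroup.inv_mem _ (hPC ha)) hxC
      have hl1 : l ∈ L ⊓ Subgroup.centralizer (P : Set G) := Subgroup.mem_inf.mpr ⟨hl, hlC⟩
      rw [hLC, Subgroup.mem_bot] at hl1
      rw [hl1, mul_one]
      exact ha
    · exact le_inf hPS hPC
  refine ⟨hcardS, hded, ?_⟩
  -- the action on the cosets of `L` in `S`
  let L' : Subgroup ↥S := L.subgroupOf S
  let P' : Subgroup ↥S := P.subgroupOf S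
  have hP'norm : P'.Normal := Subgroup.Normal.subgroupOf inferInstance S
  have hL'card : Nat.card L' = 6 := by
    rw [← hL6]
    exact Nat.card_congr (Subgroup.subgroupOfEquivOfLe hLS).toEquiv
  have hL'idx : L'.index = 4 := by
    have h1 := Subgroup.index_mul_card L'
    rw [hL'card, hcardS] at h1
    omega
  let f := MulAction.toPermHom ↥S (↥S ⧸ L')
  have hker : f.ker = ⊥ := by
    rw [← Subgroup.normalCore_eq_ker]
    have hKnorm : (L'.normalCore).Normal := inferInstance
    have hKL : L'.normalCore ≤ L' := Subgroup.normalCore_le L'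
    have hdisj : Disjoint L'.normalCore P' := by
      rw [disjoint_iff, eq_bot_iff]
      intro x hx
      obtain ⟨hx1, hx2⟩ := Subgroup.mem_inf.mp hx
      have hxL : (x : G) ∈ L := Subgroup.mem_subgroupOf.mp (hKL hx1)
      have hxP : (x : G) ∈ P := Subgroup.mem_subgroupOf.mp hx2
      have : (x : G) ∈ P ⊓ L := Subgroup.mem_inf.mpr ⟨hxP, hxL⟩
      rw [disjoint_iff.mp hPL, Subgroup.mem_bot] at this
      rw [Subgroup.mem_bot]
      exact Subtype.ext this
    rw [eq_bot_iff]
    intro x hx
    have hxL : (x : G) ∈ L := Subgroup.mem_subgroupOf.mp (hKL hx)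
    have hxC : (x : G) ∈ Subgroup.centralizer (P : Set G) := by
      rw [Subgroup.mem_centralizer_iff]
      intro b hb
      have hbP' : (⟨b, hPS hb⟩ : ↥S) ∈ P' := Subgroup.mem_subgroupOf.mpr hb
      have hc := Subgroup.commute_of_normal_of_disjoint _ _ hKnorm hP'norm hdisj x ⟨b, hPS hb⟩
        hx hbP'
      have := congrArg Subtype.val hc.eq
      exact this.symm
    have : (x : G) ∈ L ⊓ Subgroup.centralizer (P : Set G) := Subgroup.mem_inf.mpr ⟨hxL, hxC⟩
    rw [hLC, Subgroup.mem_bot] at this
    rw [Subgroup.mem_bot]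
    exact Subtype.ext this
  have hinj : Function.Injective f := (MonoidHom.ker_eq_bot_iff f).mp hker
  have hcardQ : Nat.card (↥S ⧸ L') = 4 := by
    rw [← Subgroup.index_eq_card]; exact hL'idx
  have hcardPerm : Nat.card (Equiv.Perm (↥S ⧸ L')) = 24 := by
    rw [Nat.card_perm, hcardQ]; rfl
  have hbij : Function.Bijective f := by
    apply hinj.bijective_of_nat_card_le
    rw [hcardPerm, hcardS]
  have e1 : ↥S ≃* Equiv.Perm (↥S ⧸ L') := MulEquiv.ofBijective f hbij
  have : Finite (↥S ⧸ L') := Nat.finite_of_card_ne_zero (by rw [hcardQ]; norm_num)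
  have e2 : (↥S ⧸ L') ≃ Fin 4 := Finite.equivFinOfCardEq hcardQ
  exact ⟨e1.trans e2.permCongrHom⟩

end Cfsg.Agent.S4751P
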