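import Cfsg.Agent.Helper15.JComp4

/-!
# J-components, part 5: transport of the `J(T)`-component set-up along injective homomorphisms

`IsJComponent (T.map f) (K.map f) ↔ IsJComponent T K` for an injective `f`.  Used to pass to the
subtype of an overgroup, and to conjugate.
-/

set_option autoImplicit false

namespace Cfsg.Agent.Helper15.JComp

open Cfsg Subgroup
open scoped commutatorElement

variable {G H : Type*} [Group G] [Group H] {f : H →* G}

open Cfsg.Agent.Helper26 in
theorem isElementaryAbelian_of_map (hf : Function.Injective f) {p : ℕ} {A : Subgroup H}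
    (hA : IsElementaryAbelian p (A.map f)) : IsElementaryAbelian p A := by
  rw [isElementaryAbelian_iff] at hA ⊢
  refine ⟨fun a ha b hb => hf ?_, fun a ha => hf ?_⟩
  · rw [map_mul, map_mul]
    exact hA.1 _ ⟨a, ha, rfl⟩ _ ⟨b, hb, rfl⟩
  · rw [map_pow, map_one]
    exact hA.2 _ ⟨a, ha, rfl⟩

theorem le_range_of_le_map {P : Subgroup H} {F : Subgroup G} (h : F ≤ P.map f) : F ≤ f.range :=
  h.trans (by rw [MonoidHom.range_eq_map]; exact map_mono le_top)

theorem card_comap_of_le_map (hf : Function.Injective f) {P : Subgroup H} {F : Subgroup G}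
    (h : F ≤ P.map f) : Nat.card (F.comap f) = Nat.card F := by
  rw [← card_map_of_injective hf (K := F.comap f), map_comap_eq_self (le_range_of_le_map h)]

theorem comap_le_of_le_map (hf : Function.Injective f) {P : Subgroup H} {F : Subgroup G}
    (h : F ≤ P.map f) : F.comap f ≤ P := by
  have := comap_mono (f := f) h
  rwa [comap_map_eq_self_of_injective hf] at this

open Cfsg.Agent.Helper26 in
theorem map_mem_maxEA (hf : Function.Injective f) {p : ℕ} {P A : Subgroup H}
    (hA : A ∈ maxEA p P) : A.map f ∈ maxEA p (P.map f) := by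
  refine ⟨map_mono hA.1, isElementaryAbelian_map _ hA.2.1, ?_⟩
  intro F hFP hF
  have h1 : IsElementaryAbelian p (F.comap f) := by
    apply isElementaryAbelian_of_map hf
    rw [map_comap_eq_self (le_range_of_le_map hFP)]
    exact hF
  have := hA.2.2 _ (comap_le_of_le_map hf hFP) h1
  rwa [card_comap_of_le_map hf hFP, ← card_map_of_injective hf (K := A)] at this

open Cfsg.Agent.Helper26 in
theorem comap_mem_maxEA (hf : Function.Injective f) {p : ℕ} {P : Subgroup H} {E : Subgroup G}
    (hE : E ∈ maxEA p (P.map f)) : E.comap f ∈ maxEA p P := by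
  have hE' : (E.comap f).map f = E := map_comap_eq_self (le_range_of_le_map hE.1)
  refine ⟨comap_le_of_le_map hf hE.1, ?_, ?_⟩
  · apply isElementaryAbelian_of_map hf
    rw [hE']; exact hE.2.1
  · intro F hFP hF
    have := hE.2.2 _ (map_mono hFP) (isElementaryAbelian_map f hF)
    rwa [card_map_of_injective hf, ← card_comap_of_le_map hf hE.1] at this

theorem thompsonSubgroupOf_map (hf : Function.Injective f) (p : ℕ) (P : Subgroup H) :
    thompsonSubgroupOf p (P.map f) = (thompsonSubgroupOf p P).map f := by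
  rw [thompsonSubgroupOf_eq_sSup_maxEA, thompsonSubgroupOf_eq_sSup_maxEA]
  apply le_antisymm
  · apply sSup_le
    intro E hE
    rw [← map_comap_eq_self (le_range_of_le_map hE.1)]
    exact map_mono (le_sSup (comap_mem_maxEA hf hE))
  · rw [map_le_iff_le_comap]
    apply sSup_le
    intro A hA
    rw [← map_le_iff_le_comap]
    exact le_sSup (map_mem_maxEA hf hA)

theorem pCoreOf_map (hf : Function.Injective f) (p : ℕ) (K : Subgroup H) :
    pCoreOf p (K.map f) = (pCoreOf p K).map f := by
  apply le_antisymm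
  · have hle : pCoreOf p (K.map f) ≤ K.map f := Cfsg.Agent.Helper14.pCoreOf_le p _
    rw [← map_comap_eq_self (le_range_of_le_map hle)]
    apply map_mono
    apply Cfsg.Agent.Helper14.le_pCoreOf p (comap_le_of_le_map hf hle)
    · refine le_trans ?_ (le_normalizer_comap f)
      rw [← map_le_iff_le_comap]
      exact Cfsg.Agent.Helper14.le_normalizer_pCoreOf p _
    · exact (Cfsg.Agent.Helper14.pCoreOf_isPGroup p _).comap_of_injective f hf
  · apply Cfsg.Agent.Helper14.le_pCoreOf p (map_mono (Cfsg.Agent.Helper14.pCoreOf_le p K))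
    · exact (map_mono (Cfsg.Agent.Helper14.le_normalizer_pCoreOf p K)).trans (le_normalizer_map f)
    · exact (Cfsg.Agent.Helper14.pCoreOf_isPGroup p K).map f

theorem omegaOne_map (hf : Function.Injective f) (p : ℕ) (Z : Subgroup H) :
    omegaOne p (Z.map f) = (omegaOne p Z).map f := by
  unfold omegaOne
  rw [MonoidHom.map_closure]
  congr 1
  ext y
  constructor
  · rintro ⟨⟨x, hx, rfl⟩, hy⟩
    refine ⟨x, ⟨hx, hf ?_⟩, rfl⟩
    rw [map_pow, map_one]; exact hy
  · rintro ⟨x, ⟨hx, hx2⟩, rfl⟩
    refine ⟨⟨x, hx, rfl⟩, ?_⟩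
    rw [← map_pow, hx2, map_one]

theorem map_inf_centralizer (hf : Function.Injective f) (X : Subgroup H) :
    X.map f ⊓ centralizer ((X.map f : Subgroup G) : Set G) = (X ⊓ centralizer (X : Set H)).map f := by
  ext y
  rw [mem_inf, mem_map]
  constructor
  · rintro ⟨⟨x, hx, rfl⟩, hy⟩
    refine ⟨x, mem_inf.mpr ⟨hx, ?_⟩, rfl⟩
    rw [mem_centralizer_iff]
    intro z hz
    apply hf
    rw [map_mul, map_mul]
    exact mem_centralizer_iff.mp hy _ ⟨z, hz, rfl⟩
  · rintro ⟨x, hx, rfl⟩
    obtain ⟨hx, hxc⟩ := mem_inf.mp hx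
    refine ⟨⟨x, hx, rfl⟩, ?_⟩
    rw [mem_centralizer_iff]
    rintro _ ⟨z, hz, rfl⟩
    rw [← map_mul, ← map_mul, mem_centralizer_iff.mp hxc z hz]

theorem omegaCenterOf_map (hf : Function.Injective f) (X : Subgroup H) :
    omegaCenterOf (X.map f) = (omegaCenterOf X).map f := by
  unfold omegaCenterOf
  rw [map_inf_centralizer hf, omegaOne_map hf]

theorem wOf_map (hf : Function.Injective f) (K : Subgroup H) : wOf (K.map f) = (wOf K).map f := by
  unfold wOf
  rw [pCoreOf_map hf, omegaCenterOf_map hf, map_commutator]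

theorem closure_odd_map (hf : Function.Injective f) (K : Subgroup H) :
    closure {g : G | g ∈ K.map f ∧ Odd (orderOf g)} =
      (closure {g : H | g ∈ K ∧ Odd (orderOf g)}).map f := by
  rw [MonoidHom.map_closure]
  congr 1
  ext y
  constructor
  · rintro ⟨⟨x, hx, rfl⟩, hy⟩
    rw [orderOf_injective f hf] at hy
    exact ⟨x, ⟨hx, hy⟩, rfl⟩
  · rintro ⟨x, ⟨hx, hx2⟩, rfl⟩
    refine ⟨⟨x, hx, rfl⟩, ?_⟩
    rw [orderOf_injective f hf]; exact hx2

theorem isSylowTwoIn_map_iff (hf : Function.Injective f) {S L : Subgroup H} :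
    IsSylowTwoIn (S.map f) (L.map f) ↔ IsSylowTwoIn S L := by
  unfold IsSylowTwoIn
  rw [map_le_map_iff_of_injective hf, relIndex_map_map_of_injective _ _ hf]
  constructor
  · rintro ⟨h1, h2, h3⟩
    refine ⟨h1, ?_, h3⟩
    have := h2.comap_of_injective f hf
    rwa [comap_map_eq_self_of_injective hf] at this
  · rintro ⟨h1, h2, h3⟩
    exact ⟨h1, h2.map f, h3⟩

/-- transport of `IsJComponent` along an injective homomorphism -/
theorem isJComponent_map_iff (hf : Function.Injective f) {T K : Subgroup H} :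
    IsJComponent (T.map f) (K.map f) ↔ IsJComponent T K := by
  unfold IsJComponent
  rw [closure_odd_map hf, thompsonSubgroupOf_map hf, ← map_commutator, pCoreOf_map hf,
    relIndex_map_map_of_injective _ _ hf, wOf_map hf, card_map_of_injective hf,
    (map_injective hf).eq_iff, (map_injective hf).eq_iff]
  have hS : (∀ S : Subgroup G, IsSylowTwoIn S (K.map f ⊔ (thompsonSubgroupOf 2 T).map f) →
      (thompsonSubgroupOf 2 T).map f ≤ S →
        thompsonSubgroupOf 2 S = (thompsonSubgroupOf 2 T).map f) ↔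
      (∀ S : Subgroup H, IsSylowTwoIn S (K ⊔ thompsonSubgroupOf 2 T) → thompsonSubgroupOf 2 T ≤ S →
        thompsonSubgroupOf 2 S = thompsonSubgroupOf 2 T) := by
    constructor
    · intro h S hS hJS
      have := h (S.map f) (by rw [← Subgroup.map_sup]; exact (isSylowTwoIn_map_iff hf).mpr hS)
        (map_mono hJS)
      rw [thompsonSubgroupOf_map hf] at this
      exact map_injective hf this
    · intro h S hS hJS
      rw [← Subgroup.map_sup] at hS
      have hSle : S ≤ (K ⊔ thompsonSubgroupOf 2 T).map f := hS.1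
      have hS' : (S.comap f).map f = S := map_comap_eq_self (le_range_of_le_map hSle)
      rw [← hS'] at hS hJS ⊢
      rw [thompsonSubgroupOf_map hf,
        h (S.comap f) ((isSylowTwoIn_map_iff hf).mp hS) ((map_le_map_iff_of_injective hf).mp hJS)]
  have hW : (∀ w ∈ (wOf K).map f, w * w = 1) ↔ ∀ w ∈ wOf K, w * w = 1 := by
    constructor
    · intro h w hw
      apply hf
      rw [map_mul, map_one]
      exact h _ ⟨w, hw, rfl⟩
    · rintro h _ ⟨w, hw, rfl⟩
      rw [← map_mul, h w hw, map_one]
  rw [hS, hW]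

end Cfsg.Agent.Helper15.JComp
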