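import Mathlib
import Cfsg.Prelude.Def_BaumannBlocks
import Cfsg.Agent.Helper15.CL2

set_option autoImplicit false

namespace Cfsg.Agent.Helper15

open Subgroup
open scoped Pointwise commutatorElement

variable {P : Type*} [Group P]

/-- For centrally large `Q`, `R`: `(Q ⊓ R) ⊔ Z(Q)` is centrally large. -/
theorem cl_inf_sup_center [Finite P] (Q R : Subgroup P) (hQ : Cfsg.IsCentrallyLarge Q)
    (hR : Cfsg.IsCentrallyLarge R) :
    Cfsg.IsCentrallyLarge ((Q ⊓ R) ⊔ cz Q) ∧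
    Nat.card ↥(Q ⊓ R) * Nat.card ↥(cz Q) =
      Nat.card ↥((Q ⊓ R) ⊔ cz Q) * Nat.card ↥((Q ⊓ R) ⊓ cz Q) := by
  obtain ⟨hQ1, hQ2⟩ := cl_imp Q hQ
  obtain ⟨hR1, hR2⟩ := cl_imp R hR
  obtain ⟨-, hX, -, h4, h5⟩ := cd_lattice Q R hQ1 hR1
  obtain ⟨hZ, hQcc⟩ := cd_centralizer Q hQ1
  obtain ⟨hY, -, h3, -, -⟩ := cd_lattice (Q ⊓ R) (cz Q) hX hZ
  refine ⟨?_, h3⟩
  rw [cl_iff_of_centralizerLarge _ hY, cz_sup, h5, ← hQcc]
  have hprod : ((cz Q ⊔ cz R : Subgroup P) : Set P) = (cz Q : Set P) * (cz R : Set P) :=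
    coe_sup_eq_mul_of_card_eq _ _ h4
  have hczQ : cz Q ≤ Q := by rw [hQ2]; exact inf_le_left
  have hczR : cz R ≤ R := by rw [hR2]; exact inf_le_left
  rintro x ⟨hx1, hx2⟩
  have hx1' : x ∈ ((cz Q ⊔ cz R : Subgroup P) : Set P) := hx1
  rw [hprod] at hx1'
  obtain ⟨a, ha, b, hb, rfl⟩ := hx1'
  have hbQ : b ∈ Q := by
    have := Q.mul_mem (Q.inv_mem (hczQ ha)) hx2
    simpa using this
  have hbX : b ∈ Q ⊓ R := ⟨hbQ, hczR hb⟩
  exact ((Q ⊓ R) ⊔ cz Q).mul_mem (le_sup_right (b := cz Q) ha) (le_sup_left (a := Q ⊓ R) hbX)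

theorem mcl_eq_inf_sup_center [Finite P] (Q R : Subgroup P) (hQ : Cfsg.IsMinimalCentrallyLarge Q)
    (hR : Cfsg.IsCentrallyLarge R) : (Q ⊓ R) ⊔ cz Q = Q := by
  obtain ⟨hQ1, hQ2⟩ := cl_imp Q hQ.1
  have hczQ : cz Q ≤ Q := by rw [hQ2]; exact inf_le_left
  have h := (cl_inf_sup_center Q R hQ.1 hR).1
  exact hQ.2 _ (sup_le inf_le_left hczQ) h

theorem arith_mcl (x q r zq zr u v w cx : ℕ) (hx : 0 < x) (hw : 0 < w) (hcx : 0 < cx) (hzq : 0 < zq)
    (hzr : 0 < zr)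
    (E1 : x * zq = q * u) (E2 : x * zr = r * v) (E3 : zq * zr = cx * w)
    (E4 : x * cx = q * zq) (E5 : x * cx = r * zr) (hwu : w ≤ u) (hwv : w ≤ v) :
    q = r ∧ zq = zr := by
  have h1 : cx * u = zq * zq := by
    have : x * (cx * u) = x * (zq * zq) := by
      calc x * (cx * u) = (x * cx) * u := by ring
        _ = q * zq * u := by rw [E4]
        _ = (q * u) * zq := by ring
        _ = x * zq * zq := by rw [E1]
        _ = x * (zq * zq) := by ring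
    exact Nat.eq_of_mul_eq_mul_left hx this
  have h2 : cx * v = zr * zr := by
    have : x * (cx * v) = x * (zr * zr) := by
      calc x * (cx * v) = (x * cx) * v := by ring
        _ = r * zr * v := by rw [E5]
        _ = (r * v) * zr := by ring
        _ = x * zr * zr := by rw [E2]
        _ = x * (zr * zr) := by ring
    exact Nat.eq_of_mul_eq_mul_left hx this
  have h3 : u * v = w * w := by
    have : (cx * cx) * (u * v) = (cx * cx) * (w * w) := by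
      calc (cx * cx) * (u * v) = (cx * u) * (cx * v) := by ring
        _ = (zq * zq) * (zr * zr) := by rw [h1, h2]
        _ = (zq * zr) * (zq * zr) := by ring
        _ = (cx * w) * (cx * w) := by rw [E3]
        _ = (cx * cx) * (w * w) := by ring
    exact Nat.eq_of_mul_eq_mul_left (Nat.mul_pos hcx hcx) this
  have hu : u = w := by
    by_contra hne
    have hlt : w < u := lt_of_le_of_ne hwu (Ne.symm hne)
    have : w * w < u * v :=
      calc w * w < u * w := Nat.mul_lt_mul_of_pos_right hlt hw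
        _ ≤ u * v := Nat.mul_le_mul_left _ hwv
    omega
  have hv : v = w := by
    rw [hu] at h3
    exact Nat.eq_of_mul_eq_mul_left hw h3
  rw [hu] at h1
  rw [hv] at h2
  have h4 : zq * zq = zq * zr := by rw [← h1, E3]
  have hz : zq = zr := Nat.eq_of_mul_eq_mul_left hzq h4
  refine ⟨?_, hz⟩
  have : q * zq = r * zq := by rw [← E4, E5, hz]
  exact Nat.eq_of_mul_eq_mul_right hzq this

theorem mcl_card_eq [Finite P] (Q R : Subgroup P) (hQ : Cfsg.IsMinimalCentrallyLarge Q)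
    (hR : Cfsg.IsMinimalCentrallyLarge R) :
    Nat.card Q = Nat.card R ∧ Nat.card ↥(cz Q) = Nat.card ↥(cz R) := by
  obtain ⟨hQ1, hQ2⟩ := cl_imp Q hQ.1
  obtain ⟨hR1, hR2⟩ := cl_imp R hR.1
  have hczQ : cz Q ≤ Q := by rw [hQ2]; exact inf_le_left
  have hczR : cz R ≤ R := by rw [hR2]; exact inf_le_left
  obtain ⟨-, hX, -, h4, h5⟩ := cd_lattice Q R hQ1 hR1
  have e1 := (cl_inf_sup_center Q R hQ.1 hR.1).2
  rw [mcl_eq_inf_sup_center Q R hQ hR.1] at e1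
  have e2 := (cl_inf_sup_center R Q hR.1 hQ.1).2
  rw [mcl_eq_inf_sup_center R Q hR hQ.1] at e2
  rw [inf_comm R Q] at e2
  have e3 := h4
  rw [← h5] at e3
  have e4 : cdm (Q ⊓ R) = cdm Q := by
    rw [isCentralizerLarge_iff] at hX hQ1; rw [hX, hQ1]
  have e5 : cdm (Q ⊓ R) = cdm R := by
    rw [isCentralizerLarge_iff] at hX hR1; rw [hX, hR1]
  unfold cdm at e4 e5
  have hwu : cz Q ⊓ cz R ≤ (Q ⊓ R) ⊓ cz Q :=
    le_inf (le_inf (le_trans inf_le_left hczQ) (le_trans inf_le_right hczR)) inf_le_left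
  have hwv : cz Q ⊓ cz R ≤ (Q ⊓ R) ⊓ cz R :=
    le_inf (le_inf (le_trans inf_le_left hczQ) (le_trans inf_le_right hczR)) inf_le_right
  exact arith_mcl (Nat.card ↥(Q ⊓ R)) (Nat.card Q) (Nat.card R) (Nat.card ↥(cz Q)) (Nat.card ↥(cz R))
    (Nat.card ↥((Q ⊓ R) ⊓ cz Q)) (Nat.card ↥((Q ⊓ R) ⊓ cz R)) (Nat.card ↥(cz Q ⊓ cz R))
    (Nat.card ↥(cz (Q ⊓ R))) Nat.card_pos Nat.card_pos Nat.card_pos Nat.card_pos Nat.card_pos
    e1 e2 e3 e4 e5 (card_le_of_le hwu) (card_le_of_le hwv)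

theorem commutator_le_of_sup_center (X Q : Subgroup P) (hXQ : X ≤ Q)
    (hprod : ((X ⊔ cz Q : Subgroup P) : Set P) = (X : Set P) * (cz Q : Set P))
    (hQ : X ⊔ cz Q = Q) : ⁅Q, Q⁆ ≤ ⁅X, X⁆ := by
  rw [Subgroup.commutator_le]
  intro g₁ hg₁ g₂ hg₂
  have h1 : g₁ ∈ ((X ⊔ cz Q : Subgroup P) : Set P) := by rw [hQ]; exact hg₁
  have h2 : g₂ ∈ ((X ⊔ cz Q : Subgroup P) : Set P) := by rw [hQ]; exact hg₂
  rw [hprod] at h1 h2
  obtain ⟨x₁, hx₁, z₁, hz₁, rfl⟩ := h1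
  obtain ⟨x₂, hx₂, z₂, hz₂, rfl⟩ := h2
  have hz₁' := mem_cz_iff.mp hz₁
  have hz₂' := mem_cz_iff.mp hz₂
  have c1 : x₂ * z₁ = z₁ * x₂ := hz₁' x₂ (hXQ hx₂)
  have c2 : x₁ * z₂ = z₂ * x₁ := hz₂' x₁ (hXQ hx₁)
  have c3 : z₁ * z₂ = z₂ * z₁ := by
    have hz1Q : z₁ ∈ Q := by rw [← hQ]; exact le_sup_right (b := cz Q) hz₁
    exact hz₂' z₁ hz1Q
  have hcomm : ⁅x₁ * z₁, x₂ * z₂⁆ = ⁅x₁, x₂⁆ := by
    rw [commutatorElement_def, commutatorElement_def]
    have e1 : (x₁ * z₁) * (x₂ * z₂) = x₁ * x₂ * (z₁ * z₂) := by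
      calc (x₁ * z₁) * (x₂ * z₂) = x₁ * (z₁ * x₂) * z₂ := by group
        _ = x₁ * (x₂ * z₁) * z₂ := by rw [c1]
        _ = _ := by group
    have e2 : (x₁ * z₁)⁻¹ * (x₂ * z₂)⁻¹ = (z₁ * z₂)⁻¹ * (x₁⁻¹ * x₂⁻¹) := by
      have : (x₂ * z₂) * (x₁ * z₁) = (x₂ * x₁) * (z₁ * z₂) := by
        calc (x₂ * z₂) * (x₁ * z₁) = x₂ * (z₂ * x₁) * z₁ := by group
          _ = x₂ * (x₁ * z₂) * z₁ := by rw [c2]
          _ = x₂ * x₁ * (z₂ * z₁) := by group
          _ = _ := by rw [c3]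
      calc (x₁ * z₁)⁻¹ * (x₂ * z₂)⁻¹ = ((x₂ * z₂) * (x₁ * z₁))⁻¹ := by group
        _ = ((x₂ * x₁) * (z₁ * z₂))⁻¹ := by rw [this]
        _ = _ := by group
    calc (x₁ * z₁) * (x₂ * z₂) * (x₁ * z₁)⁻¹ * (x₂ * z₂)⁻¹
        = ((x₁ * z₁) * (x₂ * z₂)) * ((x₁ * z₁)⁻¹ * (x₂ * z₂)⁻¹) := by group
      _ = (x₁ * x₂ * (z₁ * z₂)) * ((z₁ * z₂)⁻¹ * (x₁⁻¹ * x₂⁻¹)) := by rw [e1, e2]
      _ = _ := by group
  rw [hcomm]
  exact Subgroup.commutator_mem_commutator hx₁ hx₂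

theorem mcl_commutator_eq [Finite P] (Q R : Subgroup P) (hQ : Cfsg.IsMinimalCentrallyLarge Q)
    (hR : Cfsg.IsMinimalCentrallyLarge R) : ⁅Q, Q⁆ = ⁅R, R⁆ := by
  have key : ∀ Q R : Subgroup P, Cfsg.IsMinimalCentrallyLarge Q → Cfsg.IsMinimalCentrallyLarge R →
      ⁅Q, Q⁆ = ⁅Q ⊓ R, Q ⊓ R⁆ := by
    intro Q R hQ hR
    apply le_antisymm
    · have h := mcl_eq_inf_sup_center Q R hQ hR.1
      have hp := coe_sup_eq_mul_of_card_eq _ _ (cl_inf_sup_center Q R hQ.1 hR.1).2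
      exact commutator_le_of_sup_center (Q ⊓ R) Q inf_le_left hp h
    · exact Subgroup.commutator_mono inf_le_left inf_le_left
  rw [key Q R hQ hR, key R Q hR hQ, inf_comm]

theorem card_inf_cz_of_comm {A : Subgroup P} (hA : IsMulCommutative ↥A) : A ⊓ cz A = A :=
  inf_eq_left.mpr ((isMulCommutative_iff_le_cz A).mp hA)

theorem mcl_abelian [Finite P] (Q : Subgroup P) (hQ : Cfsg.IsMinimalCentrallyLarge Q)
    (hab : IsMulCommutative ↥Q) :
    ∀ X : Subgroup P, Cfsg.IsMinimalCentrallyLarge X ↔ X ∈ Cfsg.maxAbelianSubgroups P := by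
  have hQcl := hQ.1
  rw [isCentrallyLarge_iff] at hQcl
  unfold clm at hQcl
  rw [card_inf_cz_of_comm hab] at hQcl
  -- every abelian B has |B| ≤ |Q|
  have hbound : ∀ B : Subgroup P, IsMulCommutative ↥B → Nat.card B ≤ Nat.card Q := by
    intro B hB
    have h1 := clm_le_max B
    unfold clm at h1
    rw [card_inf_cz_of_comm hB, ← hQcl] at h1
    exact Nat.mul_self_le_mul_self_iff.mp h1
  intro X
  constructor
  · intro hX
    obtain ⟨h1, h2⟩ := mcl_card_eq X Q hX hQ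
    obtain ⟨-, hX2⟩ := cl_imp X hX.1
    obtain ⟨-, hQ2⟩ := cl_imp Q hQ.1
    have hczQ : cz Q = Q := by rw [hQ2]; exact card_inf_cz_of_comm hab
    rw [hczQ, ← h1] at h2
    have hczX : cz X ≤ X := by rw [hX2]; exact inf_le_left
    have hXeq : cz X = X := eq_of_le_of_card_ge' hczX (le_of_eq h2.symm)
    have hXab : IsMulCommutative ↥X := by
      rw [isMulCommutative_iff_le_cz, hXeq]
    refine ⟨hXab, fun B hB => ?_⟩
    rw [h1]; exact hbound B hB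
  · intro hX
    have hXQ : Nat.card X = Nat.card Q := le_antisymm (hbound X hX.1) (hX.2 Q hab)
    have hXcl : Cfsg.IsCentrallyLarge X := by
      rw [isCentrallyLarge_iff]
      unfold clm
      rw [card_inf_cz_of_comm hX.1, hXQ, hQcl]
    refine ⟨hXcl, fun X' hle hX' => ?_⟩
    have hX'ab : IsMulCommutative ↥X' := by
      rw [isMulCommutative_iff_le_cz]
      calc X' ≤ X := hle
        _ ≤ cz X := (isMulCommutative_iff_le_cz X).mp hX.1
        _ ≤ cz X' := cz_anti hle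
    have h1 := hX'
    rw [isCentrallyLarge_iff] at h1
    unfold clm at h1
    rw [card_inf_cz_of_comm hX'ab, ← hQcl, ← hXQ] at h1
    have h2 : Nat.card X' = Nat.card X := by
      have h3 : Nat.card X' ≤ Nat.card X := card_le_of_le hle
      have h4 : Nat.card X ≤ Nat.card X' := Nat.mul_self_le_mul_self_iff.mp (le_of_eq h1.symm)
      exact le_antisymm h3 h4
    exact eq_of_le_of_card_ge' hle (le_of_eq h2.symm)

end Cfsg.Agent.Helper15
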