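import Mathlib
import Cfsg.Prelude.Def_Characters
import Cfsg.Agent.Helper12.LOPDefs
import Cfsg.Agent.Helper12.LSLDefs

set_option autoImplicit false

/-! S2345, piece LAMB: orthogonality and injectivity of the characters `b ↦ ψ (B(b, w))`. -/

namespace Cfsg.Agent.Helper12.LOP

open Matrix Cfsg Cfsg.Agent.Helper28.Sg Cfsg.Agent.Helper28.Spin Cfsg.Agent.Helper12.LSL

variable {F : Type*} [Field F] {n : ℕ}

namespace LAMB

theorem exists_B_eq_one {m : ℕ} (d : VV m F) (hd : d ≠ 0) :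
    ∃ b : VV m F, B (QfPlus m F) b d = 1 := by
  obtain ⟨a, ha⟩ : ∃ a, d a ≠ 0 := by
    by_contra h
    exact hd (funext fun a => by_contra fun ha => h ⟨a, ha⟩)
  rcases a with i | i
  · refine ⟨(d (Sum.inl i))⁻¹ • fb i, ?_⟩
    have h1 : B (QfPlus m F) ((d (Sum.inl i))⁻¹ • fb i) d =
        (d (Sum.inl i))⁻¹ * B (QfPlus m F) (fb i) d := by
      simp [B, QuadraticMap.polar_smul_left]
    rw [h1, B_fb, inv_mul_cancel₀ ha]
  · refine ⟨(d (Sum.inr i))⁻¹ • eb i, ?_⟩
    have h1 : B (QfPlus m F) ((d (Sum.inr i))⁻¹ • eb i) d =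
        (d (Sum.inr i))⁻¹ * B (QfPlus m F) (eb i) d := by
      simp [B, QuadraticMap.polar_smul_left]
    rw [h1, B_eb, inv_mul_cancel₀ ha]

end LAMB

theorem lamB_orth [Fintype F] {m : ℕ} (ψ : AddChar F ℂ) (hψ : ψ 1 ≠ 1)
    (a : Multiplicative (VV m F)) (ha : a ≠ 1) : ∑ w : VV m F, lamB ψ w a = 0 := by
  classical
  have ha' : Multiplicative.toAdd a ≠ 0 := fun h => ha (by
    apply Multiplicative.toAdd.injective
    rw [h]
    rfl)
  let f : VV m F →+ F :=
    { toFun := fun w => B (QfPlus m F) (Multiplicative.toAdd a) w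
      map_zero' := QuadraticMap.polar_zero_right _ _
      map_add' := fun x y => QuadraticMap.polar_add_right _ _ _ _ }
  let χ : AddChar (VV m F) ℂ := ψ.compAddMonoidHom f
  have hχ : χ ≠ 1 := by
    intro h
    obtain ⟨b, hb⟩ := LAMB.exists_B_eq_one (Multiplicative.toAdd a) ha'
    have h1 : χ b = 1 := by rw [h]; rfl
    have h2 : χ b = ψ 1 := by
      show ψ (B (QfPlus m F) (Multiplicative.toAdd a) b) = ψ 1
      rw [B_comm, hb]
    exact hψ (h2 ▸ h1)
  have := AddChar.sum_eq_zero_of_ne_one hχ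
  exact this

theorem lamB_injective [Fintype F] {m : ℕ} (ψ : AddChar F ℂ) (hψ : ψ 1 ≠ 1) :
    Function.Injective (lamB ψ : VV m F → Multiplicative (VV m F) →* ℂ) := by
  intro w w' h
  by_contra hne
  have hd : w - w' ≠ 0 := sub_ne_zero.mpr hne
  obtain ⟨b, hb⟩ := LAMB.exists_B_eq_one (w - w') hd
  have h1 : lamB ψ w (Multiplicative.ofAdd b) = lamB ψ w' (Multiplicative.ofAdd b) := by rw [h]
  rw [lamB_apply, lamB_apply] at h1
  have h2 : B (QfPlus m F) b w = B (QfPlus m F) b w' + 1 := by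
    have : B (QfPlus m F) b (w - w') = B (QfPlus m F) b w - B (QfPlus m F) b w' :=
      QuadraticMap.polar_sub_right _ _ _ _
    rw [this] at hb
    linear_combination hb
  have h3 : ψ (B (QfPlus m F) b w) = ψ (B (QfPlus m F) b w') * ψ 1 := by
    rw [h2, AddChar.map_add_eq_mul]
  have h4 : ψ (B (QfPlus m F) b w') ≠ 0 := by
    have hu := (ψ.toMonoidHom.toHomUnits (Multiplicative.ofAdd (B (QfPlus m F) b w'))).ne_zero
    exact hu
  apply hψ
  have h5 : ψ (B (QfPlus m F) b w') * ψ 1 = ψ (B (QfPlus m F) b w') * 1 := by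
    rw [mul_one, ← h3]
    exact h1
  exact mul_left_cancel₀ h4 h5

end Cfsg.Agent.Helper12.LOP
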