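import Mathlib
import Cfsg.Prelude.Def_Characters
import Cfsg.Agent.Helper12.LOPDefs
import Cfsg.Agent.Helper12.LSLDefs

set_option autoImplicit false

/-! S2345: splitting off the first hyperbolic pair `V_{m+1} ≃ F × F × V_m` (helper lemmas for the
pieces TAU and NFIX). -/

namespace Cfsg.Agent.Helper12.LOP

open Matrix Cfsg Cfsg.Agent.Helper28.Sg Cfsg.Agent.Helper28.Spin Cfsg.Agent.Helper12.LSL

variable {F : Type*} [Field F] {n : ℕ}

namespace H15Split

/-- `w ↦ (y_0, (x_0, p w))` -/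
def splitEquiv (m : ℕ) : VV (m + 1) F ≃ F × (F × VV m F) where
  toFun w := (w (Sum.inr 0), (w (Sum.inl 0), pp w))
  invFun t := t.2.1 • (ee : VV (m + 1) F) + t.1 • (ff : VV (m + 1) F) + jj t.2.2
  left_inv w := (decomp w).symm
  right_inv t := by
    obtain ⟨y, x, w'⟩ := t
    refine Prod.ext ?_ (Prod.ext ?_ ?_)
    · simp [ee, ff]
    · simp [ee, ff]
    · show pp (x • (ee : VV (m + 1) F) + y • (ff : VV (m + 1) F) + jj w') = w'
      rw [map_add, map_add, map_smul, map_smul, pp_ee, pp_ff, pp_jj, smul_zero, smul_zero,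
        zero_add, zero_add]

theorem splitEquiv_symm_inr (m : ℕ) (t : F × (F × VV m F)) :
    (splitEquiv m).symm t (Sum.inr 0) = t.1 :=
  congrArg Prod.fst ((splitEquiv m).apply_symm_apply t)

theorem splitEquiv_symm_inl (m : ℕ) (t : F × (F × VV m F)) :
    (splitEquiv m).symm t (Sum.inl 0) = t.2.1 :=
  congrArg (fun s => s.2.1) ((splitEquiv m).apply_symm_apply t)

theorem splitEquiv_symm_pp (m : ℕ) (t : F × (F × VV m F)) :
    pp ((splitEquiv m).symm t) = t.2.2 :=
  congrArg (fun s => s.2.2) ((splitEquiv m).apply_symm_apply t)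

theorem Q_splitEquiv_symm (m : ℕ) (t : F × (F × VV m F)) :
    QfPlus (m + 1) F ((splitEquiv m).symm t) = t.2.1 * t.1 + QfPlus m F t.2.2 := by
  rw [Q_succ, splitEquiv_symm_inr, splitEquiv_symm_inl, splitEquiv_symm_pp]

theorem card_VV [Fintype F] (m : ℕ) : Fintype.card (VV m F) = Fintype.card F ^ (2 * m) := by
  rw [Fintype.card_fun, Fintype.card_sum, Fintype.card_fin, two_mul]

/-- vectors with `y_0 = 0` and a condition on the projection -/
def stepEquiv (m : ℕ) (P : VV m F → Prop) :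
    {w : VV (m + 1) F // w (Sum.inr 0) = 0 ∧ P (pp w)} ≃ F × {w' : VV m F // P w'} where
  toFun w := (w.1 (Sum.inl 0), ⟨pp w.1, w.2.2⟩)
  invFun t := ⟨(splitEquiv m).symm (0, (t.1, t.2.1)), splitEquiv_symm_inr m _, by
    rw [splitEquiv_symm_pp]
    exact t.2.2⟩
  left_inv w := by
    obtain ⟨w, h0, hP⟩ := w
    apply Subtype.ext
    show (splitEquiv m).symm (0, (w (Sum.inl 0), pp w)) = w
    have h : ((0 : F), (w (Sum.inl 0), pp w)) = splitEquiv m w := by
      show _ = (w (Sum.inr 0), (w (Sum.inl 0), pp w))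
      rw [h0]
    rw [h]
    exact (splitEquiv m).symm_apply_apply w
  right_inv t := by
    refine Prod.ext ?_ (Subtype.ext ?_)
    · exact splitEquiv_symm_inl m _
    · exact splitEquiv_symm_pp m _

theorem natCard_step [Fintype F] (m : ℕ) (P : VV m F → Prop) :
    Nat.card {w : VV (m + 1) F // w (Sum.inr 0) = 0 ∧ P (pp w)} =
      Fintype.card F * Nat.card {w' : VV m F // P w'} := by
  rw [Nat.card_congr (stepEquiv m P), Nat.card_prod, Nat.card_eq_fintype_card]

end H15Split

end Cfsg.Agent.Helper12.LOP
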