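import Mathlib
import Cfsg.Prelude.Def_Characters
import Cfsg.Agent.Helper12.LOPDefs
import Cfsg.Agent.Helper12.LSLDefs
import Cfsg.Agent.Helper15.LOPSplit
import Cfsg.Agent.Helper8.LOPCOUNT

set_option autoImplicit false

/-! S2345, piece NFIX: the number of singular vectors orthogonal to `e_0` and `e_1`. -/

namespace Cfsg.Agent.Helper12.LOP

open Matrix Cfsg Cfsg.Agent.Helper28.Sg Cfsg.Agent.Helper28.Spin Cfsg.Agent.Helper12.LSL

variable {F : Type*} [Field F] {n : ℕ}

theorem card_fixed_sing [Fintype F] [DecidableEq F] :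
    (Finset.univ.filter (fun w : VV (n + 3) F => QfPlus (n + 3) F w = 0 ∧
      B (QfPlus (n + 3) F) (eb 0) w = 0 ∧ B (QfPlus (n + 3) F) (eb 1) w = 0)).card =
      Fintype.card F ^ 2 *
        (Fintype.card F ^ (2 * n + 1) + Fintype.card F ^ (n + 1) - Fintype.card F ^ n) := by
  rw [← Fintype.card_subtype, ← Nat.card_eq_fintype_card]
  have e1 : {w : VV (n + 3) F // QfPlus (n + 3) F w = 0 ∧
      B (QfPlus (n + 3) F) (eb 0) w = 0 ∧ B (QfPlus (n + 3) F) (eb 1) w = 0} ≃
      {w : VV (n + 2 + 1) F // w (Sum.inr 0) = 0 ∧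
        (fun w' : VV (n + 1 + 1) F => w' (Sum.inr 0) = 0 ∧
          (fun w'' : VV (n + 1) F => QfPlus (n + 1) F w'' = 0) (pp w')) (pp w)} := by
    refine Equiv.subtypeEquivRight (fun w => ?_)
    rw [B_eb, B_eb]
    have hQ : QfPlus (n + 3) F w = w (Sum.inl 0) * w (Sum.inr 0) +
        (pp w (Sum.inl 0) * pp w (Sum.inr 0) + QfPlus (n + 1) F (pp (pp w))) := by
      rw [Q_succ, Q_succ]
    have h1 : w (Sum.inr 1) = pp w (Sum.inr 0) := rfl
    rw [hQ, h1]
    constructor
    · rintro ⟨hq, h0, h1'⟩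
      refine ⟨h0, h1', ?_⟩
      rw [h0, h1', mul_zero, mul_zero, zero_add, zero_add] at hq
      exact hq
    · rintro ⟨h0, h1', hq⟩
      refine ⟨?_, h0, h1'⟩
      rw [h0, h1', mul_zero, mul_zero, zero_add, zero_add]
      exact hq
  have s1 := H15Split.natCard_step (F := F) (n + 2)
    (fun w' : VV (n + 1 + 1) F => w' (Sum.inr 0) = 0 ∧
      (fun w'' : VV (n + 1) F => QfPlus (n + 1) F w'' = 0) (pp w'))
  have s2 := H15Split.natCard_step (F := F) (n + 1)
    (fun w'' : VV (n + 1) F => QfPlus (n + 1) F w'' = 0)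
  have s3 : Nat.card {w'' : VV (n + 1) F // QfPlus (n + 1) F w'' = 0} =
      Fintype.card F ^ (2 * n + 1) + Fintype.card F ^ (n + 1) - Fintype.card F ^ n := by
    rw [Nat.card_eq_fintype_card, Fintype.card_subtype, card_sing (n + 1) (by omega)]
    have e2 : 2 * (n + 1) - 1 = 2 * n + 1 := by omega
    have e3 : n + 1 - 1 = n := by omega
    rw [e2, e3]
  rw [Nat.card_congr e1]
  refine s1.trans ?_
  refine (congrArg (fun k => Fintype.card F * k) s2).trans ?_
  show Fintype.card F * (Fintype.card F *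
    Nat.card {w'' : VV (n + 1) F // QfPlus (n + 1) F w'' = 0}) = _
  rw [s3, ← mul_assoc, ← sq]

end Cfsg.Agent.Helper12.LOP
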