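import Mathlib
import Cfsg.Prelude.Def_Characters
import Cfsg.Agent.Helper12.LOPDefs
import Cfsg.Agent.Helper12.LSLDefs
import Cfsg.Agent.Helper15.LOPSplit
import Cfsg.Agent.Helper8.LOPCOUNT

set_option autoImplicit false

/-! S2345, piece TAU: the character sum `Σ_{w singular} ψ (B(e_0, w))`. -/

namespace Cfsg.Agent.Helper12.LOP

open Matrix Cfsg Cfsg.Agent.Helper28.Sg Cfsg.Agent.Helper28.Spin Cfsg.Agent.Helper12.LSL

variable {F : Type*} [Field F] {n : ℕ}

namespace TAU

/-- pairs `(x, w')` with `x y + Q(w') = 0`, for `y = 0` -/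
theorem card_S_zero [Fintype F] [DecidableEq F] (m : ℕ) :
    (Finset.univ.filter (fun s : F × VV m F => s.1 * 0 + QfPlus m F s.2 = 0)).card =
      Fintype.card F * (Finset.univ.filter (fun w : VV m F => QfPlus m F w = 0)).card := by
  have h : Finset.univ.filter (fun s : F × VV m F => s.1 * 0 + QfPlus m F s.2 = 0) =
      (Finset.univ : Finset F) ×ˢ (Finset.univ.filter (fun w : VV m F => QfPlus m F w = 0)) := by
    ext s
    simp
  rw [h, Finset.card_product, Finset.card_univ]

/-- pairs `(x, w')` with `x y + Q(w') = 0`, for `y ≠ 0` -/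
theorem card_S_ne [Fintype F] [DecidableEq F] (m : ℕ) (y : F) (hy : y ≠ 0) :
    (Finset.univ.filter (fun s : F × VV m F => s.1 * y + QfPlus m F s.2 = 0)).card =
      Fintype.card F ^ (2 * m) := by
  have hinj : Function.Injective (fun w : VV m F => ((-(QfPlus m F w) / y, w) : F × VV m F)) := by
    intro w w' h
    exact (Prod.ext_iff.mp h).2
  have h : Finset.univ.filter (fun s : F × VV m F => s.1 * y + QfPlus m F s.2 = 0) =
      (Finset.univ : Finset (VV m F)).map ⟨_, hinj⟩ := by
    ext s
    simp only [Finset.mem_filter, Finset.mem_univ, true_and, Finset.mem_map,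
      Function.Embedding.coeFn_mk]
    constructor
    · intro hs
      refine ⟨s.2, Prod.ext ?_ rfl⟩
      show -(QfPlus m F s.2) / y = s.1
      rw [div_eq_iff hy]
      linear_combination -hs
    · rintro ⟨w, rfl⟩
      show -(QfPlus m F w) / y * y + QfPlus m F w = 0
      rw [div_mul_cancel₀ _ hy]
      ring
  rw [h, Finset.card_map, Finset.card_univ, H15Split.card_VV]

end TAU

theorem sum_sing_char [Fintype F] [DecidableEq F] (ψ : AddChar F ℂ) (hψ : ψ 1 ≠ 1) :
    ∑ w ∈ Finset.univ.filter (fun w : VV (n + 3) F => QfPlus (n + 3) F w = 0),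
      ψ (B (QfPlus (n + 3) F) (eb 0) w) =
      (Fintype.card F : ℂ) ^ (n + 3) - (Fintype.card F : ℂ) ^ (n + 2) := by
  rw [Finset.sum_filter, ← Equiv.sum_comp (H15Split.splitEquiv (n + 2)).symm,
    Fintype.sum_prod_type]
  have hinner : ∀ y : F, (∑ s : F × VV (n + 2) F,
      if QfPlus (n + 3) F ((H15Split.splitEquiv (n + 2)).symm (y, s)) = 0 then
        ψ (B (QfPlus (n + 3) F) (eb 0) ((H15Split.splitEquiv (n + 2)).symm (y, s))) else 0) =
      ψ y * ((Finset.univ.filter
        (fun s : F × VV (n + 2) F => s.1 * y + QfPlus (n + 2) F s.2 = 0)).card : ℂ) := by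
    intro y
    simp only [H15Split.Q_splitEquiv_symm, B_eb, H15Split.splitEquiv_symm_inr]
    rw [← Finset.sum_filter, Finset.sum_const, nsmul_eq_mul, mul_comm]
  rw [Finset.sum_congr rfl (fun y _ => hinner y)]
  have hψ1 : ψ ≠ 1 := by
    intro h
    apply hψ
    rw [h]
    rfl
  have hsum : ∑ y : F, ψ y = 0 := AddChar.sum_eq_zero_of_ne_one hψ1
  have hterm : ∀ y : F, ψ y * ((Finset.univ.filter
        (fun s : F × VV (n + 2) F => s.1 * y + QfPlus (n + 2) F s.2 = 0)).card : ℂ) =
      ψ y * ((Fintype.card F : ℂ) ^ (2 * (n + 2))) +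
        if y = 0 then ((Fintype.card F : ℂ) * ((Finset.univ.filter
          (fun w : VV (n + 2) F => QfPlus (n + 2) F w = 0)).card : ℂ) -
            (Fintype.card F : ℂ) ^ (2 * (n + 2))) else 0 := by
    intro y
    by_cases hy : y = 0
    · subst hy
      rw [if_pos rfl, TAU.card_S_zero, AddChar.map_zero_eq_one]
      push_cast
      ring
    · rw [if_neg hy, TAU.card_S_ne _ y hy]
      push_cast
      ring
  rw [Finset.sum_congr rfl (fun y _ => hterm y), Finset.sum_add_distrib, ← Finset.sum_mul, hsum,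
    zero_mul, zero_add, Finset.sum_ite_eq' Finset.univ (0 : F), if_pos (Finset.mem_univ _),
    card_sing (n + 2) (by omega)]
  have hle : Fintype.card F ^ (n + 2 - 1) ≤
      Fintype.card F ^ (2 * (n + 2) - 1) + Fintype.card F ^ (n + 2) := by
    have : Fintype.card F ^ (n + 2 - 1) ≤ Fintype.card F ^ (n + 2) :=
      Nat.pow_le_pow_right Fintype.card_pos (by omega)
    omega
  rw [Nat.cast_sub hle]
  push_cast
  have e1 : 2 * (n + 2) - 1 = 2 * n + 3 := by omega
  rw [e1]
  ring

end Cfsg.Agent.Helper12.LOP
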