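import Cfsg.Agent.Helper12.S5702Defs2

set_option autoImplicit false
set_option linter.unusedSectionVars false
set_option linter.unusedVariables false

/-! # S5702 piece RHO (driver helper12): the algebra of `ρ`. -/

namespace Cfsg.Agent.S5702P

open Matrix Cfsg.Agent.Helper28.Sg Cfsg.Agent.Helper28.Spin Cfsg.Agent.Helper12.OrthGen
  Cfsg.Agent.S5683P

variable {F : Type*} [Field F] {m : ℕ} {a b : F}

namespace RHO

theorem xi3_rho (κ : Fin 3 → Fin m) (hκ : Function.Injective κ) (t : Fin 3 → F)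
    (x : Idx m → F) : xi3 κ (mt (QfMinus m F a b) (rho a b κ t) *ᵥ x) = xi3 κ x := by
  rw [rho_mulVec κ hκ, xi3_add, xi3_lin3, add_zero]

theorem lin3_apply (κ : Fin 3 → Fin m) (hκ : Function.Injective κ) (c : Fin 3 → F) (l : Fin 3) :
    lin3 κ c (Sum.inl (Sum.inl (κ l))) = c l := by
  unfold lin3 ee
  simp [Finset.sum_apply, Pi.single_apply, hκ.eq_iff, Finset.sum_ite_eq]

theorem lin3_injective (κ : Fin 3 → Fin m) (hκ : Function.Injective κ) {c c' : Fin 3 → F}
    (h : lin3 κ c = lin3 κ c') : c = c' := by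
  funext l
  rw [← lin3_apply κ hκ c l, ← lin3_apply κ hκ c' l, h]

theorem lin3_neg (κ : Fin 3 → Fin m) (c : Fin 3 → F) : lin3 κ (-c) = -lin3 κ c := by
  have := lin3_smul κ (-1 : F) c
  simpa using this

theorem lin3_sub (κ : Fin 3 → Fin m) (c c' : Fin 3 → F) :
    lin3 κ (c - c') = lin3 κ c - lin3 κ c' := by
  rw [sub_eq_add_neg, lin3_add, lin3_neg, ← sub_eq_add_neg]

theorem xi3_ff (κ : Fin 3 → Fin m) (hκ : Function.Injective κ) (k : Fin 3) :
    xi3 κ (ff F (κ k)) = Pi.single k (1 : F) := by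
  funext l
  unfold xi3 ff
  simp [Pi.single_apply, hκ.eq_iff]

end RHO

theorem RHO.add (κ : Fin 3 → Fin m) (hκ : Function.Injective κ) (t t' : Fin 3 → F) :
    rho a b κ (t + t') = rho a b κ t * rho a b κ t' := by
  apply O_ext
  intro x
  rw [mt_mul_mulVec, rho_mulVec κ hκ, rho_mulVec κ hκ t, RHO.xi3_rho κ hκ, rho_mulVec κ hκ,
    map_add, LinearMap.add_apply, lin3_add]
  abel

theorem RHO.zero (κ : Fin 3 → Fin m) (hκ : Function.Injective κ) :
    rho a b κ (0 : Fin 3 → F) = 1 := by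
  apply O_ext
  intro x
  rw [rho_mulVec κ hκ, mt_one_mulVec, map_zero, LinearMap.zero_apply, lin3_zero, add_zero]

theorem RHO.inv (κ : Fin 3 → Fin m) (hκ : Function.Injective κ) (t : Fin 3 → F) :
    (rho a b κ t)⁻¹ = rho a b κ (-t) := by
  apply inv_eq_of_mul_eq_one_right
  rw [← RHO.add κ hκ, add_neg_cancel, RHO.zero κ hκ]

theorem RHO.comm (κ : Fin 3 → Fin m) (hκ : Function.Injective κ) (t t' : Fin 3 → F) :
    rho a b κ t * rho a b κ t' = rho a b κ t' * rho a b κ t := by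
  rw [← RHO.add κ hκ, ← RHO.add κ hκ, add_comm]

/-- apply `ρ(t) = ρ(t')` to `f_{κ k}` (`xi3 κ (ff F (κ k)) = Pi.single k 1`) -/
theorem RHO.injective (κ : Fin 3 → Fin m) (hκ : Function.Injective κ) {t t' : Fin 3 → F}
    (h : rho a b κ t = rho a b κ t') : t = t' := by
  have key : ∀ k : Fin 3, t ⨯₃ (Pi.single k (1 : F)) = t' ⨯₃ (Pi.single k (1 : F)) := by
    intro k
    have h1 := rho_mulVec (a := a) (b := b) κ hκ t (ff F (κ k))
    have h2 := rho_mulVec (a := a) (b := b) κ hκ t' (ff F (κ k))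
    rw [h, h2, RHO.xi3_ff κ hκ] at h1
    exact (RHO.lin3_injective κ hκ (add_left_cancel h1)).symm
  have k0 := key 0
  have k1 := key 1
  rw [cross_apply, cross_apply] at k0 k1
  have e01 := congrFun k0 1
  have e02 := congrFun k0 2
  have e12 := congrFun k1 2
  simp at e01 e02 e12
  funext l
  fin_cases l
  · exact e12
  · exact e02
  · exact e01

theorem RHO.mem_Rgrp_iff (F₀ : Subfield F) (κ : Fin 3 → Fin m) (hκ : Function.Injective κ)
    (g : OG m F a b) :
    g ∈ Rgrp F₀ a b κ ↔ ∃ t : Fin 3 → F, (∀ k, t k ∈ F₀) ∧ g = rho a b κ t := by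
  constructor
  · intro hg
    unfold Rgrp at hg
    induction hg using Subgroup.closure_induction with
    | mem x hx => exact hx
    | one => exact ⟨0, fun k => F₀.zero_mem, (RHO.zero κ hκ).symm⟩
    | mul x y _ _ ihx ihy =>
      obtain ⟨t, ht, rfl⟩ := ihx
      obtain ⟨t', ht', rfl⟩ := ihy
      exact ⟨t + t', fun k => F₀.add_mem (ht k) (ht' k), (RHO.add κ hκ t t').symm⟩
    | inv x _ ih =>
      obtain ⟨t, ht, rfl⟩ := ih
      exact ⟨-t, fun k => F₀.neg_mem (ht k), RHO.inv κ hκ t⟩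
  · intro h
    exact Subgroup.subset_closure h

theorem RHO.siegO_eq (κ : Fin 3 → Fin m) (hκ : Function.Injective κ) (x y : Fin 3 → F)
    (h1 : QfMinus m F a b (lin3 κ x) = 0) (h2 : B (QfMinus m F a b) (lin3 κ x) (lin3 κ y) = 0) :
    siegO (QfMinus m F a b) (lin3 κ x) (lin3 κ y) h1 h2 = rho a b κ (x ⨯₃ y) := by
  apply O_ext
  intro z
  rw [siegO_mulVec, rho_mulVec κ hκ, Q_lin3, zero_mul, zero_smul, sub_zero, B_lin3, B_lin3,
    cross_cross_eq_smul_sub_smul, RHO.lin3_sub, lin3_smul, lin3_smul]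
  abel

end Cfsg.Agent.S5702P
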