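import Cfsg.Agent.Helper12.S5702Defs2
import Cfsg.Agent.Helper15.S5702RHO

set_option autoImplicit false
set_option linter.unusedSectionVars false
set_option linter.unusedVariables false

/-! # S5702 piece RGRP (driver helper12): `R_π(F₀)` is a `p`-group, not cyclic. -/

namespace Cfsg.Agent.S5702P

open Matrix Cfsg.Agent.Helper28.Sg Cfsg.Agent.Helper28.Spin Cfsg.Agent.Helper12.OrthGen
  Cfsg.Agent.S5683P

variable {F : Type*} [Field F] {m : ℕ} {a b : F}

namespace RGRP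

/-- `ρ` as a homomorphism -/
noncomputable def rhoHom (a b : F) (κ : Fin 3 → Fin m) (hκ : Function.Injective κ) :
    Multiplicative (Fin 3 → F) →* OG m F a b where
  toFun t := rho a b κ (Multiplicative.toAdd t)
  map_one' := RHO.zero κ hκ
  map_mul' t t' := RHO.add κ hκ _ _

theorem rho_zsmul (κ : Fin 3 → Fin m) (hκ : Function.Injective κ) (t : Fin 3 → F) (z : ℤ) :
    rho a b κ t ^ z = rho a b κ (z • t) := by
  have := map_zpow (rhoHom a b κ hκ) (Multiplicative.ofAdd t) z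
  exact this.symm

theorem rho_nsmul (κ : Fin 3 → Fin m) (hκ : Function.Injective κ) (t : Fin 3 → F) (n : ℕ) :
    rho a b κ t ^ n = rho a b κ (n • t) := by
  have := map_pow (rhoHom a b κ hκ) (Multiplicative.ofAdd t) n
  exact this.symm

end RGRP

theorem RGRP.isPGroup (p : ℕ) [Fact p.Prime] [CharP F p] (F₀ : Subfield F) (κ : Fin 3 → Fin m)
    (hκ : Function.Injective κ) : IsPGroup p (Rgrp F₀ a b κ) := by
  intro g
  refine ⟨1, ?_⟩
  obtain ⟨t, ht, hg⟩ := (RHO.mem_Rgrp_iff F₀ κ hκ g.1).1 g.2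
  apply Subtype.ext
  rw [pow_one, Subgroup.coe_pow, hg, RGRP.rho_nsmul κ hκ, Subgroup.coe_one]
  have : p • t = 0 := by
    funext k
    simp
  rw [this, RHO.zero κ hκ]

theorem RGRP.not_isCyclic [Finite F] (F₀ : Subfield F) (κ : Fin 3 → Fin m)
    (hκ : Function.Injective κ) : ¬ IsCyclic (Rgrp F₀ a b κ) := by
  rintro ⟨g, hg⟩
  obtain ⟨t0, ht0, hg0⟩ := (RHO.mem_Rgrp_iff F₀ κ hκ g.1).1 g.2
  have hmem : ∀ k : Fin 3, rho a b κ (Pi.single k (1 : F)) ∈ Rgrp F₀ a b κ := by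
    intro k
    rw [RHO.mem_Rgrp_iff F₀ κ hκ]
    refine ⟨_, ?_, rfl⟩
    intro l
    by_cases h : l = k
    · subst h; simp [F₀.one_mem]
    · simp [h, F₀.zero_mem]
  have key : ∀ k : Fin 3, ∃ z : ℤ, z • t0 = Pi.single k (1 : F) := by
    intro k
    obtain ⟨z, hz⟩ := Subgroup.mem_zpowers_iff.1 (hg ⟨_, hmem k⟩)
    refine ⟨z, ?_⟩
    have h1 := congrArg Subtype.val hz
    rw [Subgroup.coe_zpow, hg0, RGRP.rho_zsmul κ hκ] at h1
    exact RHO.injective κ hκ h1
  obtain ⟨z, hz⟩ := key 0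
  obtain ⟨z', hz'⟩ := key 1
  have e00 := congrFun hz 0
  have e01 := congrFun hz 1
  have e11 := congrFun hz' 1
  simp at e00 e01 e11
  rcases e01 with h | h
  · rw [h] at e00
    simp at e00
  · rw [h] at e11
    simp at e11

end Cfsg.Agent.S5702P
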