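import Cfsg.Agent.Helper12.S5702Defs2
import Cfsg.Agent.Helper15.S5702RHO

set_option autoImplicit false
set_option linter.unusedSectionVars false
set_option linter.unusedVariables false

/-! # S5702 piece FIXPERP (driver helper12): an isometry fixing `π^⊥` pointwise is a `ρ(t)`. -/

namespace Cfsg.Agent.S5702P

open Matrix Cfsg.Agent.Helper28.Sg Cfsg.Agent.Helper28.Spin Cfsg.Agent.Helper12.OrthGen
  Cfsg.Agent.S5683P

variable {F : Type*} [Field F] {m : ℕ} {a b : F}

namespace FIXPERP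

theorem xi3_ff_of_not_range (κ : Fin 3 → Fin m) (i : Fin m) (hi : ∀ k, κ k ≠ i) :
    xi3 κ (ff F i) = 0 := by
  funext k
  unfold xi3 ff
  simp [hi k]

theorem xi3_d1 (κ : Fin 3 → Fin m) : xi3 κ (d1 F m) = 0 := by
  funext k
  unfold xi3 d1
  simp

theorem xi3_d2 (κ : Fin 3 → Fin m) : xi3 κ (d2 F m) = 0 := by
  funext k
  unfold xi3 d2
  simp

theorem lin3_apply_inr (κ : Fin 3 → Fin m) (c : Fin 3 → F) (u : Fin 2) :
    lin3 κ c (Sum.inr u) = 0 := by
  unfold lin3 ee
  simp [Finset.sum_apply]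

theorem lin3_apply_inl_inr (κ : Fin 3 → Fin m) (c : Fin 3 → F) (i : Fin m) :
    lin3 κ c (Sum.inl (Sum.inr i)) = 0 := by
  unfold lin3 ee
  simp [Finset.sum_apply]

theorem lin3_apply_of_not_range (κ : Fin 3 → Fin m) (c : Fin 3 → F) (i : Fin m)
    (hi : ∀ k, κ k ≠ i) : lin3 κ c (Sum.inl (Sum.inl i)) = 0 := by
  unfold lin3 ee
  simp [Finset.sum_apply, hi]

/-- a vector orthogonal to `π^⊥` lies in `π` -/
theorem eq_lin3_of_perp (hab : 4 * b - a ^ 2 ≠ 0) (κ : Fin 3 → Fin m)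
    (hκ : Function.Injective κ) (n : Idx m → F)
    (h : ∀ y : Idx m → F, xi3 κ y = 0 → B (QfMinus m F a b) n y = 0) :
    n = lin3 κ (fun l => n (Sum.inl (Sum.inl (κ l)))) := by
  have h1 : ∀ i, n (Sum.inl (Sum.inr i)) = 0 := fun i => by
    have := h (ee F i) (xi3_ee κ i)
    rwa [B_ee'] at this
  have h2 : ∀ i, (∀ k, κ k ≠ i) → n (Sum.inl (Sum.inl i)) = 0 := fun i hi => by
    have := h (ff F i) (xi3_ff_of_not_range κ i hi)
    rwa [B_ff'] at this
  have h3 : 2 * n (Sum.inr 0) + a * n (Sum.inr 1) = 0 := by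
    have := h (d1 F m) (xi3_d1 κ)
    rwa [B_d1'] at this
  have h4 : a * n (Sum.inr 0) + 2 * b * n (Sum.inr 1) = 0 := by
    have := h (d2 F m) (xi3_d2 κ)
    rwa [B_d2'] at this
  have h5 : n (Sum.inr 0) = 0 := by
    have : (4 * b - a ^ 2) * n (Sum.inr 0) = 0 := by linear_combination 2 * b * h3 - a * h4
    rcases mul_eq_zero.1 this with h' | h'
    · exact absurd h' hab
    · exact h'
  have h6 : n (Sum.inr 1) = 0 := by
    have : (4 * b - a ^ 2) * n (Sum.inr 1) = 0 := by linear_combination 2 * h4 - a * h3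
    rcases mul_eq_zero.1 this with h' | h'
    · exact absurd h' hab
    · exact h'
  funext k
  rcases k with (j | j) | u
  · by_cases hj : ∃ l, κ l = j
    · obtain ⟨l, rfl⟩ := hj
      rw [RHO.lin3_apply κ hκ]
    · have hj' : ∀ l, κ l ≠ j := fun l hl => hj ⟨l, hl⟩
      rw [h2 j hj', lin3_apply_of_not_range κ _ j hj']
  · rw [h1, lin3_apply_inl_inr]
  · rw [lin3_apply_inr]
    fin_cases u
    · exact h5
    · exact h6

theorem ff_apply_inl_inl (i j : Fin m) : ff F i (Sum.inl (Sum.inl j)) = 0 := by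
  unfold ff
  simp

end FIXPERP

theorem FIXPERP.exists_rho (hab : 4 * b - a ^ 2 ≠ 0) (κ : Fin 3 → Fin m)
    (hκ : Function.Injective κ) (d : OG m F a b)
    (hfix : ∀ x : Idx m → F, xi3 κ x = 0 → mt (QfMinus m F a b) d *ᵥ x = x) :
    ∃ t : Fin 3 → F, d = rho a b κ t := by
  -- the vectors `n_k = d f_k - f_k` lie in `π`
  have hperp : ∀ (k : Fin 3) (y : Idx m → F), xi3 κ y = 0 →
      B (QfMinus m F a b) (mt (QfMinus m F a b) d *ᵥ ff F (κ k) - ff F (κ k)) y = 0 := by
    intro k y hy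
    have e1 : B (QfMinus m F a b) (mt (QfMinus m F a b) d *ᵥ ff F (κ k)) y =
        B (QfMinus m F a b) (ff F (κ k)) y := by
      calc B (QfMinus m F a b) (mt (QfMinus m F a b) d *ᵥ ff F (κ k)) y
          = B (QfMinus m F a b) (mt (QfMinus m F a b) d *ᵥ ff F (κ k))
              (mt (QfMinus m F a b) d *ᵥ y) := by rw [hfix y hy]
        _ = B (QfMinus m F a b) (ff F (κ k)) y := B_isom _ d _ _
    show QuadraticMap.polar _ _ _ = 0
    rw [QuadraticMap.polar_sub_left]
    exact sub_eq_zero.2 e1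
  obtain ⟨N, hN⟩ : ∃ N : Fin 3 → Fin 3 → F, ∀ k,
      mt (QfMinus m F a b) d *ᵥ ff F (κ k) = ff F (κ k) + lin3 κ (N k) := by
    refine ⟨fun k l => (mt (QfMinus m F a b) d *ᵥ ff F (κ k) - ff F (κ k))
      (Sum.inl (Sum.inl (κ l))), fun k => ?_⟩
    have := FIXPERP.eq_lin3_of_perp hab κ hκ _ (hperp k)
    rw [← this]
    abel
  -- `N` is alternating
  have hNkk : ∀ k, N k k = 0 := by
    intro k
    have h1 : QfMinus m F a b (mt (QfMinus m F a b) d *ᵥ ff F (κ k)) = 0 := by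
      rw [Q_isom, Q_ff]
    rw [hN k, Q_add, Q_ff, Q_lin3, B_ff, RHO.lin3_apply κ hκ] at h1
    simpa using h1
  have hanti : ∀ k l, N l k + N k l = 0 := by
    intro k l
    have h1 : B (QfMinus m F a b) (mt (QfMinus m F a b) d *ᵥ ff F (κ k))
        (mt (QfMinus m F a b) d *ᵥ ff F (κ l)) = 0 := by
      rw [B_isom, B_ff, FIXPERP.ff_apply_inl_inl]
    rw [hN k, hN l] at h1
    have h2 : B (QfMinus m F a b) (ff F (κ k) + lin3 κ (N k)) (ff F (κ l) + lin3 κ (N l)) =
        N l k + N k l := by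
      show QuadraticMap.polar _ _ _ = _
      rw [QuadraticMap.polar_add_left, QuadraticMap.polar_add_right,
        QuadraticMap.polar_add_right]
      have e1 : QuadraticMap.polar (⇑(QfMinus m F a b)) (ff F (κ k)) (ff F (κ l)) = 0 := by
        have := B_ff (a := a) (b := b) (κ k) (ff F (κ l))
        rw [FIXPERP.ff_apply_inl_inl] at this
        exact this
      have e2 : QuadraticMap.polar (⇑(QfMinus m F a b)) (ff F (κ k)) (lin3 κ (N l)) = N l k := by
        have := B_ff (a := a) (b := b) (κ k) (lin3 κ (N l))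
        rw [RHO.lin3_apply κ hκ] at this
        exact this
      have e3 : QuadraticMap.polar (⇑(QfMinus m F a b)) (lin3 κ (N k)) (ff F (κ l)) = N k l := by
        have := B_ff' (a := a) (b := b) (κ l) (lin3 κ (N k))
        rw [RHO.lin3_apply κ hκ] at this
        exact this
      have e4 : QuadraticMap.polar (⇑(QfMinus m F a b)) (lin3 κ (N k)) (lin3 κ (N l)) = 0 :=
        B_lin3_lin3 κ (N k) (N l)
      rw [e1, e2, e3, e4]
      ring
    rw [h2] at h1
    exact h1
  refine ⟨![N 1 2, N 2 0, N 0 1], ?_⟩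
  -- agreement on the `f_{κ k}`
  have hcross : ∀ k : Fin 3, (![N 1 2, N 2 0, N 0 1] : Fin 3 → F) ⨯₃ (Pi.single k (1 : F)) = N k := by
    intro k
    have a00 := hNkk 0
    have a11 := hNkk 1
    have a22 := hNkk 2
    have a01 := hanti 0 1
    have a02 := hanti 0 2
    have a12 := hanti 1 2
    rw [cross_apply]
    funext l
    fin_cases k <;> fin_cases l <;> simp <;>
      first | exact a00.symm | exact a11.symm | exact a22.symm | linear_combination a01 |
        linear_combination -a01 | linear_combination a02 | linear_combination -a02 |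
        linear_combination a12 | linear_combination -a12
  have agree_f : ∀ k : Fin 3, mt (QfMinus m F a b) d *ᵥ ff F (κ k) =
      mt (QfMinus m F a b) (rho a b κ ![N 1 2, N 2 0, N 0 1]) *ᵥ ff F (κ k) := by
    intro k
    rw [rho_mulVec κ hκ, RHO.xi3_ff κ hκ, hcross k, hN k]
  have agree_perp : ∀ y : Idx m → F, xi3 κ y = 0 → mt (QfMinus m F a b) d *ᵥ y =
      mt (QfMinus m F a b) (rho a b κ ![N 1 2, N 2 0, N 0 1]) *ᵥ y := by
    intro y hy
    rw [hfix y hy, rho_mulVec κ hκ, hy, map_zero, lin3_zero, add_zero]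
  apply O_ext
  intro x
  have hx' : xi3 κ (x - (xi3 κ x 0 • ff F (κ 0) + xi3 κ x 1 • ff F (κ 1) +
      xi3 κ x 2 • ff F (κ 2))) = 0 := by
    have e : xi3 κ (x - (xi3 κ x 0 • ff F (κ 0) + xi3 κ x 1 • ff F (κ 1) +
        xi3 κ x 2 • ff F (κ 2))) = xi3 κ x - (xi3 κ x 0 • xi3 κ (ff F (κ 0)) +
        xi3 κ x 1 • xi3 κ (ff F (κ 1)) + xi3 κ x 2 • xi3 κ (ff F (κ 2))) := rfl
    rw [e, RHO.xi3_ff κ hκ, RHO.xi3_ff κ hκ, RHO.xi3_ff κ hκ]
    funext l
    fin_cases l <;> simp
  have hdec : x = (x - (xi3 κ x 0 • ff F (κ 0) + xi3 κ x 1 • ff F (κ 1) +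
      xi3 κ x 2 • ff F (κ 2))) + (xi3 κ x 0 • ff F (κ 0) + xi3 κ x 1 • ff F (κ 1) +
      xi3 κ x 2 • ff F (κ 2)) := by abel
  rw [hdec]
  simp only [Matrix.mulVec_add, Matrix.mulVec_smul]
  rw [agree_perp _ hx', agree_f 0, agree_f 1, agree_f 2]

end Cfsg.Agent.S5702P
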