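import Mathlib
import Cfsg.Agent.S4441
import Cfsg.Agent.Helper5.ThirdMain
import Cfsg.Agent.Helper5.CharKer
import Cfsg.Agent.Helper24.Codegree
import Cfsg.Agent.Helper24.SelfCentD
import Cfsg.Agent.Helper24.Invariants

set_option autoImplicit false

/-!
Brauer's theorem on the principal block of a group with a Sylow `p`-subgroup of order `p`
(`Cfsg.Agent.S4441.result`), repackaged with finsets for perfect groups, together with a few
elementary facts on values of irreducible characters.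
-/

namespace Cfsg.Agent.Helper15.BrP

open Cfsg Cfsg.Agent.Helper24 Cfsg.Agent.Helper5

universe u

section Basic

variable {G : Type u} [Group G] [Finite G]

/-- `‖χ(g)‖ ≤ χ(1)`. -/
theorem norm_le_irrDeg (χ : IrrCharacter G) (g : G) : ‖(χ : G → ℂ) g‖ ≤ (irrDeg χ : ℝ) := by
  obtain ⟨n, ρ, hirr, hχ⟩ := χ.2
  have h1 : (irrDeg χ : ℂ) = (Module.finrank ℂ (Fin n → ℂ) : ℂ) := by
    rw [← irrDeg_spec, ← hχ, Representation.char_one]
  have h2 : irrDeg χ = Module.finrank ℂ (Fin n → ℂ) := by exact_mod_cast h1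
  rw [h2, ← hχ]
  exact norm_char_le ρ g

/-- The real part of `χ(g)` is at most `χ(1)`. -/
theorem re_le_irrDeg (χ : IrrCharacter G) (g : G) : ((χ : G → ℂ) g).re ≤ (irrDeg χ : ℝ) :=
  (Complex.re_le_norm _).trans (norm_le_irrDeg χ g)

theorem neg_irrDeg_le_re (χ : IrrCharacter G) (g : G) : -(irrDeg χ : ℝ) ≤ ((χ : G → ℂ) g).re := by
  have h1 := Complex.abs_re_le_norm ((χ : G → ℂ) g)
  have h2 := norm_le_irrDeg χ g
  have h3 := neg_abs_le ((χ : G → ℂ) g).re
  linarith

/-- If the real part of `χ(g)` equals `χ(1)`, then `χ(g) = χ(1)`. -/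
theorem eq_irrDeg_of_re_eq (χ : IrrCharacter G) (g : G)
    (h : ((χ : G → ℂ) g).re = (irrDeg χ : ℝ)) : (χ : G → ℂ) g = (irrDeg χ : ℂ) := by
  have h2 := norm_le_irrDeg χ g
  have h3 : ‖(χ : G → ℂ) g‖ ^ 2 = ((χ : G → ℂ) g).re ^ 2 + ((χ : G → ℂ) g).im ^ 2 := by
    rw [← Complex.normSq_eq_norm_sq, Complex.normSq_apply]; ring
  have h4 : 0 ≤ ‖(χ : G → ℂ) g‖ := norm_nonneg _
  have h5 : (0 : ℝ) ≤ irrDeg χ := Nat.cast_nonneg _
  have h6 : ‖(χ : G → ℂ) g‖ ^ 2 ≤ (irrDeg χ : ℝ) ^ 2 := by nlinarith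
  have him : ((χ : G → ℂ) g).im = 0 := by
    rw [h3, h] at h6
    nlinarith [sq_nonneg ((χ : G → ℂ) g).im]
  apply Complex.ext
  · rw [h]; simp
  · rw [him]; simp

/-- In a simple group an irreducible character which takes a value different from its degree
is faithful. -/
theorem eq_one_of_apply_eq_irrDeg [IsSimpleGroup G] (χ : IrrCharacter G) (x : G)
    (hx : (χ : G → ℂ) x ≠ (irrDeg χ : ℂ)) (g : G) (hg : (χ : G → ℂ) g = (irrDeg χ : ℂ)) :
    g = 1 := by
  have hk : g ∈ charKer χ := by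
    rw [mem_charKer, hg, irrDeg_spec]
  rcases (charKer_normal χ).eq_bot_or_eq_top with h | h
  · rw [h] at hk
    exact Subgroup.mem_bot.mp hk
  · exfalso
    apply hx
    have : x ∈ charKer χ := by rw [h]; exact Subgroup.mem_top x
    rw [mem_charKer] at this
    rw [this, irrDeg_spec]

/-- The sum of an irreducible character over a subgroup is a natural multiple of the order of
the subgroup. -/
theorem exists_sum_subgroup (χ : IrrCharacter G) (H : Subgroup G) [Fintype H] :
    ∃ m : ℕ, ∑ h : H, (χ : G → ℂ) h = (m : ℂ) * (Nat.card H : ℂ) := by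
  obtain ⟨n, ρ, hirr, hχ⟩ := χ.2
  have h1 := classInner_restrict_one_eq_finrank_invariants ρ H
  refine ⟨Module.finrank ℂ (Representation.invariants (ρ.comp H.subtype)), ?_⟩
  rw [← h1]
  unfold classInner
  have hne : (Nat.card H : ℂ) ≠ 0 := by
    have : 0 < Nat.card H := Nat.card_pos
    exact_mod_cast this.ne'
  rw [mul_comm, ← mul_assoc, mul_inv_cancel₀ hne, one_mul]
  refine Finset.sum_congr rfl ?_
  intro h _
  rw [map_one, mul_one, ← hχ]

end Basic

end Cfsg.Agent.Helper15.BrP
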