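import Mathlib
import Cfsg.Agent.Helper15.BrP1
import Cfsg.Agent.Helper24.DefectZero

set_option autoImplicit false

/-!
The principal `p`-block of a perfect group with a Sylow `p`-subgroup of order `p`, packaged with
finsets; restriction of a character to a cyclic subgroup of order `p q`.
-/

namespace Cfsg.Agent.Helper15.BrP

open Cfsg Cfsg.Agent.Helper24 Cfsg.Agent.Helper5 Subgroup

universe u

/-- The shape of the principal block (Brauer), for `t = (p-1)/e ≥ 2` and perfect groups. -/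
structure BData {G : Type u} [Group G] [Finite G] (p : ℕ) (P : Sylow p G) (e : ℕ) where
  X : Finset (IrrCharacter G)
  Y : Finset (IrrCharacter G)
  sg : IrrCharacter G → ℤ
  eps : ℤ
  hX : X.card = e
  hY : Y.card = (p - 1) / e
  hdisj : Disjoint X Y
  htriv : trivIrr G ∈ X
  hsgtriv : sg (trivIrr G) = 1
  hsg : ∀ χ ∈ X, sg χ = 1 ∨ sg χ = -1
  hdegX : ∀ χ ∈ X, (irrDeg χ : ℤ) ≡ sg χ [ZMOD p]
  hval : ∀ χ ∈ X, ∀ x : G, x ∈ (P : Subgroup G) → x ≠ 1 → ∀ y : G,
    y ∈ centralizer ((P : Subgroup G) : Set G) → ¬ p ∣ orderOf y →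
      (χ : G → ℂ) (x * y) = (sg χ : ℂ)
  heps : eps = 1 ∨ eps = -1
  hdegY : ∀ θ ∈ Y, (irrDeg θ : ℤ) ≡ eps * (e : ℤ) [ZMOD p]
  hreg : ∀ θ ∈ Y, ∀ g : G, ¬ p ∣ orderOf g →
    (eps : ℂ) * (θ : G → ℂ) g = ∑ χ ∈ X, (sg χ : ℂ) * (χ : G → ℂ) g

theorem exists_bdata {G : Type u} [Group G] [Finite G] (hperf : commutator G = ⊤) (p : ℕ)
    [hp : Fact p.Prime] (hodd : p ≠ 2) (P : Sylow p G) (hP : Nat.card P = p) (e : ℕ)
    (he : (centralizer ((P : Subgroup G) : Set G)).relIndex
      (normalizer ((P : Subgroup G) : Set G)) = e) (ht : 2 ≤ (p - 1) / e) :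
    Nonempty (BData p P e) := by
  classical
  have : Fintype G := Fintype.ofFinite G
  have : Fintype (IrrCharacter G) := Fintype.ofFinite _
  obtain ⟨M, hM⟩ := exists_isPModular p hp.out
  obtain ⟨X, Y, hB, hdisj, hX, hY, εX, ε, hXp, hε, hYd, hYagree, hYreg⟩ :=
    Cfsg.Agent.S4441.result p M hM hodd P hP e he
  have hXfin : X.Finite := Set.toFinite X
  have hYfin : Y.Finite := Set.toFinite Y
  have hp1 : ¬ p ∣ orderOf (1 : G) := by
    rw [orderOf_one]
    exact hp.out.one_lt.ne' ∘ Nat.dvd_one.mp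
  -- the trivial character lies in `X`
  have htrivB : trivIrr G ∈ principalBlock M G :=
    Cfsg.Agent.Helper5.CC.trivIrr_mem_principalBlock (hM.2.1.isPrime)
  have htrivX : trivIrr G ∈ X := by
    rw [hB] at htrivB
    rcases htrivB with h | h
    · exact h
    · exfalso
      have hYc : 2 ≤ hYfin.toFinset.card := by
        rw [← Set.ncard_eq_toFinset_card Y hYfin, ← Nat.card_coe_set_eq, hY]
        exact ht
      obtain ⟨θ, hθ, hne⟩ : ∃ θ ∈ hYfin.toFinset, θ ≠ trivIrr G := by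
        by_contra hcon
        push Not at hcon
        have : hYfin.toFinset ⊆ {trivIrr G} := fun a ha => Finset.mem_singleton.mpr (hcon a ha)
        have := Finset.card_le_card this
        rw [Finset.card_singleton] at this
        omega
      rw [Set.Finite.mem_toFinset] at hθ
      have h1 := hYagree θ hθ (trivIrr G) h 1 hp1
      rw [trivIrr_apply] at h1
      exact Cfsg.Agent.Helper24.SelfCent.irrDeg_ne_one_of_perfect hperf θ hne ((irrDeg_eq_one_iff θ).mpr h1)
  -- a nonidentity element of `P`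
  obtain ⟨x₀, hx₀, hx₀1⟩ : ∃ x₀ : G, x₀ ∈ (P : Subgroup G) ∧ x₀ ≠ 1 := by
    have h1 : 1 < Nat.card (P : Subgroup G) := by rw [hP]; exact hp.out.one_lt
    have : Nontrivial (P : Subgroup G) := Finite.one_lt_card_iff_nontrivial.mp h1
    obtain ⟨y, hy⟩ := exists_ne (1 : (P : Subgroup G))
    exact ⟨y, y.2, fun h => hy (Subtype.ext h)⟩
  refine ⟨⟨hXfin.toFinset, hYfin.toFinset, εX, ε, ?_, ?_, ?_, ?_, ?_, ?_, ?_, ?_, hε, ?_, ?_⟩⟩
  · rw [← Set.ncard_eq_toFinset_card X hXfin, ← Nat.card_coe_set_eq, hX]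
  · rw [← Set.ncard_eq_toFinset_card Y hYfin, ← Nat.card_coe_set_eq, hY]
  · rw [Finset.disjoint_left]
    intro a ha hb
    rw [Set.Finite.mem_toFinset] at ha hb
    exact Set.disjoint_left.mp hdisj ha hb
  · rw [Set.Finite.mem_toFinset]; exact htrivX
  · have h1 := (hXp (trivIrr G) htrivX).2.2 x₀ hx₀ hx₀1 1 (Subgroup.one_mem _) hp1
    rw [trivIrr_apply] at h1
    exact_mod_cast h1.symm
  · intro χ hχ
    rw [Set.Finite.mem_toFinset] at hχ
    exact (hXp χ hχ).1
  · intro χ hχ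
    rw [Set.Finite.mem_toFinset] at hχ
    have := (hXp χ hχ).2.1
    rwa [charDegree_irr] at this
  · intro χ hχ
    rw [Set.Finite.mem_toFinset] at hχ
    exact (hXp χ hχ).2.2
  · intro θ hθ
    rw [Set.Finite.mem_toFinset] at hθ
    have := hYd θ hθ
    rwa [charDegree_irr] at this
  · intro θ hθ g hg
    rw [Set.Finite.mem_toFinset] at hθ
    rw [hYreg θ hθ g hg, finsum_mem_eq_finite_toFinset_sum _ hXfin]

section Derived

variable {G : Type u} [Group G] [Finite G] {p : ℕ} [hp : Fact p.Prime] {P : Sylow p G} {e : ℕ}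

/-- The degree equation. -/
theorem BData.deg_eq (D : BData p P e) (θ : IrrCharacter G) (hθ : θ ∈ D.Y) :
    D.eps * (irrDeg θ : ℤ) = ∑ χ ∈ D.X, D.sg χ * (irrDeg χ : ℤ) := by
  have hp1 : ¬ p ∣ orderOf (1 : G) := by
    rw [orderOf_one]
    exact hp.out.one_lt.ne' ∘ Nat.dvd_one.mp
  have h := D.hreg θ hθ 1 hp1
  simp only [irrDeg_spec] at h
  exact_mod_cast h

end Derived

section Cyclic

/-- Splitting a sum over `range (p * q)` into blocks of length `p`. -/
theorem sum_range_mul_blocks {M : Type*} [AddCommMonoid M] (f : ℕ → M) (p q : ℕ) :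
    ∑ k ∈ Finset.range (p * q), f k =
      ∑ j ∈ Finset.range q, ∑ i ∈ Finset.range p, f (p * j + i) := by
  induction q with
  | zero => simp
  | succ n ih =>
    rw [Nat.mul_succ, Finset.sum_range_add, ih, Finset.sum_range_succ]

variable {G : Type u} [Group G] [Finite G]

/-- Restriction of an irreducible character to a cyclic group `⟨x y⟩` of order `p q`, when
the values on the elements outside `⟨y⟩` are all equal to `s`. -/
theorem exists_mul_eq_sum_pow (χ : IrrCharacter G) (s : ℂ) (p q : ℕ) (hp : 0 < p)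
    (hpq : Nat.Coprime p q) (x y : G) (hx : orderOf x = p) (hy : orderOf y = q)
    (hc : Commute x y)
    (hval : ∀ k : ℕ, ¬ p ∣ k → (χ : G → ℂ) ((x * y) ^ k) = s) :
    ∃ m : ℕ, ((q * (p - 1) : ℕ) : ℂ) * s + ∑ j ∈ Finset.range q, (χ : G → ℂ) (y ^ (p * j)) =
      (m : ℂ) * ((p * q : ℕ) : ℂ) := by
  classical
  set g := x * y with hg
  have hord : orderOf g = p * q := by
    rw [hg, hc.orderOf_mul_eq_mul_orderOf_of_coprime (by rw [hx, hy]; exact hpq), hx, hy]
  have hfin : IsOfFinOrder g := isOfFinOrder_of_finite g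
  have : Fintype (zpowers g) := Fintype.ofFinite _
  obtain ⟨m, hm⟩ := exists_sum_subgroup χ (zpowers g)
  refine ⟨m, ?_⟩
  rw [Nat.card_zpowers, hord] at hm
  rw [← hm]
  have h1 : ∑ h : zpowers g, (χ : G → ℂ) h = ∑ k : Fin (orderOf g), (χ : G → ℂ) (g ^ (k : ℕ)) := by
    symm
    refine Fintype.sum_equiv (finEquivZPowers hfin) _ _ ?_
    intro k
    rw [finEquivZPowers_apply]
  rw [h1, Fin.sum_univ_eq_sum_range (fun k => (χ : G → ℂ) (g ^ k)) (orderOf g), hord,
    sum_range_mul_blocks]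
  have h2 : ∀ j : ℕ, ∑ i ∈ Finset.range p, (χ : G → ℂ) (g ^ (p * j + i)) =
      (χ : G → ℂ) (y ^ (p * j)) + ((p - 1 : ℕ) : ℂ) * s := by
    intro j
    obtain ⟨p', rfl⟩ : ∃ p', p = p' + 1 := ⟨p - 1, by omega⟩
    rw [Finset.sum_range_succ']
    have h3 : ∀ i ∈ Finset.range p', (χ : G → ℂ) (g ^ ((p' + 1) * j + (i + 1))) = s := by
      intro i hi
      rw [Finset.mem_range] at hi
      apply hval
      intro hdvd
      have h4 : (p' + 1) ∣ i + 1 := (Nat.dvd_add_right (Dvd.intro _ rfl)).mp hdvd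
      have := Nat.le_of_dvd (by omega) h4
      omega
    rw [Finset.sum_congr rfl h3, Finset.sum_const, Finset.card_range, nsmul_eq_mul, add_zero]
    have h5 : g ^ ((p' + 1) * j) = y ^ ((p' + 1) * j) := by
      rw [hg, hc.mul_pow, pow_mul, ← hx, pow_orderOf_eq_one, one_pow, one_mul, hx, pow_mul]
    rw [h5, add_comm]
    simp
  rw [Finset.sum_congr rfl (fun j _ => h2 j), Finset.sum_add_distrib, Finset.sum_const,
    Finset.card_range, nsmul_eq_mul]
  push_cast
  ring

end Cyclic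

end Cfsg.Agent.Helper15.BrP
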