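import Mathlib
import Cfsg.Agent.Helper15.BrP2
import Cfsg.Agent.Helper5.ClassMul
import Cfsg.Agent.Helper8.PrincipalParity

set_option autoImplicit false
set_option linter.unusedSectionVars false

/-!
General tools around the principal block of a group with a Sylow `p`-subgroup of order `p`:
values at elements of the centralizer, the self-centralizing case, class multiplication.
-/

namespace Cfsg.Agent.Helper15.BrP

open Cfsg Cfsg.Agent.Helper24 Cfsg.Agent.Helper5 Cfsg.Agent.Helper5.CC Subgroup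
  Cfsg.Agent.Helper24.SelfCent Cfsg.Agent.Helper5.ClassMul

universe u

section Gen

variable {G : Type u} [Group G] [Finite G] {p : ℕ} [hp : Fact p.Prime]

/-- A generator of a Sylow `p`-subgroup of order `p`. -/
theorem exists_gen (P : Sylow p G) (hP : Nat.card (P : Subgroup G) = p) :
    ∃ x : G, x ∈ (P : Subgroup G) ∧ orderOf x = p := by
  have h1 : 1 < Nat.card (P : Subgroup G) := by rw [hP]; exact hp.out.one_lt
  have : Nontrivial (P : Subgroup G) := Finite.one_lt_card_iff_nontrivial.mp h1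
  obtain ⟨y, hy⟩ := exists_ne (1 : (P : Subgroup G))
  refine ⟨y, y.2, ?_⟩
  have h2 : orderOf y ∣ p := by
    have := orderOf_dvd_natCard y
    rwa [hP] at this
  have h3 : orderOf y ≠ 1 := fun h => hy (orderOf_eq_one_iff.mp h)
  rw [← Subgroup.orderOf_coe] at h2 h3
  rcases (Nat.dvd_prime hp.out).mp h2 with h | h
  · exact absurd h h3
  · exact h

/-- An element of prime order `q` in the centralizer of `P`. -/
theorem exists_centralizer_orderOf (P : Sylow p G) (q : ℕ) [Fact q.Prime]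
    (hq : q ∣ Nat.card (centralizer ((P : Subgroup G) : Set G))) :
    ∃ y : G, y ∈ centralizer ((P : Subgroup G) : Set G) ∧ orderOf y = q := by
  obtain ⟨y, hy⟩ := exists_prime_orderOf_dvd_card' q hq
  exact ⟨y, y.2, by rw [← hy, Subgroup.orderOf_coe]⟩

/-- Values on `(x y)^k`, `p ∤ k`, of a character which is constant `s` on the `p`-singular
elements of `C(P)`. -/
theorem val_pow_raw {P : Sylow p G} (χ : IrrCharacter G) (s : ℤ)
    (hvalχ : ∀ x : G, x ∈ (P : Subgroup G) → x ≠ 1 → ∀ y : G,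
      y ∈ centralizer ((P : Subgroup G) : Set G) → ¬ p ∣ orderOf y →
        (χ : G → ℂ) (x * y) = (s : ℂ))
    (x y : G) (hxP : x ∈ (P : Subgroup G)) (hx : orderOf x = p)
    (hyC : y ∈ centralizer ((P : Subgroup G) : Set G)) (q : ℕ) (hy : orderOf y = q)
    (hqp : ¬ p ∣ q) (k : ℕ) (hk : ¬ p ∣ k) :
    (χ : G → ℂ) ((x * y) ^ k) = (s : ℂ) := by
  have hc : Commute x y := (Subgroup.mem_centralizer_iff.mp hyC) x hxP
  rw [hc.mul_pow]
  apply hvalχ (x ^ k) (Subgroup.pow_mem _ hxP k)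
  · intro h
    apply hk
    rw [← hx]
    exact orderOf_dvd_of_pow_eq_one h
  · exact Subgroup.pow_mem _ hyC k
  · intro h
    apply hqp
    have h1 : orderOf (y ^ k) ∣ orderOf y := orderOf_pow_dvd k
    rw [hy] at h1
    exact h.trans h1

theorem val_gen_raw {P : Sylow p G} (χ : IrrCharacter G) (s : ℤ)
    (hvalχ : ∀ x : G, x ∈ (P : Subgroup G) → x ≠ 1 → ∀ y : G,
      y ∈ centralizer ((P : Subgroup G) : Set G) → ¬ p ∣ orderOf y →
        (χ : G → ℂ) (x * y) = (s : ℂ))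
    (x : G) (hxP : x ∈ (P : Subgroup G)) (hx1 : x ≠ 1) : (χ : G → ℂ) x = (s : ℂ) := by
  have h3 := hvalχ x hxP hx1 1 (Subgroup.one_mem _)
    (by rw [orderOf_one]; exact hp.out.one_lt.ne' ∘ Nat.dvd_one.mp)
  rwa [mul_one] at h3

/-- Values of a character in `X` on `(x y)^k`, `p ∤ k`. -/
theorem val_pow {e : ℕ} {P : Sylow p G} (D : BData p P e) (χ : IrrCharacter G) (hχ : χ ∈ D.X)
    (x y : G) (hxP : x ∈ (P : Subgroup G)) (hx : orderOf x = p)
    (hyC : y ∈ centralizer ((P : Subgroup G) : Set G)) (q : ℕ) (hy : orderOf y = q)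
    (hqp : ¬ p ∣ q) (k : ℕ) (hk : ¬ p ∣ k) :
    (χ : G → ℂ) ((x * y) ^ k) = (D.sg χ : ℂ) :=
  val_pow_raw χ (D.sg χ) (D.hval χ hχ) x y hxP hx hyC q hy hqp k hk

/-- The value at a nonidentity element of `P` of a character in `X`. -/
theorem val_gen {e : ℕ} {P : Sylow p G} (D : BData p P e) (χ : IrrCharacter G) (hχ : χ ∈ D.X)
    (x : G) (hxP : x ∈ (P : Subgroup G)) (hx1 : x ≠ 1) : (χ : G → ℂ) x = (D.sg χ : ℂ) :=
  val_gen_raw χ (D.sg χ) (D.hval χ hχ) x hxP hx1

/-- A character of degree `p - 1` which is `-1` on the `p`-singular elements of `C(P)` is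
impossible in a simple group when `C(P) ≠ P`. -/
theorem kill_minus_raw [IsSimpleGroup G] (hp2 : p ≠ 2) (P : Sylow p G)
    (hP : Nat.card (P : Subgroup G) = p) (χ : IrrCharacter G)
    (hvalχ : ∀ x : G, x ∈ (P : Subgroup G) → x ≠ 1 → ∀ y : G,
      y ∈ centralizer ((P : Subgroup G) : Set G) → ¬ p ∣ orderOf y →
        (χ : G → ℂ) (x * y) = ((-1 : ℤ) : ℂ))
    (hdeg : irrDeg χ = p - 1) (y : G) (hyC : y ∈ centralizer ((P : Subgroup G) : Set G)) (q : ℕ)
    (hq : q.Prime) (hqp : q ≠ p) (hy : orderOf y = q) : False := by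
  have hp3 : 3 ≤ p := by
    have := hp.out.two_le
    omega
  obtain ⟨x, hxP, hx⟩ := exists_gen P hP
  have hx1 : x ≠ 1 := by
    intro h; rw [h, orderOf_one] at hx; omega
  have hc : Commute x y := (Subgroup.mem_centralizer_iff.mp hyC) x hxP
  have hpq : ¬ p ∣ q := fun h => hqp ((Nat.prime_dvd_prime_iff_eq hp.out hq).mp h).symm
  have hcop : Nat.Coprime p q := (Nat.Prime.coprime_iff_not_dvd hp.out).mpr hpq
  obtain ⟨m, hm⟩ := exists_mul_eq_sum_pow χ (((-1 : ℤ)) : ℂ) p q hp.out.pos hcop x y hx hy hc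
    (fun k hk => val_pow_raw χ (-1) hvalχ x y hxP hx hyC q hy hpq k hk)
  have hre := congrArg Complex.re hm
  simp only [Complex.add_re, Complex.re_sum] at hre
  have h1 : (((q * (p - 1) : ℕ) : ℂ) * (((-1 : ℤ)) : ℂ)).re = -((q : ℝ) * ((p - 1 : ℕ) : ℝ)) := by
    push_cast
    simp
  have h2 : ((m : ℂ) * ((p * q : ℕ) : ℂ)).re = (m : ℝ) * ((p : ℝ) * (q : ℝ)) := by
    push_cast
    simp
  rw [h1, h2] at hre
  have hle : ∀ j ∈ Finset.range q, ((χ : G → ℂ) (y ^ (p * j))).re ≤ ((p - 1 : ℕ) : ℝ) := by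
    intro j _
    have := re_le_irrDeg χ (y ^ (p * j))
    rwa [hdeg] at this
  have hsum_le : ∑ j ∈ Finset.range q, ((χ : G → ℂ) (y ^ (p * j))).re ≤
      ∑ _j ∈ Finset.range q, ((p - 1 : ℕ) : ℝ) := Finset.sum_le_sum hle
  rw [Finset.sum_const, Finset.card_range, nsmul_eq_mul] at hsum_le
  have hq0 : (0 : ℝ) < q := by exact_mod_cast hq.pos
  have hp0 : (0 : ℝ) < p := by exact_mod_cast hp.out.pos
  have hm0 : (m : ℝ) * ((p : ℝ) * (q : ℝ)) ≤ 0 := by linarith
  have hm0' : m = 0 := by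
    by_contra hne
    have h3 : (1 : ℝ) ≤ m := by exact_mod_cast Nat.one_le_iff_ne_zero.mpr hne
    have h4 : 0 < (p : ℝ) * (q : ℝ) := mul_pos hp0 hq0
    nlinarith
  rw [hm0'] at hre
  have hsum_eq : ∑ j ∈ Finset.range q, ((χ : G → ℂ) (y ^ (p * j))).re =
      ∑ _j ∈ Finset.range q, ((p - 1 : ℕ) : ℝ) := by
    rw [Finset.sum_const, Finset.card_range, nsmul_eq_mul]
    push_cast at hre ⊢
    linarith
  have hall := (Finset.sum_eq_sum_iff_of_le hle).mp hsum_eq
  have h1q : 1 ∈ Finset.range q := Finset.mem_range.mpr hq.one_lt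
  have hyp := hall 1 h1q
  rw [mul_one] at hyp
  have hyp' : (χ : G → ℂ) (y ^ p) = (irrDeg χ : ℂ) := by
    apply eq_irrDeg_of_re_eq
    rw [hyp, hdeg]
  have hxval : (χ : G → ℂ) x ≠ (irrDeg χ : ℂ) := by
    rw [val_gen_raw χ (-1) hvalχ x hxP hx1, hdeg]
    intro h
    have h5 : ((-1 : ℤ) : ℂ) = (((p - 1 : ℕ) : ℤ) : ℂ) := by
      rw [h]; push_cast; rfl
    have h6 : (-1 : ℤ) = ((p - 1 : ℕ) : ℤ) := by exact_mod_cast h5
    omega
  have hyp1 := eq_one_of_apply_eq_irrDeg χ x hxval (y ^ p) hyp'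
  have := orderOf_dvd_of_pow_eq_one hyp1
  rw [hy] at this
  exact hqp ((Nat.prime_dvd_prime_iff_eq hq hp.out).mp this)

/-- A character in `X` of degree `p - 1` with sign `-1` is impossible in a simple group when
`C(P) ≠ P`. -/
theorem kill_minus [IsSimpleGroup G] (hp2 : p ≠ 2) (P : Sylow p G)
    (hP : Nat.card (P : Subgroup G) = p) {e : ℕ}
    (D : BData p P e) (χ : IrrCharacter G) (hχ : χ ∈ D.X) (hdeg : irrDeg χ = p - 1)
    (hsg : D.sg χ = -1) (y : G) (hyC : y ∈ centralizer ((P : Subgroup G) : Set G)) (q : ℕ)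
    (hq : q.Prime) (hqp : q ≠ p) (hy : orderOf y = q) : False := by
  have hv := D.hval χ hχ
  rw [hsg] at hv
  exact kill_minus_raw hp2 P hP χ hv hdeg y hyC q hq hqp hy

/-- The value at an involution of `C(P)` of a character which is constant `s` on the
`p`-singular elements of `C(P)`. -/
theorem involution_val_raw (hp2 : p ≠ 2) (P : Sylow p G) (hP : Nat.card (P : Subgroup G) = p)
    (χ : IrrCharacter G) (s : ℤ)
    (hvalχ : ∀ x : G, x ∈ (P : Subgroup G) → x ≠ 1 → ∀ y : G,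
      y ∈ centralizer ((P : Subgroup G) : Set G) → ¬ p ∣ orderOf y →
        (χ : G → ℂ) (x * y) = (s : ℂ)) (y : G)
    (hyC : y ∈ centralizer ((P : Subgroup G) : Set G)) (hy : orderOf y = 2) :
    ∃ m : ℕ, (χ : G → ℂ) y =
      (((2 * p * m : ℕ) : ℤ) - (irrDeg χ : ℤ) - 2 * ((p - 1 : ℕ) : ℤ) * s : ℤ) := by
  obtain ⟨x, hxP, hx⟩ := exists_gen P hP
  have hc : Commute x y := (Subgroup.mem_centralizer_iff.mp hyC) x hxP
  have hodd : Odd p := hp.out.odd_of_ne_two hp2
  have hp2' : ¬ p ∣ 2 := by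
    intro h
    have := Nat.le_of_dvd (by norm_num) h
    have := hp.out.two_le
    omega
  have hcop : Nat.Coprime p 2 := (Nat.Prime.coprime_iff_not_dvd hp.out).mpr hp2'
  have hyp : y ^ p = y := by
    obtain ⟨k, hk⟩ := hodd
    have h2 : y ^ 2 = 1 := by rw [← hy]; exact pow_orderOf_eq_one y
    rw [hk, pow_succ, pow_mul, h2, one_pow, one_mul]
  obtain ⟨m, hm⟩ := exists_mul_eq_sum_pow χ ((s : ℤ) : ℂ) p 2 hp.out.pos hcop x y hx hy hc
    (fun k hk => val_pow_raw χ s hvalχ x y hxP hx hyC 2 hy hp2' k hk)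
  rw [Finset.sum_range_succ, Finset.sum_range_one, mul_zero, pow_zero, mul_one, hyp,
    irrDeg_spec] at hm
  refine ⟨m, ?_⟩
  push_cast at hm ⊢
  linear_combination hm

/-- The value of a character in `X` at an involution of `C(P)`. -/
theorem involution_val (hp2 : p ≠ 2) (P : Sylow p G) (hP : Nat.card (P : Subgroup G) = p)
    {e : ℕ} (D : BData p P e) (χ : IrrCharacter G) (hχ : χ ∈ D.X) (y : G)
    (hyC : y ∈ centralizer ((P : Subgroup G) : Set G)) (hy : orderOf y = 2) :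
    ∃ m : ℕ, (χ : G → ℂ) y =
      (((2 * p * m : ℕ) : ℤ) - (irrDeg χ : ℤ) - 2 * ((p - 1 : ℕ) : ℤ) * D.sg χ : ℤ) :=
  involution_val_raw hp2 P hP χ (D.sg χ) (D.hval χ hχ) y hyC hy

end Gen

section ClassMul

variable {G : Type u} [Group G] [Fintype G] [Fintype (IrrCharacter G)]

/-- The class multiplication formula for two elements of the same class. -/
theorem card_factorizations (t x : G) :
    (Nat.card {a : G // IsConj t a ∧ IsConj t (a⁻¹ * x)} : ℂ) * (Nat.card G : ℂ) =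
      ((centralizer ({t} : Set G)).index : ℂ) ^ 2 *
        ∑ ψ : IrrCharacter G, (ψ : G → ℂ) t ^ 2 * (starRingEnd ℂ) ((ψ : G → ℂ) x) /
          (ψ : G → ℂ) 1 := by
  have hG : (Nat.card G : ℂ) ≠ 0 := by
    have : 0 < Nat.card G := Nat.card_pos
    exact_mod_cast this.ne'
  rw [← conv_classIndicator_apply, conv_classIndicator_eq, mul_comm, ← mul_assoc,
    mul_inv_cancel₀ hG, one_mul, Finset.mul_sum]
  refine Finset.sum_congr rfl ?_
  intro ψ _
  have h1 : (ψ : G → ℂ) 1 ≠ 0 := by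
    rw [irrDeg_spec]
    have := irrDeg_pos ψ
    exact_mod_cast this.ne'
  rw [centralChar_def]
  field_simp

end ClassMul

end Cfsg.Agent.Helper15.BrP
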