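import Mathlib
import Cfsg.Agent.Helper15.BrP3

set_option autoImplicit false
set_option linter.unusedSectionVars false
set_option maxHeartbeats 1000000

/-!
The self-centralizing case `C(P) = P`: characters outside the principal block vanish on `P^#`,
and the class multiplication formula at a generator of `P`.
-/

namespace Cfsg.Agent.Helper15.BrP

open Cfsg Cfsg.Agent.Helper24 Cfsg.Agent.Helper5 Cfsg.Agent.Helper5.CC Subgroup
  Cfsg.Agent.Helper24.SelfCent Cfsg.Agent.Helper5.ClassMul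

universe u

variable {G : Type u} [Group G] [Finite G] {p : ℕ} [hp : Fact p.Prime]

/-- If `C(P) = P`, the irreducible characters outside the principal block vanish on `P^#` and
have degree divisible by `p`. -/
theorem vanish_of_selfCentralizing (P : Sylow p G) (hP : Nat.card (P : Subgroup G) = p) {e : ℕ}
    (D : BData p P e) (hC : Nat.card (centralizer ((P : Subgroup G) : Set G)) = p)
    (hN : Nat.card (normalizer ((P : Subgroup G) : Set G)) = p * e) (t : ℕ)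
    (ht : t * e + 1 = p) (ht2 : 2 ≤ t)
    (hnum : ∀ a : ℤ, a ^ 2 ≤ e → ∀ s : ℤ, (s = 1 ∨ s = -1) → ¬ (a ≡ s * (e : ℤ) [ZMOD p])) :
    ∀ ψ : IrrCharacter G, ψ ∉ D.X → ψ ∉ D.Y →
      (∀ x : G, x ∈ (P : Subgroup G) → x ≠ 1 → (ψ : G → ℂ) x = 0) ∧ p ∣ irrDeg ψ := by
  classical
  have : Fintype G := Fintype.ofFinite G
  have : Fintype (IrrCharacter G) := Fintype.ofFinite _
  obtain ⟨x, hxP, hx⟩ := exists_gen P hP
  have hx1 : x ≠ 1 := by
    intro h; rw [h, orderOf_one] at hx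
    exact hp.out.one_lt.ne hx
  obtain ⟨ε', c, d, T, a, hε', hTcard, -, -, -, hdegN, hvalN, hO1, -⟩ :=
    brauer_degree_equation (P : Subgroup G) (hab_of_card_prime (P : Subgroup G) p hP)
      (hTI_of_card_prime (P : Subgroup G) p hP) (hcent_of_card_prime (P : Subgroup G) p hP hC)
      e t (by rw [hN, hP]) (by rw [hP]; exact ht) ht2
  rw [hP] at hdegN
  have hsum_le : ∑ ψ ∈ Tᶜ, a ψ ^ 2 ≤ e := by
    rw [hO1]
    have h1 : c ≤ c ^ 2 := Int.le_self_sq c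
    have h2 : -c ≤ c ^ 2 := by
      have := Int.le_self_sq (-c)
      simpa using this
    have h3 : (2 : ℤ) ≤ t := by exact_mod_cast ht2
    have h4 : 0 ≤ c ^ 2 := sq_nonneg c
    rcases hε' with rfl | rfl <;> nlinarith
  have ha_le : ∀ ψ ∈ Tᶜ, a ψ ^ 2 ≤ e := by
    intro ψ hψ
    exact (Finset.single_le_sum (f := fun ψ => a ψ ^ 2) (fun i _ => sq_nonneg (a i)) hψ).trans
      hsum_le
  have hYT : D.Y ⊆ T := by
    intro θ hθ
    by_contra hθT
    obtain ⟨k, hk⟩ := hdegN θ hθT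
    have h1 := ha_le θ (Finset.mem_compl.mpr hθT)
    apply hnum (a θ) h1 D.eps D.heps
    have h2 := D.hdegY θ hθ
    rw [hk] at h2
    have h3 : a θ + (k : ℤ) * (p : ℤ) ≡ a θ [ZMOD p] := by
      have : ((k : ℤ) * (p : ℤ)) ≡ 0 [ZMOD p] := by
        rw [Int.modEq_zero_iff_dvd]; exact Dvd.intro_left _ rfl
      simpa using (Int.ModEq.refl (a θ)).add this
    exact h3.symm.trans h2
  have htY : D.Y.card = t := by
    rw [D.hY, ← ht, Nat.add_sub_cancel]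
    exact Nat.mul_div_cancel t (by
      rcases Nat.eq_zero_or_pos e with h | h
      · rw [h, mul_zero] at ht
        have := hp.out.one_lt
        omega
      · exact h)
  have hYeqT : D.Y = T := Finset.eq_of_subset_of_card_le hYT (by rw [hTcard, htY])
  have hXT : D.X ⊆ Tᶜ := by
    intro χ hχ
    rw [Finset.mem_compl, ← hYeqT]
    exact Finset.disjoint_left.mp D.hdisj hχ
  have haX : ∀ χ ∈ D.X, a χ ^ 2 = 1 := by
    intro χ hχ
    have hχT : χ ∉ T := Finset.mem_compl.mp (hXT hχ)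
    have h1 := hvalN χ hχT x hxP hx1
    rw [val_gen D χ hχ x hxP hx1] at h1
    have h2 : D.sg χ = a χ := by exact_mod_cast h1
    rw [← h2]
    rcases D.hsg χ hχ with h | h <;> rw [h] <;> norm_num
  have hsplit := Finset.sum_sdiff (f := fun ψ => a ψ ^ 2) hXT
  rw [Finset.sum_congr rfl haX, Finset.sum_const, D.hX] at hsplit
  have hrest : ∑ ψ ∈ Tᶜ \ D.X, a ψ ^ 2 ≤ 0 := by
    rw [nsmul_eq_mul, mul_one] at hsplit
    linarith
  intro ψ hψX hψY
  have hψT : ψ ∉ T := by rw [← hYeqT]; exact hψY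
  have hmem : ψ ∈ Tᶜ \ D.X := Finset.mem_sdiff.mpr ⟨Finset.mem_compl.mpr hψT, hψX⟩
  have h1 := Finset.single_le_sum (f := fun ψ => a ψ ^ 2) (fun i _ => sq_nonneg (a i)) hmem
  have h2 : a ψ ^ 2 ≤ 0 := by
    have : (fun ψ => a ψ ^ 2) ψ = a ψ ^ 2 := rfl
    linarith
  have ha0 : a ψ = 0 := pow_eq_zero_iff (two_ne_zero) |>.mp (le_antisymm h2 (sq_nonneg _))
  refine ⟨?_, ?_⟩
  · intro z hz hz1
    rw [hvalN ψ hψT z hz hz1, ha0]
    norm_num
  · obtain ⟨k, hk⟩ := hdegN ψ hψT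
    rw [ha0, zero_add] at hk
    have : irrDeg ψ = k * p := by exact_mod_cast hk
    rw [this]
    exact Dvd.intro_left _ rfl

/-- The class multiplication formula at a nonidentity element `x` of `P` for a `p`-regular
element `t`, when the characters outside the principal block vanish at `x`. -/
theorem classmul_selfCentralizing (P : Sylow p G) {e : ℕ} (D : BData p P e)
    (x : G) (hxP : x ∈ (P : Subgroup G)) (hx1 : x ≠ 1)
    (hvan : ∀ ψ : IrrCharacter G, ψ ∉ D.X → ψ ∉ D.Y → (ψ : G → ℂ) x = 0)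
    (d : ℕ) (hd : ∀ θ ∈ D.Y, irrDeg θ = d) (hYne : D.Y.Nonempty)
    (t : G) (ht : ¬ p ∣ orderOf t) :
    (Nat.card {a : G // IsConj t a ∧ IsConj t (a⁻¹ * x)} : ℂ) * (Nat.card G : ℂ) =
      ((centralizer ({t} : Set G)).index : ℂ) ^ 2 *
        (∑ χ ∈ D.X, (D.sg χ : ℂ) * (χ : G → ℂ) t ^ 2 / (irrDeg χ : ℂ) -
          (D.eps : ℂ) * (∑ χ ∈ D.X, (D.sg χ : ℂ) * (χ : G → ℂ) t) ^ 2 / (d : ℂ)) := by
  classical
  have : Fintype G := Fintype.ofFinite G
  have : Fintype (IrrCharacter G) := Fintype.ofFinite _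
  obtain ⟨θ₀, hθ₀⟩ := hYne
  have hd0 : (d : ℂ) ≠ 0 := by
    have := irrDeg_pos θ₀
    rw [hd θ₀ hθ₀] at this
    exact_mod_cast this.ne'
  have heps2 : (D.eps : ℂ) * (D.eps : ℂ) = 1 := by
    rcases D.heps with h | h <;> rw [h] <;> norm_num
  have hvan' : ∀ ψ ∈ (D.X ∪ D.Y)ᶜ, (ψ : G → ℂ) x = 0 := by
    intro ψ hψ
    rw [Finset.mem_compl, Finset.mem_union, not_or] at hψ
    exact hvan ψ hψ.1 hψ.2
  -- the sum over `Y` of the conjugate values at `x`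
  have hcol := sum_irr_mul_conj (1 : G) x
  rw [if_neg (by rw [isConj_one_right]; exact hx1)] at hcol
  rw [← Finset.sum_add_sum_compl (D.X ∪ D.Y), Finset.sum_union D.hdisj] at hcol
  have hrestcol : ∑ ψ ∈ (D.X ∪ D.Y)ᶜ, (ψ : G → ℂ) 1 * (starRingEnd ℂ) ((ψ : G → ℂ) x) = 0 := by
    apply Finset.sum_eq_zero
    intro ψ hψ
    rw [hvan' ψ hψ, map_zero, mul_zero]
  have hXcol : ∑ χ ∈ D.X, (χ : G → ℂ) 1 * (starRingEnd ℂ) ((χ : G → ℂ) x) =
      ((D.eps * (d : ℤ) : ℤ) : ℂ) := by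
    have h1 := D.deg_eq θ₀ hθ₀
    rw [hd θ₀ hθ₀] at h1
    rw [h1]
    push_cast
    refine Finset.sum_congr rfl ?_
    intro χ hχ
    rw [val_gen D χ hχ x hxP hx1, irrDeg_spec, map_intCast, mul_comm]
  have hYcol : ∑ θ ∈ D.Y, (θ : G → ℂ) 1 * (starRingEnd ℂ) ((θ : G → ℂ) x) =
      (d : ℂ) * ∑ θ ∈ D.Y, (starRingEnd ℂ) ((θ : G → ℂ) x) := by
    rw [Finset.mul_sum]
    refine Finset.sum_congr rfl ?_
    intro θ hθ
    rw [irrDeg_spec, hd θ hθ]
  rw [hXcol, hYcol, hrestcol, add_zero] at hcol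
  have hS : ∑ θ ∈ D.Y, (starRingEnd ℂ) ((θ : G → ℂ) x) = -(D.eps : ℂ) := by
    push_cast at hcol
    have h2 : (d : ℂ) * (∑ θ ∈ D.Y, (starRingEnd ℂ) ((θ : G → ℂ) x) + (D.eps : ℂ)) = 0 := by
      linear_combination hcol
    rcases mul_eq_zero.mp h2 with h3 | h3
    · exact absurd h3 hd0
    · linear_combination h3
  -- class multiplication
  rw [card_factorizations t x]
  congr 1
  rw [← Finset.sum_add_sum_compl (D.X ∪ D.Y), Finset.sum_union D.hdisj]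
  have hrest : ∑ ψ ∈ (D.X ∪ D.Y)ᶜ, (ψ : G → ℂ) t ^ 2 * (starRingEnd ℂ) ((ψ : G → ℂ) x) /
      (ψ : G → ℂ) 1 = 0 := by
    apply Finset.sum_eq_zero
    intro ψ hψ
    rw [hvan' ψ hψ, map_zero, mul_zero, zero_div]
  have hXpart : ∑ χ ∈ D.X, (χ : G → ℂ) t ^ 2 * (starRingEnd ℂ) ((χ : G → ℂ) x) /
      (χ : G → ℂ) 1 = ∑ χ ∈ D.X, (D.sg χ : ℂ) * (χ : G → ℂ) t ^ 2 / (irrDeg χ : ℂ) := by
    refine Finset.sum_congr rfl ?_
    intro χ hχ
    rw [val_gen D χ hχ x hxP hx1, irrDeg_spec, map_intCast, mul_comm]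
  have hYval : ∀ θ ∈ D.Y, (θ : G → ℂ) t =
      (D.eps : ℂ) * ∑ χ ∈ D.X, (D.sg χ : ℂ) * (χ : G → ℂ) t := by
    intro θ hθ
    rw [← D.hreg θ hθ t ht, ← mul_assoc, heps2, one_mul]
  have hYpart : ∑ θ ∈ D.Y, (θ : G → ℂ) t ^ 2 * (starRingEnd ℂ) ((θ : G → ℂ) x) /
      (θ : G → ℂ) 1 =
      (∑ χ ∈ D.X, (D.sg χ : ℂ) * (χ : G → ℂ) t) ^ 2 / (d : ℂ) *
        ∑ θ ∈ D.Y, (starRingEnd ℂ) ((θ : G → ℂ) x) := by
    rw [Finset.mul_sum]
    refine Finset.sum_congr rfl ?_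
    intro θ hθ
    rw [hYval θ hθ, irrDeg_spec, hd θ hθ, mul_pow, sq (D.eps : ℂ), heps2, one_mul]
    ring
  rw [hrest, hXpart, hYpart, hS, add_zero]
  ring

end Cfsg.Agent.Helper15.BrP
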