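import Mathlib
import Cfsg.Agent.Helper15.BrP4
import Cfsg.Agent.Helper5.BlockOrth

set_option autoImplicit false
set_option linter.unusedSectionVars false
set_option maxHeartbeats 1000000

/-!
The principal block for `e = p - 1` (one exceptional character): all `p` characters of the
block have values `±1` on the `p`-singular elements of `C(P)`.
-/

namespace Cfsg.Agent.Helper15.BrP

open Cfsg Cfsg.Agent.Helper24 Cfsg.Agent.Helper5 Cfsg.Agent.Helper5.CC Subgroup

universe u

/-- The shape of the principal block for `e = p - 1`. -/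
structure BFull {G : Type u} [Group G] [Finite G] (p : ℕ) (P : Sylow p G) where
  B : Finset (IrrCharacter G)
  sg : IrrCharacter G → ℤ
  hB : B.card = p
  htriv : trivIrr G ∈ B
  hsgtriv : sg (trivIrr G) = 1
  hsg : ∀ χ ∈ B, sg χ = 1 ∨ sg χ = -1
  hdeg : ∀ χ ∈ B, (irrDeg χ : ℤ) ≡ sg χ [ZMOD p]
  hval : ∀ χ ∈ B, ∀ x : G, x ∈ (P : Subgroup G) → x ≠ 1 → ∀ y : G,
    y ∈ centralizer ((P : Subgroup G) : Set G) → ¬ p ∣ orderOf y →
      (χ : G → ℂ) (x * y) = (sg χ : ℂ)
  hreg : ∀ g : G, ¬ p ∣ orderOf g → ∑ χ ∈ B, (sg χ : ℂ) * (χ : G → ℂ) g = 0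

theorem exists_bfull {G : Type u} [Group G] [Finite G] (p : ℕ)
    [hp : Fact p.Prime] (hodd : p ≠ 2) (P : Sylow p G) (hP : Nat.card P = p)
    (he : (centralizer ((P : Subgroup G) : Set G)).relIndex
      (normalizer ((P : Subgroup G) : Set G)) = p - 1) :
    Nonempty (BFull p P) := by
  classical
  have : Fintype G := Fintype.ofFinite G
  have : Fintype (IrrCharacter G) := Fintype.ofFinite _
  obtain ⟨M, hM⟩ := exists_isPModular p hp.out
  obtain ⟨X, Y, hB, hdisj, hX, hY, εX, ε, hXp, hε, hYd, -, hYreg⟩ :=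
    Cfsg.Agent.S4441.result p M hM hodd P hP (p - 1) he
  have hp2 : 2 ≤ p := hp.out.two_le
  have hXfin : X.Finite := Set.toFinite X
  have hYfin : Y.Finite := Set.toFinite Y
  have hp1 : ¬ p ∣ orderOf (1 : G) := by
    rw [orderOf_one]
    exact hp.out.one_lt.ne' ∘ Nat.dvd_one.mp
  have hYcard : hYfin.toFinset.card = 1 := by
    rw [← Set.ncard_eq_toFinset_card Y hYfin, ← Nat.card_coe_set_eq, hY]
    exact Nat.div_self (by omega)
  obtain ⟨θ, hθY⟩ := Finset.card_eq_one.mp hYcard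
  have hθ : θ ∈ Y := by
    have : θ ∈ hYfin.toFinset := by rw [hθY]; exact Finset.mem_singleton_self θ
    exact (Set.Finite.mem_toFinset hYfin).mp this
  have hYonly : ∀ ψ ∈ Y, ψ = θ := by
    intro ψ hψ
    have : ψ ∈ hYfin.toFinset := (Set.Finite.mem_toFinset hYfin).mpr hψ
    rw [hθY] at this
    exact Finset.mem_singleton.mp this
  have hθX : θ ∉ X := fun h => Set.disjoint_left.mp hdisj h hθ
  have hXcard : hXfin.toFinset.card = p - 1 := by
    rw [← Set.ncard_eq_toFinset_card X hXfin, ← Nat.card_coe_set_eq, hX]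
  set Xf := hXfin.toFinset with hXf
  have hθXf : θ ∉ Xf := fun h => hθX ((Set.Finite.mem_toFinset hXfin).mp h)
  have hmemXf : ∀ χ, χ ∈ Xf ↔ χ ∈ X := fun χ => Set.Finite.mem_toFinset hXfin
  -- the relation on p-regular elements
  have hregX : ∀ g : G, ¬ p ∣ orderOf g →
      (ε : ℂ) * (θ : G → ℂ) g = ∑ χ ∈ Xf, (εX χ : ℂ) * (χ : G → ℂ) g := by
    intro g hg
    rw [hYreg θ hθ g hg, finsum_mem_eq_finite_toFinset_sum _ hXfin]
  have hε2 : (ε : ℂ) * (ε : ℂ) = 1 := by
    rcases hε with h | h <;> rw [h] <;> norm_num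
  -- the principal block as a decidable set
  have hBlock : IsPBlock M (principalBlock M G) := isPBlock_principalBlock
  have hmemB : ∀ χ : IrrCharacter G, χ ∈ principalBlock M G ↔ χ ∈ Xf ∨ χ = θ := by
    intro χ
    rw [hB, Set.mem_union, hmemXf]
    constructor
    · rintro (h | h)
      · exact Or.inl h
      · exact Or.inr (hYonly χ h)
    · rintro (h | h)
      · exact Or.inl h
      · exact Or.inr (h ▸ hθ)
  -- the value of θ on p-singular elements of C(P)
  have hθval : ∀ x : G, x ∈ (P : Subgroup G) → x ≠ 1 → ∀ y : G,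
      y ∈ centralizer ((P : Subgroup G) : Set G) → ¬ p ∣ orderOf y →
        (θ : G → ℂ) (x * y) = ((-ε : ℤ) : ℂ) := by
    intro x hxP hx1 y hyC hy
    have hxord : orderOf x = p := by
      have h2 : orderOf x ∣ p := by
        have := orderOf_dvd_natCard (⟨x, hxP⟩ : (P : Subgroup G))
        rw [hP, Subgroup.orderOf_mk] at this
        exact this
      rcases (Nat.dvd_prime hp.out).mp h2 with h | h
      · exact absurd (orderOf_eq_one_iff.mp h) hx1
      · exact h
    have hc : Commute x y := (Subgroup.mem_centralizer_iff.mp hyC) x hxP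
    have hcop : Nat.Coprime (orderOf x) (orderOf y) := by
      rw [hxord]; exact (Nat.Prime.coprime_iff_not_dvd hp.out).mpr hy
    have hsing : p ∣ orderOf (x * y) := by
      rw [hc.orderOf_mul_eq_mul_orderOf_of_coprime hcop, hxord]
      exact Dvd.intro _ rfl
    have hbo := block_orthogonality hM hBlock (1 : G) (x * y) hp1 hsing
    have hsplit : ∑ χ : IrrCharacter G, (if χ ∈ principalBlock M G then (1 : ℂ) else 0) *
        ((χ : G → ℂ) 1 * (starRingEnd ℂ) ((χ : G → ℂ) (x * y))) =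
        ∑ χ ∈ Xf, (χ : G → ℂ) 1 * (starRingEnd ℂ) ((χ : G → ℂ) (x * y)) +
          (θ : G → ℂ) 1 * (starRingEnd ℂ) ((θ : G → ℂ) (x * y)) := by
      rw [← Finset.sum_add_sum_compl (insert θ Xf), Finset.sum_insert hθXf]
      have h0 : ∑ χ ∈ (insert θ Xf)ᶜ, (if χ ∈ principalBlock M G then (1 : ℂ) else 0) *
          ((χ : G → ℂ) 1 * (starRingEnd ℂ) ((χ : G → ℂ) (x * y))) = 0 := by
        apply Finset.sum_eq_zero
        intro χ hχ
        rw [Finset.mem_compl, Finset.mem_insert, not_or] at hχ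
        have : χ ∉ principalBlock M G := by
          rw [hmemB]; rintro (h | h)
          · exact hχ.2 h
          · exact hχ.1 h
        rw [if_neg this, zero_mul]
      rw [h0, add_zero, if_pos ((hmemB θ).mpr (Or.inr rfl)), one_mul, add_comm]
      congr 1
      refine Finset.sum_congr rfl ?_
      intro χ hχ
      rw [if_pos ((hmemB χ).mpr (Or.inl hχ)), one_mul]
    rw [hsplit] at hbo
    have hXsum : ∑ χ ∈ Xf, (χ : G → ℂ) 1 * (starRingEnd ℂ) ((χ : G → ℂ) (x * y)) =
        (ε : ℂ) * (θ : G → ℂ) 1 := by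
      rw [hregX 1 hp1]
      refine Finset.sum_congr rfl ?_
      intro χ hχ
      rw [(hXp χ ((hmemXf χ).mp hχ)).2.2 x hxP hx1 y hyC hy, map_intCast, mul_comm]
    rw [hXsum] at hbo
    have hθ1 : (θ : G → ℂ) 1 ≠ 0 := by
      rw [irrDeg_spec]
      have := irrDeg_pos θ
      exact_mod_cast this.ne'
    have h3 : (θ : G → ℂ) 1 * ((ε : ℂ) + (starRingEnd ℂ) ((θ : G → ℂ) (x * y))) = 0 := by
      linear_combination hbo
    rcases mul_eq_zero.mp h3 with h4 | h4
    · exact absurd h4 hθ1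
    · have h5 : (starRingEnd ℂ) ((θ : G → ℂ) (x * y)) = -(ε : ℂ) := by linear_combination h4
      have h6 := congrArg (starRingEnd ℂ) h5
      rw [Complex.conj_conj, map_neg, map_intCast] at h6
      rw [h6]; push_cast; ring
  -- the sign function
  set sg : IrrCharacter G → ℤ := fun χ => if χ = θ then -ε else εX χ with hsgdef
  have hsgθ : sg θ = -ε := by rw [hsgdef]; simp
  have hsgX : ∀ χ ∈ Xf, sg χ = εX χ := by
    intro χ hχ
    rw [hsgdef]
    have : χ ≠ θ := fun h => hθXf (h ▸ hχ)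
    simp [this]
  -- a nonidentity element of P
  obtain ⟨x₀, hx₀, hx₀1⟩ : ∃ x₀ : G, x₀ ∈ (P : Subgroup G) ∧ x₀ ≠ 1 := by
    have h1 : 1 < Nat.card (P : Subgroup G) := by rw [hP]; exact hp.out.one_lt
    have : Nontrivial (P : Subgroup G) := Finite.one_lt_card_iff_nontrivial.mp h1
    obtain ⟨y, hy⟩ := exists_ne (1 : (P : Subgroup G))
    exact ⟨y, y.2, fun h => hy (Subtype.ext h)⟩
  have hvalAll : ∀ χ ∈ insert θ Xf, ∀ x : G, x ∈ (P : Subgroup G) → x ≠ 1 → ∀ y : G,
      y ∈ centralizer ((P : Subgroup G) : Set G) → ¬ p ∣ orderOf y →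
        (χ : G → ℂ) (x * y) = (sg χ : ℂ) := by
    intro χ hχ
    rcases Finset.mem_insert.mp hχ with h | h
    · rw [h, hsgθ]; exact hθval
    · rw [hsgX χ h]; exact (hXp χ ((hmemXf χ).mp h)).2.2
  have htrivB : trivIrr G ∈ insert θ Xf := by
    have h1 : trivIrr G ∈ principalBlock M G := trivIrr_mem_principalBlock (hM.2.1.isPrime)
    rcases (hmemB _).mp h1 with h | h
    · exact Finset.mem_insert_of_mem h
    · rw [h]; exact Finset.mem_insert_self _ _
  refine ⟨⟨insert θ Xf, sg, ?_, htrivB, ?_, ?_, ?_, hvalAll, ?_⟩⟩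
  · rw [Finset.card_insert_of_notMem hθXf, hXcard]; omega
  · have h1 := hvalAll (trivIrr G) htrivB x₀ hx₀ hx₀1 1 (Subgroup.one_mem _) hp1
    rw [trivIrr_apply] at h1
    exact_mod_cast h1.symm
  · intro χ hχ
    rcases Finset.mem_insert.mp hχ with h | h
    · rw [h, hsgθ]
      rcases hε with h1 | h1 <;> rw [h1] <;> simp
    · rw [hsgX χ h]; exact (hXp χ ((hmemXf χ).mp h)).1
  · intro χ hχ
    rcases Finset.mem_insert.mp hχ with h | h
    · rw [h, hsgθ]
      have h1 := hYd θ hθ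
      rw [charDegree_irr] at h1
      have h2 : ((p - 1 : ℕ) : ℤ) ≡ -1 [ZMOD p] := by
        rw [Int.modEq_iff_dvd]
        refine ⟨-1, ?_⟩
        push_cast [Nat.cast_sub (by omega : 1 ≤ p)]
        ring
      have h3 := (Int.ModEq.refl ε).mul h2
      calc (irrDeg θ : ℤ) ≡ ε * ((p - 1 : ℕ) : ℤ) [ZMOD p] := h1
        _ ≡ ε * (-1) [ZMOD p] := h3
        _ = -ε := by ring
    · rw [hsgX χ h]
      have := (hXp χ ((hmemXf χ).mp h)).2.1
      rwa [charDegree_irr] at this
  · intro g hg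
    rw [Finset.sum_insert hθXf, hsgθ,
      Finset.sum_congr rfl (fun χ hχ => by rw [hsgX χ hχ]), ← hregX g hg]
    push_cast
    ring

end Cfsg.Agent.Helper15.BrP
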