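import Mathlib
import Cfsg.Agent.Helper15.BrP5
import Cfsg.Agent.Helper11.OrderP

set_option autoImplicit false
set_option linter.unusedSectionVars false
set_option maxHeartbeats 1000000

/-!
More tools for Sylow `p`-subgroups of order `p`: the case `e = p - 1` with `C(P) = P`,
factorizations of a generator into two involutions, bounds on degrees.
-/

namespace Cfsg.Agent.Helper15.BrP

open Cfsg Cfsg.Agent.Helper24 Cfsg.Agent.Helper5 Cfsg.Agent.Helper5.CC Subgroup
  Cfsg.Agent.Helper24.SelfCent

universe u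

section Deg

variable {G : Type u} [Group G] [Finite G]

/-- `χ(1)^2 ≤ |G|`. -/
theorem irrDeg_sq_le_card (χ : IrrCharacter G) : irrDeg χ * irrDeg χ ≤ Nat.card G := by
  classical
  have : Fintype G := Fintype.ofFinite G
  have : Fintype (IrrCharacter G) := Fintype.ofFinite _
  rw [← sum_irrDeg_sq (G := G), ← sq]
  exact Finset.single_le_sum (f := fun χ : IrrCharacter G => irrDeg χ ^ 2)
    (fun i _ => Nat.zero_le _) (Finset.mem_univ χ)

/-- The sum of the squares of the degrees over a finset is at most `|G|`. -/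
theorem sum_irrDeg_sq_le_card [Fintype (IrrCharacter G)] (S : Finset (IrrCharacter G)) :
    ∑ χ ∈ S, irrDeg χ ^ 2 ≤ Nat.card G := by
  classical
  have : Fintype G := Fintype.ofFinite G
  rw [← sum_irrDeg_sq (G := G)]
  exact Finset.sum_le_sum_of_subset (Finset.subset_univ S)

/-- The sum of the squares of the degrees over a finset and over its complement. -/
theorem sum_irrDeg_sq_add_compl [Fintype (IrrCharacter G)] [DecidableEq (IrrCharacter G)]
    (S : Finset (IrrCharacter G)) :
    ∑ χ ∈ S, irrDeg χ ^ 2 + ∑ χ ∈ Sᶜ, irrDeg χ ^ 2 = Nat.card G := by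
  classical
  have : Fintype G := Fintype.ofFinite G
  rw [← sum_irrDeg_sq (G := G), Finset.sum_add_sum_compl]

end Deg

section Gen

variable {G : Type u} [Group G] [Finite G] {p : ℕ} [hp : Fact p.Prime]

/-- If `C(P) = P` has order `p`, the centralizer of a nonidentity element of `P` has order `p`. -/
theorem card_centralizer_singleton (P : Sylow p G) (hP : Nat.card (P : Subgroup G) = p)
    (hC : Nat.card (centralizer ((P : Subgroup G) : Set G)) = p) (x : G)
    (hxP : x ∈ (P : Subgroup G)) (hx1 : x ≠ 1) :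
    Nat.card (centralizer ({x} : Set G)) = p := by
  have h1 : centralizer ({x} : Set G) = (P : Subgroup G) := by
    apply le_antisymm
    · intro g hg
      by_contra hgP
      rw [mem_centralizer_singleton_iff] at hg
      exact hx1 (hcent_of_card_prime (P : Subgroup G) p hP hC g hgP x hxP hg.symm)
    · intro g hg
      rw [mem_centralizer_singleton_iff]
      exact hab_of_card_prime (P : Subgroup G) p hP g hg x hxP
  rw [h1, hP]

/-- For `e = p - 1` and `C(P) = P`, the irreducible characters outside the principal block vanish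
on `P^#` and have degree divisible by `p`. -/
theorem vanish_full (P : Sylow p G) (hP : Nat.card (P : Subgroup G) = p) (D : BFull p P)
    (hC : Nat.card (centralizer ((P : Subgroup G) : Set G)) = p) :
    ∀ ψ : IrrCharacter G, ψ ∉ D.B →
      (∀ x : G, x ∈ (P : Subgroup G) → x ≠ 1 → (ψ : G → ℂ) x = 0) ∧ p ∣ irrDeg ψ := by
  classical
  have : Fintype G := Fintype.ofFinite G
  have : Fintype (IrrCharacter G) := Fintype.ofFinite _
  have hp1 : ¬ p ∣ orderOf (1 : G) := by
    rw [orderOf_one]
    exact hp.out.one_lt.ne' ∘ Nat.dvd_one.mp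
  have hvan : ∀ ψ : IrrCharacter G, ψ ∉ D.B →
      ∀ x : G, x ∈ (P : Subgroup G) → x ≠ 1 → (ψ : G → ℂ) x = 0 := by
    intro ψ hψ x hxP hx1
    have hcol := sum_irr_mul_conj x x
    rw [if_pos (IsConj.refl x), card_centralizer_singleton P hP hC x hxP hx1,
      ← Finset.sum_add_sum_compl D.B] at hcol
    have hB : ∑ χ ∈ D.B, (χ : G → ℂ) x * (starRingEnd ℂ) ((χ : G → ℂ) x) = (p : ℂ) := by
      have h1 : ∀ χ ∈ D.B, (χ : G → ℂ) x * (starRingEnd ℂ) ((χ : G → ℂ) x) = 1 := by
        intro χ hχ
        have h2 := D.hval χ hχ x hxP hx1 1 (Subgroup.one_mem _) hp1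
        rw [mul_one] at h2
        rw [h2, map_intCast]
        rcases D.hsg χ hχ with h | h <;> rw [h] <;> norm_num
      rw [Finset.sum_congr rfl h1, Finset.sum_const, D.hB, nsmul_eq_mul, mul_one]
    rw [hB] at hcol
    have hrest : ∑ χ ∈ D.Bᶜ, (χ : G → ℂ) x * (starRingEnd ℂ) ((χ : G → ℂ) x) = 0 := by
      linear_combination hcol
    have hre : ∑ χ ∈ D.Bᶜ, Complex.normSq ((χ : G → ℂ) x) = 0 := by
      have h3 := congrArg Complex.re hrest
      rw [Complex.re_sum, Complex.zero_re] at h3
      rw [← h3]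
      refine Finset.sum_congr rfl ?_
      intro χ _
      rw [Complex.mul_conj]
      simp
    have h4 := (Finset.sum_eq_zero_iff_of_nonneg (fun χ _ => Complex.normSq_nonneg _)).mp hre ψ
      (Finset.mem_compl.mpr hψ)
    exact Complex.normSq_eq_zero.mp h4
  intro ψ hψ
  refine ⟨hvan ψ hψ, ?_⟩
  have : Fintype (P : Subgroup G) := Fintype.ofFinite _
  obtain ⟨m, hm⟩ := exists_sum_subgroup ψ (P : Subgroup G)
  rw [hP] at hm
  have hsum : ∑ h : (P : Subgroup G), (ψ : G → ℂ) h = (irrDeg ψ : ℂ) := by
    rw [← Finset.add_sum_erase _ _ (Finset.mem_univ (1 : (P : Subgroup G)))]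
    have h0 : ∑ h ∈ Finset.univ.erase (1 : (P : Subgroup G)), (ψ : G → ℂ) h = 0 := by
      apply Finset.sum_eq_zero
      intro h hh
      rw [Finset.mem_erase] at hh
      exact hvan ψ hψ h h.2 (fun h1 => hh.1 (Subtype.ext h1))
    rw [h0, add_zero, Subgroup.coe_one, irrDeg_spec]
  rw [hsum] at hm
  have : irrDeg ψ = m * p := by exact_mod_cast hm
  rw [this]
  exact Dvd.intro_left _ rfl

/-- If the normalizer of `P` has odd order, a nonidentity element of `P` is not a product of
two conjugates of an involution. -/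
theorem card_factorizations_eq_zero (P : Sylow p G) (hP : Nat.card (P : Subgroup G) = p)
    (hN : ¬ 2 ∣ Nat.card (normalizer ((P : Subgroup G) : Set G))) (x : G)
    (hxP : x ∈ (P : Subgroup G)) (hx1 : x ≠ 1) (t : G) (ht : orderOf t = 2) :
    Nat.card {a : G // IsConj t a ∧ IsConj t (a⁻¹ * x)} = 0 := by
  have hPz : (P : Subgroup G) = zpowers x :=
    Cfsg.Agent.Helper11.eq_zpowers_of_card_prime (P : Subgroup G) hP x hxP hx1
  have hsq : ∀ b : G, IsConj t b → b * b = 1 := by
    intro b hb
    obtain ⟨g, hg⟩ := isConj_iff.mp hb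
    have ht2 : t * t = 1 := by
      have := pow_orderOf_eq_one t
      rwa [ht, sq] at this
    rw [← hg]
    calc g * t * g⁻¹ * (g * t * g⁻¹) = g * (t * t) * g⁻¹ := by group
      _ = 1 := by rw [ht2]; group
  have hempty : IsEmpty {a : G // IsConj t a ∧ IsConj t (a⁻¹ * x)} := by
    constructor
    rintro ⟨a, ha1, ha2⟩
    have haa : a * a = 1 := hsq a ha1
    have hainv : a⁻¹ = a := inv_eq_of_mul_eq_one_left haa
    have hbb := hsq _ ha2
    rw [hainv] at hbb
    have hconj : a * x * a⁻¹ = x⁻¹ := by
      rw [hainv]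
      have : a * x * a * x = 1 := by rw [← hbb]; group
      calc a * x * a = a * x * a * x * x⁻¹ := by group
        _ = x⁻¹ := by rw [this, one_mul]
    have hconjz : ∀ k : ℤ, a * x ^ k * a⁻¹ = (x⁻¹) ^ k := by
      intro k
      have := map_zpow (MulAut.conj a) x k
      simp only [MulAut.conj_apply] at this
      rw [this, hconj]
    have hfwd : ∀ h : G, h ∈ (P : Subgroup G) → a * h * a⁻¹ ∈ (P : Subgroup G) := by
      intro h hh
      rw [hPz] at hh ⊢
      obtain ⟨k, rfl⟩ := mem_zpowers_iff.mp hh
      rw [hconjz]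
      exact zpow_mem (inv_mem (mem_zpowers x)) k
    have haN : a ∈ normalizer ((P : Subgroup G) : Set G) := by
      rw [mem_normalizer_iff]
      intro h
      refine ⟨hfwd h, fun hh => ?_⟩
      have := hfwd _ hh
      rw [hainv] at this
      have h3 : a * (a * h * a) * a = h := by
        calc a * (a * h * a) * a = (a * a) * h * (a * a) := by group
          _ = h := by rw [haa, one_mul, mul_one]
      rwa [h3] at this
    have ha2 : orderOf a = 2 := by
      obtain ⟨g, hg⟩ := isConj_iff.mp ha1
      rw [← hg]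
      have := orderOf_injective (MulAut.conj g).toMonoidHom (MulAut.conj g).injective t
      simpa [ht] using this
    apply hN
    have h5 := orderOf_dvd_natCard (⟨a, haN⟩ : normalizer ((P : Subgroup G) : Set G))
    rwa [Subgroup.orderOf_mk, ha2] at h5
  exact Nat.card_eq_zero.mpr (Or.inl hempty)

/-- A subgroup of order `p` generated by an element is a Sylow `p`-subgroup when the Sylow
`p`-subgroups have order `p`. -/
theorem exists_sylow_eq_zpowers (hS : ∀ Q : Sylow p G, Nat.card (Q : Subgroup G) = p) (y : G)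
    (hy : orderOf y = p) : ∃ Q : Sylow p G, (Q : Subgroup G) = zpowers y := by
  have hpg : IsPGroup p (zpowers y) := by
    apply IsPGroup.of_card (n := 1)
    rw [Nat.card_zpowers, hy, pow_one]
  obtain ⟨Q, hQ⟩ := hpg.exists_le_sylow
  refine ⟨Q, ?_⟩
  symm
  apply Subgroup.eq_of_le_of_card_ge hQ
  rw [hS Q, Nat.card_zpowers, hy]

end Gen

end Cfsg.Agent.Helper15.BrP
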