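import Mathlib
import Cfsg.Agent.Helper15.BrP6
import Cfsg.Agent.Helper11.O504A

set_option autoImplicit false
set_option linter.unusedSectionVars false

/-!
Simple groups of order 7920: arithmetic of the degree equations for `p = 11` and `p = 5`.
-/

namespace Cfsg.Agent.Helper15.O7920

open Cfsg Cfsg.Agent.Helper24 Cfsg.Agent.Helper5 Subgroup Cfsg.Agent.Helper15.BrP

theorem filter11_pm1 : (Nat.divisors 7920).filter
    (fun c => c * c ≤ 7920 ∧ (c % 11 = 1 ∨ c % 11 = 10)) = {1, 10, 12, 45} := by decide +kernel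

theorem filter11_pm5 : (Nat.divisors 7920).filter
    (fun c => c * c ≤ 7920 ∧ (c % 11 = 5 ∨ c % 11 = 6)) = {5, 6, 16, 60, 72} := by decide +kernel

theorem filter11_pm2 : (Nat.divisors 7920).filter
    (fun c => c * c ≤ 7920 ∧ (c % 11 = 2 ∨ c % 11 = 9)) = {2, 9, 20, 24} := by decide +kernel

theorem filter5_pm1 : (Nat.divisors 7920).filter
    (fun c => c * c ≤ 7920 ∧ (c % 5 = 1 ∨ c % 5 = 4)) =
    {1, 4, 6, 9, 11, 16, 24, 36, 44, 66} := by decide +kernel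

theorem filter5_pm2 : (Nat.divisors 7920).filter
    (fun c => c * c ≤ 7920 ∧ (c % 5 = 2 ∨ c % 5 = 3)) =
    {2, 3, 8, 12, 18, 22, 33, 48, 72, 88} := by decide +kernel

theorem mem11_pm1 (c : ℕ) (s : ℤ) (hs : s = 1 ∨ s = -1) (hc : c ∣ 7920) (hc2 : c * c ≤ 7920)
    (hcs : (c : ℤ) ≡ s [ZMOD 11]) :
    (c = 1 ∧ s = 1) ∨ (c = 12 ∧ s = 1) ∨ (c = 45 ∧ s = 1) ∨ (c = 10 ∧ s = -1) := by
  have h : c ∈ ({1, 10, 12, 45} : Finset ℕ) := by
    rw [← filter11_pm1, Finset.mem_filter, Nat.mem_divisors]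
    refine ⟨⟨hc, by norm_num⟩, hc2, ?_⟩
    unfold Int.ModEq at hcs
    rcases hs with rfl | rfl <;> omega
  unfold Int.ModEq at hcs
  simp only [Finset.mem_insert, Finset.mem_singleton] at h
  rcases h with rfl | rfl | rfl | rfl <;> rcases hs with rfl | rfl <;> omega

theorem mem11_pm5 (d : ℕ) (s : ℤ) (hs : s = 1 ∨ s = -1) (hd : d ∣ 7920) (hd2 : d * d ≤ 7920)
    (hds : (d : ℤ) ≡ s * 5 [ZMOD 11]) :
    (d = 5 ∧ s = 1) ∨ (d = 16 ∧ s = 1) ∨ (d = 60 ∧ s = 1) ∨ (d = 6 ∧ s = -1) ∨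
      (d = 72 ∧ s = -1) := by
  have h : d ∈ ({5, 6, 16, 60, 72} : Finset ℕ) := by
    rw [← filter11_pm5, Finset.mem_filter, Nat.mem_divisors]
    refine ⟨⟨hd, by norm_num⟩, hd2, ?_⟩
    unfold Int.ModEq at hds
    rcases hs with rfl | rfl <;> omega
  unfold Int.ModEq at hds
  simp only [Finset.mem_insert, Finset.mem_singleton] at h
  rcases h with rfl | rfl | rfl | rfl | rfl <;> rcases hs with rfl | rfl <;> omega

theorem mem11_pm2 (d : ℕ) (s : ℤ) (hs : s = 1 ∨ s = -1) (hd : d ∣ 7920) (hd2 : d * d ≤ 7920)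
    (hds : (d : ℤ) ≡ s * 2 [ZMOD 11]) :
    (d = 2 ∧ s = 1) ∨ (d = 24 ∧ s = 1) ∨ (d = 9 ∧ s = -1) ∨ (d = 20 ∧ s = -1) := by
  have h : d ∈ ({2, 9, 20, 24} : Finset ℕ) := by
    rw [← filter11_pm2, Finset.mem_filter, Nat.mem_divisors]
    refine ⟨⟨hd, by norm_num⟩, hd2, ?_⟩
    unfold Int.ModEq at hds
    rcases hs with rfl | rfl <;> omega
  unfold Int.ModEq at hds
  simp only [Finset.mem_insert, Finset.mem_singleton] at h
  rcases h with rfl | rfl | rfl | rfl <;> rcases hs with rfl | rfl <;> omega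

theorem mem5_pm1 (c : ℕ) (s : ℤ) (hs : s = 1 ∨ s = -1) (hc : c ∣ 7920) (hc2 : c * c ≤ 7920)
    (hcs : (c : ℤ) ≡ s [ZMOD 5]) :
    (s = 1 ∧ (c = 1 ∨ c = 6 ∨ c = 11 ∨ c = 16 ∨ c = 36 ∨ c = 66)) ∨
      (s = -1 ∧ (c = 4 ∨ c = 9 ∨ c = 24 ∨ c = 44)) := by
  have h : c ∈ ({1, 4, 6, 9, 11, 16, 24, 36, 44, 66} : Finset ℕ) := by
    rw [← filter5_pm1, Finset.mem_filter, Nat.mem_divisors]
    refine ⟨⟨hc, by norm_num⟩, hc2, ?_⟩
    unfold Int.ModEq at hcs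
    rcases hs with rfl | rfl <;> omega
  unfold Int.ModEq at hcs
  simp only [Finset.mem_insert, Finset.mem_singleton] at h
  rcases h with rfl | rfl | rfl | rfl | rfl | rfl | rfl | rfl | rfl | rfl <;>
    rcases hs with rfl | rfl <;> omega

theorem mem5_pm2 (d : ℕ) (s : ℤ) (hs : s = 1 ∨ s = -1) (hd : d ∣ 7920) (hd2 : d * d ≤ 7920)
    (hds : (d : ℤ) ≡ s * 2 [ZMOD 5]) :
    (s = 1 ∧ (d = 2 ∨ d = 12 ∨ d = 22 ∨ d = 72)) ∨
      (s = -1 ∧ (d = 3 ∨ d = 8 ∨ d = 18 ∨ d = 33 ∨ d = 48 ∨ d = 88)) := by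
  have h : d ∈ ({2, 3, 8, 12, 18, 22, 33, 48, 72, 88} : Finset ℕ) := by
    rw [← filter5_pm2, Finset.mem_filter, Nat.mem_divisors]
    refine ⟨⟨hd, by norm_num⟩, hd2, ?_⟩
    unfold Int.ModEq at hds
    rcases hs with rfl | rfl <;> omega
  unfold Int.ModEq at hds
  simp only [Finset.mem_insert, Finset.mem_singleton] at h
  rcases h with rfl | rfl | rfl | rfl | rfl | rfl | rfl | rfl | rfl | rfl <;>
    rcases hs with rfl | rfl <;> omega

/-- The degree equation for `p = 11`, `e = 2`. -/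
theorem arith11_e2 (c d : ℕ) (s eps : ℤ) (hs : s = 1 ∨ s = -1) (he : eps = 1 ∨ eps = -1)
    (hc : c ∣ 7920) (hd : d ∣ 7920) (hc2 : c * c ≤ 7920) (hd2 : d * d ≤ 7920) (hc1 : c ≠ 1)
    (hcs : (c : ℤ) ≡ s [ZMOD 11])
    (hds : (d : ℤ) ≡ eps * 2 [ZMOD 11]) (heq : eps * (d : ℤ) = 1 + s * (c : ℤ)) :
    c = 10 ∧ s = -1 := by
  have h1 := mem11_pm1 c s hs hc hc2 hcs
  have h2 := mem11_pm2 d eps he hd hd2 hds
  rcases h1 with ⟨rfl, rfl⟩ | ⟨rfl, rfl⟩ | ⟨rfl, rfl⟩ | ⟨rfl, rfl⟩ <;>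
    rcases h2 with ⟨rfl, rfl⟩ | ⟨rfl, rfl⟩ | ⟨rfl, rfl⟩ | ⟨rfl, rfl⟩ <;> omega

section Setup

variable {G : Type*} [Group G] [Finite G] [IsSimpleGroup G]

instance fact11 : Fact (Nat.Prime 11) := ⟨by norm_num⟩

instance fact5 : Fact (Nat.Prime 5) := ⟨by norm_num⟩

theorem noncomm (hcard : Nat.card G = 7920) : ¬ IsMulCommutative G :=
  Cfsg.Agent.Helper11.simple_noncomm_of_card (by rw [hcard]; norm_num)

theorem perfect (hcard : Nat.card G = 7920) : commutator G = ⊤ :=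
  Cfsg.Agent.Helper11.O504.commutator_eq_top (noncomm hcard)

theorem irrDeg_dvd (hcard : Nat.card G = 7920) (χ : IrrCharacter G) : irrDeg χ ∣ 7920 := by
  rw [← hcard]; exact irrDeg_dvd_card χ

theorem irrDeg_sq_le (hcard : Nat.card G = 7920) (χ : IrrCharacter G) :
    irrDeg χ * irrDeg χ ≤ 7920 := by
  rw [← hcard]; exact irrDeg_sq_le_card χ

theorem irrDeg_ne_one (hcard : Nat.card G = 7920) (χ : IrrCharacter G) (hχ : χ ≠ trivIrr G) :
    irrDeg χ ≠ 1 :=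
  Cfsg.Agent.Helper24.SelfCent.irrDeg_ne_one_of_perfect (perfect hcard) χ hχ

theorem irrDeg_triv : irrDeg (trivIrr G) = 1 := by rw [irrDeg_eq_one_iff]; rfl

theorem card_sylow11 (hcard : Nat.card G = 7920) (P : Sylow 11 G) :
    Nat.card (P : Subgroup G) = 11 := by
  have hG' : Nat.card G = 720 * 11 ^ 1 := by rw [hcard]; norm_num
  have := (Cfsg.Agent.Helper11.sylow_card_of_card_eq_pow 720 1 hG' (by norm_num) P).1
  rwa [pow_one] at this

theorem card_sylow5 (hcard : Nat.card G = 7920) (P : Sylow 5 G) :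
    Nat.card (P : Subgroup G) = 5 := by
  have hG' : Nat.card G = 1584 * 5 ^ 1 := by rw [hcard]; norm_num
  have := (Cfsg.Agent.Helper11.sylow_card_of_card_eq_pow 1584 1 hG' (by norm_num) P).1
  rwa [pow_one] at this

end Setup

end Cfsg.Agent.Helper15.O7920
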