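import Mathlib
import Cfsg.Agent.Helper15.O7920a
import Cfsg.Agent.Helper11.SelfCent
import Cfsg.Agent.Helper11.SimpleTools
import Cfsg.Agent.Helper11.SylowCount

set_option autoImplicit false
set_option linter.unusedSectionVars false
set_option maxHeartbeats 1000000

/-!
Simple groups of order 7920: the Sylow `11`-subgroups are self-centralizing with normalizer of
order `55`.
-/

namespace Cfsg.Agent.Helper15.O7920

open Cfsg Cfsg.Agent.Helper24 Cfsg.Agent.Helper5 Subgroup Cfsg.Agent.Helper15.BrP

variable {G : Type*} [Group G] [Finite G] [IsSimpleGroup G]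

/-- The case `e = 2`, `|C(P)| = 88` for `p = 11`. -/
theorem case11_e2 (hcard : Nat.card G = 7920) (P : Sylow 11 G)
    (he : (centralizer ((P : Subgroup G) : Set G)).relIndex
      (normalizer ((P : Subgroup G) : Set G)) = 2)
    (hC : Nat.card (centralizer ((P : Subgroup G) : Set G)) = 88) : False := by
  classical
  have hP := card_sylow11 hcard P
  obtain ⟨D⟩ := exists_bdata (perfect hcard) 11 (by norm_num) P hP 2 he (by norm_num)
  have hX' : (D.X.erase (trivIrr G)).card = 1 := by
    rw [Finset.card_erase_of_mem D.htriv, D.hX]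
  obtain ⟨χ, hX1⟩ := Finset.card_eq_one.mp hX'
  have hχ : χ ∈ D.X.erase (trivIrr G) := by rw [hX1]; simp
  rw [Finset.mem_erase] at hχ
  have hYne : D.Y.Nonempty := Finset.card_pos.mp (by rw [D.hY]; norm_num)
  obtain ⟨θ, hθ⟩ := hYne
  have heq := D.deg_eq θ hθ
  rw [← Finset.add_sum_erase _ _ D.htriv, hX1, Finset.sum_singleton, D.hsgtriv, irrDeg_triv]
    at heq
  obtain ⟨h10, hs⟩ := arith11_e2 (irrDeg χ) (irrDeg θ) (D.sg χ) D.eps (D.hsg χ hχ.2) D.heps
    (irrDeg_dvd hcard χ) (irrDeg_dvd hcard θ) (irrDeg_sq_le hcard χ) (irrDeg_sq_le hcard θ)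
    (irrDeg_ne_one hcard χ hχ.1) (D.hdegX χ hχ.2)
    (D.hdegY θ hθ) (by rw [heq]; push_cast; ring)
  have : Fact (Nat.Prime 2) := ⟨by norm_num⟩
  obtain ⟨y, hyC, hy⟩ := exists_centralizer_orderOf P 2 (by rw [hC]; norm_num)
  exact kill_minus (by norm_num) P hP D χ hχ.2 (by rw [h10]) hs y hyC 2 (by norm_num)
    (by norm_num) hy

/-- The local structure at the prime `11`. -/
theorem sylow11_data (hcard : Nat.card G = 7920) (P : Sylow 11 G) :
    (centralizer ((P : Subgroup G) : Set G)).relIndex
        (normalizer ((P : Subgroup G) : Set G)) = 5 ∧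
      Nat.card (centralizer ((P : Subgroup G) : Set G)) = 11 ∧
      Nat.card (normalizer ((P : Subgroup G) : Set G)) = 55 := by
  have hG := noncomm hcard
  have hG' : Nat.card G = 720 * 11 ^ 1 := by rw [hcard]; norm_num
  have hm : ¬ 11 ∣ 720 := by norm_num
  have hn := Cfsg.Agent.Helper11.card_sylow_mem_filter 720 1 hG' hm
  have hfilter : (Nat.divisors 720).filter (fun d => d % 11 = 1) = {1, 12, 45, 144} := by
    decide +kernel
  rw [hfilter] at hn
  simp only [Finset.mem_insert, Finset.mem_singleton] at hn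
  have hdvd : 11 ∣ Nat.card G := by rw [hcard]; norm_num
  have hP := card_sylow11 hcard P
  have hNP := Cfsg.Agent.Helper11.card_sylow_mul_card_normalizer P
  rw [hcard] at hNP
  obtain ⟨hk1, hk10, hkC, h11C⟩ := Cfsg.Agent.Helper11.simple_automizer_data hG 11 P hP
  have hk10' : (centralizer ((P : Subgroup G) : Set G)).relIndex
      (normalizer ((P : Subgroup G) : Set G)) ∣ 10 := hk10
  have hkle : (centralizer ((P : Subgroup G) : Set G)).relIndex
      (normalizer ((P : Subgroup G) : Set G)) ≤ 10 := Nat.le_of_dvd (by norm_num) hk10'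
  obtain ⟨c', hc'⟩ := h11C
  rcases hn with h | h | h | h
  · exact absurd h (Cfsg.Agent.Helper11.simple_card_sylow_ne_one hG 11 hdvd)
  · -- n = 12
    exfalso
    have hidx : (normalizer ((P : Subgroup G) : Set G)).index = 11 + 1 := by
      have h3 := P.card_eq_index_normalizer
      rw [h] at h3
      exact h3.symm
    have h2 := Cfsg.Agent.Helper11.simple_normalizer_dvd_of_index hG 11 (by norm_num) _
      (Or.inr hidx) P hP
    rw [h] at hNP
    have hN : Nat.card ↥(normalizer ((P : Subgroup G) : Set G)) = 660 := by omega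
    rw [hN] at h2
    norm_num at h2
  · -- n = 45, |N| = 176
    exfalso
    rw [h] at hNP
    have hN : Nat.card ↥(normalizer ((P : Subgroup G) : Set G)) = 176 := by omega
    rw [hN, hc'] at hkC
    generalize hk : (centralizer ((P : Subgroup G) : Set G)).relIndex
      (normalizer ((P : Subgroup G) : Set G)) = k at hk1 hk10' hkle hkC
    have hk2 : k = 2 := by
      have hk16 : k * c' = 16 := by nlinarith
      have hk16' : k ∣ 16 := Dvd.intro _ hk16
      interval_cases k <;> omega
    subst hk2
    exact case11_e2 hcard P hk (by rw [hc']; omega)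
  · -- n = 144, |N| = 55
    rw [h] at hNP
    have hN : Nat.card ↥(normalizer ((P : Subgroup G) : Set G)) = 55 := by omega
    rw [hN, hc'] at hkC
    generalize hk : (centralizer ((P : Subgroup G) : Set G)).relIndex
      (normalizer ((P : Subgroup G) : Set G)) = k at hk1 hk10' hkle hkC
    have hk5' : k * c' = 5 := by nlinarith
    have hk5 : k = 5 := by
      have hk5'' : k ∣ 5 := Dvd.intro _ hk5'
      interval_cases k <;> omega
    subst hk5
    refine ⟨rfl, ?_, hN⟩
    rw [hc']; omega

end Cfsg.Agent.Helper15.O7920
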