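import Mathlib
import Cfsg.Agent.Helper15.O7920b

set_option autoImplicit false
set_option linter.unusedSectionVars false
set_option maxHeartbeats 1000000

/-!
Simple groups of order 7920: the shape of the principal `11`-block and the class multiplication
equation for involutions.
-/

namespace Cfsg.Agent.Helper15.O7920

open Cfsg Cfsg.Agent.Helper24 Cfsg.Agent.Helper5 Subgroup Cfsg.Agent.Helper15.BrP

theorem hnum11 : ∀ a : ℤ, a ^ 2 ≤ (5 : ℕ) → ∀ s : ℤ, (s = 1 ∨ s = -1) →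
    ¬ (a ≡ s * ((5 : ℕ) : ℤ) [ZMOD (11 : ℕ)]) := by
  intro a ha s hs
  push_cast at ha
  have h1 : -2 ≤ a := by
    by_contra h
    have : a ≤ -3 := by omega
    nlinarith
  have h2 : a ≤ 2 := by
    by_contra h
    have : 3 ≤ a := by omega
    nlinarith
  unfold Int.ModEq
  rcases hs with rfl | rfl <;> interval_cases a <;> omega

/-- The arithmetic of the degree equation for `p = 11`, `e = 5`. -/
theorem arith11_e5 (n12 n45 n10 d : ℕ) (eps : ℤ) (he : eps = 1 ∨ eps = -1)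
    (hd : d ∣ 7920) (hd2 : d * d ≤ 7920) (hds : (d : ℤ) ≡ eps * 5 [ZMOD 11])
    (hn : n12 + n45 + n10 = 4)
    (hsq : 1 + 144 * n12 + 2025 * n45 + 100 * n10 + 2 * (d * d) ≤ 7920)
    (heq : eps * (d : ℤ) = 1 + 12 * (n12 : ℤ) + 45 * (n45 : ℤ) - 10 * (n10 : ℤ)) :
    eps = 1 ∧ ((n12 = 2 ∧ n45 = 0 ∧ n10 = 2 ∧ d = 5) ∨ (n12 = 0 ∧ n45 = 1 ∧ n10 = 3 ∧ d = 16)) := by
  have h := mem11_pm5 d eps he hd hd2 hds
  rcases h with ⟨rfl, rfl⟩ | ⟨rfl, rfl⟩ | ⟨rfl, rfl⟩ | ⟨rfl, rfl⟩ | ⟨rfl, rfl⟩ <;>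
    refine ⟨?_, ?_⟩ <;> omega

variable {G : Type*} [Group G] [Finite G] [IsSimpleGroup G]

/-- The characters outside the principal `11`-block have degree divisible by `11`. -/
theorem vanish11 (hcard : Nat.card G = 7920) (P : Sylow 11 G) (D : BData 11 P 5) :
    ∀ ψ : IrrCharacter G, ψ ∉ D.X → ψ ∉ D.Y →
      (∀ x : G, x ∈ (P : Subgroup G) → x ≠ 1 → (ψ : G → ℂ) x = 0) ∧ 11 ∣ irrDeg ψ := by
  obtain ⟨-, hC, hN⟩ := sylow11_data hcard P
  exact vanish_of_selfCentralizing P (card_sylow11 hcard P) D hC (by rw [hN]) 2 (by norm_num)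
    (by norm_num) hnum11

/-- The class multiplication equation for involutions. -/
theorem classeq11 (hcard : Nat.card G = 7920) (P : Sylow 11 G) (D : BData 11 P 5) (d : ℕ)
    (hd : ∀ θ ∈ D.Y, irrDeg θ = d) (t : G) (ht : orderOf t = 2) :
    ∑ χ ∈ D.X, (D.sg χ : ℂ) * (χ : G → ℂ) t ^ 2 / (irrDeg χ : ℂ) -
      (D.eps : ℂ) * (∑ χ ∈ D.X, (D.sg χ : ℂ) * (χ : G → ℂ) t) ^ 2 / (d : ℂ) = 0 := by
  obtain ⟨-, hC, hN⟩ := sylow11_data hcard P
  have hP := card_sylow11 hcard P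
  obtain ⟨x, hxP, hx⟩ := exists_gen P hP
  have hx1 : x ≠ 1 := by intro h; rw [h, orderOf_one] at hx; omega
  have hvan := vanish11 hcard P D
  have hYne : D.Y.Nonempty := Finset.card_pos.mp (by rw [D.hY]; norm_num)
  have h0 := card_factorizations_eq_zero P hP (by rw [hN]; norm_num) x hxP hx1 t ht
  have hmul := classmul_selfCentralizing P D x hxP hx1
    (fun ψ h1 h2 => (hvan ψ h1 h2).1 x hxP hx1) d hd hYne t (by rw [ht]; norm_num)
  rw [h0, Nat.cast_zero, zero_mul] at hmul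
  have hidx : ((centralizer ({t} : Set G)).index : ℂ) ^ 2 ≠ 0 := by
    have : (centralizer ({t} : Set G)).index ≠ 0 := Subgroup.index_ne_zero_of_finite
    exact pow_ne_zero 2 (by exact_mod_cast this)
  rcases mul_eq_zero.mp hmul.symm with h | h
  · exact absurd h hidx
  · exact h

section Shape

variable (hcard : Nat.card G = 7920) (P : Sylow 11 G) (D : BData 11 P 5)

/-- The possible degrees and signs in `X`. -/
theorem classX (hcard : Nat.card G = 7920) (P : Sylow 11 G) (D : BData 11 P 5) :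
    ∀ χ ∈ D.X, (χ = trivIrr G) ∨ (irrDeg χ = 12 ∧ D.sg χ = 1) ∨
      (irrDeg χ = 45 ∧ D.sg χ = 1) ∨ (irrDeg χ = 10 ∧ D.sg χ = -1) := by
  intro χ hχ
  rcases mem11_pm1 (irrDeg χ) (D.sg χ) (D.hsg χ hχ) (irrDeg_dvd hcard χ) (irrDeg_sq_le hcard χ)
    (D.hdegX χ hχ) with h | h | h | h
  · left
    by_contra hne
    exact irrDeg_ne_one hcard χ hne h.1
  · exact Or.inr (Or.inl h)
  · exact Or.inr (Or.inr (Or.inl h))
  · exact Or.inr (Or.inr (Or.inr h))

/-- Decomposition of a sum over `X` according to the degrees. -/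
theorem sum_X_fiber [DecidableEq (IrrCharacter G)] (hcard : Nat.card G = 7920) (P : Sylow 11 G)
    (D : BData 11 P 5) {M : Type*}
    [AddCommMonoid M] (F : IrrCharacter G → M) :
    ∑ χ ∈ D.X, F χ = F (trivIrr G) + ∑ χ ∈ D.X.filter (fun χ => irrDeg χ = 12), F χ +
      ∑ χ ∈ D.X.filter (fun χ => irrDeg χ = 45), F χ +
      ∑ χ ∈ D.X.filter (fun χ => irrDeg χ = 10), F χ := by
  have hmaps : ∀ χ ∈ D.X, irrDeg χ ∈ ({1, 12, 45, 10} : Finset ℕ) := by
    intro χ hχ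
    simp only [Finset.mem_insert, Finset.mem_singleton]
    rcases classX hcard P D χ hχ with h | h | h | h
    · left; rw [h]; exact irrDeg_triv
    · exact Or.inr (Or.inl h.1)
    · exact Or.inr (Or.inr (Or.inl h.1))
    · exact Or.inr (Or.inr (Or.inr h.1))
  have h1 : D.X.filter (fun χ => irrDeg χ = 1) = {trivIrr G} := by
    ext χ
    rw [Finset.mem_filter, Finset.mem_singleton]
    constructor
    · rintro ⟨_, h⟩
      by_contra hne
      exact irrDeg_ne_one hcard χ hne h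
    · rintro rfl
      exact ⟨D.htriv, irrDeg_triv⟩
  rw [← Finset.sum_fiberwise_of_maps_to hmaps F]
  rw [Finset.sum_insert (by decide), Finset.sum_insert (by decide), Finset.sum_insert (by decide),
    Finset.sum_singleton, h1, Finset.sum_singleton]
  simp only [add_assoc]

/-- The shape of the principal `11`-block. -/
theorem shape11 [DecidableEq (IrrCharacter G)] (hcard : Nat.card G = 7920) (P : Sylow 11 G)
    (D : BData 11 P 5) :
    D.eps = 1 ∧
    (((D.X.filter (fun χ => irrDeg χ = 12)).card = 2 ∧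
      (D.X.filter (fun χ => irrDeg χ = 45)).card = 0 ∧
      (D.X.filter (fun χ => irrDeg χ = 10)).card = 2 ∧ ∀ θ ∈ D.Y, irrDeg θ = 5) ∨
     ((D.X.filter (fun χ => irrDeg χ = 12)).card = 0 ∧
      (D.X.filter (fun χ => irrDeg χ = 45)).card = 1 ∧
      (D.X.filter (fun χ => irrDeg χ = 10)).card = 3 ∧ ∀ θ ∈ D.Y, irrDeg θ = 16)) := by
  set n12 := (D.X.filter (fun χ => irrDeg χ = 12)).card with hn12
  set n45 := (D.X.filter (fun χ => irrDeg χ = 45)).card with hn45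
  set n10 := (D.X.filter (fun χ => irrDeg χ = 10)).card with hn10
  have hcardX := sum_X_fiber hcard P D (fun _ => (1 : ℕ))
  simp only [Finset.sum_const, smul_eq_mul, mul_one, D.hX] at hcardX
  have hsum := sum_X_fiber hcard P D (fun χ => D.sg χ * (irrDeg χ : ℤ))
  have hs12 : ∑ χ ∈ D.X.filter (fun χ => irrDeg χ = 12), D.sg χ * (irrDeg χ : ℤ) =
      12 * (n12 : ℤ) := by
    have : ∀ χ ∈ D.X.filter (fun χ => irrDeg χ = 12), D.sg χ * (irrDeg χ : ℤ) = 12 := by
      intro χ hχ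
      rw [Finset.mem_filter] at hχ
      rcases classX hcard P D χ hχ.1 with h | h | h | h
      · rw [h, irrDeg_triv] at hχ; omega
      · rw [h.1, h.2]; norm_num
      · omega
      · omega
    rw [Finset.sum_congr rfl this, Finset.sum_const, nsmul_eq_mul, mul_comm]
  have hs45 : ∑ χ ∈ D.X.filter (fun χ => irrDeg χ = 45), D.sg χ * (irrDeg χ : ℤ) =
      45 * (n45 : ℤ) := by
    have : ∀ χ ∈ D.X.filter (fun χ => irrDeg χ = 45), D.sg χ * (irrDeg χ : ℤ) = 45 := by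
      intro χ hχ
      rw [Finset.mem_filter] at hχ
      rcases classX hcard P D χ hχ.1 with h | h | h | h
      · rw [h, irrDeg_triv] at hχ; omega
      · omega
      · rw [h.1, h.2]; norm_num
      · omega
    rw [Finset.sum_congr rfl this, Finset.sum_const, nsmul_eq_mul, mul_comm]
  have hs10 : ∑ χ ∈ D.X.filter (fun χ => irrDeg χ = 10), D.sg χ * (irrDeg χ : ℤ) =
      -10 * (n10 : ℤ) := by
    have : ∀ χ ∈ D.X.filter (fun χ => irrDeg χ = 10), D.sg χ * (irrDeg χ : ℤ) = -10 := by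
      intro χ hχ
      rw [Finset.mem_filter] at hχ
      rcases classX hcard P D χ hχ.1 with h | h | h | h
      · rw [h, irrDeg_triv] at hχ; omega
      · omega
      · omega
      · rw [h.1, h.2]; norm_num
    rw [Finset.sum_congr rfl this, Finset.sum_const, nsmul_eq_mul, mul_comm]
  rw [hs12, hs45, hs10, D.hsgtriv, irrDeg_triv] at hsum
  have hYdeg : ∀ θ ∈ D.Y, ∀ θ' ∈ D.Y, irrDeg θ = irrDeg θ' := by
    intro θ hθ θ' hθ'
    have h1 := D.deg_eq θ hθ
    have h2 := D.deg_eq θ' hθ'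
    rw [← h2] at h1
    rcases D.heps with h | h <;> rw [h] at h1 <;> omega
  have : Fintype (IrrCharacter G) := Fintype.ofFinite _
  have hsqX := sum_X_fiber hcard P D (fun χ => irrDeg χ ^ 2)
  have hq12 : ∑ χ ∈ D.X.filter (fun χ => irrDeg χ = 12), irrDeg χ ^ 2 = 144 * n12 := by
    have : ∀ χ ∈ D.X.filter (fun χ => irrDeg χ = 12), irrDeg χ ^ 2 = 144 := by
      intro χ hχ
      rw [Finset.mem_filter] at hχ
      rw [hχ.2]; norm_num
    rw [Finset.sum_congr rfl this, Finset.sum_const, smul_eq_mul, mul_comm]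
  have hq45 : ∑ χ ∈ D.X.filter (fun χ => irrDeg χ = 45), irrDeg χ ^ 2 = 2025 * n45 := by
    have : ∀ χ ∈ D.X.filter (fun χ => irrDeg χ = 45), irrDeg χ ^ 2 = 2025 := by
      intro χ hχ
      rw [Finset.mem_filter] at hχ
      rw [hχ.2]; norm_num
    rw [Finset.sum_congr rfl this, Finset.sum_const, smul_eq_mul, mul_comm]
  have hq10 : ∑ χ ∈ D.X.filter (fun χ => irrDeg χ = 10), irrDeg χ ^ 2 = 100 * n10 := by
    have : ∀ χ ∈ D.X.filter (fun χ => irrDeg χ = 10), irrDeg χ ^ 2 = 100 := by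
      intro χ hχ
      rw [Finset.mem_filter] at hχ
      rw [hχ.2]; norm_num
    rw [Finset.sum_congr rfl this, Finset.sum_const, smul_eq_mul, mul_comm]
  rw [hq12, hq45, hq10, irrDeg_triv] at hsqX
  have hall : ∀ θ ∈ D.Y, D.eps = 1 ∧ ((n12 = 2 ∧ n45 = 0 ∧ n10 = 2 ∧ irrDeg θ = 5) ∨
      (n12 = 0 ∧ n45 = 1 ∧ n10 = 3 ∧ irrDeg θ = 16)) := by
    intro θ hθ
    have heq := D.deg_eq θ hθ
    rw [hsum] at heq
    have hsqY : ∑ θ' ∈ D.Y, irrDeg θ' ^ 2 = 2 * (irrDeg θ * irrDeg θ) := by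
      rw [Finset.sum_congr rfl (fun θ' hθ' => by rw [hYdeg θ' hθ' θ hθ]), Finset.sum_const,
        D.hY, smul_eq_mul, sq]
    have hle := sum_irrDeg_sq_le_card (D.X ∪ D.Y)
    rw [Finset.sum_union D.hdisj, hsqX, hsqY, hcard] at hle
    exact arith11_e5 n12 n45 n10 (irrDeg θ) D.eps D.heps (irrDeg_dvd hcard θ)
      (irrDeg_sq_le hcard θ) (D.hdegY θ hθ) (by omega) (by omega) (by rw [heq]; push_cast; ring)
  have hYne : D.Y.Nonempty := Finset.card_pos.mp (by rw [D.hY]; norm_num)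
  obtain ⟨θ₀, hθ₀⟩ := hYne
  obtain ⟨he, h⟩ := hall θ₀ hθ₀
  refine ⟨he, ?_⟩
  rcases h with ⟨h1, h2, h3, -⟩ | ⟨h1, h2, h3, -⟩
  · left
    refine ⟨h1, h2, h3, ?_⟩
    intro θ hθ
    rcases (hall θ hθ).2 with h | h
    · exact h.2.2.2
    · omega
  · right
    refine ⟨h1, h2, h3, ?_⟩
    intro θ hθ
    rcases (hall θ hθ).2 with h | h
    · omega
    · exact h.2.2.2

end Shape

end Cfsg.Agent.Helper15.O7920
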