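import Mathlib
import Cfsg.Agent.Helper15.O7920c

set_option autoImplicit false
set_option linter.unusedSectionVars false
set_option maxHeartbeats 1000000

/-!
Simple groups of order 7920: the class multiplication equations for the two possible shapes of
the principal `11`-block.
-/

namespace Cfsg.Agent.Helper15.O7920

open Cfsg Cfsg.Agent.Helper24 Cfsg.Agent.Helper5 Subgroup Cfsg.Agent.Helper15.BrP

theorem arith_P2 (a c1 c2 c3 w m : ℤ) (ha : a % 2 = 1) (hc1 : c1 % 2 = 0) (hc2 : c2 % 2 = 0)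
    (hc3 : c3 % 2 = 0) (hm : w = 10 * m - 24) (hlo : -16 ≤ w) (hhi : w < 16)
    (heq : 720 + 16 * a ^ 2 - 72 * (c1 ^ 2 + c2 ^ 2 + c3 ^ 2) - 45 * w ^ 2 = 0) : False := by
  obtain ⟨j, rfl⟩ : ∃ j, a = 2 * j + 1 := ⟨a / 2, by omega⟩
  obtain ⟨l1, rfl⟩ : ∃ l, c1 = 2 * l := ⟨c1 / 2, by omega⟩
  obtain ⟨l2, rfl⟩ : ∃ l, c2 = 2 * l := ⟨c2 / 2, by omega⟩
  obtain ⟨l3, rfl⟩ : ∃ l, c3 = 2 * l := ⟨c3 / 2, by omega⟩
  have h1 : (2 * j + 1) ^ 2 = 4 * (j ^ 2 + j) + 1 := by ring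
  have h2 : ∀ l : ℤ, (2 * l) ^ 2 = 4 * l ^ 2 := fun l => by ring
  rw [h1, h2, h2, h2] at heq
  have hm1 : 1 ≤ m := by omega
  have hm3 : m ≤ 3 := by omega
  interval_cases m
  · have : w = -14 := by omega
    subst this
    norm_num at heq
    omega
  · have : w = -4 := by omega
    subst this
    norm_num at heq
    omega
  · have : w = 6 := by omega
    subst this
    norm_num at heq
    omega

theorem arith_P1 (v c d w : ℤ) (hv : v = -8 ∨ v = 2)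
    (heq : 60 + 10 * v ^ 2 - 6 * c ^ 2 - 6 * d ^ 2 - 12 * w ^ 2 = 0) : False := by
  rcases hv with rfl | rfl <;> norm_num at heq <;> omega

variable {G : Type*} [Group G] [Finite G] [IsSimpleGroup G]

omit [IsSimpleGroup G] in
/-- The values of the irreducible characters at an involution. -/
theorem inv_vals (t : G) (ht : orderOf t = 2) :
    ∃ v : IrrCharacter G → ℤ, ∀ χ : IrrCharacter G, (χ : G → ℂ) t = (v χ : ℂ) ∧
      (v χ + (irrDeg χ : ℤ)) % 2 = 0 ∧ -(irrDeg χ : ℤ) ≤ v χ ∧ v χ ≤ (irrDeg χ : ℤ) := by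
  have h : ∀ χ : IrrCharacter G, ∃ v : ℤ, (χ : G → ℂ) t = (v : ℂ) ∧
      (v + (irrDeg χ : ℤ)) % 2 = 0 ∧ -(irrDeg χ : ℤ) ≤ v ∧ v ≤ (irrDeg χ : ℤ) := by
    intro χ
    obtain ⟨d', m', hd', hm'⟩ :=
      Cfsg.Agent.Helper8.char_involution (IsIrrCharacter.isCharacter χ.2) ht
    have hd : d' = irrDeg χ := by
      rw [irrDeg_spec] at hd'
      exact_mod_cast hd'.symm
    subst hd
    have hval : (χ : G → ℂ) t = ((2 * (m' : ℤ) - (irrDeg χ : ℤ) : ℤ) : ℂ) := by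
      rw [hm']; push_cast; ring
    have hnorm := norm_le_irrDeg χ t
    rw [hval, Complex.norm_intCast] at hnorm
    have habs : |2 * (m' : ℤ) - (irrDeg χ : ℤ)| ≤ (irrDeg χ : ℤ) := by
      have : ((|2 * (m' : ℤ) - (irrDeg χ : ℤ)| : ℤ) : ℝ) ≤ ((irrDeg χ : ℤ) : ℝ) := by
        push_cast at hnorm ⊢
        exact hnorm
      exact_mod_cast this
    rw [abs_le] at habs
    exact ⟨2 * (m' : ℤ) - (irrDeg χ : ℤ), hval, by omega, habs.1, habs.2⟩
  choose v hv using h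
  exact ⟨v, hv⟩

section Signs

theorem sg_of_deg12 (hcard : Nat.card G = 7920) (P : Sylow 11 G) (D : BData 11 P 5)
    (χ : IrrCharacter G) (hχ : χ ∈ D.X) (h : irrDeg χ = 12) : D.sg χ = 1 := by
  rcases classX hcard P D χ hχ with h' | h' | h' | h'
  · rw [h', irrDeg_triv] at h; omega
  · exact h'.2
  · omega
  · omega

theorem sg_of_deg45 (hcard : Nat.card G = 7920) (P : Sylow 11 G) (D : BData 11 P 5)
    (χ : IrrCharacter G) (hχ : χ ∈ D.X) (h : irrDeg χ = 45) : D.sg χ = 1 := by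
  rcases classX hcard P D χ hχ with h' | h' | h' | h'
  · rw [h', irrDeg_triv] at h; omega
  · omega
  · exact h'.2
  · omega

theorem sg_of_deg10 (hcard : Nat.card G = 7920) (P : Sylow 11 G) (D : BData 11 P 5)
    (χ : IrrCharacter G) (hχ : χ ∈ D.X) (h : irrDeg χ = 10) : D.sg χ = -1 := by
  rcases classX hcard P D χ hχ with h' | h' | h' | h'
  · rw [h', irrDeg_triv] at h; omega
  · omega
  · omega
  · exact h'.2

end Signs

/-- The class multiplication equation for the shape `1, 45, -10, -10, -10; 16, 16`. -/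
theorem P2_eq [DecidableEq (IrrCharacter G)] (hcard : Nat.card G = 7920) (P : Sylow 11 G)
    (D : BData 11 P 5) (heps : D.eps = 1)
    (h12 : (D.X.filter (fun χ => irrDeg χ = 12)).card = 0)
    (h45 : (D.X.filter (fun χ => irrDeg χ = 45)).card = 1)
    (h10 : (D.X.filter (fun χ => irrDeg χ = 10)).card = 3)
    (hY : ∀ θ ∈ D.Y, irrDeg θ = 16) (t : G) (ht : orderOf t = 2)
    (θ₁ : IrrCharacter G) (hθ₁ : θ₁ ∈ D.Y) :
    ∃ a c1 c2 c3 w : ℤ, (θ₁ : G → ℂ) t = (w : ℂ) ∧ a % 2 = 1 ∧ c1 % 2 = 0 ∧ c2 % 2 = 0 ∧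
      c3 % 2 = 0 ∧ 720 + 16 * a ^ 2 - 72 * (c1 ^ 2 + c2 ^ 2 + c3 ^ 2) - 45 * w ^ 2 = 0 := by
  obtain ⟨v, hv⟩ := inv_vals t ht
  have hE := classeq11 hcard P D 16 hY t ht
  rw [sum_X_fiber hcard P D, sum_X_fiber hcard P D] at hE
  rw [Finset.card_eq_zero] at h12
  obtain ⟨χa, hχa⟩ := Finset.card_eq_one.mp h45
  obtain ⟨χ1, χ2, χ3, hne12, hne13, hne23, hχc⟩ := Finset.card_eq_three.mp h10
  have hmema : χa ∈ D.X.filter (fun χ => irrDeg χ = 45) := by rw [hχa]; simp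
  have hmem1 : χ1 ∈ D.X.filter (fun χ => irrDeg χ = 10) := by rw [hχc]; simp
  have hmem2 : χ2 ∈ D.X.filter (fun χ => irrDeg χ = 10) := by rw [hχc]; simp
  have hmem3 : χ3 ∈ D.X.filter (fun χ => irrDeg χ = 10) := by rw [hχc]; simp
  rw [Finset.mem_filter] at hmema hmem1 hmem2 hmem3
  have hsa := sg_of_deg45 hcard P D χa hmema.1 hmema.2
  have hs1 := sg_of_deg10 hcard P D χ1 hmem1.1 hmem1.2
  have hs2 := sg_of_deg10 hcard P D χ2 hmem2.1 hmem2.2
  have hs3 := sg_of_deg10 hcard P D χ3 hmem3.1 hmem3.2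
  have hp3 : ∀ F : IrrCharacter G → ℂ, ∑ χ ∈ ({χ1, χ2, χ3} : Finset (IrrCharacter G)), F χ =
      F χ1 + F χ2 + F χ3 := by
    intro F
    rw [Finset.sum_insert (by simp [hne12, hne13]), Finset.sum_insert (by simp [hne23]),
      Finset.sum_singleton, add_assoc]
  rw [h12, hχa, hχc, Finset.sum_empty, Finset.sum_empty, Finset.sum_singleton,
    Finset.sum_singleton, hp3, hp3, D.hsgtriv, hsa, hs1, hs2, hs3, heps, irrDeg_triv,
    hmema.2, hmem1.2, hmem2.2, hmem3.2, trivIrr_apply, (hv χa).1, (hv χ1).1, (hv χ2).1,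
    (hv χ3).1] at hE
  have hreg := D.hreg θ₁ hθ₁ t (by rw [ht]; norm_num)
  rw [sum_X_fiber hcard P D, h12, hχa, hχc, Finset.sum_empty, Finset.sum_singleton, hp3,
    D.hsgtriv, hsa, hs1, hs2, hs3, heps, trivIrr_apply, (hv χa).1, (hv χ1).1, (hv χ2).1,
    (hv χ3).1] at hreg
  refine ⟨v χa, v χ1, v χ2, v χ3, 1 + v χa - v χ1 - v χ2 - v χ3, ?_, ?_, ?_, ?_, ?_, ?_⟩
  · push_cast at hreg ⊢
    linear_combination hreg
  · have := (hv χa).2.1; rw [hmema.2] at this; omega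
  · have := (hv χ1).2.1; rw [hmem1.2] at this; omega
  · have := (hv χ2).2.1; rw [hmem2.2] at this; omega
  · have := (hv χ3).2.1; rw [hmem3.2] at this; omega
  · have : ((720 + 16 * v χa ^ 2 - 72 * (v χ1 ^ 2 + v χ2 ^ 2 + v χ3 ^ 2) -
        45 * (1 + v χa - v χ1 - v χ2 - v χ3) ^ 2 : ℤ) : ℂ) = 0 := by
      push_cast at hE ⊢
      linear_combination 720 * hE
    exact_mod_cast this

/-- The class multiplication equation for the shape `1, 12, 12, -10, -10; 5, 5`. -/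
theorem P1_eq [DecidableEq (IrrCharacter G)] (hcard : Nat.card G = 7920) (P : Sylow 11 G)
    (D : BData 11 P 5) (heps : D.eps = 1)
    (h12 : (D.X.filter (fun χ => irrDeg χ = 12)).card = 2)
    (h45 : (D.X.filter (fun χ => irrDeg χ = 45)).card = 0)
    (h10 : (D.X.filter (fun χ => irrDeg χ = 10)).card = 2)
    (hY : ∀ θ ∈ D.Y, irrDeg θ = 5) (t : G) (ht : orderOf t = 2) (v₀ : ℤ)
    (hv₀ : ∀ χ ∈ D.X, irrDeg χ = 12 → (χ : G → ℂ) t = (v₀ : ℂ)) :
    ∃ c d w : ℤ, 60 + 10 * v₀ ^ 2 - 6 * c ^ 2 - 6 * d ^ 2 - 12 * w ^ 2 = 0 := by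
  obtain ⟨v, hv⟩ := inv_vals t ht
  have hE := classeq11 hcard P D 5 hY t ht
  rw [sum_X_fiber hcard P D, sum_X_fiber hcard P D] at hE
  rw [Finset.card_eq_zero] at h45
  obtain ⟨χa, χb, hneab, hχab⟩ := Finset.card_eq_two.mp h12
  obtain ⟨χ1, χ2, hne12, hχc⟩ := Finset.card_eq_two.mp h10
  have hmema : χa ∈ D.X.filter (fun χ => irrDeg χ = 12) := by rw [hχab]; simp
  have hmemb : χb ∈ D.X.filter (fun χ => irrDeg χ = 12) := by rw [hχab]; simp
  have hmem1 : χ1 ∈ D.X.filter (fun χ => irrDeg χ = 10) := by rw [hχc]; simp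
  have hmem2 : χ2 ∈ D.X.filter (fun χ => irrDeg χ = 10) := by rw [hχc]; simp
  rw [Finset.mem_filter] at hmema hmemb hmem1 hmem2
  have hsa := sg_of_deg12 hcard P D χa hmema.1 hmema.2
  have hsb := sg_of_deg12 hcard P D χb hmemb.1 hmemb.2
  have hs1 := sg_of_deg10 hcard P D χ1 hmem1.1 hmem1.2
  have hs2 := sg_of_deg10 hcard P D χ2 hmem2.1 hmem2.2
  rw [h45, hχab, hχc, Finset.sum_empty, Finset.sum_empty, Finset.sum_pair hneab,
    Finset.sum_pair hneab, Finset.sum_pair hne12, Finset.sum_pair hne12,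
    D.hsgtriv, hsa, hsb, hs1, hs2, heps, irrDeg_triv,
    hmema.2, hmemb.2, hmem1.2, hmem2.2, trivIrr_apply, hv₀ χa hmema.1 hmema.2,
    hv₀ χb hmemb.1 hmemb.2, (hv χ1).1, (hv χ2).1] at hE
  refine ⟨v χ1, v χ2, 1 + v₀ + v₀ - v χ1 - v χ2, ?_⟩
  have : ((60 + 10 * v₀ ^ 2 - 6 * v χ1 ^ 2 - 6 * v χ2 ^ 2 -
      12 * (1 + v₀ + v₀ - v χ1 - v χ2) ^ 2 : ℤ) : ℂ) = 0 := by
    push_cast at hE ⊢
    linear_combination 60 * hE
  exact_mod_cast this

end Cfsg.Agent.Helper15.O7920
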