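import Mathlib
import Cfsg.Agent.Helper15.O7920d

set_option autoImplicit false
set_option linter.unusedSectionVars false
set_option maxHeartbeats 1000000

/-!
Simple groups of order 7920: the local structure at the prime `5`.
-/

namespace Cfsg.Agent.Helper15.O7920

open Cfsg Cfsg.Agent.Helper24 Cfsg.Agent.Helper5 Subgroup Cfsg.Agent.Helper15.BrP

variable {G : Type*} [Group G] [Finite G] [IsSimpleGroup G]

/-- No element of order `11` centralizes a Sylow `5`-subgroup. -/
theorem not_11_dvd_card_centralizer5 (hcard : Nat.card G = 7920) (Q : Sylow 5 G) :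
    ¬ 11 ∣ Nat.card (centralizer ((Q : Subgroup G) : Set G)) := by
  intro h
  obtain ⟨y, hyC, hy⟩ := exists_centralizer_orderOf Q 11 h
  obtain ⟨P', hP'⟩ := exists_sylow_eq_zpowers (p := 11) (card_sylow11 hcard) y hy
  obtain ⟨-, hC, -⟩ := sylow11_data hcard P'
  obtain ⟨x, hxQ, hx⟩ := exists_gen Q (card_sylow5 hcard Q)
  have hc : Commute x y := (Subgroup.mem_centralizer_iff.mp hyC) x hxQ
  have hxC : x ∈ centralizer ((P' : Subgroup G) : Set G) := by
    rw [hP', Subgroup.mem_centralizer_iff]
    intro g hg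
    obtain ⟨k, rfl⟩ := mem_zpowers_iff.mp hg
    exact ((hc.zpow_right k).eq).symm
  have h5 := orderOf_dvd_natCard (⟨x, hxC⟩ : centralizer ((P' : Subgroup G) : Set G))
  rw [Subgroup.orderOf_mk, hx, hC] at h5
  omega

/-- The local structure at the prime `5`. -/
theorem sylow5_data (hcard : Nat.card G = 7920) (Q : Sylow 5 G) :
    ((centralizer ((Q : Subgroup G) : Set G)).relIndex
        (normalizer ((Q : Subgroup G) : Set G)) = 2 ∧
      2 ∣ Nat.card (centralizer ((Q : Subgroup G) : Set G))) ∨
    ((centralizer ((Q : Subgroup G) : Set G)).relIndex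
        (normalizer ((Q : Subgroup G) : Set G)) = 4 ∧
      (2 ∣ Nat.card (centralizer ((Q : Subgroup G) : Set G)) ∨
        Nat.card (centralizer ((Q : Subgroup G) : Set G)) = 5)) := by
  have hG := noncomm hcard
  have hG' : Nat.card G = 1584 * 5 ^ 1 := by rw [hcard]; norm_num
  have hm : ¬ 5 ∣ 1584 := by norm_num
  have hn := Cfsg.Agent.Helper11.card_sylow_mem_filter 1584 1 hG' hm
  have hfilter : (Nat.divisors 1584).filter (fun d => d % 5 = 1) =
      {1, 6, 11, 16, 36, 66, 176, 396} := by
    decide +kernel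
  rw [hfilter] at hn
  simp only [Finset.mem_insert, Finset.mem_singleton] at hn
  have hdvd : 5 ∣ Nat.card G := by rw [hcard]; norm_num
  have hQ := card_sylow5 hcard Q
  have hNQ := Cfsg.Agent.Helper11.card_sylow_mul_card_normalizer Q
  rw [hcard] at hNQ
  obtain ⟨hk1, hk4, hkC, h5C⟩ := Cfsg.Agent.Helper11.simple_automizer_data hG 5 Q hQ
  have h11 := not_11_dvd_card_centralizer5 hcard Q
  have hk4' : (centralizer ((Q : Subgroup G) : Set G)).relIndex
      (normalizer ((Q : Subgroup G) : Set G)) ∣ 4 := hk4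
  have hkle : (centralizer ((Q : Subgroup G) : Set G)).relIndex
      (normalizer ((Q : Subgroup G) : Set G)) ≤ 4 := Nat.le_of_dvd (by norm_num) hk4'
  generalize hk : (centralizer ((Q : Subgroup G) : Set G)).relIndex
    (normalizer ((Q : Subgroup G) : Set G)) = k at hk1 hk4' hkle hkC
  generalize hc : Nat.card (centralizer ((Q : Subgroup G) : Set G)) = c at hkC h5C h11
  have hk24 : k = 2 ∨ k = 4 := by
    interval_cases k
    · simp at hk4'
    · exact absurd rfl hk1
    · exact Or.inl rfl
    · norm_num at hk4'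
    · exact Or.inr rfl
  rcases hn with h | h | h | h | h | h | h | h
  · exact absurd h (Cfsg.Agent.Helper11.simple_card_sylow_ne_one hG 5 hdvd)
  · -- n = 6
    exfalso
    have hidx : (normalizer ((Q : Subgroup G) : Set G)).index = 5 + 1 := by
      have h3 := Q.card_eq_index_normalizer
      rw [h] at h3
      exact h3.symm
    have h2 := Cfsg.Agent.Helper11.simple_normalizer_dvd_of_index hG 5 (by norm_num) _
      (Or.inr hidx) Q hQ
    rw [h] at hNQ
    have hN : Nat.card ↥(normalizer ((Q : Subgroup G) : Set G)) = 1320 := by omega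
    rw [hN] at h2
    norm_num at h2
  · -- n = 11, |N| = 720
    rw [h] at hNQ
    have hN : Nat.card ↥(normalizer ((Q : Subgroup G) : Set G)) = 720 := by omega
    rw [hN] at hkC
    rcases hk24 with rfl | rfl
    · exact Or.inl ⟨rfl, by omega⟩
    · exact Or.inr ⟨rfl, Or.inl (by omega)⟩
  · -- n = 16, |N| = 495
    exfalso
    rw [h] at hNQ
    have hN : Nat.card ↥(normalizer ((Q : Subgroup G) : Set G)) = 495 := by omega
    rw [hN] at hkC
    rcases hk24 with rfl | rfl <;> omega
  · -- n = 36, |N| = 220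
    exfalso
    rw [h] at hNQ
    have hN : Nat.card ↥(normalizer ((Q : Subgroup G) : Set G)) = 220 := by omega
    rw [hN] at hkC
    rcases hk24 with rfl | rfl <;> omega
  · -- n = 66, |N| = 120
    rw [h] at hNQ
    have hN : Nat.card ↥(normalizer ((Q : Subgroup G) : Set G)) = 120 := by omega
    rw [hN] at hkC
    rcases hk24 with rfl | rfl
    · exact Or.inl ⟨rfl, by omega⟩
    · exact Or.inr ⟨rfl, Or.inl (by omega)⟩
  · -- n = 176, |N| = 45
    exfalso
    rw [h] at hNQ
    have hN : Nat.card ↥(normalizer ((Q : Subgroup G) : Set G)) = 45 := by omega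
    rw [hN] at hkC
    rcases hk24 with rfl | rfl <;> omega
  · -- n = 396, |N| = 20
    rw [h] at hNQ
    have hN : Nat.card ↥(normalizer ((Q : Subgroup G) : Set G)) = 20 := by omega
    rw [hN] at hkC
    rcases hk24 with rfl | rfl
    · exact Or.inl ⟨rfl, by omega⟩
    · exact Or.inr ⟨rfl, Or.inr (by omega)⟩

end Cfsg.Agent.Helper15.O7920
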