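import Mathlib
import Cfsg.Agent.Helper15.O7920e

set_option autoImplicit false
set_option linter.unusedSectionVars false
set_option maxHeartbeats 1000000

/-!
Simple groups of order 7920: the shape `1, 12, 12, -10, -10; 5, 5` of the principal `11`-block
is impossible.
-/

namespace Cfsg.Agent.Helper15.O7920

open Cfsg Cfsg.Agent.Helper24 Cfsg.Agent.Helper5 Subgroup Cfsg.Agent.Helper15.BrP

/-- The degree equation for `p = 5`, `e = 2` in the first shape. -/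
theorem arith5_P1 (c d : ℕ) (s eps : ℤ) (hs : s = 1 ∨ s = -1) (he : eps = 1 ∨ eps = -1)
    (hc : c ∣ 7920) (hd : d ∣ 7920) (hc2 : c * c ≤ 7920) (hd2 : d * d ≤ 7920) (hc1 : c ≠ 1)
    (hcs : (c : ℤ) ≡ s [ZMOD 5]) (hds : (d : ℤ) ≡ eps * 2 [ZMOD 5])
    (heq : eps * (d : ℤ) = 1 + s * (c : ℤ))
    (hokc : c = 1 ∨ c = 12 ∨ c = 45 ∨ c = 10 ∨ c = 5 ∨ 11 ∣ c)
    (hokd : d = 1 ∨ d = 12 ∨ d = 45 ∨ d = 10 ∨ d = 5 ∨ 11 ∣ d) :
    c = 11 ∧ s = 1 ∧ d = 12 ∧ eps = 1 := by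
  have h1 := mem5_pm1 c s hs hc hc2 hcs
  have h2 := mem5_pm2 d eps he hd hd2 hds
  rcases h1 with ⟨rfl, rfl | rfl | rfl | rfl | rfl | rfl⟩ | ⟨rfl, rfl | rfl | rfl | rfl⟩ <;>
    rcases h2 with ⟨rfl, rfl | rfl | rfl | rfl⟩ | ⟨rfl, rfl | rfl | rfl | rfl | rfl | rfl⟩ <;>
    omega

variable {G : Type*} [Group G] [Finite G] [IsSimpleGroup G]

/-- The degrees of the irreducible characters, from the principal `11`-block. -/
theorem deg_class (hcard : Nat.card G = 7920) (P : Sylow 11 G) (D : BData 11 P 5)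
    (ψ : IrrCharacter G) :
    ψ = trivIrr G ∨ (ψ ∈ D.X ∧ (irrDeg ψ = 12 ∨ irrDeg ψ = 45 ∨ irrDeg ψ = 10)) ∨ ψ ∈ D.Y ∨
      11 ∣ irrDeg ψ := by
  by_cases hX : ψ ∈ D.X
  · rcases classX hcard P D ψ hX with h | h | h | h
    · exact Or.inl h
    · exact Or.inr (Or.inl ⟨hX, Or.inl h.1⟩)
    · exact Or.inr (Or.inl ⟨hX, Or.inr (Or.inl h.1)⟩)
    · exact Or.inr (Or.inl ⟨hX, Or.inr (Or.inr h.1)⟩)
  · by_cases hY : ψ ∈ D.Y
    · exact Or.inr (Or.inr (Or.inl hY))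
    · exact Or.inr (Or.inr (Or.inr (vanish11 hcard P D ψ hX hY).2))

/-- The first shape is impossible. -/
theorem P1_false [DecidableEq (IrrCharacter G)] (hcard : Nat.card G = 7920) (P : Sylow 11 G)
    (D : BData 11 P 5) (heps : D.eps = 1)
    (h12 : (D.X.filter (fun χ => irrDeg χ = 12)).card = 2)
    (h45 : (D.X.filter (fun χ => irrDeg χ = 45)).card = 0)
    (h10 : (D.X.filter (fun χ => irrDeg χ = 10)).card = 2)
    (hY : ∀ θ ∈ D.Y, irrDeg θ = 5) : False := by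
  obtain ⟨Q⟩ : Nonempty (Sylow 5 G) := inferInstance
  have hQ := card_sylow5 hcard Q
  have hP := card_sylow11 hcard P
  have hp1 : ¬ 5 ∣ orderOf (1 : G) := by rw [orderOf_one]; norm_num
  -- degrees prime to 5
  have hok : ∀ ψ : IrrCharacter G, irrDeg ψ = 1 ∨ irrDeg ψ = 12 ∨ irrDeg ψ = 45 ∨
      irrDeg ψ = 10 ∨ irrDeg ψ = 5 ∨ 11 ∣ irrDeg ψ := by
    intro ψ
    rcases deg_class hcard P D ψ with h | ⟨-, h | h | h⟩ | h | h
    · left; rw [h]; exact irrDeg_triv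
    · exact Or.inr (Or.inl h)
    · exact Or.inr (Or.inr (Or.inl h))
    · exact Or.inr (Or.inr (Or.inr (Or.inl h)))
    · exact Or.inr (Or.inr (Or.inr (Or.inr (Or.inl (hY ψ h)))))
    · exact Or.inr (Or.inr (Or.inr (Or.inr (Or.inr h))))
  rcases sylow5_data hcard Q with ⟨hk, hC2⟩ | ⟨hk, -⟩
  · -- e = 2
    obtain ⟨E⟩ := exists_bdata (perfect hcard) 5 (by norm_num) Q hQ 2 hk (by norm_num)
    have hX' : (E.X.erase (trivIrr G)).card = 1 := by
      rw [Finset.card_erase_of_mem E.htriv, E.hX]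
    obtain ⟨χ, hX1⟩ := Finset.card_eq_one.mp hX'
    have hχ : χ ∈ E.X.erase (trivIrr G) := by rw [hX1]; simp
    rw [Finset.mem_erase] at hχ
    have hsumX : ∀ f : IrrCharacter G → ℂ, ∑ ψ ∈ E.X, f ψ = f (trivIrr G) + f χ := by
      intro f
      rw [← Finset.add_sum_erase _ _ E.htriv, hX1, Finset.sum_singleton]
    have hall : ∀ θ ∈ E.Y, irrDeg χ = 11 ∧ E.sg χ = 1 ∧ irrDeg θ = 12 ∧ E.eps = 1 := by
      intro θ hθ
      have heq := E.deg_eq θ hθ
      rw [← Finset.add_sum_erase _ _ E.htriv, hX1, Finset.sum_singleton, E.hsgtriv, irrDeg_triv]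
        at heq
      exact arith5_P1 (irrDeg χ) (irrDeg θ) (E.sg χ) E.eps (E.hsg χ hχ.2) E.heps
        (irrDeg_dvd hcard χ) (irrDeg_dvd hcard θ) (irrDeg_sq_le hcard χ) (irrDeg_sq_le hcard θ)
        (irrDeg_ne_one hcard χ hχ.1) (E.hdegX χ hχ.2) (E.hdegY θ hθ)
        (by rw [heq]; push_cast; ring) (hok χ) (hok θ)
    have hY2 : E.Y.card = 2 := by rw [E.hY]
    obtain ⟨θ₀, hθ₀⟩ : E.Y.Nonempty := Finset.card_pos.mp (by rw [hY2]; norm_num)
    obtain ⟨hc11, hsχ, -, hepsE⟩ := hall θ₀ hθ₀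
    -- the characters of degree 12
    have hYsub : E.Y ⊆ D.X.filter (fun χ => irrDeg χ = 12) := by
      intro θ hθ
      have hd12 := (hall θ hθ).2.2.1
      rw [Finset.mem_filter]
      refine ⟨?_, hd12⟩
      rcases deg_class hcard P D θ with h | ⟨h, -⟩ | h | h
      · rw [h, irrDeg_triv] at hd12; omega
      · exact h
      · rw [hY θ h] at hd12; omega
      · rw [hd12] at h; omega
    have hYeq : E.Y = D.X.filter (fun χ => irrDeg χ = 12) :=
      Finset.eq_of_subset_of_card_le hYsub (by rw [h12, hY2])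
    -- an involution in C(Q)
    have : Fact (Nat.Prime 2) := ⟨by norm_num⟩
    obtain ⟨y, hyC, hy⟩ := exists_centralizer_orderOf Q 2 hC2
    obtain ⟨m, hm⟩ := involution_val (by norm_num) Q hQ E χ hχ.2 y hyC hy
    rw [hc11, hsχ] at hm
    have hθy : ∀ θ ∈ E.Y, (θ : G → ℂ) y = ((10 * (m : ℤ) - 18 : ℤ) : ℂ) := by
      intro θ hθ
      have h1 := E.hreg θ hθ y (by rw [hy]; norm_num)
      rw [hsumX, hepsE, E.hsgtriv, hsχ, trivIrr_apply, hm] at h1
      push_cast at h1 ⊢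
      linear_combination h1
    -- bounds
    have hθ₀X : θ₀ ∈ D.X := (Finset.mem_filter.mp (hYsub hθ₀)).1
    have hθ₀12 : irrDeg θ₀ = 12 := (hall θ₀ hθ₀).2.2.1
    have hnorm := norm_le_irrDeg θ₀ y
    rw [hθy θ₀ hθ₀, Complex.norm_intCast, hθ₀12] at hnorm
    have habs : |10 * (m : ℤ) - 18| ≤ 12 := by
      have : ((|10 * (m : ℤ) - 18| : ℤ) : ℝ) ≤ ((12 : ℤ) : ℝ) := by
        push_cast at hnorm ⊢
        exact hnorm
      exact_mod_cast this
    rw [abs_le] at habs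
    obtain ⟨x, hxP, hx⟩ := exists_gen P hP
    have hx1 : x ≠ 1 := by intro h; rw [h, orderOf_one] at hx; omega
    have hy1 : y ≠ 1 := by intro h; rw [h, orderOf_one] at hy; omega
    have hne12 : 10 * (m : ℤ) - 18 ≠ 12 := by
      intro h
      apply hy1
      apply eq_one_of_apply_eq_irrDeg θ₀ x _ y
      · rw [hθy θ₀ hθ₀, h, hθ₀12]; norm_num
      · rw [val_gen D θ₀ hθ₀X x hxP hx1, sg_of_deg12 hcard P D θ₀ hθ₀X hθ₀12, hθ₀12]
        norm_num
    have hv : 10 * (m : ℤ) - 18 = -8 ∨ 10 * (m : ℤ) - 18 = 2 := by omega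
    obtain ⟨c, d, w, hE⟩ := P1_eq hcard P D heps h12 h45 h10 hY y hy (10 * (m : ℤ) - 18)
      (by
        intro ψ hψX hψ12
        apply hθy
        rw [hYeq, Finset.mem_filter]
        exact ⟨hψX, hψ12⟩)
    exact arith_P1 _ c d w hv hE
  · -- e = 4
    obtain ⟨F⟩ := exists_bfull 5 (by norm_num) Q hQ hk
    have h0 := F.hreg 1 hp1
    simp only [irrDeg_spec] at h0
    have h0' : ∑ χ ∈ F.B, F.sg χ * (irrDeg χ : ℤ) = 0 := by exact_mod_cast h0
    rw [← Finset.add_sum_erase _ _ F.htriv, F.hsgtriv, irrDeg_triv] at h0'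
    have hdvd : (11 : ℤ) ∣ ∑ χ ∈ F.B.erase (trivIrr G), F.sg χ * (irrDeg χ : ℤ) := by
      apply Finset.dvd_sum
      intro χ hχ
      rw [Finset.mem_erase] at hχ
      have hmod := F.hdeg χ hχ.2
      have hs := F.hsg χ hχ.2
      unfold Int.ModEq at hmod
      have h11 : 11 ∣ irrDeg χ := by
        rcases hok χ with h | h | h | h | h | h
        · exact absurd h (irrDeg_ne_one hcard χ hχ.1)
        · rw [h] at hmod; rcases hs with hs | hs <;> rw [hs] at hmod <;> omega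
        · rw [h] at hmod; rcases hs with hs | hs <;> rw [hs] at hmod <;> omega
        · rw [h] at hmod; rcases hs with hs | hs <;> rw [hs] at hmod <;> omega
        · rw [h] at hmod; rcases hs with hs | hs <;> rw [hs] at hmod <;> omega
        · exact h
      have : (11 : ℤ) ∣ (irrDeg χ : ℤ) := by exact_mod_cast h11
      exact Dvd.dvd.mul_left this _
    omega

end Cfsg.Agent.Helper15.O7920
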