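import Mathlib
import Cfsg.Agent.Helper15.O7920f

set_option autoImplicit false
set_option linter.unusedSectionVars false
set_option maxHeartbeats 1000000

/-!
Simple groups of order 7920: the principal `5`-block for the shape `1, 45, -10, -10, -10; 16, 16`
of the principal `11`-block.
-/

namespace Cfsg.Agent.Helper15.O7920

open Cfsg Cfsg.Agent.Helper24 Cfsg.Agent.Helper5 Subgroup Cfsg.Agent.Helper15.BrP

/-- The degree equation for `p = 5`, `e = 2` in the second shape. -/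
theorem arith5_P2 (c d : ℕ) (s eps : ℤ) (hs : s = 1 ∨ s = -1) (he : eps = 1 ∨ eps = -1)
    (hc : c ∣ 7920) (hd : d ∣ 7920) (hc2 : c * c ≤ 7920) (hd2 : d * d ≤ 7920) (hc1 : c ≠ 1)
    (hcs : (c : ℤ) ≡ s [ZMOD 5]) (hds : (d : ℤ) ≡ eps * 2 [ZMOD 5])
    (heq : eps * (d : ℤ) = 1 + s * (c : ℤ))
    (hokc : c = 1 ∨ c = 45 ∨ c = 10 ∨ c = 16 ∨ 11 ∣ c)
    (hokd : d = 1 ∨ d = 45 ∨ d = 10 ∨ d = 16 ∨ 11 ∣ d) : False := by
  have h1 := mem5_pm1 c s hs hc hc2 hcs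
  have h2 := mem5_pm2 d eps he hd hd2 hds
  rcases h1 with ⟨rfl, rfl | rfl | rfl | rfl | rfl | rfl⟩ | ⟨rfl, rfl | rfl | rfl | rfl⟩ <;>
    rcases h2 with ⟨rfl, rfl | rfl | rfl | rfl⟩ | ⟨rfl, rfl | rfl | rfl | rfl | rfl | rfl⟩ <;>
    omega

/-- The possible degrees in the principal `5`-block in the second shape. -/
theorem arith5_B (c : ℕ) (s : ℤ) (hs : s = 1 ∨ s = -1) (hc : c ∣ 7920) (hc2 : c * c ≤ 7920)
    (hcs : (c : ℤ) ≡ s [ZMOD 5]) (hokc : c = 1 ∨ c = 45 ∨ c = 10 ∨ c = 16 ∨ 11 ∣ c) :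
    (c = 1 ∧ s = 1) ∨ (c = 16 ∧ s = 1) ∨ (c = 11 ∧ s = 1) ∨ (c = 66 ∧ s = 1) ∨
      (c = 44 ∧ s = -1) := by
  have h1 := mem5_pm1 c s hs hc hc2 hcs
  rcases h1 with ⟨rfl, rfl | rfl | rfl | rfl | rfl | rfl⟩ | ⟨rfl, rfl | rfl | rfl | rfl⟩ <;>
    omega

variable {G : Type*} [Group G] [Finite G] [IsSimpleGroup G]

section Full

variable [DecidableEq (IrrCharacter G)]

/-- The possible degrees and signs in the principal `5`-block. -/
theorem classB (hcard : Nat.card G = 7920)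
    (hok : ∀ ψ : IrrCharacter G, irrDeg ψ = 1 ∨ irrDeg ψ = 45 ∨ irrDeg ψ = 10 ∨ irrDeg ψ = 16 ∨
      11 ∣ irrDeg ψ) (Q : Sylow 5 G) (F : BFull 5 Q) :
    ∀ χ ∈ F.B, (χ = trivIrr G) ∨ (irrDeg χ = 16 ∧ F.sg χ = 1) ∨ (irrDeg χ = 11 ∧ F.sg χ = 1) ∨
      (irrDeg χ = 66 ∧ F.sg χ = 1) ∨ (irrDeg χ = 44 ∧ F.sg χ = -1) := by
  intro χ hχ
  rcases arith5_B (irrDeg χ) (F.sg χ) (F.hsg χ hχ) (irrDeg_dvd hcard χ) (irrDeg_sq_le hcard χ)
    (F.hdeg χ hχ) (hok χ) with h | h | h | h | h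
  · left
    by_contra hne
    exact irrDeg_ne_one hcard χ hne h.1
  · exact Or.inr (Or.inl h)
  · exact Or.inr (Or.inr (Or.inl h))
  · exact Or.inr (Or.inr (Or.inr (Or.inl h)))
  · exact Or.inr (Or.inr (Or.inr (Or.inr h)))

/-- Decomposition of a sum over the principal `5`-block according to the degrees. -/
theorem sum_B_fiber (hcard : Nat.card G = 7920)
    (hok : ∀ ψ : IrrCharacter G, irrDeg ψ = 1 ∨ irrDeg ψ = 45 ∨ irrDeg ψ = 10 ∨ irrDeg ψ = 16 ∨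
      11 ∣ irrDeg ψ) (Q : Sylow 5 G) (F : BFull 5 Q) {M : Type*}
    [AddCommMonoid M] (f : IrrCharacter G → M) :
    ∑ χ ∈ F.B, f χ = f (trivIrr G) + ∑ χ ∈ F.B.filter (fun χ => irrDeg χ = 16), f χ +
      ∑ χ ∈ F.B.filter (fun χ => irrDeg χ = 11), f χ +
      ∑ χ ∈ F.B.filter (fun χ => irrDeg χ = 66), f χ +
      ∑ χ ∈ F.B.filter (fun χ => irrDeg χ = 44), f χ := by
  have hmaps : ∀ χ ∈ F.B, irrDeg χ ∈ ({1, 16, 11, 66, 44} : Finset ℕ) := by
    intro χ hχ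
    simp only [Finset.mem_insert, Finset.mem_singleton]
    rcases classB hcard hok Q F χ hχ with h | h | h | h | h
    · left; rw [h]; exact irrDeg_triv
    · exact Or.inr (Or.inl h.1)
    · exact Or.inr (Or.inr (Or.inl h.1))
    · exact Or.inr (Or.inr (Or.inr (Or.inl h.1)))
    · exact Or.inr (Or.inr (Or.inr (Or.inr h.1)))
  have h1 : F.B.filter (fun χ => irrDeg χ = 1) = {trivIrr G} := by
    ext χ
    rw [Finset.mem_filter, Finset.mem_singleton]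
    constructor
    · rintro ⟨_, h⟩
      by_contra hne
      exact irrDeg_ne_one hcard χ hne h
    · rintro rfl
      exact ⟨F.htriv, irrDeg_triv⟩
  rw [← Finset.sum_fiberwise_of_maps_to hmaps f]
  rw [Finset.sum_insert (by decide), Finset.sum_insert (by decide), Finset.sum_insert (by decide),
    Finset.sum_insert (by decide), Finset.sum_singleton, h1, Finset.sum_singleton]
  simp only [add_assoc]

end Full

end Cfsg.Agent.Helper15.O7920
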