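import Mathlib
import Cfsg.Agent.Helper15.O7920g

set_option autoImplicit false
set_option linter.unusedSectionVars false
set_option maxHeartbeats 1000000

/-!
Simple groups of order 7920: the principal `5`-block for the shape `1, 45, -10, -10, -10; 16, 16`
of the principal `11`-block is `1, 16, 16, 11, -44`, and the Sylow `5`-subgroups are
self-centralizing.
-/

namespace Cfsg.Agent.Helper15.O7920

open Cfsg Cfsg.Agent.Helper24 Cfsg.Agent.Helper5 Subgroup Cfsg.Agent.Helper15.BrP

variable {G : Type*} [Group G] [Finite G] [IsSimpleGroup G]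

/-- The degrees in the second shape. -/
theorem hok_P2 (hcard : Nat.card G = 7920) (P : Sylow 11 G)
    (D : BData 11 P 5) (hY : ∀ θ ∈ D.Y, irrDeg θ = 16)
    (h12 : ∀ χ ∈ D.X, irrDeg χ ≠ 12) (ψ : IrrCharacter G) :
    irrDeg ψ = 1 ∨ irrDeg ψ = 45 ∨ irrDeg ψ = 10 ∨ irrDeg ψ = 16 ∨ 11 ∣ irrDeg ψ := by
  rcases deg_class hcard P D ψ with h | ⟨hX, h | h | h⟩ | h | h
  · left; rw [h]; exact irrDeg_triv
  · exact absurd h (h12 ψ hX)
  · exact Or.inr (Or.inl h)
  · exact Or.inr (Or.inr (Or.inl h))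
  · exact Or.inr (Or.inr (Or.inr (Or.inl (hY ψ h))))
  · exact Or.inr (Or.inr (Or.inr (Or.inr h)))

theorem P2_block5 [DecidableEq (IrrCharacter G)] (hcard : Nat.card G = 7920) (P : Sylow 11 G)
    (D : BData 11 P 5) (heps : D.eps = 1)
    (h12 : (D.X.filter (fun χ => irrDeg χ = 12)).card = 0)
    (h45 : (D.X.filter (fun χ => irrDeg χ = 45)).card = 1)
    (h10 : (D.X.filter (fun χ => irrDeg χ = 10)).card = 3)
    (hY : ∀ θ ∈ D.Y, irrDeg θ = 16) (Q : Sylow 5 G) :
    ∃ (F : BFull 5 Q),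
      Nat.card (centralizer ((Q : Subgroup G) : Set G)) = 5 ∧
      F.B.filter (fun χ => irrDeg χ = 16) = D.Y ∧
      (F.B.filter (fun χ => irrDeg χ = 11)).card = 1 ∧
      (F.B.filter (fun χ => irrDeg χ = 66)).card = 0 ∧
      (F.B.filter (fun χ => irrDeg χ = 44)).card = 1 := by
  have hQ := card_sylow5 hcard Q
  have hP := card_sylow11 hcard P
  have hp1 : ¬ 5 ∣ orderOf (1 : G) := by rw [orderOf_one]; norm_num
  have hno12 : ∀ χ ∈ D.X, irrDeg χ ≠ 12 := by
    intro χ hχ h
    rw [Finset.card_eq_zero] at h12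
    have : χ ∈ D.X.filter (fun χ => irrDeg χ = 12) := Finset.mem_filter.mpr ⟨hχ, h⟩
    rw [h12] at this
    exact absurd this (Finset.notMem_empty _)
  have hok := hok_P2 hcard P D hY hno12
  have hY2 : D.Y.card = 2 := by rw [D.hY]
  rcases sylow5_data hcard Q with ⟨hk, -⟩ | ⟨hk, hC⟩
  · -- e = 2
    exfalso
    obtain ⟨E⟩ := exists_bdata (perfect hcard) 5 (by norm_num) Q hQ 2 hk (by norm_num)
    have hX' : (E.X.erase (trivIrr G)).card = 1 := by
      rw [Finset.card_erase_of_mem E.htriv, E.hX]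
    obtain ⟨χ, hX1⟩ := Finset.card_eq_one.mp hX'
    have hχ : χ ∈ E.X.erase (trivIrr G) := by rw [hX1]; simp
    rw [Finset.mem_erase] at hχ
    obtain ⟨θ, hθ⟩ : E.Y.Nonempty := Finset.card_pos.mp (by rw [E.hY]; norm_num)
    have heq := E.deg_eq θ hθ
    rw [← Finset.add_sum_erase _ _ E.htriv, hX1, Finset.sum_singleton, E.hsgtriv, irrDeg_triv]
      at heq
    exact arith5_P2 (irrDeg χ) (irrDeg θ) (E.sg χ) E.eps (E.hsg χ hχ.2) E.heps
      (irrDeg_dvd hcard χ) (irrDeg_dvd hcard θ) (irrDeg_sq_le hcard χ) (irrDeg_sq_le hcard θ)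
      (irrDeg_ne_one hcard χ hχ.1) (E.hdegX χ hχ.2) (E.hdegY θ hθ)
      (by rw [heq]; push_cast; ring) (hok χ) (hok θ)
  · -- e = 4
    obtain ⟨F⟩ := exists_bfull 5 (by norm_num) Q hQ hk
    set n16 := (F.B.filter (fun χ => irrDeg χ = 16)).card with hn16
    set n11 := (F.B.filter (fun χ => irrDeg χ = 11)).card with hn11
    set n66 := (F.B.filter (fun χ => irrDeg χ = 66)).card with hn66
    set n44 := (F.B.filter (fun χ => irrDeg χ = 44)).card with hn44
    have hcardB := sum_B_fiber hcard hok Q F (fun _ => (1 : ℕ))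
    simp only [Finset.sum_const, smul_eq_mul, mul_one, F.hB] at hcardB
    have hsum := sum_B_fiber hcard hok Q F (fun χ => F.sg χ * (irrDeg χ : ℤ))
    have hfib : ∀ (n : ℕ) (c : ℤ), (∀ χ ∈ F.B, irrDeg χ = n → F.sg χ * (irrDeg χ : ℤ) = c) →
        ∑ χ ∈ F.B.filter (fun χ => irrDeg χ = n), F.sg χ * (irrDeg χ : ℤ) =
          c * ((F.B.filter (fun χ => irrDeg χ = n)).card : ℤ) := by
      intro n c h
      have : ∀ χ ∈ F.B.filter (fun χ => irrDeg χ = n), F.sg χ * (irrDeg χ : ℤ) = c := by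
        intro χ hχ
        rw [Finset.mem_filter] at hχ
        exact h χ hχ.1 hχ.2
      rw [Finset.sum_congr rfl this, Finset.sum_const, nsmul_eq_mul, mul_comm]
    have hs16 := hfib 16 16 (by
      intro χ hχ h
      rcases classB hcard hok Q F χ hχ with h' | h' | h' | h' | h'
      · rw [h', irrDeg_triv] at h; omega
      · rw [h'.1, h'.2]; norm_num
      · omega
      · omega
      · omega)
    have hs11 := hfib 11 11 (by
      intro χ hχ h
      rcases classB hcard hok Q F χ hχ with h' | h' | h' | h' | h'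
      · rw [h', irrDeg_triv] at h; omega
      · omega
      · rw [h'.1, h'.2]; norm_num
      · omega
      · omega)
    have hs66 := hfib 66 66 (by
      intro χ hχ h
      rcases classB hcard hok Q F χ hχ with h' | h' | h' | h' | h'
      · rw [h', irrDeg_triv] at h; omega
      · omega
      · omega
      · rw [h'.1, h'.2]; norm_num
      · omega)
    have hs44 := hfib 44 (-44) (by
      intro χ hχ h
      rcases classB hcard hok Q F χ hχ with h' | h' | h' | h' | h'
      · rw [h', irrDeg_triv] at h; omega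
      · omega
      · omega
      · omega
      · rw [h'.1, h'.2]; norm_num)
    rw [hs16, hs11, hs66, hs44, F.hsgtriv, irrDeg_triv] at hsum
    have h0 := F.hreg 1 hp1
    simp only [irrDeg_spec] at h0
    have h0' : ∑ χ ∈ F.B, F.sg χ * (irrDeg χ : ℤ) = 0 := by exact_mod_cast h0
    rw [h0'] at hsum
    have hsub : F.B.filter (fun χ => irrDeg χ = 16) ⊆ D.Y := by
      intro θ hθ
      rw [Finset.mem_filter] at hθ
      rcases deg_class hcard P D θ with h | ⟨_, h | h | h⟩ | h | h
      · rw [h, irrDeg_triv] at hθ; omega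
      · omega
      · omega
      · omega
      · exact h
      · rw [hθ.2] at h; omega
    have hle : n16 ≤ 2 := by
      rw [← hY2]; exact Finset.card_le_card hsub
    have hn : n16 = 2 ∧ n11 = 1 ∧ n66 = 0 ∧ n44 = 1 := by
      push_cast at hsum
      omega
    have hB16 : F.B.filter (fun χ => irrDeg χ = 16) = D.Y :=
      Finset.eq_of_subset_of_card_le hsub (by rw [hY2, ← hn16, hn.1])
    refine ⟨F, ?_, hB16, hn.2.1, hn.2.2.1, hn.2.2.2⟩
    rcases hC with hC | hC
    · exfalso
      have : Fact (Nat.Prime 2) := ⟨by norm_num⟩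
      obtain ⟨y, hyC, hy⟩ := exists_centralizer_orderOf Q 2 hC
      obtain ⟨θ₁, hθ₁⟩ : D.Y.Nonempty := Finset.card_pos.mp (by rw [hY2]; norm_num)
      have hθ₁B : θ₁ ∈ F.B.filter (fun χ => irrDeg χ = 16) := by rw [hB16]; exact hθ₁
      rw [Finset.mem_filter] at hθ₁B
      have hsg1 : F.sg θ₁ = 1 := by
        rcases classB hcard hok Q F θ₁ hθ₁B.1 with h' | h' | h' | h' | h'
        · rw [h', irrDeg_triv] at hθ₁B; omega
        · exact h'.2
        · omega
        · omega
        · omega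
      obtain ⟨m, hm⟩ := involution_val_raw (by norm_num) Q hQ θ₁ (F.sg θ₁) (F.hval θ₁ hθ₁B.1)
        y hyC hy
      rw [hsg1, hθ₁B.2] at hm
      obtain ⟨a, c1, c2, c3, w, hw, ha, hc1, hc2, hc3, hE⟩ :=
        P2_eq hcard P D heps h12 h45 h10 hY y hy θ₁ hθ₁
      have hwm : w = 10 * (m : ℤ) - 24 := by
        have : (w : ℂ) = ((10 * (m : ℤ) - 24 : ℤ) : ℂ) := by
          rw [← hw, hm]; push_cast; ring
        exact_mod_cast this
      have hnorm := norm_le_irrDeg θ₁ y
      rw [hw, Complex.norm_intCast, hθ₁B.2] at hnorm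
      have habs : |w| ≤ 16 := by
        have : ((|w| : ℤ) : ℝ) ≤ ((16 : ℤ) : ℝ) := by
          push_cast at hnorm ⊢
          exact hnorm
        exact_mod_cast this
      rw [abs_le] at habs
      obtain ⟨x, hxQ, hx⟩ := exists_gen Q hQ
      have hx1 : x ≠ 1 := by intro h; rw [h, orderOf_one] at hx; omega
      have hy1 : y ≠ 1 := by intro h; rw [h, orderOf_one] at hy; omega
      have hne16 : w ≠ 16 := by
        intro h
        apply hy1
        apply eq_one_of_apply_eq_irrDeg θ₁ x _ y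
        · rw [hw, h, hθ₁B.2]; norm_num
        · have h3 := F.hval θ₁ hθ₁B.1 x hxQ hx1 1 (Subgroup.one_mem _) hp1
          rw [mul_one, hsg1] at h3
          rw [h3, hθ₁B.2]
          norm_num
      exact arith_P2 a c1 c2 c3 w m ha hc1 hc2 hc3 hwm habs.1
        (lt_of_le_of_ne habs.2 hne16) hE
    · exact hC

end Cfsg.Agent.Helper15.O7920
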