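import Mathlib
import Cfsg.Agent.Helper15.O7920h

set_option autoImplicit false
set_option linter.unusedSectionVars false
set_option maxHeartbeats 1000000

/-!
Simple groups of order 7920: the degrees of the irreducible characters.
-/

namespace Cfsg.Agent.Helper15.O7920

open Cfsg Cfsg.Agent.Helper24 Cfsg.Agent.Helper5 Subgroup Cfsg.Agent.Helper15.BrP

variable {G : Type*} [Group G] [Finite G] [IsSimpleGroup G]

omit [IsSimpleGroup G] in
theorem sum_filter_deg [DecidableEq (IrrCharacter G)] (s : Finset (IrrCharacter G)) (k : ℕ)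
    (φ : ℕ → ℕ) :
    ∑ χ ∈ s.filter (fun χ => irrDeg χ = k), φ (irrDeg χ) =
      (s.filter (fun χ => irrDeg χ = k)).card * φ k := by
  have : ∀ χ ∈ s.filter (fun χ => irrDeg χ = k), φ (irrDeg χ) = φ k := by
    intro χ hχ
    rw [Finset.mem_filter] at hχ
    rw [hχ.2]
  rw [Finset.sum_congr rfl this, Finset.sum_const, smul_eq_mul]

/-- Decomposition of a sum of a function of the degrees over all irreducible characters. -/
theorem P2_sum_all [DecidableEq (IrrCharacter G)] [Fintype (IrrCharacter G)]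
    (hcard : Nat.card G = 7920) (P : Sylow 11 G) (D : BData 11 P 5)
    (h12 : (D.X.filter (fun χ => irrDeg χ = 12)).card = 0)
    (h45 : (D.X.filter (fun χ => irrDeg χ = 45)).card = 1)
    (h10 : (D.X.filter (fun χ => irrDeg χ = 10)).card = 3)
    (hY : ∀ θ ∈ D.Y, irrDeg θ = 16) (Q : Sylow 5 G) (F : BFull 5 Q)
    (hB16 : F.B.filter (fun χ => irrDeg χ = 16) = D.Y)
    (hn11 : (F.B.filter (fun χ => irrDeg χ = 11)).card = 1)
    (hn66 : (F.B.filter (fun χ => irrDeg χ = 66)).card = 0)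
    (hn44 : (F.B.filter (fun χ => irrDeg χ = 44)).card = 1) (φ : ℕ → ℕ) :
    ∑ χ : IrrCharacter G, φ (irrDeg χ) = φ 1 + φ 45 + 3 * φ 10 + 2 * φ 16 + φ 11 + φ 44 +
      ∑ χ ∈ (D.X ∪ D.Y ∪ F.B)ᶜ, φ (irrDeg χ) := by
  have hno12 : ∀ χ ∈ D.X, irrDeg χ ≠ 12 := by
    intro χ hχ h
    rw [Finset.card_eq_zero] at h12
    have : χ ∈ D.X.filter (fun χ => irrDeg χ = 12) := Finset.mem_filter.mpr ⟨hχ, h⟩
    rw [h12] at this
    exact absurd this (Finset.notMem_empty _)
  have hok := hok_P2 hcard P D hY hno12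
  have hY2 : D.Y.card = 2 := by rw [D.hY]
  -- the sum over X
  have hX := sum_X_fiber hcard P D (fun χ => φ (irrDeg χ))
  rw [sum_filter_deg, sum_filter_deg, sum_filter_deg, h12, h45, h10, irrDeg_triv] at hX
  -- the sum over Y
  have hYs : ∑ χ ∈ D.Y, φ (irrDeg χ) = 2 * φ 16 := by
    rw [Finset.sum_congr rfl (fun θ hθ => by rw [hY θ hθ]), Finset.sum_const, hY2, smul_eq_mul]
  -- the sum over B \ (X ∪ Y)
  have hnotmem : ∀ χ : IrrCharacter G, irrDeg χ = 11 ∨ irrDeg χ = 44 → χ ∉ D.X ∪ D.Y := by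
    intro χ hχ hmem
    rcases Finset.mem_union.mp hmem with h | h
    · rcases classX hcard P D χ h with h' | h' | h' | h'
      · rw [h', irrDeg_triv] at hχ; omega
      · omega
      · omega
      · omega
    · have := hY χ h; omega
  have hBs : ∑ χ ∈ F.B \ (D.X ∪ D.Y), φ (irrDeg χ) = φ 11 + φ 44 := by
    rw [Finset.sdiff_eq_filter, Finset.sum_filter,
      sum_B_fiber hcard hok Q F (fun χ => if χ ∉ D.X ∪ D.Y then φ (irrDeg χ) else 0)]
    have e1 : (if trivIrr G ∉ D.X ∪ D.Y then φ (irrDeg (trivIrr G)) else 0) = 0 := by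
      rw [if_neg]
      intro h
      exact h (Finset.mem_union_left _ D.htriv)
    have e16 : ∑ χ ∈ F.B.filter (fun χ => irrDeg χ = 16),
        (if χ ∉ D.X ∪ D.Y then φ (irrDeg χ) else 0) = 0 := by
      apply Finset.sum_eq_zero
      intro χ hχ
      rw [hB16] at hχ
      rw [if_neg]
      intro h
      exact h (Finset.mem_union_right _ hχ)
    have e11 : ∑ χ ∈ F.B.filter (fun χ => irrDeg χ = 11),
        (if χ ∉ D.X ∪ D.Y then φ (irrDeg χ) else 0) = φ 11 := by
      have : ∀ χ ∈ F.B.filter (fun χ => irrDeg χ = 11),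
          (if χ ∉ D.X ∪ D.Y then φ (irrDeg χ) else 0) = φ 11 := by
        intro χ hχ
        rw [Finset.mem_filter] at hχ
        rw [if_pos (hnotmem χ (Or.inl hχ.2)), hχ.2]
      rw [Finset.sum_congr rfl this, Finset.sum_const, hn11, one_smul]
    have e66 : ∑ χ ∈ F.B.filter (fun χ => irrDeg χ = 66),
        (if χ ∉ D.X ∪ D.Y then φ (irrDeg χ) else 0) = 0 := by
      rw [Finset.card_eq_zero.mp hn66, Finset.sum_empty]
    have e44 : ∑ χ ∈ F.B.filter (fun χ => irrDeg χ = 44),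
        (if χ ∉ D.X ∪ D.Y then φ (irrDeg χ) else 0) = φ 44 := by
      have : ∀ χ ∈ F.B.filter (fun χ => irrDeg χ = 44),
          (if χ ∉ D.X ∪ D.Y then φ (irrDeg χ) else 0) = φ 44 := by
        intro χ hχ
        rw [Finset.mem_filter] at hχ
        rw [if_pos (hnotmem χ (Or.inr hχ.2)), hχ.2]
      rw [Finset.sum_congr rfl this, Finset.sum_const, hn44, one_smul]
    rw [e1, e16, e11, e66, e44]
    ring
  rw [← Finset.sum_add_sum_compl (D.X ∪ D.Y ∪ F.B), ← Finset.union_sdiff_self_eq_union,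
    Finset.sum_union Finset.disjoint_sdiff, Finset.sum_union D.hdisj, hX, hYs, hBs]
  ring

end Cfsg.Agent.Helper15.O7920
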