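import Mathlib
import Cfsg.Agent.Helper15.O7920i

set_option autoImplicit false
set_option linter.unusedSectionVars false
set_option maxHeartbeats 1000000

/-!
Simple groups of order 7920: the degrees of the irreducible characters are
`1, 10, 10, 10, 11, 16, 16, 44, 45, 55`.
-/

namespace Cfsg.Agent.Helper15.O7920

open Cfsg Cfsg.Agent.Helper24 Cfsg.Agent.Helper5 Subgroup Cfsg.Agent.Helper15.BrP

theorem ite_count (n : ℕ) :
    (if 1 = n then 1 else 0) + (if 45 = n then 1 else 0) + 3 * (if 10 = n then 1 else 0) +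
      2 * (if 16 = n then 1 else 0) + (if 11 = n then 1 else 0) + (if 44 = n then 1 else 0) +
      (if 55 = n then 1 else 0) =
    if n = 1 ∨ n = 11 ∨ n = 44 ∨ n = 45 ∨ n = 55 then 1 else if n = 10 then 3
      else if n = 16 then 2 else 0 := by
  by_cases h1 : n = 1
  · subst h1; simp
  by_cases h2 : n = 45
  · subst h2; simp
  by_cases h3 : n = 10
  · subst h3; simp
  by_cases h4 : n = 16
  · subst h4; simp
  by_cases h5 : n = 11
  · subst h5; simp
  by_cases h6 : n = 44
  · subst h6; simp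
  by_cases h7 : n = 55
  · subst h7; simp
  have e1 : ¬ (1 = n) := fun h => h1 h.symm
  have e2 : ¬ (45 = n) := fun h => h2 h.symm
  have e3 : ¬ (10 = n) := fun h => h3 h.symm
  have e4 : ¬ (16 = n) := fun h => h4 h.symm
  have e5 : ¬ (11 = n) := fun h => h5 h.symm
  have e6 : ¬ (44 = n) := fun h => h6 h.symm
  have e7 : ¬ (55 = n) := fun h => h7 h.symm
  simp [h1, h2, h3, h4, h5, h6, h7, e1, e2, e3, e4, e5, e6, e7]

variable {G : Type*} [Group G] [Finite G] [IsSimpleGroup G]

theorem P2_final [DecidableEq (IrrCharacter G)] [Fintype (IrrCharacter G)]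
    (hcard : Nat.card G = 7920) (P : Sylow 11 G) (D : BData 11 P 5) (heps : D.eps = 1)
    (h12 : (D.X.filter (fun χ => irrDeg χ = 12)).card = 0)
    (h45 : (D.X.filter (fun χ => irrDeg χ = 45)).card = 1)
    (h10 : (D.X.filter (fun χ => irrDeg χ = 10)).card = 3)
    (hY : ∀ θ ∈ D.Y, irrDeg θ = 16) (n : ℕ) :
    (Finset.univ.filter (fun χ : IrrCharacter G => irrDeg χ = n)).card =
      if n = 1 ∨ n = 11 ∨ n = 44 ∨ n = 45 ∨ n = 55 then 1 else if n = 10 then 3
        else if n = 16 then 2 else 0 := by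
  have : Fintype G := Fintype.ofFinite G
  obtain ⟨Q⟩ : Nonempty (Sylow 5 G) := inferInstance
  obtain ⟨F, hC5, hB16, hn11, hn66, hn44⟩ := P2_block5 hcard P D heps h12 h45 h10 hY Q
  have hQ := card_sylow5 hcard Q
  have hall := P2_sum_all hcard P D h12 h45 h10 hY Q F hB16 hn11 hn66 hn44
  have hvan5 := vanish_full Q hQ F hC5
  set R := (D.X ∪ D.Y ∪ F.B)ᶜ with hR
  have h55 : ∀ ψ ∈ R, 55 ∣ irrDeg ψ := by
    intro ψ hψ
    rw [hR, Finset.mem_compl, Finset.mem_union, Finset.mem_union, not_or, not_or] at hψ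
    have h11 := (vanish11 hcard P D ψ hψ.1.1 hψ.1.2).2
    have h5 := (hvan5 ψ hψ.2).2
    exact Nat.Coprime.mul_dvd_of_dvd_of_dvd (by norm_num : Nat.Coprime 11 5) h11 h5
  have hsq := hall (fun k => k ^ 2)
  beta_reduce at hsq
  rw [sum_irrDeg_sq (G := G), hcard] at hsq
  have hRsq : ∑ χ ∈ R, irrDeg χ ^ 2 = 3025 := by omega
  have hge : ∀ ψ ∈ R, 3025 ≤ irrDeg ψ ^ 2 := by
    intro ψ hψ
    obtain ⟨k, hk⟩ := h55 ψ hψ
    have hpos := irrDeg_pos ψ
    have hk1 : 1 ≤ k := by
      rcases Nat.eq_zero_or_pos k with h | h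
      · rw [h, mul_zero] at hk; omega
      · exact h
    rw [hk]
    nlinarith
  have hcardR : R.card = 1 := by
    have h1 := Finset.card_nsmul_le_sum R (fun ψ => irrDeg ψ ^ 2) 3025 hge
    rw [hRsq, smul_eq_mul] at h1
    have h2 : R.card ≠ 0 := by
      intro h
      rw [Finset.card_eq_zero] at h
      rw [h, Finset.sum_empty] at hRsq
      omega
    omega
  obtain ⟨ψ₀, hψ₀⟩ := Finset.card_eq_one.mp hcardR
  have hdeg₀ : irrDeg ψ₀ = 55 := by
    rw [hψ₀, Finset.sum_singleton] at hRsq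
    have : irrDeg ψ₀ * irrDeg ψ₀ = 55 * 55 := by rw [← sq, hRsq]
    exact Nat.mul_self_inj.mp this
  rw [Finset.card_filter]
  have hn := hall (fun k => if k = n then 1 else 0)
  beta_reduce at hn
  rw [hn, hψ₀, Finset.sum_singleton, hdeg₀]
  exact ite_count n

end Cfsg.Agent.Helper15.O7920
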