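import Mathlib
import Cfsg.Agent.Helper15.O7920j

set_option autoImplicit false
set_option linter.unusedSectionVars false
set_option maxHeartbeats 1000000

/-!
Simple groups of order 7920: an explicit list of the ten irreducible characters, with the
principal `11`- and `5`-blocks.
-/

namespace Cfsg.Agent.Helper15.O7920

open Cfsg Cfsg.Agent.Helper24 Cfsg.Agent.Helper5 Subgroup Cfsg.Agent.Helper15.BrP

variable {G : Type*} [Group G] [Finite G] [IsSimpleGroup G]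

/-- Decomposition of a sum over all irreducible characters. -/
theorem P2_sum_all_gen [DecidableEq (IrrCharacter G)] [Fintype (IrrCharacter G)]
    (hcard : Nat.card G = 7920) (P : Sylow 11 G) (D : BData 11 P 5)
    (h12 : (D.X.filter (fun χ => irrDeg χ = 12)).card = 0)
    (hY : ∀ θ ∈ D.Y, irrDeg θ = 16) (Q : Sylow 5 G) (F : BFull 5 Q)
    (hB16 : F.B.filter (fun χ => irrDeg χ = 16) = D.Y)
    (hn66 : (F.B.filter (fun χ => irrDeg χ = 66)).card = 0) {M : Type} [AddCommMonoid M]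
    (f : IrrCharacter G → M) :
    ∑ χ : IrrCharacter G, f χ = f (trivIrr G) +
      ∑ χ ∈ D.X.filter (fun χ => irrDeg χ = 45), f χ +
      ∑ χ ∈ D.X.filter (fun χ => irrDeg χ = 10), f χ + ∑ χ ∈ D.Y, f χ +
      ∑ χ ∈ F.B.filter (fun χ => irrDeg χ = 11), f χ +
      ∑ χ ∈ F.B.filter (fun χ => irrDeg χ = 44), f χ +
      ∑ χ ∈ (D.X ∪ D.Y ∪ F.B)ᶜ, f χ := by
  have hno12 : ∀ χ ∈ D.X, irrDeg χ ≠ 12 := by
    intro χ hχ h
    rw [Finset.card_eq_zero] at h12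
    have : χ ∈ D.X.filter (fun χ => irrDeg χ = 12) := Finset.mem_filter.mpr ⟨hχ, h⟩
    rw [h12] at this
    exact absurd this (Finset.notMem_empty _)
  have hok := hok_P2 hcard P D hY hno12
  have hX := sum_X_fiber hcard P D f
  rw [Finset.card_eq_zero.mp h12, Finset.sum_empty, add_zero] at hX
  have hnotmem : ∀ χ : IrrCharacter G, irrDeg χ = 11 ∨ irrDeg χ = 44 → χ ∉ D.X ∪ D.Y := by
    intro χ hχ hmem
    rcases Finset.mem_union.mp hmem with h | h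
    · rcases classX hcard P D χ h with h' | h' | h' | h'
      · rw [h', irrDeg_triv] at hχ; omega
      · omega
      · omega
      · omega
    · have := hY χ h; omega
  have hBs : ∑ χ ∈ F.B \ (D.X ∪ D.Y), f χ =
      ∑ χ ∈ F.B.filter (fun χ => irrDeg χ = 11), f χ +
        ∑ χ ∈ F.B.filter (fun χ => irrDeg χ = 44), f χ := by
    rw [Finset.sdiff_eq_filter, Finset.sum_filter,
      sum_B_fiber hcard hok Q F (fun χ => if χ ∉ D.X ∪ D.Y then f χ else 0)]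
    have e1 : (if trivIrr G ∉ D.X ∪ D.Y then f (trivIrr G) else 0) = 0 := by
      rw [if_neg]
      intro h
      exact h (Finset.mem_union_left _ D.htriv)
    have e16 : ∑ χ ∈ F.B.filter (fun χ => irrDeg χ = 16),
        (if χ ∉ D.X ∪ D.Y then f χ else 0) = 0 := by
      apply Finset.sum_eq_zero
      intro χ hχ
      rw [hB16] at hχ
      rw [if_neg]
      intro h
      exact h (Finset.mem_union_right _ hχ)
    have e11 : ∑ χ ∈ F.B.filter (fun χ => irrDeg χ = 11),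
        (if χ ∉ D.X ∪ D.Y then f χ else 0) =
        ∑ χ ∈ F.B.filter (fun χ => irrDeg χ = 11), f χ := by
      refine Finset.sum_congr rfl ?_
      intro χ hχ
      rw [Finset.mem_filter] at hχ
      rw [if_pos (hnotmem χ (Or.inl hχ.2))]
    have e66 : ∑ χ ∈ F.B.filter (fun χ => irrDeg χ = 66),
        (if χ ∉ D.X ∪ D.Y then f χ else 0) = 0 := by
      rw [Finset.card_eq_zero.mp hn66, Finset.sum_empty]
    have e44 : ∑ χ ∈ F.B.filter (fun χ => irrDeg χ = 44),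
        (if χ ∉ D.X ∪ D.Y then f χ else 0) =
        ∑ χ ∈ F.B.filter (fun χ => irrDeg χ = 44), f χ := by
      refine Finset.sum_congr rfl ?_
      intro χ hχ
      rw [Finset.mem_filter] at hχ
      rw [if_pos (hnotmem χ (Or.inr hχ.2))]
    rw [e1, e16, e11, e66, e44, zero_add, zero_add, add_zero]
  rw [← Finset.sum_add_sum_compl (D.X ∪ D.Y ∪ F.B), ← Finset.union_sdiff_self_eq_union,
    Finset.sum_union Finset.disjoint_sdiff, Finset.sum_union D.hdisj, hX, hBs]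
  simp only [add_assoc]

/-- The skeleton of the character table of a simple group of order `7920`. -/
theorem M11_chars [DecidableEq (IrrCharacter G)] [Fintype (IrrCharacter G)]
    (hcard : Nat.card G = 7920) (P : Sylow 11 G) (Q : Sylow 5 G) :
    ∃ (D : BData 11 P 5) (F : BFull 5 Q)
      (χa χ1 χ2 χ3 θ₁ θ₂ χ11 χ44 ψ₀ : IrrCharacter G),
      D.eps = 1 ∧ Nat.card (centralizer ((Q : Subgroup G) : Set G)) = 5 ∧
      (∀ θ ∈ D.Y, irrDeg θ = 16) ∧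
      (∀ {M : Type} [AddCommMonoid M] (f : IrrCharacter G → M),
        ∑ χ ∈ D.X, f χ = f (trivIrr G) + f χa + f χ1 + f χ2 + f χ3) ∧
      (∀ {M : Type} [AddCommMonoid M] (f : IrrCharacter G → M),
        ∑ χ ∈ D.Y, f χ = f θ₁ + f θ₂) ∧
      (∀ {M : Type} [AddCommMonoid M] (f : IrrCharacter G → M),
        ∑ χ ∈ F.B, f χ = f (trivIrr G) + f θ₁ + f θ₂ + f χ11 + f χ44) ∧
      (∀ {M : Type} [AddCommMonoid M] (f : IrrCharacter G → M),
        ∑ χ : IrrCharacter G, f χ = f (trivIrr G) + f χa + f χ1 + f χ2 + f χ3 + f θ₁ + f θ₂ +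
          f χ11 + f χ44 + f ψ₀) ∧
      (irrDeg χa = 45 ∧ irrDeg χ1 = 10 ∧ irrDeg χ2 = 10 ∧ irrDeg χ3 = 10 ∧ irrDeg θ₁ = 16 ∧
        irrDeg θ₂ = 16 ∧ irrDeg χ11 = 11 ∧ irrDeg χ44 = 44 ∧ irrDeg ψ₀ = 55) ∧
      (χa ∈ D.X ∧ χ1 ∈ D.X ∧ χ2 ∈ D.X ∧ χ3 ∈ D.X ∧ θ₁ ∈ D.Y ∧ θ₂ ∈ D.Y ∧ θ₁ ∈ F.B ∧ θ₂ ∈ F.B ∧
        χ11 ∈ F.B ∧ χ44 ∈ F.B) ∧
      (D.sg χa = 1 ∧ D.sg χ1 = -1 ∧ D.sg χ2 = -1 ∧ D.sg χ3 = -1 ∧ F.sg θ₁ = 1 ∧ F.sg θ₂ = 1 ∧
        F.sg χ11 = 1 ∧ F.sg χ44 = -1) := by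
  have : Fintype G := Fintype.ofFinite G
  obtain ⟨he, -, -⟩ := sylow11_data hcard P
  obtain ⟨D⟩ := exists_bdata (perfect hcard) 11 (by norm_num) P (card_sylow11 hcard P) 5 he
    (by norm_num)
  obtain ⟨heps, hshape⟩ := shape11 hcard P D
  rcases hshape with ⟨h12, h45, h10, hY⟩ | ⟨h12, h45, h10, hY⟩
  · exact (P1_false hcard P D heps h12 h45 h10 hY).elim
  obtain ⟨F, hC5, hB16, hn11, hn66, hn44⟩ := P2_block5 hcard P D heps h12 h45 h10 hY Q
  have hQ := card_sylow5 hcard Q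
  have hno12 : ∀ χ ∈ D.X, irrDeg χ ≠ 12 := by
    intro χ hχ h
    rw [Finset.card_eq_zero] at h12
    have : χ ∈ D.X.filter (fun χ => irrDeg χ = 12) := Finset.mem_filter.mpr ⟨hχ, h⟩
    rw [h12] at this
    exact absurd this (Finset.notMem_empty _)
  have hok := hok_P2 hcard P D hY hno12
  -- the remaining character
  have hall := P2_sum_all hcard P D h12 h45 h10 hY Q F hB16 hn11 hn66 hn44
  have hvan5 := vanish_full Q hQ F hC5
  set R := (D.X ∪ D.Y ∪ F.B)ᶜ with hR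
  have h55 : ∀ ψ ∈ R, 55 ∣ irrDeg ψ := by
    intro ψ hψ
    rw [hR, Finset.mem_compl, Finset.mem_union, Finset.mem_union, not_or, not_or] at hψ
    have h11 := (vanish11 hcard P D ψ hψ.1.1 hψ.1.2).2
    have h5 := (hvan5 ψ hψ.2).2
    exact Nat.Coprime.mul_dvd_of_dvd_of_dvd (by norm_num : Nat.Coprime 11 5) h11 h5
  have hsq := hall (fun k => k ^ 2)
  beta_reduce at hsq
  rw [sum_irrDeg_sq (G := G), hcard] at hsq
  have hRsq : ∑ χ ∈ R, irrDeg χ ^ 2 = 3025 := by omega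
  have hge : ∀ ψ ∈ R, 3025 ≤ irrDeg ψ ^ 2 := by
    intro ψ hψ
    obtain ⟨k, hk⟩ := h55 ψ hψ
    have hpos := irrDeg_pos ψ
    have hk1 : 1 ≤ k := by
      rcases Nat.eq_zero_or_pos k with h | h
      · rw [h, mul_zero] at hk; omega
      · exact h
    rw [hk]
    nlinarith
  have hcardR : R.card = 1 := by
    have h1 := Finset.card_nsmul_le_sum R (fun ψ => irrDeg ψ ^ 2) 3025 hge
    rw [hRsq, smul_eq_mul] at h1
    have h2 : R.card ≠ 0 := by
      intro h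
      rw [Finset.card_eq_zero] at h
      rw [h, Finset.sum_empty] at hRsq
      omega
    omega
  obtain ⟨ψ₀, hψ₀⟩ := Finset.card_eq_one.mp hcardR
  have hdeg₀ : irrDeg ψ₀ = 55 := by
    rw [hψ₀, Finset.sum_singleton] at hRsq
    have : irrDeg ψ₀ * irrDeg ψ₀ = 55 * 55 := by rw [← sq, hRsq]
    exact Nat.mul_self_inj.mp this
  -- the explicit characters
  obtain ⟨χa, hχa⟩ := Finset.card_eq_one.mp h45
  obtain ⟨χ1, χ2, χ3, hne12, hne13, hne23, hχc⟩ := Finset.card_eq_three.mp h10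
  obtain ⟨θ₁, θ₂, hneθ, hθY⟩ := Finset.card_eq_two.mp (show D.Y.card = 2 by rw [D.hY])
  obtain ⟨χ11, hχ11⟩ := Finset.card_eq_one.mp hn11
  obtain ⟨χ44, hχ44⟩ := Finset.card_eq_one.mp hn44
  have hmema : χa ∈ D.X.filter (fun χ => irrDeg χ = 45) := by rw [hχa]; simp
  have hmem1 : χ1 ∈ D.X.filter (fun χ => irrDeg χ = 10) := by rw [hχc]; simp
  have hmem2 : χ2 ∈ D.X.filter (fun χ => irrDeg χ = 10) := by rw [hχc]; simp
  have hmem3 : χ3 ∈ D.X.filter (fun χ => irrDeg χ = 10) := by rw [hχc]; simp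
  have hmem11 : χ11 ∈ F.B.filter (fun χ => irrDeg χ = 11) := by rw [hχ11]; simp
  have hmem44 : χ44 ∈ F.B.filter (fun χ => irrDeg χ = 44) := by rw [hχ44]; simp
  have hmemθ₁ : θ₁ ∈ D.Y := by rw [hθY]; simp
  have hmemθ₂ : θ₂ ∈ D.Y := by rw [hθY]; simp
  have hmemθ₁B : θ₁ ∈ F.B.filter (fun χ => irrDeg χ = 16) := by rw [hB16]; exact hmemθ₁
  have hmemθ₂B : θ₂ ∈ F.B.filter (fun χ => irrDeg χ = 16) := by rw [hB16]; exact hmemθ₂
  rw [Finset.mem_filter] at hmema hmem1 hmem2 hmem3 hmem11 hmem44 hmemθ₁B hmemθ₂B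
  have hp3 : ∀ {M : Type} [AddCommMonoid M] (f : IrrCharacter G → M),
      ∑ χ ∈ ({χ1, χ2, χ3} : Finset (IrrCharacter G)), f χ = f χ1 + f χ2 + f χ3 := by
    intro M _ f
    rw [Finset.sum_insert (by simp [hne12, hne13]), Finset.sum_insert (by simp [hne23]),
      Finset.sum_singleton, add_assoc]
  have hsgB : ∀ χ ∈ F.B, (irrDeg χ = 16 → F.sg χ = 1) ∧ (irrDeg χ = 11 → F.sg χ = 1) ∧
      (irrDeg χ = 44 → F.sg χ = -1) := by
    intro χ hχ
    rcases classB hcard hok Q F χ hχ with h' | h' | h' | h' | h'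
    · rw [h', irrDeg_triv]; omega
    · refine ⟨fun _ => h'.2, ?_, ?_⟩ <;> omega
    · refine ⟨?_, fun _ => h'.2, ?_⟩ <;> omega
    · refine ⟨?_, ?_, ?_⟩ <;> omega
    · refine ⟨?_, ?_, fun _ => h'.2⟩ <;> omega
  refine ⟨D, F, χa, χ1, χ2, χ3, θ₁, θ₂, χ11, χ44, ψ₀, heps, hC5, hY, ?_, ?_, ?_, ?_,
    ⟨hmema.2, hmem1.2, hmem2.2, hmem3.2, hY θ₁ hmemθ₁, hY θ₂ hmemθ₂, hmem11.2, hmem44.2, hdeg₀⟩,
    ⟨hmema.1, hmem1.1, hmem2.1, hmem3.1, hmemθ₁, hmemθ₂, hmemθ₁B.1, hmemθ₂B.1, hmem11.1,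
      hmem44.1⟩,
    ⟨sg_of_deg45 hcard P D χa hmema.1 hmema.2, sg_of_deg10 hcard P D χ1 hmem1.1 hmem1.2,
      sg_of_deg10 hcard P D χ2 hmem2.1 hmem2.2, sg_of_deg10 hcard P D χ3 hmem3.1 hmem3.2,
      (hsgB θ₁ hmemθ₁B.1).1 hmemθ₁B.2, (hsgB θ₂ hmemθ₂B.1).1 hmemθ₂B.2,
      (hsgB χ11 hmem11.1).2.1 hmem11.2, (hsgB χ44 hmem44.1).2.2 hmem44.2⟩⟩
  · intro M _ f
    rw [sum_X_fiber hcard P D f, Finset.card_eq_zero.mp h12, hχa, hχc, Finset.sum_empty,
      Finset.sum_singleton, hp3, add_zero]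
    simp only [add_assoc]
  · intro M _ f
    rw [hθY, Finset.sum_pair hneθ]
  · intro M _ f
    rw [sum_B_fiber hcard hok Q F f, hB16, hθY, Finset.sum_pair hneθ, hχ11, hχ44,
      Finset.card_eq_zero.mp hn66, Finset.sum_empty, Finset.sum_singleton, Finset.sum_singleton,
      add_zero]
    simp only [add_assoc]
  · intro M _ f
    rw [P2_sum_all_gen hcard P D h12 hY Q F hB16 hn66 f, ← hR, hψ₀, hχa, hχc, hθY, hχ11, hχ44,
      Finset.sum_singleton, Finset.sum_singleton, Finset.sum_singleton, Finset.sum_singleton,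
      hp3, Finset.sum_pair hneθ]
    simp only [add_assoc]

end Cfsg.Agent.Helper15.O7920
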