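import Mathlib
import Cfsg.Agent.Helper15.O7920k

set_option autoImplicit false
set_option linter.unusedSectionVars false
set_option maxHeartbeats 1000000

/-!
Simple groups of order 7920: the centralizer of an involution has order `48`.
-/

namespace Cfsg.Agent.Helper15.O7920

open Cfsg Cfsg.Agent.Helper24 Cfsg.Agent.Helper5 Subgroup Cfsg.Agent.Helper15.BrP

theorem arith_E1 : ∀ l1 ∈ Finset.Icc (-5 : ℤ) 5, ∀ l2 ∈ Finset.Icc (-5 : ℤ) 5,
    ∀ l3 ∈ Finset.Icc (-5 : ℤ) 5,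
    720 + 16 * (2 * (l1 + l2 + l3) - 1) ^ 2 -
      72 * ((2 * l1) ^ 2 + (2 * l2) ^ 2 + (2 * l3) ^ 2) = 0 →
    2 * (l1 + l2 + l3) - 1 = -3 ∧ l1 ^ 2 + l2 ^ 2 + l3 ^ 2 = 3 := by decide +kernel

theorem arith_M11_inv (a c1 c2 c3 u v44 w N : ℤ)
    (hc1 : (c1 + 10) % 2 = 0) (hc2 : (c2 + 10) % 2 = 0) (hc3 : (c3 + 10) % 2 = 0)
    (hb1 : -10 ≤ c1 ∧ c1 ≤ 10) (hb2 : -10 ≤ c2 ∧ c2 ≤ 10) (hb3 : -10 ≤ c3 ∧ c3 ≤ 10)
    (hbu : -11 ≤ u ∧ u ≤ 11)
    (h0 : 1 + a - c1 - c2 - c3 = 0)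
    (hE1 : 720 + 16 * a ^ 2 - 72 * (c1 ^ 2 + c2 ^ 2 + c3 ^ 2) = 0)
    (hE2 : 1 + u - v44 = 0)
    (hE3 : 1 + 45 * a + 10 * (c1 + c2 + c3) + 11 * u + 44 * v44 + 55 * w = 0)
    (hE4 : N = 1 + a ^ 2 + c1 ^ 2 + c2 ^ 2 + c3 ^ 2 + u ^ 2 + v44 ^ 2 + w ^ 2)
    (hN : N ∣ 144) : N = 48 := by
  obtain ⟨l1, rfl⟩ : ∃ l, c1 = 2 * l := ⟨c1 / 2, by omega⟩
  obtain ⟨l2, rfl⟩ : ∃ l, c2 = 2 * l := ⟨c2 / 2, by omega⟩
  obtain ⟨l3, rfl⟩ : ∃ l, c3 = 2 * l := ⟨c3 / 2, by omega⟩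
  have ha : a = 2 * (l1 + l2 + l3) - 1 := by omega
  subst ha
  have key := arith_E1 l1 (Finset.mem_Icc.mpr ⟨by omega, by omega⟩) l2
    (Finset.mem_Icc.mpr ⟨by omega, by omega⟩) l3 (Finset.mem_Icc.mpr ⟨by omega, by omega⟩) hE1
  have h12 : (2 * l1) ^ 2 + (2 * l2) ^ 2 + (2 * l3) ^ 2 = 12 := by
    have : (2 * l1) ^ 2 + (2 * l2) ^ 2 + (2 * l3) ^ 2 = 4 * (l1 ^ 2 + l2 ^ 2 + l3 ^ 2) := by ring
    rw [this, key.2]; norm_num
  rw [key.1] at hE3 hE4
  have hu : u = v44 - 1 := by omega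
  have hw : w = 3 - v44 := by omega
  subst hu hw
  have hN' : N = 22 + (v44 - 1) ^ 2 + v44 ^ 2 + (3 - v44) ^ 2 := by
    rw [hE4]; linarith
  have hv1 : -10 ≤ v44 := by omega
  have hv2 : v44 ≤ 12 := by omega
  interval_cases v44 <;> norm_num at hN' <;> subst hN' <;> omega

variable {G : Type*} [Group G] [Finite G] [IsSimpleGroup G]

/-- The centralizer of an involution has order prime to `5`. -/
theorem not_5_dvd_card_centralizer_inv (hcard : Nat.card G = 7920) (t : G)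
    (ht : orderOf t = 2) : ¬ 5 ∣ Nat.card (centralizer ({t} : Set G)) := by
  classical
  have : Fintype (IrrCharacter G) := Fintype.ofFinite _
  intro h
  obtain ⟨z, hz⟩ := exists_prime_orderOf_dvd_card' (G := centralizer ({t} : Set G)) 5 h
  have hz' : orderOf (z : G) = 5 := by rw [Subgroup.orderOf_coe]; exact hz
  obtain ⟨Q', hQ'⟩ := exists_sylow_eq_zpowers (p := 5) (card_sylow5 hcard) (z : G) hz'
  obtain ⟨P⟩ : Nonempty (Sylow 11 G) := inferInstance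
  obtain ⟨D, F, χa, χ1, χ2, χ3, θ₁, θ₂, χ11, χ44, ψ₀, -, hC5, -⟩ := M11_chars hcard P Q'
  have hc : Commute t (z : G) := by
    have := mem_centralizer_singleton_iff.mp z.2
    exact this.symm
  have htC : t ∈ centralizer ((Q' : Subgroup G) : Set G) := by
    rw [hQ', Subgroup.mem_centralizer_iff]
    intro g hg
    obtain ⟨k, rfl⟩ := mem_zpowers_iff.mp hg
    exact ((hc.zpow_right k).eq).symm
  have h2 := orderOf_dvd_natCard (⟨t, htC⟩ : centralizer ((Q' : Subgroup G) : Set G))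
  rw [Subgroup.orderOf_mk, ht, hC5] at h2
  omega

/-- The centralizer of an involution has order prime to `11`. -/
theorem not_11_dvd_card_centralizer_inv (hcard : Nat.card G = 7920) (t : G)
    (ht : orderOf t = 2) : ¬ 11 ∣ Nat.card (centralizer ({t} : Set G)) := by
  intro h
  obtain ⟨z, hz⟩ := exists_prime_orderOf_dvd_card' (G := centralizer ({t} : Set G)) 11 h
  have hz' : orderOf (z : G) = 11 := by rw [Subgroup.orderOf_coe]; exact hz
  obtain ⟨P', hP'⟩ := exists_sylow_eq_zpowers (p := 11) (card_sylow11 hcard) (z : G) hz'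
  obtain ⟨-, hC, -⟩ := sylow11_data hcard P'
  have hc : Commute t (z : G) := by
    have := mem_centralizer_singleton_iff.mp z.2
    exact this.symm
  have htC : t ∈ centralizer ((P' : Subgroup G) : Set G) := by
    rw [hP', Subgroup.mem_centralizer_iff]
    intro g hg
    obtain ⟨k, rfl⟩ := mem_zpowers_iff.mp hg
    exact ((hc.zpow_right k).eq).symm
  have h2 := orderOf_dvd_natCard (⟨t, htC⟩ : centralizer ((P' : Subgroup G) : Set G))
  rw [Subgroup.orderOf_mk, ht, hC] at h2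
  omega

/-- The centralizer of an involution has order `48`. -/
theorem card_centralizer_involution (hcard : Nat.card G = 7920) (t : G) (ht : orderOf t = 2) :
    Nat.card (centralizer ({t} : Set G)) = 48 := by
  classical
  have : Fintype G := Fintype.ofFinite G
  have : Fintype (IrrCharacter G) := Fintype.ofFinite _
  obtain ⟨P⟩ : Nonempty (Sylow 11 G) := inferInstance
  obtain ⟨Q⟩ : Nonempty (Sylow 5 G) := inferInstance
  obtain ⟨D, F, χa, χ1, χ2, χ3, θ₁, θ₂, χ11, χ44, ψ₀, heps, hC5, hY, hsX, hsY, hsB, hsU,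
    ⟨hda, hd1, hd2, hd3, hdθ₁, hdθ₂, hd11, hd44, hd55⟩,
    ⟨hma, hm1, hm2, hm3, hmθ₁, hmθ₂, hmθ₁B, hmθ₂B, hm11, hm44⟩,
    ⟨hsa, hs1, hs2, hs3, hsθ₁, hsθ₂, hs11, hs44⟩⟩ := M11_chars hcard P Q
  obtain ⟨v, hv⟩ := inv_vals t ht
  have ht1 : t ≠ 1 := by intro h; rw [h, orderOf_one] at ht; omega
  -- the characters of degree 16 vanish at t
  have hzero : ∀ θ : IrrCharacter G, irrDeg θ = 16 → v θ = 0 := by
    intro θ hθ
    have h1 := irr_eq_zero_of_defect_zero θ 2 4 16 Nat.prime_two (by rw [hcard]; norm_num)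
      (by rw [hcard]; norm_num) (by rw [irrDeg_spec, hθ]) (by norm_num) t
      (by rw [ht])
    rw [(hv θ).1] at h1
    exact_mod_cast h1
  have hvθ₁ := hzero θ₁ hdθ₁
  have hvθ₂ := hzero θ₂ hdθ₂
  -- the relation on 11-regular elements
  have hreg11 := D.hreg θ₁ hmθ₁ t (by rw [ht]; norm_num)
  rw [hsX, heps, D.hsgtriv, hsa, hs1, hs2, hs3, trivIrr_apply, (hv θ₁).1, (hv χa).1, (hv χ1).1,
    (hv χ2).1, (hv χ3).1, hvθ₁] at hreg11
  have h0 : 1 + v χa - v χ1 - v χ2 - v χ3 = 0 := by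
    have : ((1 + v χa - v χ1 - v χ2 - v χ3 : ℤ) : ℂ) = 0 := by
      push_cast at hreg11 ⊢
      linear_combination -hreg11
    exact_mod_cast this
  -- the class multiplication equation
  have hE := classeq11 hcard P D 16 hY t ht
  rw [hsX, hsX, heps, D.hsgtriv, hsa, hs1, hs2, hs3, irrDeg_triv, hda, hd1, hd2, hd3,
    trivIrr_apply, (hv χa).1, (hv χ1).1, (hv χ2).1, (hv χ3).1] at hE
  have hE1 : 720 + 16 * v χa ^ 2 - 72 * (v χ1 ^ 2 + v χ2 ^ 2 + v χ3 ^ 2) = 0 := by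
    have h0' : ((1 + v χa - v χ1 - v χ2 - v χ3 : ℤ) : ℂ) = 0 := by rw [h0]; norm_num
    have : ((720 + 16 * v χa ^ 2 - 72 * (v χ1 ^ 2 + v χ2 ^ 2 + v χ3 ^ 2) : ℤ) : ℂ) = 0 := by
      push_cast at hE h0' ⊢
      linear_combination 720 * hE + 45 * (1 + (v χa : ℂ) - v χ1 - v χ2 - v χ3) * h0'
    exact_mod_cast this
  -- the relation on 5-regular elements
  have hreg5 := F.hreg t (by rw [ht]; norm_num)
  rw [hsB, F.hsgtriv, hsθ₁, hsθ₂, hs11, hs44, trivIrr_apply, (hv θ₁).1, (hv θ₂).1, (hv χ11).1,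
    (hv χ44).1, hvθ₁, hvθ₂] at hreg5
  have hE2 : 1 + v χ11 - v χ44 = 0 := by
    have : ((1 + v χ11 - v χ44 : ℤ) : ℂ) = 0 := by
      push_cast at hreg5 ⊢
      linear_combination hreg5
    exact_mod_cast this
  -- column orthogonality
  have hcol := sum_irr_mul_conj (1 : G) t
  rw [if_neg (by rw [isConj_one_right]; exact ht1), hsU] at hcol
  simp only [irrDeg_spec, irrDeg_triv, hda, hd1, hd2, hd3, hdθ₁, hdθ₂, hd11, hd44, hd55] at hcol
  rw [trivIrr_apply, (hv χa).1, (hv χ1).1, (hv χ2).1, (hv χ3).1, (hv θ₁).1, (hv θ₂).1,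
    (hv χ11).1, (hv χ44).1, (hv ψ₀).1, hvθ₁, hvθ₂] at hcol
  have hE3 : 1 + 45 * v χa + 10 * (v χ1 + v χ2 + v χ3) + 11 * v χ11 + 44 * v χ44 +
      55 * v ψ₀ = 0 := by
    have : ((1 + 45 * v χa + 10 * (v χ1 + v χ2 + v χ3) + 11 * v χ11 + 44 * v χ44 +
        55 * v ψ₀ : ℤ) : ℂ) = 0 := by
      simp only [map_intCast, map_one] at hcol
      push_cast at hcol ⊢
      linear_combination hcol
    exact_mod_cast this
  -- the order of the centralizer
  have hcent := sum_irr_mul_conj t t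
  rw [if_pos (IsConj.refl t), hsU] at hcent
  rw [trivIrr_apply, (hv χa).1, (hv χ1).1, (hv χ2).1, (hv χ3).1, (hv θ₁).1, (hv θ₂).1,
    (hv χ11).1, (hv χ44).1, (hv ψ₀).1, hvθ₁, hvθ₂] at hcent
  have hE4 : (Nat.card (centralizer ({t} : Set G)) : ℤ) = 1 + v χa ^ 2 + v χ1 ^ 2 + v χ2 ^ 2 +
      v χ3 ^ 2 + v χ11 ^ 2 + v χ44 ^ 2 + v ψ₀ ^ 2 := by
    have : (((Nat.card (centralizer ({t} : Set G)) : ℤ)) : ℂ) = ((1 + v χa ^ 2 + v χ1 ^ 2 +
        v χ2 ^ 2 + v χ3 ^ 2 + v χ11 ^ 2 + v χ44 ^ 2 + v ψ₀ ^ 2 : ℤ) : ℂ) := by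
      simp only [map_intCast, map_one] at hcent
      push_cast at hcent ⊢
      linear_combination -hcent
    exact_mod_cast this
  -- divisibility
  have hdvd : Nat.card (centralizer ({t} : Set G)) ∣ 144 := by
    have h1 : Nat.card (centralizer ({t} : Set G)) ∣ 144 * (5 * 11) := by
      have := Subgroup.card_subgroup_dvd_card (centralizer ({t} : Set G))
      rwa [hcard] at this
    have h5 := not_5_dvd_card_centralizer_inv hcard t ht
    have h11 := not_11_dvd_card_centralizer_inv hcard t ht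
    have hc5 : Nat.Coprime (Nat.card (centralizer ({t} : Set G))) 5 :=
      ((Nat.Prime.coprime_iff_not_dvd (by norm_num)).mpr h5).symm
    have hc11 : Nat.Coprime (Nat.card (centralizer ({t} : Set G))) 11 :=
      ((Nat.Prime.coprime_iff_not_dvd (by norm_num)).mpr h11).symm
    have hc55 : Nat.Coprime (Nat.card (centralizer ({t} : Set G))) (5 * 11) :=
      Nat.Coprime.mul_right hc5 hc11
    exact Nat.Coprime.dvd_of_dvd_mul_right hc55 h1
  have hdvdZ : (Nat.card (centralizer ({t} : Set G)) : ℤ) ∣ 144 := by exact_mod_cast hdvd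
  have h1 := (hv χ1).2; rw [hd1] at h1
  have h2 := (hv χ2).2; rw [hd2] at h2
  have h3 := (hv χ3).2; rw [hd3] at h3
  have h11 := (hv χ11).2; rw [hd11] at h11
  have hfinal := arith_M11_inv (v χa) (v χ1) (v χ2) (v χ3) (v χ11) (v χ44) (v ψ₀) _
    h1.1 h2.1 h3.1 ⟨h1.2.1, h1.2.2⟩ ⟨h2.2.1, h2.2.2⟩ ⟨h3.2.1, h3.2.2⟩ ⟨h11.2.1, h11.2.2⟩
    h0 hE1 hE2 hE3 hE4 hdvdZ
  exact_mod_cast hfinal

end Cfsg.Agent.Helper15.O7920
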