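import Mathlib
import Cfsg.Agent.Helper15.O7920l

set_option autoImplicit false
set_option linter.unusedSectionVars false
set_option maxHeartbeats 1000000

/-!
Simple groups of order 7920: bundled character data and the values at involutions.
-/

namespace Cfsg.Agent.Helper15.O7920

open Cfsg Cfsg.Agent.Helper24 Cfsg.Agent.Helper5 Subgroup Cfsg.Agent.Helper15.BrP

universe u

/-- The ten irreducible characters of a simple group of order `7920`, with the principal `11`-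
and `5`-blocks. -/
structure MData {G : Type u} [Group G] [Finite G] [Fintype (IrrCharacter G)]
    (P : Sylow 11 G) (Q : Sylow 5 G) where
  D : BData 11 P 5
  F : BFull 5 Q
  χa : IrrCharacter G
  χ1 : IrrCharacter G
  χ2 : IrrCharacter G
  χ3 : IrrCharacter G
  θ₁ : IrrCharacter G
  θ₂ : IrrCharacter G
  χ11 : IrrCharacter G
  χ44 : IrrCharacter G
  ψ₀ : IrrCharacter G
  heps : D.eps = 1
  hC5 : Nat.card (centralizer ((Q : Subgroup G) : Set G)) = 5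
  hsX : ∀ f : IrrCharacter G → ℂ,
    ∑ χ ∈ D.X, f χ = f (trivIrr G) + f χa + f χ1 + f χ2 + f χ3
  hsY : ∀ f : IrrCharacter G → ℂ, ∑ χ ∈ D.Y, f χ = f θ₁ + f θ₂
  hsB : ∀ f : IrrCharacter G → ℂ,
    ∑ χ ∈ F.B, f χ = f (trivIrr G) + f θ₁ + f θ₂ + f χ11 + f χ44
  hsU : ∀ f : IrrCharacter G → ℂ,
    ∑ χ : IrrCharacter G, f χ = f (trivIrr G) + f χa + f χ1 + f χ2 + f χ3 + f θ₁ + f θ₂ +
      f χ11 + f χ44 + f ψ₀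
  hda : irrDeg χa = 45
  hd1 : irrDeg χ1 = 10
  hd2 : irrDeg χ2 = 10
  hd3 : irrDeg χ3 = 10
  hdθ₁ : irrDeg θ₁ = 16
  hdθ₂ : irrDeg θ₂ = 16
  hd11 : irrDeg χ11 = 11
  hd44 : irrDeg χ44 = 44
  hd55 : irrDeg ψ₀ = 55
  hma : χa ∈ D.X
  hm1 : χ1 ∈ D.X
  hm2 : χ2 ∈ D.X
  hm3 : χ3 ∈ D.X
  hmθ₁ : θ₁ ∈ D.Y
  hmθ₂ : θ₂ ∈ D.Y
  hmθ₁B : θ₁ ∈ F.B
  hmθ₂B : θ₂ ∈ F.B
  hm11 : χ11 ∈ F.B
  hm44 : χ44 ∈ F.B
  hsa : D.sg χa = 1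
  hs1 : D.sg χ1 = -1
  hs2 : D.sg χ2 = -1
  hs3 : D.sg χ3 = -1
  hsθ₁ : F.sg θ₁ = 1
  hsθ₂ : F.sg θ₂ = 1
  hs11 : F.sg χ11 = 1
  hs44 : F.sg χ44 = -1
  hn1 : χ11 ∉ D.X ∧ χ11 ∉ D.Y
  hn4 : χ44 ∉ D.X ∧ χ44 ∉ D.Y
  hn5 : ψ₀ ∉ D.X ∧ ψ₀ ∉ D.Y

theorem arith_M11_inv_full (a c1 c2 c3 u v44 w N : ℤ)
    (hc1 : (c1 + 10) % 2 = 0) (hc2 : (c2 + 10) % 2 = 0) (hc3 : (c3 + 10) % 2 = 0)
    (hb1 : -10 ≤ c1 ∧ c1 ≤ 10) (hb2 : -10 ≤ c2 ∧ c2 ≤ 10) (hb3 : -10 ≤ c3 ∧ c3 ≤ 10)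
    (hbu : -11 ≤ u ∧ u ≤ 11)
    (h0 : 1 + a - c1 - c2 - c3 = 0)
    (hE1 : 720 + 16 * a ^ 2 - 72 * (c1 ^ 2 + c2 ^ 2 + c3 ^ 2) = 0)
    (hE2 : 1 + u - v44 = 0)
    (hE3 : 1 + 45 * a + 10 * (c1 + c2 + c3) + 11 * u + 44 * v44 + 55 * w = 0)
    (hE4 : N = 1 + a ^ 2 + c1 ^ 2 + c2 ^ 2 + c3 ^ 2 + u ^ 2 + v44 ^ 2 + w ^ 2)
    (hN : N ∣ 144) :
    a = -3 ∧ u = 3 ∧ v44 = 4 ∧ w = -1 ∧
      ((c1 = 2 ∧ c2 = -2 ∧ c3 = -2) ∨ (c1 = -2 ∧ c2 = 2 ∧ c3 = -2) ∨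
        (c1 = -2 ∧ c2 = -2 ∧ c3 = 2)) := by
  have hN48 := arith_M11_inv a c1 c2 c3 u v44 w N hc1 hc2 hc3 hb1 hb2 hb3 hbu h0 hE1 hE2 hE3 hE4 hN
  obtain ⟨l1, rfl⟩ : ∃ l, c1 = 2 * l := ⟨c1 / 2, by omega⟩
  obtain ⟨l2, rfl⟩ : ∃ l, c2 = 2 * l := ⟨c2 / 2, by omega⟩
  obtain ⟨l3, rfl⟩ : ∃ l, c3 = 2 * l := ⟨c3 / 2, by omega⟩
  have ha : a = 2 * (l1 + l2 + l3) - 1 := by omega
  subst ha
  have key := arith_E1 l1 (Finset.mem_Icc.mpr ⟨by omega, by omega⟩) l2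
    (Finset.mem_Icc.mpr ⟨by omega, by omega⟩) l3 (Finset.mem_Icc.mpr ⟨by omega, by omega⟩) hE1
  obtain ⟨k1, k2⟩ := key
  have hsqb : ∀ l : ℤ, l ^ 2 ≤ 3 → -1 ≤ l ∧ l ≤ 1 := by
    intro l hl
    constructor
    · by_contra h
      have : l ≤ -2 := by omega
      nlinarith
    · by_contra h
      have : 2 ≤ l := by omega
      nlinarith
  have hl1 : -1 ≤ l1 ∧ l1 ≤ 1 := hsqb l1 (by linarith [sq_nonneg l2, sq_nonneg l3])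
  have hl2 : -1 ≤ l2 ∧ l2 ≤ 1 := hsqb l2 (by linarith [sq_nonneg l1, sq_nonneg l3])
  have hl3 : -1 ≤ l3 ∧ l3 ≤ 1 := hsqb l3 (by linarith [sq_nonneg l1, sq_nonneg l2])
  have h12 : (2 * l1) ^ 2 + (2 * l2) ^ 2 + (2 * l3) ^ 2 = 12 := by
    have : (2 * l1) ^ 2 + (2 * l2) ^ 2 + (2 * l3) ^ 2 = 4 * (l1 ^ 2 + l2 ^ 2 + l3 ^ 2) := by ring
    rw [this, k2]; norm_num
  rw [k1] at hE3 hE4
  have hu : u = v44 - 1 := by omega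
  have hw : w = 3 - v44 := by omega
  subst hu hw
  have hN' : 48 = 22 + (v44 - 1) ^ 2 + v44 ^ 2 + (3 - v44) ^ 2 := by
    rw [← hN48, hE4]; linarith
  have hv1 : -10 ≤ v44 := by omega
  have hv2 : v44 ≤ 12 := by omega
  have hv : v44 = 4 := by
    interval_cases v44 <;> first | rfl | (exfalso; norm_num at hN')
  subst hv
  refine ⟨k1, by norm_num, rfl, by norm_num, ?_⟩
  obtain ⟨h1a, h1b⟩ := hl1
  obtain ⟨h2a, h2b⟩ := hl2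
  obtain ⟨h3a, h3b⟩ := hl3
  interval_cases l1 <;> interval_cases l2 <;> interval_cases l3 <;> simp_all

variable {G : Type u} [Group G] [Finite G] [IsSimpleGroup G]

theorem exists_mdata [Fintype (IrrCharacter G)]
    (hcard : Nat.card G = 7920) (P : Sylow 11 G) (Q : Sylow 5 G) : Nonempty (MData P Q) := by
  classical
  obtain ⟨D, F, χa, χ1, χ2, χ3, θ₁, θ₂, χ11, χ44, ψ₀, heps, hC5, hY, hsX, hsY, hsB, hsU,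
    ⟨hda, hd1, hd2, hd3, hdθ₁, hdθ₂, hd11, hd44, hd55⟩,
    ⟨hma, hm1, hm2, hm3, hmθ₁, hmθ₂, hmθ₁B, hmθ₂B, hm11, hm44⟩,
    ⟨hsa, hs1, hs2, hs3, hsθ₁, hsθ₂, hs11, hs44⟩⟩ := M11_chars hcard P Q
  have hnot : ∀ χ : IrrCharacter G, (irrDeg χ = 11 ∨ irrDeg χ = 44 ∨ irrDeg χ = 55) →
      χ ∉ D.X ∧ χ ∉ D.Y := by
    intro χ hχ
    refine ⟨?_, ?_⟩
    · intro h
      rcases classX hcard P D χ h with h' | h' | h' | h'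
      · rw [h', irrDeg_triv] at hχ; omega
      · omega
      · omega
      · omega
    · intro h
      have := hY χ h
      omega
  exact ⟨⟨D, F, χa, χ1, χ2, χ3, θ₁, θ₂, χ11, χ44, ψ₀, heps, hC5, fun f => hsX f, fun f => hsY f,
    fun f => hsB f, fun f => hsU f, hda, hd1, hd2, hd3, hdθ₁, hdθ₂, hd11, hd44, hd55,
    hma, hm1, hm2, hm3, hmθ₁, hmθ₂, hmθ₁B, hmθ₂B, hm11, hm44,
    hsa, hs1, hs2, hs3, hsθ₁, hsθ₂, hs11, hs44,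
    hnot χ11 (Or.inl hd11), hnot χ44 (Or.inr (Or.inl hd44)), hnot ψ₀ (Or.inr (Or.inr hd55))⟩⟩

/-- The values of the ten characters at an involution. -/
theorem inv_vals_full [Fintype (IrrCharacter G)] (hcard : Nat.card G = 7920)
    {P : Sylow 11 G} {Q : Sylow 5 G} (E : MData P Q) (t : G) (ht : orderOf t = 2) :
    (E.χa : G → ℂ) t = -3 ∧ (E.θ₁ : G → ℂ) t = 0 ∧ (E.θ₂ : G → ℂ) t = 0 ∧
      (E.χ11 : G → ℂ) t = 3 ∧ (E.χ44 : G → ℂ) t = 4 ∧ (E.ψ₀ : G → ℂ) t = -1 ∧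
      (((E.χ1 : G → ℂ) t = 2 ∧ (E.χ2 : G → ℂ) t = -2 ∧ (E.χ3 : G → ℂ) t = -2) ∨
        ((E.χ1 : G → ℂ) t = -2 ∧ (E.χ2 : G → ℂ) t = 2 ∧ (E.χ3 : G → ℂ) t = -2) ∨
        ((E.χ1 : G → ℂ) t = -2 ∧ (E.χ2 : G → ℂ) t = -2 ∧ (E.χ3 : G → ℂ) t = 2)) := by
  classical
  have : Fintype G := Fintype.ofFinite G
  obtain ⟨v, hv⟩ := inv_vals t ht
  have ht1 : t ≠ 1 := by intro h; rw [h, orderOf_one] at ht; omega
  have hzero : ∀ θ : IrrCharacter G, irrDeg θ = 16 → v θ = 0 := by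
    intro θ hθ
    have h1 := irr_eq_zero_of_defect_zero θ 2 4 16 Nat.prime_two (by rw [hcard]; norm_num)
      (by rw [hcard]; norm_num) (by rw [irrDeg_spec, hθ]) (by norm_num) t
      (by rw [ht])
    rw [(hv θ).1] at h1
    exact_mod_cast h1
  have hvθ₁ := hzero E.θ₁ E.hdθ₁
  have hvθ₂ := hzero E.θ₂ E.hdθ₂
  have hreg11 := E.D.hreg E.θ₁ E.hmθ₁ t (by rw [ht]; norm_num)
  rw [E.hsX, E.heps, E.D.hsgtriv, E.hsa, E.hs1, E.hs2, E.hs3, trivIrr_apply, (hv E.θ₁).1,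
    (hv E.χa).1, (hv E.χ1).1, (hv E.χ2).1, (hv E.χ3).1, hvθ₁] at hreg11
  have h0 : 1 + v E.χa - v E.χ1 - v E.χ2 - v E.χ3 = 0 := by
    have : ((1 + v E.χa - v E.χ1 - v E.χ2 - v E.χ3 : ℤ) : ℂ) = 0 := by
      push_cast at hreg11 ⊢
      linear_combination -hreg11
    exact_mod_cast this
  have hE := classeq11 hcard P E.D 16 (by
    intro θ hθ
    have h := E.hsY (fun χ => if χ = θ then 1 else 0)
    have h2 : ∑ χ ∈ E.D.Y, (if χ = θ then (1 : ℂ) else 0) = 1 := by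
      rw [Finset.sum_ite_eq' E.D.Y θ, if_pos hθ]
    rw [h2] at h
    by_cases h1 : E.θ₁ = θ
    · rw [← h1]; exact E.hdθ₁
    · by_cases h3 : E.θ₂ = θ
      · rw [← h3]; exact E.hdθ₂
      · simp only [if_neg h1, if_neg h3] at h
        norm_num at h) t ht
  rw [E.hsX, E.hsX, E.heps, E.D.hsgtriv, E.hsa, E.hs1, E.hs2, E.hs3, irrDeg_triv, E.hda, E.hd1,
    E.hd2, E.hd3, trivIrr_apply, (hv E.χa).1, (hv E.χ1).1, (hv E.χ2).1, (hv E.χ3).1] at hE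
  have hE1 : 720 + 16 * v E.χa ^ 2 - 72 * (v E.χ1 ^ 2 + v E.χ2 ^ 2 + v E.χ3 ^ 2) = 0 := by
    have h0' : ((1 + v E.χa - v E.χ1 - v E.χ2 - v E.χ3 : ℤ) : ℂ) = 0 := by rw [h0]; norm_num
    have : ((720 + 16 * v E.χa ^ 2 - 72 * (v E.χ1 ^ 2 + v E.χ2 ^ 2 + v E.χ3 ^ 2) : ℤ) : ℂ) =
        0 := by
      push_cast at hE h0' ⊢
      linear_combination 720 * hE + 45 * (1 + (v E.χa : ℂ) - v E.χ1 - v E.χ2 - v E.χ3) * h0'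
    exact_mod_cast this
  have hreg5 := E.F.hreg t (by rw [ht]; norm_num)
  rw [E.hsB, E.F.hsgtriv, E.hsθ₁, E.hsθ₂, E.hs11, E.hs44, trivIrr_apply, (hv E.θ₁).1,
    (hv E.θ₂).1, (hv E.χ11).1, (hv E.χ44).1, hvθ₁, hvθ₂] at hreg5
  have hE2 : 1 + v E.χ11 - v E.χ44 = 0 := by
    have : ((1 + v E.χ11 - v E.χ44 : ℤ) : ℂ) = 0 := by
      push_cast at hreg5 ⊢
      linear_combination hreg5
    exact_mod_cast this
  have hcol := sum_irr_mul_conj (1 : G) t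
  rw [if_neg (by rw [isConj_one_right]; exact ht1), E.hsU] at hcol
  simp only [irrDeg_spec, irrDeg_triv, E.hda, E.hd1, E.hd2, E.hd3, E.hdθ₁, E.hdθ₂, E.hd11,
    E.hd44, E.hd55] at hcol
  rw [trivIrr_apply, (hv E.χa).1, (hv E.χ1).1, (hv E.χ2).1, (hv E.χ3).1, (hv E.θ₁).1,
    (hv E.θ₂).1, (hv E.χ11).1, (hv E.χ44).1, (hv E.ψ₀).1, hvθ₁, hvθ₂] at hcol
  have hE3 : 1 + 45 * v E.χa + 10 * (v E.χ1 + v E.χ2 + v E.χ3) + 11 * v E.χ11 + 44 * v E.χ44 +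
      55 * v E.ψ₀ = 0 := by
    have : ((1 + 45 * v E.χa + 10 * (v E.χ1 + v E.χ2 + v E.χ3) + 11 * v E.χ11 + 44 * v E.χ44 +
        55 * v E.ψ₀ : ℤ) : ℂ) = 0 := by
      simp only [map_intCast, map_one] at hcol
      push_cast at hcol ⊢
      linear_combination hcol
    exact_mod_cast this
  have hcent := sum_irr_mul_conj t t
  rw [if_pos (IsConj.refl t), E.hsU] at hcent
  rw [trivIrr_apply, (hv E.χa).1, (hv E.χ1).1, (hv E.χ2).1, (hv E.χ3).1, (hv E.θ₁).1,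
    (hv E.θ₂).1, (hv E.χ11).1, (hv E.χ44).1, (hv E.ψ₀).1, hvθ₁, hvθ₂] at hcent
  have hE4 : (Nat.card (centralizer ({t} : Set G)) : ℤ) = 1 + v E.χa ^ 2 + v E.χ1 ^ 2 +
      v E.χ2 ^ 2 + v E.χ3 ^ 2 + v E.χ11 ^ 2 + v E.χ44 ^ 2 + v E.ψ₀ ^ 2 := by
    have : (((Nat.card (centralizer ({t} : Set G)) : ℤ)) : ℂ) = ((1 + v E.χa ^ 2 + v E.χ1 ^ 2 +
        v E.χ2 ^ 2 + v E.χ3 ^ 2 + v E.χ11 ^ 2 + v E.χ44 ^ 2 + v E.ψ₀ ^ 2 : ℤ) : ℂ) := by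
      simp only [map_intCast, map_one] at hcent
      push_cast at hcent ⊢
      linear_combination -hcent
    exact_mod_cast this
  have hdvdZ : (Nat.card (centralizer ({t} : Set G)) : ℤ) ∣ 144 := by
    rw [card_centralizer_involution hcard t ht]; norm_num
  have h1 := (hv E.χ1).2; rw [E.hd1] at h1
  have h2 := (hv E.χ2).2; rw [E.hd2] at h2
  have h3 := (hv E.χ3).2; rw [E.hd3] at h3
  have h11 := (hv E.χ11).2; rw [E.hd11] at h11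
  obtain ⟨ha, hu, hv44, hw, hc⟩ := arith_M11_inv_full (v E.χa) (v E.χ1) (v E.χ2) (v E.χ3)
    (v E.χ11) (v E.χ44) (v E.ψ₀) _
    h1.1 h2.1 h3.1 ⟨h1.2.1, h1.2.2⟩ ⟨h2.2.1, h2.2.2⟩ ⟨h3.2.1, h3.2.2⟩ ⟨h11.2.1, h11.2.2⟩
    h0 hE1 hE2 hE3 hE4 hdvdZ
  refine ⟨by rw [(hv E.χa).1, ha]; norm_num, by rw [(hv E.θ₁).1, hvθ₁]; norm_num,
    by rw [(hv E.θ₂).1, hvθ₂]; norm_num, by rw [(hv E.χ11).1, hu]; norm_num,
    by rw [(hv E.χ44).1, hv44]; norm_num, by rw [(hv E.ψ₀).1, hw]; norm_num, ?_⟩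
  rw [(hv E.χ1).1, (hv E.χ2).1, (hv E.χ3).1]
  rcases hc with ⟨e1, e2, e3⟩ | ⟨e1, e2, e3⟩ | ⟨e1, e2, e3⟩
  · left; rw [e1, e2, e3]; norm_num
  · right; left; rw [e1, e2, e3]; norm_num
  · right; right; rw [e1, e2, e3]; norm_num

end Cfsg.Agent.Helper15.O7920
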