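import Mathlib
import Cfsg.Agent.Helper15.O7920m

set_option autoImplicit false
set_option linter.unusedSectionVars false
set_option maxHeartbeats 1000000

/-!
Simple groups of order 7920: tools for the elements of order `3`.
-/

namespace Cfsg.Agent.Helper15.O7920

open Cfsg Cfsg.Agent.Helper24 Cfsg.Agent.Helper5 Subgroup Cfsg.Agent.Helper15.BrP
open Cfsg.Agent.Helper5.ClassMul Cfsg.Agent.Helper5.CC

universe u

section Gen

variable {G : Type u} [Group G] [Fintype G] [Fintype (IrrCharacter G)]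

/-- The class multiplication formula. -/
theorem card_factorizations_gen (a b x : G) :
    (Nat.card {s : G // IsConj a s ∧ IsConj b (s⁻¹ * x)} : ℂ) * (Nat.card G : ℂ) =
      ((centralizer ({a} : Set G)).index : ℂ) * ((centralizer ({b} : Set G)).index : ℂ) *
        ∑ ψ : IrrCharacter G, (ψ : G → ℂ) a * (ψ : G → ℂ) b *
          (starRingEnd ℂ) ((ψ : G → ℂ) x) / (ψ : G → ℂ) 1 := by
  have hG : (Nat.card G : ℂ) ≠ 0 := by
    have : 0 < Nat.card G := Nat.card_pos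
    exact_mod_cast this.ne'
  rw [← conv_classIndicator_apply, conv_classIndicator_eq, mul_comm, ← mul_assoc,
    mul_inv_cancel₀ hG, one_mul, Finset.mul_sum]
  refine Finset.sum_congr rfl ?_
  intro ψ _
  have h1 : (ψ : G → ℂ) 1 ≠ 0 := by
    rw [irrDeg_spec]
    have := irrDeg_pos ψ
    exact_mod_cast this.ne'
  rw [centralChar_def, centralChar_def]
  field_simp

/-- The sum of the values of an irreducible character over a subgroup of order `3`. -/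
theorem sum_order_three (χ : IrrCharacter G) (z : G) (hz : orderOf z = 3) :
    ∃ m : ℕ, (irrDeg χ : ℂ) + (χ : G → ℂ) z + (χ : G → ℂ) z⁻¹ = 3 * (m : ℂ) := by
  classical
  have hfin : IsOfFinOrder z := isOfFinOrder_of_finite z
  have : Fintype (zpowers z) := Fintype.ofFinite _
  obtain ⟨m, hm⟩ := exists_sum_subgroup χ (zpowers z)
  refine ⟨m, ?_⟩
  rw [Nat.card_zpowers, hz] at hm
  have h1 : ∑ h : zpowers z, (χ : G → ℂ) h = ∑ k : Fin (orderOf z), (χ : G → ℂ) (z ^ (k : ℕ)) := by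
    symm
    refine Fintype.sum_equiv (finEquivZPowers hfin) _ _ ?_
    intro k
    rw [finEquivZPowers_apply]
  rw [h1, Fin.sum_univ_eq_sum_range (fun k => (χ : G → ℂ) (z ^ k)) (orderOf z), hz,
    Finset.sum_range_succ, Finset.sum_range_succ, Finset.sum_range_one, pow_zero, pow_one,
    irrDeg_spec] at hm
  have hz2 : z ^ 2 = z⁻¹ := by
    have h3 : z ^ 3 = 1 := by rw [← hz]; exact pow_orderOf_eq_one z
    rw [eq_inv_iff_mul_eq_one, ← pow_succ]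
    exact h3
  rw [hz2] at hm
  rw [hm]; push_cast; ring

/-- An integral value at an element of order `3` is congruent to the degree modulo `3`. -/
theorem int_val_order_three (χ : IrrCharacter G) (z : G) (hz : orderOf z = 3) (k : ℤ)
    (hk : (χ : G → ℂ) z = (k : ℂ)) : (k - (irrDeg χ : ℤ)) % 3 = 0 := by
  obtain ⟨m, hm⟩ := sum_order_three χ z hz
  rw [Cfsg.Agent.Helper24.irr_inv, hk, map_intCast] at hm
  have : ((irrDeg χ : ℤ) + k + k : ℤ) = 3 * (m : ℤ) := by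
    have h : (((irrDeg χ : ℤ) + k + k : ℤ) : ℂ) = ((3 * (m : ℤ) : ℤ) : ℂ) := by
      push_cast
      exact hm
    exact_mod_cast h
  omega

/-- The values of the irreducible characters at a real element of order `3` are integers. -/
theorem real_vals_order_three (z : G) (hz : orderOf z = 3) (hreal : IsConj z z⁻¹)
    (χ : IrrCharacter G) : ∃ k : ℤ, (χ : G → ℂ) z = (k : ℂ) := by
  obtain ⟨m, hm⟩ := sum_order_three χ z hz
  have hinv : (χ : G → ℂ) z⁻¹ = (χ : G → ℂ) z :=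
    (IsClassFunction.eq_of_isConj (isClassFunction_irr χ) hreal).symm
  rw [hinv] at hm
  have hq : (χ : G → ℂ) z = (((3 * (m : ℚ) - (irrDeg χ : ℚ)) / 2 : ℚ) : ℂ) := by
    push_cast
    linear_combination (1 / 2 : ℂ) * hm
  have hint : IsIntegral ℤ ((((3 * (m : ℚ) - (irrDeg χ : ℚ)) / 2 : ℚ)) : ℂ) := by
    rw [← hq]; exact irr_isIntegral χ z
  obtain ⟨k, hk⟩ := exists_int_of_isIntegral_ratCast hint
  refine ⟨k, ?_⟩
  rw [hq, hk]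
  norm_cast

end Gen

section Pure



/-- Stage I: rationality of two values at an element of order `3`. -/
theorem three_stageI (Ba Bα Bβ Bγ θ B5 Bv B10 T1 T2 : ℂ) (N1 M N3 : ℕ)
    (hBa : Ba = 0)
    (hR1 : θ = 1 + Ba - Bα - Bβ - Bγ)
    (hR2 : 1 + θ + θ + B5 - Bv = 0)
    (hR3 : 1 + 45 * Ba + 10 * Bα + 10 * Bβ + 10 * Bγ + 16 * θ + 16 * θ + 11 * B5 + 44 * Bv +
      55 * B10 = 0)
    (hR4 : 1 - 3 * Ba + 2 * Bα - 2 * Bβ - 2 * Bγ + 3 * B5 + 4 * Bv - B10 = 0)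
    (hT : T1 + T2 = 6)
    (hN1 : (N1 : ℂ) * 7920 = 720 * 720 * (1 + Ba / 45 + Bα / 10 + Bβ / 10 + Bγ / 10 +
      T1 * θ / 16 + T2 * θ / 16))
    (hM : (M : ℂ) * 7920 = 165 ^ 2 * (1 + 9 * Ba / 45 + 4 * Bα / 10 + 4 * Bβ / 10 + 4 * Bγ / 10 +
      9 * B5 / 11 + 16 * Bv / 44 + B10 / 55))
    (hN3 : (N3 : ℂ) * 7920 = 165 * 720 * (1 - 3 * Ba / 45 - 2 * Bα / 10 + 2 * Bβ / 10 +
      2 * Bγ / 10))
    (hθint : IsIntegral ℤ θ) (hvint : IsIntegral ℤ Bv) :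
    ∃ kθ kv : ℤ, θ = (kθ : ℂ) ∧ Bv = (kv : ℂ) ∧ (N1 : ℤ) = 72 + 18 * kθ ∧
      (M : ℤ) = 2 - 7 * kθ + 4 * kv ∧ (N3 : ℤ) = 12 - 9 * kθ + 12 * kv := by
  subst hBa
  have hT2 : T2 = 6 - T1 := by linear_combination hT
  subst hT2
  have hα : Bα = 1 - θ - Bβ - Bγ := by linear_combination hR1
  subst hα
  have e1 : (N1 : ℂ) = 72 + 18 * θ := by linear_combination (1 / 7920 : ℂ) * hN1
  have hθq : θ = ((((N1 : ℚ) - 72) / 18 : ℚ) : ℂ) := by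
    push_cast
    linear_combination (-1 / 18 : ℂ) * e1
  obtain ⟨kθ, hkθ⟩ := exists_int_of_isIntegral_ratCast (by rw [← hθq]; exact hθint)
  have hθk : θ = (kθ : ℂ) := by rw [hθq, hkθ]; norm_cast
  have h5 : B5 = Bv - 1 - 2 * θ := by linear_combination hR2
  subst h5
  have h10 : B10 = -Bv := by linear_combination (1 / 55 : ℂ) * hR3
  subst h10
  have hβγ : Bβ + Bγ = 2 * Bv - 2 * θ := by linear_combination (-1 / 4 : ℂ) * hR4
  have e2 : (M : ℂ) = 2 - 7 * θ + 4 * Bv := by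
    linear_combination (1 / 7920 : ℂ) * hM
  have hvq : Bv = ((((M : ℚ) - 2 + 7 * (kθ : ℚ)) / 4 : ℚ) : ℂ) := by
    push_cast
    rw [hθk] at e2
    linear_combination (-1 / 4 : ℂ) * e2
  obtain ⟨kv, hkv⟩ := exists_int_of_isIntegral_ratCast (by rw [← hvq]; exact hvint)
  have hvk : Bv = (kv : ℂ) := by rw [hvq, hkv]; norm_cast
  have e3 : (N3 : ℂ) = 12 - 9 * θ + 12 * Bv := by
    linear_combination (1 / 7920 : ℂ) * hN3 + (6 : ℂ) * hβγ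
  refine ⟨kθ, kv, hθk, hvk, ?_, ?_, ?_⟩
  · have : ((N1 : ℤ) : ℂ) = ((72 + 18 * kθ : ℤ) : ℂ) := by
      push_cast; rw [e1, hθk]
    exact_mod_cast this
  · have : ((M : ℤ) : ℂ) = ((2 - 7 * kθ + 4 * kv : ℤ) : ℂ) := by
      push_cast; rw [e2, hθk, hvk]
    exact_mod_cast this
  · have : ((N3 : ℤ) : ℂ) = ((12 - 9 * kθ + 12 * kv : ℤ) : ℂ) := by
      push_cast; rw [e3, hθk, hvk]
    exact_mod_cast this



theorem three_stageI_pos (kθ kv : ℤ) (N1 M N3 : ℕ) (h1 : (N1 : ℤ) = 72 + 18 * kθ)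
    (h2 : (M : ℤ) = 2 - 7 * kθ + 4 * kv) (h3 : (N3 : ℤ) = 12 - 9 * kθ + 12 * kv)
    (hcong : (kθ - 16) % 3 = 0) (hb : 2 * kθ ^ 2 ≤ 144) : 0 < M := by
  by_contra hM
  have hM0 : M = 0 := by omega
  subst hM0
  have hle : kθ ≤ 8 := by
    by_contra h
    have : 9 ≤ kθ := by omega
    nlinarith
  omega



theorem three_core : ∀ i ∈ Finset.Icc (-3 : ℤ) 2, ∀ j ∈ Finset.Icc (-3 : ℤ) 2,
    ∀ k ∈ Finset.Icc (-5 : ℤ) 4,
    144 % (1 + (1 + (3 * i + 1) - 2 * (3 * j + 2)) ^ 2 + (3 * k + 1) ^ 2 +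
      (2 * (3 * j + 2) - 2 * (3 * i + 1) - (3 * k + 1)) ^ 2 +
      ((3 * j + 2) - 1 - 2 * (3 * i + 1)) ^ 2 + 2 * (3 * i + 1) ^ 2 + (3 * j + 2) ^ 2 +
      (3 * j + 2) ^ 2) = 0 →
    (9 * (880 + 88 * ((1 + (3 * i + 1) - 2 * (3 * j + 2)) ^ 3 + (3 * k + 1) ^ 3 +
      (2 * (3 * j + 2) - 2 * (3 * i + 1) - (3 * k + 1)) ^ 3) +
      80 * ((3 * j + 2) - 1 - 2 * (3 * i + 1)) ^ 3 + 110 * (3 * i + 1) ^ 3 +
      20 * (3 * j + 2) ^ 3 - 16 * (3 * j + 2) ^ 3)) %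
      ((1 + (1 + (3 * i + 1) - 2 * (3 * j + 2)) ^ 2 + (3 * k + 1) ^ 2 +
      (2 * (3 * j + 2) - 2 * (3 * i + 1) - (3 * k + 1)) ^ 2 +
      ((3 * j + 2) - 1 - 2 * (3 * i + 1)) ^ 2 + 2 * (3 * i + 1) ^ 2 + (3 * j + 2) ^ 2 +
      (3 * j + 2) ^ 2) ^ 2) = 0 →
    0 ≤ (9 * (880 + 88 * ((1 + (3 * i + 1) - 2 * (3 * j + 2)) ^ 3 + (3 * k + 1) ^ 3 +
      (2 * (3 * j + 2) - 2 * (3 * i + 1) - (3 * k + 1)) ^ 3) +
      80 * ((3 * j + 2) - 1 - 2 * (3 * i + 1)) ^ 3 + 110 * (3 * i + 1) ^ 3 +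
      20 * (3 * j + 2) ^ 3 - 16 * (3 * j + 2) ^ 3)) →
    i = -1 ∧ j = -1 ∧ k = 0 := by decide +kernel

theorem three_stageII (a2 a3 a4 a5 θ v a10 c N : ℤ)
    (hR1 : θ = 1 - a2 - a3 - a4) (hR2 : 1 + θ + θ + a5 - v = 0)
    (hR3 : 1 + 10 * a2 + 10 * a3 + 10 * a4 + 16 * θ + 16 * θ + 11 * a5 + 44 * v + 55 * a10 = 0)
    (hR4 : 1 + 2 * a2 - 2 * a3 - 2 * a4 + 3 * a5 + 4 * v - a10 = 0)
    (hc : c = 1 + a2 ^ 2 + a3 ^ 2 + a4 ^ 2 + a5 ^ 2 + θ ^ 2 + θ ^ 2 + v ^ 2 + a10 ^ 2)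
    (hcd : c ∣ 144)
    (hθ3 : (θ - 16) % 3 = 0) (hv3 : (v - 44) % 3 = 0) (h33 : (a3 - 10) % 3 = 0)
    (hN : N * c ^ 2 = 9 * (880 + 88 * (a2 ^ 3 + a3 ^ 3 + a4 ^ 3) + 80 * a5 ^ 3 + 110 * θ ^ 3 +
      20 * v ^ 3 + 16 * a10 ^ 3)) (hN0 : 0 ≤ N) :
    c = 18 ∧ a2 = 1 ∧ a3 = 1 ∧ a4 = 1 ∧ a5 = 2 ∧ θ = -2 ∧ v = -1 ∧ a10 = 1 := by
  obtain ⟨i, rfl⟩ : ∃ i, θ = 3 * i + 1 := ⟨(θ - 1) / 3, by omega⟩
  obtain ⟨j, rfl⟩ : ∃ j, v = 3 * j + 2 := ⟨(v - 2) / 3, by omega⟩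
  obtain ⟨k, rfl⟩ : ∃ k, a3 = 3 * k + 1 := ⟨(a3 - 1) / 3, by omega⟩
  have e5 : a5 = (3 * j + 2) - 1 - 2 * (3 * i + 1) := by omega
  have e10 : a10 = -(3 * j + 2) := by omega
  have e2 : a2 = 1 + (3 * i + 1) - 2 * (3 * j + 2) := by omega
  have e4 : a4 = 2 * (3 * j + 2) - 2 * (3 * i + 1) - (3 * k + 1) := by omega
  subst e5 e10 e2 e4
  have hcpos : 0 < c := by rw [hc]; positivity
  have hc144 : c ≤ 144 := Int.le_of_dvd (by norm_num) hcd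
  have hsqb : ∀ l : ℤ, l ^ 2 ≤ 144 → -12 ≤ l ∧ l ≤ 12 := by
    intro l hl
    constructor
    · by_contra h
      have : l ≤ -13 := by omega
      nlinarith
    · by_contra h
      have : 13 ≤ l := by omega
      nlinarith
  have hsqb8 : ∀ l : ℤ, 2 * l ^ 2 ≤ 144 → -8 ≤ l ∧ l ≤ 8 := by
    intro l hl
    constructor
    · by_contra h
      have : l ≤ -9 := by omega
      nlinarith
    · by_contra h
      have : 9 ≤ l := by omega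
      nlinarith
  have hq1 := sq_nonneg (1 + (3 * i + 1) - 2 * (3 * j + 2))
  have hq2 := sq_nonneg (3 * k + 1)
  have hq3 := sq_nonneg (2 * (3 * j + 2) - 2 * (3 * i + 1) - (3 * k + 1))
  have hq4 := sq_nonneg ((3 * j + 2) - 1 - 2 * (3 * i + 1))
  have hq5 := sq_nonneg (3 * j + 2)
  have hq6 := sq_nonneg (3 * i + 1)
  have hq7 : (-(3 * j + 2)) ^ 2 = (3 * j + 2) ^ 2 := by ring
  have hb1 : 2 * (3 * i + 1) ^ 2 ≤ 144 := by
    rw [hc] at hc144; linarith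
  have hb2 : 2 * (3 * j + 2) ^ 2 ≤ 144 := by
    rw [hc] at hc144; linarith
  have hb3 : (3 * k + 1) ^ 2 ≤ 144 := by
    rw [hc] at hc144; linarith
  have hi := hsqb8 (3 * i + 1) hb1
  have hj := hsqb8 (3 * j + 2) hb2
  have hk := hsqb (3 * k + 1) hb3
  have hi' : i ∈ Finset.Icc (-3 : ℤ) 2 := Finset.mem_Icc.mpr ⟨by omega, by omega⟩
  have hj' : j ∈ Finset.Icc (-3 : ℤ) 2 := Finset.mem_Icc.mpr ⟨by omega, by omega⟩
  have hk' : k ∈ Finset.Icc (-5 : ℤ) 4 := Finset.mem_Icc.mpr ⟨by omega, by omega⟩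
  have hceq : c = 1 + (1 + (3 * i + 1) - 2 * (3 * j + 2)) ^ 2 + (3 * k + 1) ^ 2 +
      (2 * (3 * j + 2) - 2 * (3 * i + 1) - (3 * k + 1)) ^ 2 +
      ((3 * j + 2) - 1 - 2 * (3 * i + 1)) ^ 2 + 2 * (3 * i + 1) ^ 2 + (3 * j + 2) ^ 2 +
      (3 * j + 2) ^ 2 := by rw [hc]; ring
  have hrhs : N * c ^ 2 = 9 * (880 + 88 * ((1 + (3 * i + 1) - 2 * (3 * j + 2)) ^ 3 +
      (3 * k + 1) ^ 3 + (2 * (3 * j + 2) - 2 * (3 * i + 1) - (3 * k + 1)) ^ 3) +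
      80 * ((3 * j + 2) - 1 - 2 * (3 * i + 1)) ^ 3 + 110 * (3 * i + 1) ^ 3 +
      20 * (3 * j + 2) ^ 3 - 16 * (3 * j + 2) ^ 3) := by rw [hN]; ring
  have key := three_core i hi' j hj' k hk'
    (by rw [← hceq]; exact Int.emod_eq_zero_of_dvd hcd)
    (by rw [← hceq, ← hrhs]; exact Int.mul_emod_left N (c ^ 2))
    (by rw [← hrhs]; positivity)
  obtain ⟨rfl, rfl, rfl⟩ := key
  rw [hceq]
  norm_num


end Pure

end Cfsg.Agent.Helper15.O7920
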