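import Mathlib
import Cfsg.Agent.Helper12.SzTDefs
import Cfsg.Agent.Helper24.SZTFREE

/-! SZT piece SAMEORB (driver helper12): `indA_of_sameOrb`, `sameOrb_ne_one`, `card_sameOrb`. -/

set_option autoImplicit false

namespace Cfsg.Agent.SZT

open Cfsg Cfsg.Agent.Helper11.SCTI
open scoped Classical ComplexConjugate

universe u

variable {G : Type u} [Group G] [Fintype G]

omit [Fintype G] in
theorem SAMEORB_conjN_mul (A : Subgroup G) (n m : Subgroup.normalizer (A : Set G)) (x : A) :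
    conjN A (n * m) x = conjN A n (conjN A m x) := by
  unfold conjN
  rw [map_mul]
  rfl

omit [Fintype G] in
theorem SAMEORB_conjN_one (A : Subgroup G) (x : A) : conjN A 1 x = x := by
  unfold conjN
  rw [map_one]
  rfl

omit [Fintype G] in
theorem SAMEORB_conjN_inv_left (A : Subgroup G) (n : Subgroup.normalizer (A : Set G)) (x : A) :
    conjN A n⁻¹ (conjN A n x) = x := by
  rw [← SAMEORB_conjN_mul, inv_mul_cancel, SAMEORB_conjN_one]

omit [Fintype G] in
theorem SAMEORB_conjN_inv_right (A : Subgroup G) (n : Subgroup.normalizer (A : Set G)) (x : A) :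
    conjN A n (conjN A n⁻¹ x) = x := by
  rw [← SAMEORB_conjN_mul, mul_inv_cancel, SAMEORB_conjN_one]

omit [Fintype G] in
/-- conjugation by an element of the abelian group `A` is trivial on `A` -/
theorem SAMEORB_conjN_of_mem {A : Subgroup G} (hA : SC A) (n : Subgroup.normalizer (A : Set G))
    (hn : (n : G) ∈ A) (x : A) : conjN A n x = x := by
  apply Subtype.ext
  rw [FREE_conjN_coe, hA.comm (n : G) hn (x : G) x.2, mul_assoc, mul_inv_cancel, mul_one]

/-- A9 -/
theorem indA_of_sameOrb {A : Subgroup G} {θ θ' : A →* ℂˣ} (h : SameOrb A θ θ') :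
    indA A θ' = indA A θ := by
  obtain ⟨n₀, rfl⟩ := h
  funext x
  unfold indA
  congr 1
  rw [← Equiv.sum_comp (Equiv.mulLeft n₀) (fun n => ((θ (conjN A n x) : ℂˣ) : ℂ))]
  apply Finset.sum_congr rfl
  intro n _
  simp only [MonoidHom.comp_apply, MulEquiv.coe_toMonoidHom, Equiv.coe_mulLeft,
    SAMEORB_conjN_mul]

omit [Fintype G] in
theorem sameOrb_ne_one {A : Subgroup G} {θ θ' : A →* ℂˣ} (h : SameOrb A θ θ') (hθ : θ ≠ 1) :
    θ' ≠ 1 := by
  obtain ⟨n, rfl⟩ := h
  intro h1
  apply hθ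
  apply MonoidHom.ext
  intro x
  have h2 := DFunLike.congr_fun h1 (conjN A n⁻¹ x)
  simp only [MonoidHom.comp_apply, MulEquiv.coe_toMonoidHom, MonoidHom.one_apply] at h2
  rw [SAMEORB_conjN_inv_right] at h2
  rw [h2, MonoidHom.one_apply]

/-- the fibres of `n ↦ θ ∘ conj_{n⁻¹}` are the left cosets of `A` in its normaliser -/
theorem SAMEORB_fibre {A : Subgroup G} (hA : SC A) {θ : A →* ℂˣ} (hθ : θ ≠ 1)
    (n m : Subgroup.normalizer (A : Set G)) :
    θ.comp (conjN A n⁻¹).toMonoidHom = θ.comp (conjN A m⁻¹).toMonoidHom ↔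
      ((n⁻¹ * m : Subgroup.normalizer (A : Set G)) : G) ∈ A := by
  constructor
  · intro h
    apply free_of_sc hA hθ
    apply MonoidHom.ext
    intro x
    have h2 := DFunLike.congr_fun h (conjN A m x)
    simp only [MonoidHom.comp_apply, MulEquiv.coe_toMonoidHom] at h2
    rw [SAMEORB_conjN_inv_left] at h2
    simp only [MonoidHom.comp_apply, MulEquiv.coe_toMonoidHom, SAMEORB_conjN_mul]
    exact h2
  · intro h
    apply MonoidHom.ext
    intro x
    simp only [MonoidHom.comp_apply, MulEquiv.coe_toMonoidHom]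
    have h1 : (m⁻¹ : Subgroup.normalizer (A : Set G)) = (n⁻¹ * m)⁻¹ * n⁻¹ := by group
    have hinv : (((n⁻¹ * m)⁻¹ : Subgroup.normalizer (A : Set G)) : G) ∈ A := by
      rw [Subgroup.coe_inv]
      exact A.inv_mem h
    rw [h1, SAMEORB_conjN_mul, SAMEORB_conjN_of_mem hA _ hinv]

/-- D generic: the orbit of a non-trivial character under the normaliser -/
theorem card_sameOrb {A : Subgroup G} (hA : SC A) {θ : A →* ℂˣ} (hθ : θ ≠ 1) :
    Nat.card {θ' : A →* ℂˣ // SameOrb A θ θ'} * Nat.card A =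
      Nat.card (Subgroup.normalizer (A : Set G)) := by
  set N := Subgroup.normalizer (A : Set G) with hN
  set A' : Subgroup N := A.subgroupOf N with hA'
  have hle : A ≤ N := Subgroup.le_normalizer
  have hcardA : Nat.card A' = Nat.card A :=
    Nat.card_congr (Subgroup.subgroupOfEquivOfLe hle).toEquiv
  have hquot := Subgroup.card_eq_card_quotient_mul_card_subgroup A'
  rw [hcardA] at hquot
  rw [hquot]
  congr 1
  symm
  let φ : N → {θ' : A →* ℂˣ // SameOrb A θ θ'} :=
    fun n => ⟨θ.comp (conjN A n⁻¹).toMonoidHom, ⟨n⁻¹, rfl⟩⟩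
  have hφ : ∀ n m : N, φ n = φ m ↔ n⁻¹ * m ∈ A' := by
    intro n m
    rw [Subtype.ext_iff, Subgroup.mem_subgroupOf]
    exact SAMEORB_fibre hA hθ n m
  let ψ : N ⧸ A' → {θ' : A →* ℂˣ // SameOrb A θ θ'} :=
    Quotient.lift φ (fun a b hab => (hφ a b).mpr (QuotientGroup.leftRel_apply.mp hab))
  apply Nat.card_congr
  apply Equiv.ofBijective ψ
  constructor
  · intro a b
    refine Quotient.inductionOn₂ a b ?_
    intro n m hnm
    have h1 : φ n = φ m := hnm
    exact Quotient.sound (QuotientGroup.leftRel_apply.mpr ((hφ n m).mp h1))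
  · rintro ⟨θ', ⟨n, hn⟩⟩
    refine ⟨Quotient.mk _ n⁻¹, ?_⟩
    apply Subtype.ext
    change θ.comp (conjN A n⁻¹⁻¹).toMonoidHom = θ'
    rw [inv_inv, hn]

end Cfsg.Agent.SZT
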