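import Mathlib
import Cfsg.Agent.Helper12.SzTDefs
import Cfsg.Agent.Helper24.SZTFREE
import Cfsg.Agent.Helper8.DualGroup
import Cfsg.Agent.Helper15.SZTSAMEORB

/-! SZT piece INDNORM (driver helper12): `sum_indA_mul_conj_self`,
`sum_indA_mul_conj_of_not_sameOrb`. -/

set_option autoImplicit false

namespace Cfsg.Agent.SZT

open Cfsg Cfsg.Agent.Helper11.SCTI
open scoped Classical ComplexConjugate

universe u

variable {G : Type u} [Group G] [Fintype G]

/-- orthogonality of linear characters, as a sum -/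
theorem INDNORM_orth {W : Type*} [Group W] [Fintype W] (ω ω' : W →* ℂˣ) :
    ∑ w : W, ((ω w : ℂˣ) : ℂ) * conj ((ω' w : ℂˣ) : ℂ) =
      if ω = ω' then (Nat.card W : ℂ) else 0 := by
  have h := Cfsg.Agent.Helper8.classInner_hom_units ω ω'
  unfold Cfsg.classInner at h
  have hW : (Nat.card W : ℂ) ≠ 0 := Nat.cast_ne_zero.mpr Nat.card_pos.ne'
  have h2 : ∑ w : W, ((ω w : ℂˣ) : ℂ) * conj ((ω' w : ℂˣ) : ℂ) =
      (Nat.card W : ℂ) * ((Nat.card W : ℂ)⁻¹ * ∑ w : W, ((ω w : ℂˣ) : ℂ) * conj ((ω' w : ℂˣ) : ℂ)) := by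
    rw [← mul_assoc, mul_inv_cancel₀ hW, one_mul]
  rw [h2, h]
  split_ifs <;> simp

theorem INDNORM_expand (A : Subgroup G) (θ θ' : A →* ℂˣ) :
    ∑ x : A, indA A θ x * conj (indA A θ' x) =
      (Nat.card A : ℂ)⁻¹ * (Nat.card A : ℂ)⁻¹ *
        ∑ n : Subgroup.normalizer (A : Set G), ∑ n' : Subgroup.normalizer (A : Set G),
          (if θ.comp (conjN A n).toMonoidHom = θ'.comp (conjN A n').toMonoidHom
            then (Nat.card A : ℂ) else 0) := by
  unfold indA
  have hc : conj ((Nat.card A : ℂ)⁻¹) = (Nat.card A : ℂ)⁻¹ := by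
    rw [map_inv₀, Complex.conj_natCast]
  have hx : ∀ x : A,
      ((Nat.card A : ℂ)⁻¹ * ∑ n : Subgroup.normalizer (A : Set G), ((θ (conjN A n x) : ℂˣ) : ℂ)) *
        conj ((Nat.card A : ℂ)⁻¹ *
          ∑ n : Subgroup.normalizer (A : Set G), ((θ' (conjN A n x) : ℂˣ) : ℂ)) =
      (Nat.card A : ℂ)⁻¹ * (Nat.card A : ℂ)⁻¹ *
        ∑ n : Subgroup.normalizer (A : Set G), ∑ n' : Subgroup.normalizer (A : Set G),
          ((θ (conjN A n x) : ℂˣ) : ℂ) * conj ((θ' (conjN A n' x) : ℂˣ) : ℂ) := by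
    intro x
    rw [map_mul, hc, map_sum, ← Finset.sum_mul_sum]
    ring
  rw [Finset.sum_congr rfl (fun x _ => hx x), ← Finset.mul_sum]
  congr 1
  rw [Finset.sum_comm]
  apply Finset.sum_congr rfl
  intro n _
  rw [Finset.sum_comm]
  apply Finset.sum_congr rfl
  intro n' _
  exact INDNORM_orth (θ.comp (conjN A n).toMonoidHom) (θ'.comp (conjN A n').toMonoidHom)

/-- A8 -/
theorem sum_indA_mul_conj_of_not_sameOrb {A : Subgroup G} (hA : SC A) {θ θ' : A →* ℂˣ}
    (h : ¬ SameOrb A θ θ') : ∑ x : A, indA A θ x * conj (indA A θ' x) = 0 := by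
  rw [INDNORM_expand]
  have h0 : ∀ n n' : Subgroup.normalizer (A : Set G),
      (if θ.comp (conjN A n).toMonoidHom = θ'.comp (conjN A n').toMonoidHom
        then (Nat.card A : ℂ) else 0) = 0 := by
    intro n n'
    rw [if_neg]
    intro he
    apply h
    refine ⟨n * n'⁻¹, ?_⟩
    apply MonoidHom.ext
    intro x
    have h2 := DFunLike.congr_fun he (conjN A n'⁻¹ x)
    simp only [MonoidHom.comp_apply, MulEquiv.coe_toMonoidHom] at h2
    rw [SAMEORB_conjN_inv_right] at h2
    simp only [MonoidHom.comp_apply, MulEquiv.coe_toMonoidHom, SAMEORB_conjN_mul]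
    exact h2.symm
  simp only [h0, Finset.sum_const_zero, mul_zero]

/-- A7 -/
theorem sum_indA_mul_conj_self {A : Subgroup G} (hA : SC A) {θ : A →* ℂˣ} (hθ : θ ≠ 1) :
    ∑ x : A, indA A θ x * conj (indA A θ x) =
      (Nat.card (Subgroup.normalizer (A : Set G)) : ℂ) := by
  rw [INDNORM_expand]
  have hA0 : (Nat.card A : ℂ) ≠ 0 := Nat.cast_ne_zero.mpr Nat.card_pos.ne'
  have hiff : ∀ n n' : Subgroup.normalizer (A : Set G),
      θ.comp (conjN A n).toMonoidHom = θ.comp (conjN A n').toMonoidHom ↔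
        ((n * n'⁻¹ : Subgroup.normalizer (A : Set G)) : G) ∈ A := by
    intro n n'
    have := SAMEORB_fibre hA hθ n⁻¹ n'⁻¹
    rw [inv_inv, inv_inv] at this
    exact this
  have hinner : ∀ n' : Subgroup.normalizer (A : Set G),
      ∑ n : Subgroup.normalizer (A : Set G),
        (if θ.comp (conjN A n).toMonoidHom = θ.comp (conjN A n').toMonoidHom
          then (Nat.card A : ℂ) else 0) = (Nat.card A : ℂ) * (Nat.card A : ℂ) := by
    intro n'
    rw [← Equiv.sum_comp (Equiv.mulRight n')]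
    have h1 : ∀ m : Subgroup.normalizer (A : Set G),
        (if θ.comp (conjN A (Equiv.mulRight n' m)).toMonoidHom = θ.comp (conjN A n').toMonoidHom
          then (Nat.card A : ℂ) else 0) = if (m : G) ∈ A then (Nat.card A : ℂ) else 0 := by
      intro m
      have : ((Equiv.mulRight n' m * n'⁻¹ : Subgroup.normalizer (A : Set G)) : G) = (m : G) := by
        rw [Equiv.coe_mulRight, mul_inv_cancel_right]
      simp only [hiff, this]
    rw [Finset.sum_congr rfl (fun m _ => h1 m), ← Finset.sum_filter, Finset.sum_const,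
      nsmul_eq_mul]
    congr 1
    have hcard : (Finset.univ.filter
        (fun m : Subgroup.normalizer (A : Set G) => (m : G) ∈ A)).card = Nat.card A := by
      have hle : A ≤ Subgroup.normalizer (A : Set G) := Subgroup.le_normalizer
      rw [← Nat.card_congr (Subgroup.subgroupOfEquivOfLe hle).toEquiv, Nat.card_eq_fintype_card,
        Fintype.card_subtype]
      congr 1
    rw [hcard]
  rw [Finset.sum_comm, Finset.sum_congr rfl (fun n' _ => hinner n'), Finset.sum_const,
    Finset.card_univ, nsmul_eq_mul, ← Nat.card_eq_fintype_card]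
  field_simp

end Cfsg.Agent.SZT
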