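import Mathlib
import Cfsg.Prelude.Def_Characters
import Cfsg.Agent.Helper12.WGDefs
import Cfsg.Agent.Helper12.LSUREPb
import Cfsg.Agent.Helper7.S2333SIEGEL

set_option autoImplicit false

/-! S2524, piece LINV: invariance of the spectrum under the Levi subgroup. -/

namespace Cfsg.Agent.S2524P

open Matrix Cfsg Cfsg.Agent.S2333P Cfsg.Agent.Helper25

variable {F : Type*} [Field F] [Fintype F]

omit [Fintype F] in
/-- `GL_n` is transitive on nonzero vectors -/
theorem linv_exists_mat {n : ℕ} (x y : Fin n → F) (hx : x ≠ 0) (hy : y ≠ 0) :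
    ∃ A : Matrix (Fin n) (Fin n) F, A.det ≠ 0 ∧ A *ᵥ x = y := by
  classical
  let f : (Submodule.span F {x}) ≃ₗ[F] (Submodule.span F {y}) :=
    (LinearEquiv.toSpanNonzeroSingleton F _ x hx).symm ≪≫ₗ
      (LinearEquiv.toSpanNonzeroSingleton F _ y hy)
  obtain ⟨g, hg⟩ := Submodule.exists_linearEquiv_restrict_eq f
  refine ⟨LinearMap.toMatrix' g.toLinearMap, ?_, ?_⟩
  · rw [LinearMap.det_toMatrix']
    exact (LinearEquiv.isUnit_det' g).ne_zero
  · rw [LinearMap.toMatrix'_mulVec]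
    have h1 : (LinearEquiv.toSpanNonzeroSingleton F _ x hx).symm
        ⟨x, Submodule.mem_span_singleton_self x⟩ = 1 := by
      rw [LinearEquiv.symm_apply_eq, LinearEquiv.toSpanNonzeroSingleton_one]
    have h2 := hg ⟨x, Submodule.mem_span_singleton_self x⟩
    have h3 : f ⟨x, Submodule.mem_span_singleton_self x⟩ =
        ⟨y, Submodule.mem_span_singleton_self y⟩ := by
      show (LinearEquiv.toSpanNonzeroSingleton F _ y hy)
        ((LinearEquiv.toSpanNonzeroSingleton F _ x hx).symm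
          ⟨x, Submodule.mem_span_singleton_self x⟩) = _
      rw [h1, LinearEquiv.toSpanNonzeroSingleton_one]
    rw [h3] at h2
    exact h2.symm

/-- **LINV**: invariance of the spectrum under the Levi subgroup -/
theorem spec_congS (ψ : AddChar F ℂ) {n : ℕ} (χ : ↥(symplecticGroup (Fin n) F) → ℂ)
    (hχ : IsClassFunction ↥(symplecticGroup (Fin n) F) χ) (A : Matrix (Fin n) (Fin n) F)
    (hA : A.det ≠ 0) (T : ↥(SymM n F)) : spec ψ χ (congS A T) = spec ψ χ T := by
  have hAt : (Aᵀ).det ≠ 0 := by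
    rw [det_transpose]
    exact hA
  obtain ⟨g, hg⟩ := US_levi Aᵀ hAt
  have hinv := Cfsg.Agent.Helper12.LSU.rep_invariant (US n F) (US_injective n) χ hχ g
    (fun Y => Multiplicative.ofAdd (congS Aᵀ (Multiplicative.toAdd Y)))
    (fun Y => (hg (Multiplicative.toAdd Y)).symm)
    (fun a => lamT ψ T a) (fun a => lamT ψ (congS A T) a)
    (fun Y => by
      show ψ (trace (T.1 * (Aᵀ * (Multiplicative.toAdd Y).1 * Aᵀᵀ))) =
        ψ (trace ((A * T.1 * Aᵀ) * (Multiplicative.toAdd Y).1))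
      rw [transpose_transpose, ← Matrix.mul_assoc, ← Matrix.mul_assoc, Matrix.trace_mul_comm,
        ← Matrix.mul_assoc, ← Matrix.mul_assoc])
  exact hinv.symm

omit [Fintype F] in
/-- **LINV** -/
theorem congS_rk1 {n : ℕ} (A : Matrix (Fin n) (Fin n) F) (c : F) (x : Fin n → F) :
    congS A (rk1 c x) = rk1 c (A *ᵥ x) := by
  apply Subtype.ext
  rw [congS_val, rk1_val, rk1_val, Matrix.mul_smul, Matrix.smul_mul, mul_vecMulVec,
    vecMulVec_mul, vecMul_transpose]

/-- **LINV**: the spectrum is constant on a class -/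
theorem spec_eq_of_ofClass (ψ : AddChar F ℂ) {n : ℕ} (χ : ↥(symplecticGroup (Fin n) F) → ℂ)
    (hχ : IsClassFunction ↥(symplecticGroup (Fin n) F) χ) {c : F} {T T' : ↥(SymM n F)}
    (h : OfClass c T) (h' : OfClass c T') : spec ψ χ T = spec ψ χ T' := by
  obtain ⟨x, hx, rfl⟩ := h
  obtain ⟨y, hy, rfl⟩ := h'
  obtain ⟨A, hA, hAx⟩ := linv_exists_mat x y hx hy
  rw [← hAx, ← congS_rk1, spec_congS ψ χ hχ A hA]

end Cfsg.Agent.S2524P
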