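import Mathlib
import Cfsg.Prelude.Def_Characters
import Cfsg.Agent.Helper12.WGDefs
import Cfsg.Agent.Helper3.WGBaseDefs

set_option autoImplicit false

/-! S2524, chapter BASE, piece BASE-SPEC: the spectrum for `n = 1` as a sum over `F`. -/

namespace Cfsg.Agent.S2524P

open Matrix Cfsg Cfsg.Agent.S2333P Cfsg.Agent.Helper12

open scoped ComplexConjugate

variable {F : Type*} [Field F] [Fintype F]

omit [Fintype F] in
theorem base_spec_sym1_eq (T : ↥(SymM 1 F)) : T = base_sym1 (T.1 0 0) := by
  apply Subtype.ext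
  ext i j
  rw [Subsingleton.elim i 0, Subsingleton.elim j 0]
  rfl

omit [Fintype F] in
theorem base_spec_bij :
    Function.Bijective (fun b : F => Multiplicative.ofAdd (base_sym1 b)) := by
  constructor
  · intro a b hab
    have h1 : base_sym1 a = base_sym1 b := Multiplicative.ofAdd.injective hab
    have h2 := congrArg (fun T : ↥(SymM 1 F) => T.1 0 0) h1
    exact h2
  · intro Y
    refine ⟨(Multiplicative.toAdd Y).1 0 0, ?_⟩
    show Multiplicative.ofAdd (base_sym1 ((Multiplicative.toAdd Y).1 0 0)) = Y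
    rw [← base_spec_sym1_eq]
    rfl

omit [Fintype F] in
theorem base_spec_lamT (ψ : AddChar F ℂ) (T : ↥(SymM 1 F)) (b : F) :
    lamT ψ T (Multiplicative.ofAdd (base_sym1 b)) = ψ (T.1 0 0 * b) := by
  rw [lamT_apply, Matrix.trace_fin_one, Matrix.mul_apply, Fin.sum_univ_one, base_sym1_apply]

/-- **BASE-SPEC**: the spectrum for `n = 1` as a sum over `F` -/
theorem base_specU_eq (ψ : AddChar F ℂ) {H : Type*} [Group H]
    (U : Multiplicative ↥(SymM 1 F) →* H) (f : H → ℂ) (T : ↥(SymM 1 F)) :
    specU ψ U f T = (Fintype.card F : ℂ)⁻¹ *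
      ∑ b : F, f (U (Multiplicative.ofAdd (base_sym1 b))) * conj (ψ (T.1 0 0 * b)) := by
  unfold specU classInner
  have hcard : Nat.card (Multiplicative ↥(SymM 1 F)) = Fintype.card F := by
    rw [← Nat.card_eq_fintype_card]
    exact (Nat.card_eq_of_bijective _ base_spec_bij).symm
  rw [hcard, ← Function.Bijective.sum_comp (base_spec_bij (F := F))]
  congr 1
  apply Finset.sum_congr rfl
  intro b _
  beta_reduce
  rw [base_spec_lamT]

end Cfsg.Agent.S2524P
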