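import Mathlib
import Cfsg.Prelude.Def_Characters
import Cfsg.Agent.Helper12.WGDefs
import Cfsg.Agent.Helper12.SL2TableOdd
import Cfsg.Agent.Helper12.SL2Half
import Cfsg.Agent.Helper12.SL2Inv
import Cfsg.Agent.Helper12.LSpWFin
import Cfsg.Agent.Helper3.WGBaseDefs
import Cfsg.Agent.Helper18.WGSPECNAT
import Cfsg.Agent.Helper15.WGBASESPEC
import Cfsg.Agent.Helper19.WGBASEISO

set_option autoImplicit false

/-! S2524, chapter BASE, piece BASE-MNAT0. -/

namespace Cfsg.Agent.S2524P

open Matrix Cfsg Cfsg.Agent.S2333P Cfsg.Agent.Helper12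

open scoped ComplexConjugate

variable {F : Type*} [Field F] [Fintype F]

local notation "S2" => Matrix.SpecialLinearGroup (Fin 2) F

/-- **BASE-MNAT0**: the multiplicities of a character are natural numbers adding up to the degree -/
theorem base_m_nat0 (hodd : Odd (Fintype.card F)) (ψ : AddChar F ℂ) (hψ : ψ ≠ 1)
    (f : S2 → ℂ) (hf : IsCharacter S2 f) :
    ∃ k : F → ℕ, (∀ t : F, base_m ψ f t = (k t : ℂ)) ∧ f 1 = ((∑ t : F, k t : ℕ) : ℂ) := by
  classical
  have h2 : (2 : F) ≠ 0 := Cfsg.Agent.Helper12.LSp.two_ne_zero_of_odd_card hodd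
  obtain ⟨e, he⟩ := base_exists_iso (F := F)
  let _ : Fintype S2 := Fintype.ofFinite _
  obtain ⟨k', hk', hsum⟩ := specU_nat h2 ψ hψ (e.toMonoidHom.comp (US 1 F)) f hf
  refine ⟨fun t => k' (base_sym1 t), ?_, ?_⟩
  · intro t
    rw [← hk' (base_sym1 t), base_specU_eq]
    unfold base_m
    congr 1
    apply Finset.sum_congr rfl
    intro b _
    rw [MonoidHom.comp_apply]
    have hb : e.toMonoidHom (US 1 F (Multiplicative.ofAdd (base_sym1 b))) =
        borelMkSL (1 : Fˣ) b := he b
    rw [hb]
    rfl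
  · rw [hsum]
    congr 1
    have hbij : Function.Bijective (fun b : F => base_sym1 b) := by
      constructor
      · intro a b hab
        exact (base_spec_bij (F := F)).1 (congrArg Multiplicative.ofAdd hab)
      · intro T
        exact ⟨T.1 0 0, (base_spec_sym1_eq T).symm⟩
    exact (Function.Bijective.sum_comp hbij k').symm

end Cfsg.Agent.S2524P
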