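import Mathlib
import Cfsg.Prelude.Def_Characters
import Cfsg.Agent.Helper12.WGDefs
import Cfsg.Agent.Helper12.SL2TableOdd
import Cfsg.Agent.Helper12.SL2Half
import Cfsg.Agent.Helper12.SL2Inv
import Cfsg.Agent.Helper3.WGBaseDefs
import Cfsg.Agent.Helper24.Rep
import Cfsg.Agent.Helper14.WGBASEMNAT
import Cfsg.Agent.Helper18.WGBASEM

set_option autoImplicit false

/-! S2524, chapter BASE, piece BASE-HALF. -/

namespace Cfsg.Agent.S2524P

open Matrix Cfsg Cfsg.Agent.S2333P Cfsg.Agent.Helper12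

open scoped ComplexConjugate

variable {F : Type*} [Field F] [Fintype F]

local notation "S2" => Matrix.SpecialLinearGroup (Fin 2) F

/-- **BASE-HALF**: a character of degree `(q + δ) / 2` whose values at the two unipotent classes
add up to `δ = ± 1` has `m 0 = (1 + δ) / 2` and exactly one of the two classes in its spectrum,
with multiplicity one -/
theorem base_half (hodd : Odd (Fintype.card F)) {ε : F} (hε : ¬ IsSquare ε)
    (ψ : AddChar F ℂ) (hψ : ψ ≠ 1) (f : S2 → ℂ) (hf : IsCharacter S2 f) (δ : ℂ)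
    (hδ : δ = 1 ∨ δ = -1) (hdeg : 2 * f 1 = (Fintype.card F : ℂ) + δ)
    (hsum : f (borelMkSL (1 : Fˣ) 1) + f (borelMkSL (1 : Fˣ) ε) = δ) :
    base_m ψ f 0 = (1 + δ) / 2 ∧
      (((∀ x : F, x ≠ 0 → base_m ψ f (x ^ 2) = 1) ∧
          ∀ x : F, x ≠ 0 → base_m ψ f (ε * x ^ 2) = 0) ∨
        ((∀ x : F, x ≠ 0 → base_m ψ f (x ^ 2) = 0) ∧
          ∀ x : F, x ≠ 0 → base_m ψ f (ε * x ^ 2) = 1)) := by
  obtain ⟨k0, kS, kN, h0, hS, hN, hdeg'⟩ := base_m_nat hodd hε ψ hψ f hf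
  have hz := base_m_zero hodd hε ψ f (Cfsg.Agent.Helper24.IsCharacter.isClassFunction hf)
  rw [hsum, h0] at hz
  have hq1 : (1 : ℝ) < (Fintype.card F : ℝ) := by
    exact_mod_cast Fintype.one_lt_card
  have hq0 : (Fintype.card F : ℂ) ≠ 0 := by
    have : (Fintype.card F : ℕ) ≠ 0 := Fintype.card_ne_zero
    exact_mod_cast this
  have hq1' : (Fintype.card F : ℂ) - 1 ≠ 0 := by
    intro h
    have h1 : (Fintype.card F : ℂ) = 1 := by linear_combination h
    have h2 : (Fintype.card F : ℕ) = 1 := by exact_mod_cast h1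
    have := Fintype.one_lt_card (α := F)
    omega
  -- k0
  have hk0 : (k0 : ℂ) = (1 + δ) / 2 := by
    have h1 : (Fintype.card F : ℂ) * (2 * (k0 : ℂ) - (1 + δ)) = 0 := by
      linear_combination 2 * hz + hdeg
    rcases mul_eq_zero.mp h1 with h2 | h2
    · exact absurd h2 hq0
    · linear_combination h2 / 2
  have hsum' : ((kS + kN : ℕ) : ℂ) = 1 := by
    have h1 : ((Fintype.card F : ℂ) - 1) * (((kS : ℂ) + (kN : ℂ)) - 1) = 0 := by
      linear_combination (-2 : ℂ) * hdeg' + hdeg - 2 * hk0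
    rcases mul_eq_zero.mp h1 with h2 | h2
    · exact absurd h2 hq1'
    · push_cast
      linear_combination h2
  have hsumN : kS + kN = 1 := by exact_mod_cast hsum'
  refine ⟨by rw [h0, hk0], ?_⟩
  have hcases : (kS = 1 ∧ kN = 0) ∨ (kS = 0 ∧ kN = 1) := by omega
  rcases hcases with ⟨h1, h2⟩ | ⟨h1, h2⟩
  · left
    refine ⟨fun x hx => ?_, fun x hx => ?_⟩
    · rw [hS x hx, h1, Nat.cast_one]
    · rw [hN x hx, h2, Nat.cast_zero]
  · right
    refine ⟨fun x hx => ?_, fun x hx => ?_⟩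
    · rw [hS x hx, h1, Nat.cast_zero]
    · rw [hN x hx, h2, Nat.cast_one]

end Cfsg.Agent.S2524P
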