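import Mathlib
import Cfsg.Prelude.Def_Characters
import Cfsg.Agent.Helper12.WGDefs
import Cfsg.Agent.Helper12.LSpWFin
import Cfsg.Agent.Helper18.WGSPECNAT
import Cfsg.Agent.Helper22.WGCLASS

set_option autoImplicit false

/-! S2524, piece DEGREE: the degree of a character with a Weil spectrum. -/

namespace Cfsg.Agent.S2524P

open Matrix Cfsg Cfsg.Agent.S2333P Cfsg.Agent.Helper25

variable {F : Type*} [Field F] [Fintype F]

/-- **DEGREE**: the degree of a character with a Weil spectrum -/
theorem degree_of_weilSpec (hodd : Odd (Fintype.card F)) {n : ℕ} (hn : 1 ≤ n)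
    (ψ : AddChar F ℂ) (hψ : ψ ≠ 1) (χ : ↥(symplecticGroup (Fin n) F) → ℂ)
    (hχ : IsCharacter ↥(symplecticGroup (Fin n) F) χ) (c : F) (hc : c ≠ 0) (e : ℕ)
    (h : WeilSpec ψ χ c e) : χ 1 = ((Fintype.card F ^ n - 1) / 2 + e : ℕ) := by
  classical
  have h2 : (2 : F) ≠ 0 := Cfsg.Agent.Helper12.LSp.two_ne_zero_of_odd_card hodd
  obtain ⟨k, hk, hsum⟩ := specU_nat h2 ψ hψ (US n F) χ hχ
  obtain ⟨h0, h1, h3⟩ := h
  have hk0 : k 0 = e := by
    have := (hk 0).symm.trans h0
    exact_mod_cast this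
  have hk1 : ∀ T, OfClass c T → k T = 1 := fun T hT => by
    have := (hk T).symm.trans (h1 T hT)
    exact_mod_cast this
  have hk3 : ∀ T, T ≠ 0 → ¬ OfClass c T → k T = 0 := fun T hT hT' => by
    have := (hk T).symm.trans (h3 T hT hT')
    exact_mod_cast this
  have hkT : ∀ T, k T = (if T = 0 then e else 0) + (if OfClass c T then 1 else 0) := by
    intro T
    by_cases hT0 : T = 0
    · subst hT0
      rw [if_pos rfl, if_neg (fun hcl => ne_zero_of_ofClass hc hcl rfl), hk0, add_zero]
    · rw [if_neg hT0, zero_add]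
      by_cases hcl : OfClass c T
      · rw [if_pos hcl, hk1 T hcl]
      · rw [if_neg hcl, hk3 T hT0 hcl]
  have hS : ∑ T, k T = e + Nat.card {T : ↥(SymM n F) // OfClass c T} := by
    rw [Finset.sum_congr rfl (fun T _ => hkT T), Finset.sum_add_distrib, Finset.sum_ite_eq',
      if_pos (Finset.mem_univ _), ← Finset.card_filter, Nat.card_eq_fintype_card,
      Fintype.card_subtype]
  have hcard := card_ofClass (F := F) hodd (n := n) hc
  rw [hsum, hS]
  congr 1
  omega

end Cfsg.Agent.S2524P
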