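import Mathlib
import Cfsg.Agent.Helper29.EsnDefs

set_option autoImplicit false

/-! S5877 piece LINB: an invariant subspace of an element with `c₁ ^ r = 1` is the direct sum of
its intersections with the eigenspaces for the `r`-th roots of unity. -/

namespace Cfsg.Agent.S5877P

open Matrix Module

namespace LINB

section General

variable {F : Type*} [Field F] {V : Type*} [AddCommGroup V] [Module F V]

theorem finrank_biSup_of_indep [FiniteDimensional F V] {ι : Type*} [DecidableEq ι]
    (W : ι → Submodule F V) (h : iSupIndep W) (s : Finset ι) :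
    finrank F ↥(⨆ i ∈ s, W i) = ∑ i ∈ s, finrank F (W i) := by
  induction s using Finset.induction_on with
  | empty => simp
  | insert a s ha ih =>
    rw [Finset.iSup_insert, Finset.sum_insert ha, ← ih]
    have hdis : Disjoint (W a) (⨆ i ∈ (s : Set ι), W i) :=
      h.disjoint_biSup (by simpa using ha)
    simp only [Finset.mem_coe] at hdis
    have h1 := Submodule.finrank_sup_add_finrank_inf_eq (W a) (⨆ i ∈ s, W i)
    rw [hdis.eq_bot, finrank_bot, add_zero] at h1
    exact h1

theorem natCast_ne_zero_of_root {r : ℕ} (hr : r.Prime) (z : F) (hz : z ^ r = 1) (hz1 : z ≠ 1) :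
    (r : F) ≠ 0 := by
  intro h0
  have : Fact r.Prime := ⟨hr⟩
  have hchar : ringChar F = r := by
    have hd : ringChar F ∣ r := (ringChar.spec F r).mp h0
    rcases (Nat.dvd_prime hr).mp hd with h1 | h1
    · exact absurd h1 CharP.ringChar_ne_one
    · exact h1
  have : CharP F r := hchar ▸ ringChar.charP F
  have h2 : (z - 1) ^ r = 0 := by rw [sub_pow_char, hz, one_pow, sub_self]
  exact hz1 (sub_eq_zero.mp ((pow_eq_zero_iff hr.ne_zero).mp h2))

theorem geom_sum_eq_zero {r : ℕ} (x : F) (hx : x ^ r = 1) (hx1 : x ≠ 1) :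
    ∑ i ∈ Finset.range r, x ^ i = 0 := by
  have h := geom_sum_mul x r
  rw [hx, sub_self] at h
  rcases mul_eq_zero.mp h with h1 | h1
  · exact h1
  · exact absurd (sub_eq_zero.mp h1) hx1

/-- the `i`-th projection, up to the factor `r⁻¹` -/
noncomputable def proj (r : ℕ) (w : F) (T : Module.End F V) (i : ℕ) : Module.End F V :=
  ∑ j ∈ Finset.range r, (w ^ (i * j)) • T ^ j

theorem T_mul_proj {r : ℕ} (z w : F) (hzw : z * w = 1) (hw : w ^ r = 1) (T : Module.End F V)
    (hT : T ^ r = 1) (i : ℕ) : T * proj r w T i = z ^ i • proj r w T i := by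
  unfold proj
  rw [Finset.mul_sum, Finset.smul_sum]
  have hg : ∀ j, T * (w ^ (i * j) • T ^ j) = (z ^ i * w ^ (i * (j + 1))) • T ^ (j + 1) := by
    intro j
    rw [mul_smul_comm, ← pow_succ']
    congr 1
    rw [mul_add, mul_one, pow_add, mul_comm (w ^ (i * j)), ← mul_assoc, ← mul_pow, hzw, one_pow,
      one_mul]
  rw [Finset.sum_congr rfl (fun j _ => hg j)]
  have h1 := Finset.sum_range_succ' (fun j => (z ^ i * w ^ (i * j)) • T ^ j) r
  have h2 := Finset.sum_range_succ (fun j => (z ^ i * w ^ (i * j)) • T ^ j) r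
  have h3 : (z ^ i * w ^ (i * r)) • T ^ r = (z ^ i * w ^ (i * 0)) • T ^ 0 := by
    rw [hT, mul_comm i r, pow_mul, hw, one_pow, mul_zero, pow_zero, pow_zero]
  rw [h2, h3] at h1
  have h4 := add_right_cancel h1
  rw [← h4]
  apply Finset.sum_congr rfl
  intro j _
  rw [smul_smul]

theorem sum_proj {r : ℕ} (hr0 : (r : F) ≠ 0) (w : F) (hw : w ^ r = 1)
    (hw1 : ∀ j, 0 < j → j < r → w ^ j ≠ 1) (T : Module.End F V) :
    ∑ i ∈ Finset.range r, proj r w T i = (r : F) • (1 : Module.End F V) := by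
  unfold proj
  rw [Finset.sum_comm]
  have h : ∀ j ∈ Finset.range r, ∑ i ∈ Finset.range r, w ^ (i * j) • T ^ j =
      if j = 0 then (r : F) • (1 : Module.End F V) else 0 := by
    intro j hj
    rw [← Finset.sum_smul]
    by_cases hj0 : j = 0
    · subst hj0
      simp
    · rw [if_neg hj0]
      have : ∑ i ∈ Finset.range r, w ^ (i * j) = 0 := by
        have h1 : ∀ i, w ^ (i * j) = (w ^ j) ^ i := fun i => by rw [mul_comm, pow_mul]
        rw [Finset.sum_congr rfl (fun i _ => h1 i)]
        apply geom_sum_eq_zero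
        · rw [← pow_mul, mul_comm, pow_mul, hw, one_pow]
        · exact hw1 j (Nat.pos_of_ne_zero hj0) (Finset.mem_range.mp hj)
      rw [this, zero_smul]
  rw [Finset.sum_congr rfl h]
  rw [Finset.sum_ite_eq']
  have hr : 0 < r := Nat.pos_of_ne_zero (by rintro rfl; simp at hr0)
  simp [hr]

theorem pow_apply_mem (T : Module.End F V) (U : Submodule F V) (hU : ∀ v ∈ U, T v ∈ U) (j : ℕ) :
    ∀ v ∈ U, (T ^ j) v ∈ U := by
  induction j with
  | zero => intro v hv; simpa using hv
  | succ k ih =>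
    intro v hv
    rw [pow_succ', Module.End.mul_apply]
    exact hU _ (ih v hv)

theorem proj_apply_mem {r : ℕ} (w : F) (T : Module.End F V) (U : Submodule F V)
    (hU : ∀ v ∈ U, T v ∈ U) (i : ℕ) (v : V) (hv : v ∈ U) : proj r w T i v ∈ U := by
  unfold proj
  rw [LinearMap.sum_apply]
  apply Submodule.sum_mem
  intro j _
  rw [LinearMap.smul_apply]
  exact U.smul_mem _ (pow_apply_mem T U hU j v hv)

theorem main [FiniteDimensional F V] {r : ℕ} (hr : r.Prime) (ζ : Fˣ) (hζ : ζ ^ r = 1) (hζ1 : ζ ≠ 1)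
    (T : Module.End F V) (hT : T ^ r = 1) (U : Submodule F V) (hU : ∀ v ∈ U, T v ∈ U) :
    finrank F U = ∑ i ∈ Finset.range r,
      finrank F (U ⊓ T.eigenspace ((ζ : F) ^ i) : Submodule F V) := by
  have : Fact r.Prime := ⟨hr⟩
  have hord : orderOf ζ = r := orderOf_eq_prime hζ hζ1
  set z : F := (ζ : F) with hz
  set w : F := ((ζ⁻¹ : Fˣ) : F) with hw
  have hzw : z * w = 1 := by rw [hz, hw, ← Units.val_mul, mul_inv_cancel, Units.val_one]
  have hzr : z ^ r = 1 := by rw [hz, ← Units.val_pow_eq_pow_val, hζ, Units.val_one]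
  have hz1 : z ≠ 1 := fun h => hζ1 (Units.ext (by rw [Units.val_one]; exact h))
  have hwr : w ^ r = 1 := by
    rw [hw, ← Units.val_pow_eq_pow_val, inv_pow, hζ, inv_one, Units.val_one]
  have hr0 : (r : F) ≠ 0 := natCast_ne_zero_of_root hr z hzr hz1
  have hw1 : ∀ j, 0 < j → j < r → w ^ j ≠ 1 := by
    intro j hj0 hjr h
    have h1 : (ζ⁻¹) ^ j = 1 := Units.ext (by rw [Units.val_pow_eq_pow_val, Units.val_one]; exact h)
    rw [inv_pow, inv_eq_one] at h1
    have h2 := orderOf_dvd_of_pow_eq_one h1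
    rw [hord] at h2
    exact absurd (Nat.le_of_dvd hj0 h2) (not_le.mpr hjr)
  -- the family
  let W : Fin r → Submodule F V := fun i => U ⊓ T.eigenspace (z ^ (i : ℕ))
  have hinj : Function.Injective (fun i : Fin r => z ^ (i : ℕ)) := by
    intro a b hab
    have h1 : ζ ^ (a : ℕ) = ζ ^ (b : ℕ) :=
      Units.ext (by rw [Units.val_pow_eq_pow_val, Units.val_pow_eq_pow_val]; exact hab)
    have h2 := pow_injOn_Iio_orderOf (x := ζ) (by rw [hord]; exact a.2) (by rw [hord]; exact b.2) h1
    exact Fin.ext h2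
  have hind : iSupIndep W := by
    have h1 : iSupIndep (T.eigenspace ∘ fun i : Fin r => z ^ (i : ℕ)) :=
      (Module.End.eigenspaces_iSupIndep T).comp hinj
    exact h1.mono (fun i => inf_le_right)
  have hsup : (⨆ i, W i) = U := by
    apply le_antisymm
    · exact iSup_le fun i => inf_le_left
    · intro v hv
      have h1 := sum_proj hr0 w hwr hw1 T
      have h2 : v = (r : F)⁻¹ • ∑ i ∈ Finset.range r, proj r w T i v := by
        have := congrArg (fun f : Module.End F V => f v) h1
        simp only [LinearMap.sum_apply, LinearMap.smul_apply, Module.End.one_apply] at this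
        rw [this, smul_smul, inv_mul_cancel₀ hr0, one_smul]
      rw [h2]
      apply Submodule.smul_mem
      apply Submodule.sum_mem
      intro i hi
      have hi' : i < r := Finset.mem_range.mp hi
      apply Submodule.mem_iSup_of_mem (⟨i, hi'⟩ : Fin r)
      refine ⟨proj_apply_mem w T U hU i v hv, ?_⟩
      show proj r w T i v ∈ T.eigenspace (z ^ i)
      rw [Module.End.mem_eigenspace_iff]
      have := congrArg (fun f : Module.End F V => f v) (T_mul_proj z w hzw hwr T hT i)
      simpa only [Module.End.mul_apply, LinearMap.smul_apply] using this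
  calc finrank F U = finrank F ↥(⨆ i, W i) := by rw [hsup]
    _ = finrank F ↥(⨆ i ∈ (Finset.univ : Finset (Fin r)), W i) := by
        have e : (⨆ i ∈ (Finset.univ : Finset (Fin r)), W i) = ⨆ i, W i := by simp
        rw [e]
    _ = ∑ i : Fin r, finrank F (W i) := finrank_biSup_of_indep W hind Finset.univ
    _ = ∑ i ∈ Finset.range r, finrank F (U ⊓ T.eigenspace (z ^ i) : Submodule F V) :=
        (Finset.sum_range (fun i => finrank F (U ⊓ T.eigenspace (z ^ i) : Submodule F V))).symm

end General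

end LINB

variable {n : ℕ} {F : Type*} [Field F] {r : ℕ} {Q : Subgroup (GLn n F)} {ζ : Fˣ}

theorem finrank_eq_sum_inf_Eig (hr : r.Prime) (ζ : Fˣ) (hζ : ζ ^ r = 1) (hζ1 : ζ ≠ 1)
    (c₁ : GLn n F) (hc₁ : c₁ ^ r = 1) (U : Submodule F (Fin n → F))
    (hU : ∀ v ∈ U, (c₁ : Matrix (Fin n) (Fin n) F) *ᵥ v ∈ U) :
    finrank F U = ∑ i ∈ Finset.range r,
      finrank F (U ⊓ Eig c₁ ((ζ ^ i : Fˣ) : F) : Submodule F (Fin n → F)) := by
  have hT : (Matrix.toLin' (c₁ : Matrix (Fin n) (Fin n) F)) ^ r = 1 := by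
    rw [← Matrix.toLin'_pow, ← Units.val_pow_eq_pow_val, hc₁, Units.val_one, Matrix.toLin'_one]
    rfl
  have h := LINB.main hr ζ hζ hζ1 (Matrix.toLin' (c₁ : Matrix (Fin n) (Fin n) F)) hT U
    (fun v hv => by rw [Matrix.toLin'_apply]; exact hU v hv)
  rw [h]
  apply Finset.sum_congr rfl
  intro i _
  rw [Units.val_pow_eq_pow_val]
  rfl

end Cfsg.Agent.S5877P
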