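import Mathlib
import Cfsg.Prelude.Def_GeometricClasses
import Cfsg.Prelude.Def_Classical
import Cfsg.Prelude.Def_LieClassical
import Cfsg.Agent.Helper6.S5992Defs
import Cfsg.Agent.Helper10.S5961FIXSPLIT
import Cfsg.Agent.Helper23.S5961STRUCT

/-! S5992, pieces SUPND and FIXND. -/

set_option autoImplicit false
open scoped MatrixGroups
universe u

namespace Cfsg.Agent.S5992P

open Cfsg.Agent.Helper2.SympInvol Cfsg.Agent.Helper2.SympUnits Cfsg.Agent.S5961P Cfsg.Agent.S2614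
  Cfsg.Agent.S5955P

/-- SUPND -/
theorem nondeg_sup_orth {F V : Type*} [Field F] [AddCommGroup V] [Module F V]
    [FiniteDimensional F V] (Q : QuadraticForm F V) (W₁ W₂ : Submodule F V)
    (h₁ : Nondeg (PB Q) W₁) (h₂ : Nondeg (PB Q) W₂) (ho : Orth (PB Q) W₁ W₂) :
    Nondeg (PB Q) (W₁ ⊔ W₂) ∧ Disjoint W₁ W₂ ∧
    Module.finrank F ↥(W₁ ⊔ W₂) = Module.finrank F W₁ + Module.finrank F W₂ := by
  have hdisj : Disjoint W₁ W₂ := by
    rw [Submodule.disjoint_def]
    intro u hu1 hu2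
    by_contra hne
    obtain ⟨v, hv, hv0⟩ := h₁ u hu1 hne
    apply hv0
    rw [PB_comm]
    exact ho v hv u hu2
  refine ⟨?_, hdisj, ?_⟩
  · intro w hw hw0
    obtain ⟨w₁, hw₁, w₂, hw₂, rfl⟩ := Submodule.mem_sup.mp hw
    by_cases h10 : w₁ = 0
    · have h20 : w₂ ≠ 0 := by
        intro h
        apply hw0
        rw [h10, h, add_zero]
      obtain ⟨v, hv, hv0⟩ := h₂ w₂ hw₂ h20
      refine ⟨v, Submodule.mem_sup_right hv, ?_⟩
      rw [map_add, LinearMap.add_apply, ho w₁ hw₁ v hv, zero_add]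
      exact hv0
    · obtain ⟨v, hv, hv0⟩ := h₁ w₁ hw₁ h10
      refine ⟨v, Submodule.mem_sup_left hv, ?_⟩
      rw [map_add, LinearMap.add_apply, PB_comm Q w₂ v, ho v hv w₂ hw₂, add_zero]
      exact hv0
  · have h := Submodule.finrank_sup_add_finrank_inf_eq W₁ W₂
    rw [disjoint_iff.mp hdisj, finrank_bot, add_zero] at h
    exact h

/-- FIXND -/
theorem fix_nondeg {F V : Type*} [Field F] [AddCommGroup V] [Module F V] [FiniteDimensional F V]
    {p : ℕ} [Fact p.Prime] [CharP F p] (r : ℕ) [Fact r.Prime] (hrp : r ≠ p)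
    (Q : QuadraticForm F V) (y : Module.End F V) (hY : IsYO Q y r) :
    Nondeg (PB Q) (LinearMap.ker (y - 1)) ∧ Nondeg (PB Q) (LinearMap.range (y - 1)) ∧
    Orth (PB Q) (LinearMap.ker (y - 1)) (LinearMap.range (y - 1)) ∧
    Module.finrank F (LinearMap.ker (y - 1)) + Module.finrank F (LinearMap.range (y - 1)) =
      Module.finrank F V := by
  obtain ⟨hc, ho1, ho2, -, -⟩ := fix_split r hrp (PB Q) y (PB_isom Q hY.isom) hY.pow
  refine ⟨STRUCT.nondeg_right_of_isCompl (PB Q) hY.nondeg _ _ hc.symm ho1,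
    STRUCT.nondeg_right_of_isCompl (PB Q) hY.nondeg _ _ hc ho2, ho1, ?_⟩
  rw [add_comm]
  exact LinearMap.finrank_range_add_finrank_ker (y - 1)

end Cfsg.Agent.S5992P
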