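import Mathlib
import Cfsg.Agent.Helper2.S2099.DefsR
import Cfsg.Agent.Helper2.S2099.DefsN
import Cfsg.Agent.Helper2.S2099.DefsZ
import Cfsg.Agent.Helper2.S2096.Defs

set_option autoImplicit false
set_option linter.unusedSectionVars false
set_option linter.unusedVariables false

/-! S2099 piece KREFL (driver helper2; helper15): reflections and rotations of the anisotropic
plane in terms of the quadratic extension `K = QK a b`. -/

namespace Cfsg.Agent.S2099P

open Matrix Cfsg.Agent.S3352P Cfsg.Agent.S3351P Cfsg.Agent.S2096P Cfsg.Agent.S2086P Cfsg.Agent.RGD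
  Cfsg.Agent.Helper2
open Cfsg.Agent.S2094P (RB RootB sc NgEquivariant mapB reflB MD XD XD_coe isRoot_ng_right'
  isRoot_ng_left' sw_ngEquivariant sc_ngEquivariant)

section field

variable {n : ℕ} {F : Type*} [Field F] {a b : F} [Aniso a b] {M : Type*} [Group M]
  {X : J n → J n → F → M} {Ys : J n → (Fin 2 → F) → M}

namespace KREFL

theorem toP_sub (x y : QK a b) : QK.toP (x - y) = QK.toP x - QK.toP y := by
  rw [sub_eq_add_neg, QK.toP_add, QK.toP_neg, sub_eq_add_neg]

theorem conj_neg (x : QK a b) : QK.conj (-x) = -QK.conj x := by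
  ext <;> simp
  ring

theorem conj_one : QK.conj (1 : QK a b) = 1 := by
  ext <;> simp

end KREFL

open KREFL

/-! ### KREFL: reflections and rotations of the plane in terms of `K` -/

theorem rfl0_toP {w : QK a b} (hw : w ≠ 0) (u : QK a b) :
    rfl0 (qf2 a b) (QK.toP w) (QK.toP u) = QK.toP (-(QK.conj u * w * (QK.conj w)⁻¹)) := by
  have hN : QK.nrm w ≠ 0 := fun h => hw (QK.nrm_eq_zero h)
  unfold rfl0
  rw [QK.polar_toP, QK.qf2_toP, ← QK.toP_smul, ← toP_sub, QK.inv_def, QK.nrm_conj, QK.conj_conj]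
  congr 1
  have hN' : w.re ^ 2 + a * w.re * w.im + b * w.im ^ 2 ≠ 0 := hN
  have hi : (w.re ^ 2 + a * w.re * w.im + b * w.im ^ 2) *
      (w.re ^ 2 + a * w.re * w.im + b * w.im ^ 2)⁻¹ = 1 := mul_inv_cancel₀ hN'
  ext
  · simp only [QK.sub_re, QK.smul_re, QK.neg_re, QK.mul_re, QK.mul_im, QK.conj_re, QK.conj_im,
      QK.smul_im, QK.nrm]
    generalize (w.re ^ 2 + a * w.re * w.im + b * w.im ^ 2)⁻¹ = i at hi ⊢
    linear_combination (-u.re) * hi
  · simp only [QK.sub_im, QK.smul_re, QK.neg_im, QK.mul_re, QK.mul_im, QK.conj_re, QK.conj_im,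
      QK.smul_im, QK.nrm]
    generalize (w.re ^ 2 + a * w.re * w.im + b * w.im ^ 2)⁻¹ = i at hi ⊢
    linear_combination (-u.im) * hi

theorem rot_toP {w : QK a b} (hw : w ≠ 0) (u : QK a b) :
    rfl0 (qf2 a b) (QK.toP w) (rfl0 (qf2 a b) e1 (QK.toP u)) =
      QK.toP (w * (QK.conj w)⁻¹ * u) := by
  have h1 : (1 : QK a b) ≠ 0 := one_ne_zero
  rw [← QK.toP_one (a := a) (b := b), rfl0_toP h1, rfl0_toP hw, conj_one, inv_one, mul_one,
    mul_one, conj_neg, QK.conj_conj]
  congr 1
  ring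

end field

end Cfsg.Agent.S2099P
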