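import Mathlib
import Cfsg.Agent.Helper17.S2264LCMMINUS
import Cfsg.Agent.Helper7.S2264LCMPLUS

/-! S2264 piece LNUM (driver helper29): the numerical bound on the lcm of the exponents. -/

set_option autoImplicit false

namespace Cfsg.Agent.S2264P

namespace LNUM

theorem two_dvd_pow_add_one {q a : ℕ} (hq : ¬ Even q) : 2 ∣ q ^ a + 1 := by
  have hodd : Odd q := Nat.not_even_iff_odd.mp hq
  have h1 : Odd (q ^ a) := hodd.pow
  have h2 : Even (q ^ a + 1) := h1.add_one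
  exact even_iff_two_dvd.mp h2

theorem two_dvd_pow_sub_one {q d : ℕ} (hq : ¬ Even q) : 2 ∣ q ^ d - 1 := by
  have hodd : Odd q := Nat.not_even_iff_odd.mp hq
  have h1 : Odd (q ^ d) := hodd.pow
  obtain ⟨k, hk⟩ := h1
  rw [hk]
  simp

theorem lcm_pos_minus (q : ℕ) (D : Finset ℕ) : 0 < D.lcm (fun a => q ^ a + 1) := by
  apply Nat.pos_of_ne_zero
  rw [Ne, Finset.lcm_eq_zero_iff]
  simp

theorem lcm_pos_plus (q : ℕ) (hq : 2 ≤ q) (D : Finset ℕ) (hD : ∀ d ∈ D, 1 ≤ d) :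
    0 < D.lcm (fun d => q ^ d - 1) := by
  apply Nat.pos_of_ne_zero
  rw [Ne, Finset.lcm_eq_zero_iff]
  simp only [not_exists, not_and]
  intro d hd h0
  have h1 : 1 ≤ d := hD d hd
  have h2 : q ^ 1 ≤ q ^ d := Nat.pow_le_pow_right (by omega) h1
  rw [pow_one] at h2
  omega

end LNUM

open LNUM in
theorem lnum (q : ℕ) (hq : 2 ≤ q) (Dm Dp : Finset ℕ) (hDm : ∀ a ∈ Dm, 1 ≤ a)
    (hDp : ∀ d ∈ Dp, 1 ≤ d) (hne : Dm.Nonempty ∨ Dp.Nonempty) (u : ℕ) (hu : u ∣ 2)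
    (hu2 : Even q → u = 1) :
    (q - 1) * Nat.lcm u (Nat.lcm (Dm.lcm fun a => q ^ a + 1) (Dp.lcm fun d => q ^ d - 1)) ≤
      q ^ (Dm.sum id + Dp.sum id + 1) := by
  set Lm := Dm.lcm fun a => q ^ a + 1 with hLm
  set Lp := Dp.lcm fun d => q ^ d - 1 with hLp
  have hLm0 : 0 < Lm := lcm_pos_minus q Dm
  have hLp0 : 0 < Lp := lcm_pos_plus q hq Dp hDp
  -- u divides the lcm
  have hudvd : u ∣ Nat.lcm Lm Lp := by
    by_cases he : Even q
    · rw [hu2 he]; exact one_dvd _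
    · refine hu.trans ?_
      rcases hne with ⟨a, ha⟩ | ⟨d, hd⟩
      · have h1 : q ^ a + 1 ∣ Lm := Finset.dvd_lcm (f := fun a => q ^ a + 1) ha
        exact ((two_dvd_pow_add_one he).trans h1).trans (Nat.dvd_lcm_left _ _)
      · have h1 : q ^ d - 1 ∣ Lp := Finset.dvd_lcm (f := fun d => q ^ d - 1) hd
        exact ((two_dvd_pow_sub_one he).trans h1).trans (Nat.dvd_lcm_right _ _)
  have hl : Nat.lcm u (Nat.lcm Lm Lp) = Nat.lcm Lm Lp := by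
    apply Nat.dvd_antisymm
    · exact Nat.lcm_dvd hudvd dvd_rfl
    · exact Nat.dvd_lcm_right _ _
  rw [hl]
  have h1 : Nat.lcm Lm Lp ≤ Lm * Lp :=
    Nat.le_of_dvd (Nat.mul_pos hLm0 hLp0) (Nat.lcm_dvd_mul _ _)
  have h2 : (q - 1) * Lm ≤ q ^ (Dm.sum id + 1) := lcm_minus_bound q hq Dm hDm
  have h3 : Lp ≤ q ^ Dp.sum id := lcm_plus_le q hq Dp hDp
  calc (q - 1) * Nat.lcm Lm Lp ≤ (q - 1) * (Lm * Lp) := Nat.mul_le_mul_left _ h1
    _ = ((q - 1) * Lm) * Lp := by ring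
    _ ≤ q ^ (Dm.sum id + 1) * q ^ Dp.sum id := Nat.mul_le_mul h2 h3
    _ = q ^ (Dm.sum id + Dp.sum id + 1) := by rw [← pow_add]; congr 1; ring

end Cfsg.Agent.S2264P
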