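import Mathlib
import Cfsg.Prelude.Def_LieClassical
import Cfsg.Agent.Helper29.S2263Defs
import Cfsg.Agent.Helper23.S2263UPFACTS

/-! S2263 piece ARITH4 (driver helper29): `arith_many`. -/

set_option autoImplicit false

namespace Cfsg.Agent.S2263P

namespace ARITH4

/-- `q^(d-1) - 1 ≤ Mx p f d` (all four branches). -/
theorem pred_le_Mx {p f d : ℕ} (hp : p.Prime) (hf : 1 ≤ f) (hd : 3 ≤ d) :
    (p ^ f) ^ (d - 1) - 1 ≤ Mx p f d := by
  unfold Mx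
  split_ifs with h1 h2 h3
  · exact le_rfl
  · have hf1 : f = 1 := by omega
    subst hf1
    rw [pow_one]
    have e : p ^ (d - 1) = p ^ (d - 2) * p := by
      rw [← pow_succ]; congr 1; omega
    rw [e]
    calc p ^ (d - 2) * p - 1 ≤ p ^ (d - 2) * p := Nat.sub_le _ _
      _ ≤ (p ^ (d - 2) + 1) * p := by nlinarith
  · omega
  · have hpf : p ^ f = 2 := by
      have : 2 ≤ p ^ f := by
        calc 2 ≤ p := hp.two_le
          _ = p ^ 1 := (pow_one p).symm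
          _ ≤ p ^ f := Nat.pow_le_pow_right hp.pos hf
      omega
    rw [hpf]
    have e : 2 ^ (d - 1) = 4 * 2 ^ (d - 3) := by
      have : d - 1 = (d - 3) + 2 := by omega
      rw [this, pow_add]; ring
    omega

/-- `(q+1) q^(d-3) ≤ q^(d-1) - 1`. -/
theorem crude {q d : ℕ} (hq : 2 ≤ q) (hd : 3 ≤ d) :
    (q + 1) * q ^ (d - 3) ≤ q ^ (d - 1) - 1 := by
  have e : q ^ (d - 1) = q ^ (d - 3) * q ^ 2 := by
    rw [← pow_add]; congr 1; omega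
  have h1 : 1 ≤ q ^ (d - 3) := Nat.one_le_pow _ _ (by omega)
  have h2 : q + 2 ≤ q ^ 2 := by nlinarith
  have h3 : (q + 1) * q ^ (d - 3) + 1 ≤ q ^ (d - 1) := by
    rw [e]
    calc (q + 1) * q ^ (d - 3) + 1 ≤ (q + 1) * q ^ (d - 3) + q ^ (d - 3) := by omega
      _ = q ^ (d - 3) * (q + 2) := by ring
      _ ≤ q ^ (d - 3) * q ^ 2 := Nat.mul_le_mul_left _ h2
  omega

end ARITH4

/-- ARITH4: at least three distinct values -/
theorem arith_many {p f d : ℕ} (hp : p.Prime) (hf : 1 ≤ f) (hd : 3 ≤ d)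
    (h32 : ¬ (d = 3 ∧ p ^ f = 2)) (D : Finset ℕ) (hD : 3 ≤ D.card) (hpos : ∀ s ∈ D, 1 ≤ s)
    {m : ℕ} (hm : 1 ≤ m) (h : ∑ s ∈ D, s + (m - 1) ≤ d) :
    (p ^ f + 1) * Up p m * ∏ s ∈ D, wq (p ^ f) s ≤ Mx p f d := by
  have hpq : p ≤ p ^ f := by
    calc p = p ^ 1 := (pow_one p).symm
      _ ≤ p ^ f := Nat.pow_le_pow_right hp.pos hf
  have hq2 : 2 ≤ p ^ f := le_trans hp.two_le hpq
  have hq0 : 0 < p ^ f := by omega
  have hprod : ∏ s ∈ D, wq (p ^ f) s ≤ ∏ s ∈ D, (p ^ f) ^ (s - 1) :=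
    Finset.prod_le_prod (fun _ _ => Nat.zero_le _) (fun s hs => wq_le hq2 (hpos s hs))
  rw [Finset.prod_pow_eq_pow_sum] at hprod
  have hsum : ∑ s ∈ D, (s - 1) + D.card = ∑ s ∈ D, s := by
    rw [Finset.card_eq_sum_ones, ← Finset.sum_add_distrib]
    apply Finset.sum_congr rfl
    intro s hs
    have := hpos s hs
    omega
  have hUp : Up p m ≤ (p ^ f) ^ (m - 1) :=
    le_trans (Up_le hp hm) (Nat.pow_le_pow_left hpq _)
  have hexp : (m - 1) + ∑ s ∈ D, (s - 1) ≤ d - 3 := by omega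
  calc (p ^ f + 1) * Up p m * ∏ s ∈ D, wq (p ^ f) s
      ≤ (p ^ f + 1) * (p ^ f) ^ (m - 1) * (p ^ f) ^ (∑ s ∈ D, (s - 1)) :=
        Nat.mul_le_mul (Nat.mul_le_mul_left _ hUp) hprod
    _ = (p ^ f + 1) * (p ^ f) ^ ((m - 1) + ∑ s ∈ D, (s - 1)) := by
        rw [mul_assoc, ← pow_add]
    _ ≤ (p ^ f + 1) * (p ^ f) ^ (d - 3) :=
        Nat.mul_le_mul_left _ (Nat.pow_le_pow_right hq0 hexp)
    _ ≤ (p ^ f) ^ (d - 1) - 1 := ARITH4.crude hq2 hd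
    _ ≤ Mx p f d := ARITH4.pred_le_Mx hp hf hd

end Cfsg.Agent.S2263P
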