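import Mathlib
import Cfsg.Prelude.Def_LieClassical
import Cfsg.Agent.Helper29.S2263Defs
import Cfsg.Agent.Helper23.S2263UPFACTS

/-! S2263 piece R2 (driver helper29): `two_bound`. -/

set_option autoImplicit false

namespace Cfsg.Agent.S2263P

namespace R2

/-- `q^a + q^b ≤ q^(a+b-1) + q` for `a, b ≥ 1`. -/
theorem pow_add_pow_le {q a b : ℕ} (hq : 2 ≤ q) (ha : 1 ≤ a) (hb : 1 ≤ b) :
    q ^ a + q ^ b ≤ q ^ (a + b - 1) + q := by
  obtain ⟨a, rfl⟩ := Nat.exists_eq_add_of_le' ha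
  obtain ⟨b, rfl⟩ := Nat.exists_eq_add_of_le' hb
  have h1 : 1 ≤ q ^ a := Nat.one_le_pow _ _ (by omega)
  have h2 : 1 ≤ q ^ b := Nat.one_le_pow _ _ (by omega)
  have h3 : q ^ a + q ^ b ≤ q ^ a * q ^ b + 1 := by nlinarith
  have e : a + 1 + (b + 1) - 1 = a + b + 1 := by omega
  rw [e, pow_succ, pow_succ, pow_succ, pow_add]
  nlinarith

/-- the abstract mixed-parity inequality -/
theorem mixed {q x y z : ℕ} (hx : 1 ≤ x) (hz : 1 ≤ z) (hxy : x * y = q * z) (hxz : x ≤ z)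
    (hqy : q ≤ y) : (x - 1) * (y + 1) ≤ (q + 1) * (z - 1) := by
  obtain ⟨x, rfl⟩ := Nat.exists_eq_add_of_le' hx
  obtain ⟨z, rfl⟩ := Nat.exists_eq_add_of_le' hz
  simp only [Nat.add_sub_cancel]
  nlinarith

end R2

/-- R2: two components -/
theorem two_bound {q s₁ s₂ : ℕ} (hq : 2 ≤ q) (hs₁ : 1 ≤ s₁) (hs₂ : 1 ≤ s₂) :
    (q + 1) * (wq q s₁ * wq q s₂) ≤
      if Even (s₁ + s₂) then q ^ (s₁ + s₂ - 1) + 1 else q ^ (s₁ + s₂ - 1) - 1 := by
  have hq0 : 0 < q := by omega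
  have hx1 : 1 ≤ q ^ s₁ := Nat.one_le_pow _ _ hq0
  have hy1 : 1 ≤ q ^ s₂ := Nat.one_le_pow _ _ hq0
  have hz1 : 1 ≤ q ^ (s₁ + s₂ - 1) := Nat.one_le_pow _ _ hq0
  have hprod : q ^ s₁ * q ^ s₂ = q * q ^ (s₁ + s₂ - 1) := by
    rw [← pow_add, ← pow_succ']
    congr 1
    omega
  have hle1 : q ^ s₁ ≤ q ^ (s₁ + s₂ - 1) := Nat.pow_le_pow_right hq0 (by omega)
  have hle2 : q ^ s₂ ≤ q ^ (s₁ + s₂ - 1) := Nat.pow_le_pow_right hq0 (by omega)
  have hq1 : q ≤ q ^ s₁ := by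
    calc q = q ^ 1 := (pow_one q).symm
      _ ≤ q ^ s₁ := Nat.pow_le_pow_right hq0 hs₁
  have hq2 : q ≤ q ^ s₂ := by
    calc q = q ^ 1 := (pow_one q).symm
      _ ≤ q ^ s₂ := Nat.pow_le_pow_right hq0 hs₂
  have key : (q + 1) * ((q + 1) * (wq q s₁ * wq q s₂)) ≤
      (q + 1) * (if Even (s₁ + s₂) then q ^ (s₁ + s₂ - 1) + 1 else q ^ (s₁ + s₂ - 1) - 1) := by
    have e : (q + 1) * ((q + 1) * (wq q s₁ * wq q s₂)) =
        ((q + 1) * wq q s₁) * ((q + 1) * wq q s₂) := by ring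
    rw [e, wq_mul hq, wq_mul hq]
    by_cases h1 : Even s₁
    · by_cases h2 : Even s₂
      · have hS : Even (s₁ + s₂) := h1.add h2
        rw [if_pos h1, if_pos h2, if_pos hS]
        calc (q ^ s₁ - 1) * (q ^ s₂ - 1) ≤ q ^ s₁ * q ^ s₂ :=
              Nat.mul_le_mul (Nat.sub_le _ _) (Nat.sub_le _ _)
          _ = q * q ^ (s₁ + s₂ - 1) := hprod
          _ ≤ (q + 1) * (q ^ (s₁ + s₂ - 1) + 1) := by nlinarith
      · have hS : ¬ Even (s₁ + s₂) := by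
          rw [Nat.even_add]; tauto
        rw [if_pos h1, if_neg h2, if_neg hS]
        exact R2.mixed hx1 hz1 hprod hle1 hq2
    · by_cases h2 : Even s₂
      · have hS : ¬ Even (s₁ + s₂) := by
          rw [Nat.even_add]; tauto
        rw [if_neg h1, if_pos h2, if_neg hS, mul_comm]
        exact R2.mixed hy1 hz1 (by rw [mul_comm]; exact hprod) hle2 hq1
      · have hS : Even (s₁ + s₂) := by
          rw [Nat.even_add]; tauto
        rw [if_neg h1, if_neg h2, if_pos hS]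
        have h3 := R2.pow_add_pow_le hq hs₁ hs₂
        nlinarith
  exact Nat.le_of_mul_le_mul_left key (by omega)

end Cfsg.Agent.S2263P
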