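import Mathlib
import Cfsg.Agent.Helper5.S0999Defs
import Cfsg.Agent.Helper24.Gagola
import Cfsg.Agent.Helper24.Abelian
import Cfsg.Agent.Helper24.Orthogonality

set_option autoImplicit false

/-! # S0999 piece FAITH: non-trivial irreducible characters of a simple group are faithful
(helper15) -/

namespace Cfsg.Agent.S0999P

open Cfsg Cfsg.Agent.Helper24 Cfsg.Agent.Helper8.D1 Cfsg.Agent.S4503P

universe u

variable {G : Type u} [Group G] [Finite G]

/-- FAITH: non-trivial irreducible characters of a simple group are faithful. -/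
theorem faithful_of_simple [IsSimpleGroup G] (χ : IrrCharacter G) (hχ : χ ≠ trivIrr G) (g : G)
    (h : (χ : G → ℂ) g = (χ : G → ℂ) 1) : g = 1 := by
  classical
  haveI : Fintype G := Fintype.ofFinite G
  have hg : g ∈ irrKer χ := (mem_irrKer χ g).mpr h
  rcases (irrKer_normal χ).eq_bot_or_eq_top with hb | ht
  · rw [hb, Subgroup.mem_bot] at hg
    exact hg
  · exfalso
    have hconst : ∀ x : G, (χ : G → ℂ) x = (irrDeg χ : ℂ) := by
      intro x
      have hx : x ∈ irrKer χ := by rw [ht]; trivial
      rw [(mem_irrKer χ x).mp hx, irrDeg_spec]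
    have h0 := classInner_irr_ne hχ
    unfold Cfsg.classInner at h0
    have hsum : ∑ x : G, (χ : G → ℂ) x * (starRingEnd ℂ) ((trivIrr G : G → ℂ) x)
        = (Nat.card G : ℂ) * (irrDeg χ : ℂ) := by
      simp only [hconst, trivIrr_apply, map_one, mul_one, Finset.sum_const, Finset.card_univ,
        nsmul_eq_mul, Nat.card_eq_fintype_card]
    rw [hsum] at h0
    have hG : (Nat.card G : ℂ) ≠ 0 := by
      exact_mod_cast (Nat.card_pos (α := G)).ne'
    rw [← mul_assoc, inv_mul_cancel₀ hG, one_mul] at h0
    have hpos := irrDeg_pos χ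
    have : irrDeg χ = 0 := by exact_mod_cast h0
    omega

end Cfsg.Agent.S0999P
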