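import Mathlib
import Cfsg.Agent.Helper5.S0999Defs

set_option autoImplicit false

/-! # S0999 piece PREG: a non-trivial `p`-regular element of `C_G(P)` (helper15) -/

namespace Cfsg.Agent.S0999P

open Cfsg Cfsg.Agent.Helper24 Cfsg.Agent.Helper8.D1 Cfsg.Agent.S4503P

universe u

variable {G : Type u} [Group G] [Finite G]

/-- PREG: if `C_G(P) ≠ P` then `C_G(P)` contains a non-trivial `p`-regular element. -/
theorem exists_pregular (p : ℕ) [Fact p.Prime] (P : Sylow p G) (hP : Nat.card P = p) (c : ℕ)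
    (hc : Nat.card (Subgroup.centralizer ((P : Subgroup G) : Set G)) = p * c) (hc2 : 2 ≤ c) :
    ∃ x ∈ Subgroup.centralizer ((P : Subgroup G) : Set G), x ≠ 1 ∧ ¬ p ∣ orderOf x := by
  have hp : p.Prime := Fact.out
  have hG0 : Nat.card G ≠ 0 := Nat.card_pos.ne'
  -- the `p`-part of `|G|` is `p`
  have hfac : (Nat.card G).factorization p = 1 := by
    have h1 := P.card_eq_multiplicity
    rw [hP] at h1
    have h2 : p ^ 1 = p ^ (Nat.card G).factorization p := by rw [pow_one]; exact h1
    exact (Nat.pow_right_injective hp.two_le h2).symm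
  have hpc : ¬ p ∣ c := by
    intro hdvd
    have h1 : p ^ 2 ∣ Nat.card (Subgroup.centralizer ((P : Subgroup G) : Set G)) := by
      rw [hc, pow_two]
      exact Nat.mul_dvd_mul_left p hdvd
    have h2 : p ^ 2 ∣ Nat.card G := h1.trans (Subgroup.card_subgroup_dvd_card _)
    have h3 := (hp.pow_dvd_iff_le_factorization hG0).mp h2
    omega
  obtain ⟨q, hq, hqc⟩ := Nat.exists_prime_and_dvd (show c ≠ 1 by omega)
  haveI : Fact q.Prime := ⟨hq⟩
  have hqC : q ∣ Nat.card (Subgroup.centralizer ((P : Subgroup G) : Set G)) := by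
    rw [hc]; exact hqc.mul_left p
  obtain ⟨x, hx⟩ := exists_prime_orderOf_dvd_card' q hqC
  refine ⟨(x : G), x.2, ?_, ?_⟩
  · intro h1
    have : orderOf (x : G) = q := by rw [Subgroup.orderOf_coe]; exact hx
    rw [h1, orderOf_one] at this
    exact hq.one_lt.ne this
  · rw [Subgroup.orderOf_coe, hx]
    intro hpq
    have : p = q := (Nat.prime_dvd_prime_iff_eq hp hq).mp hpq
    exact hpc (this ▸ hqc)

end Cfsg.Agent.S0999P
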