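import Mathlib
import Cfsg.Agent.Helper27.S0996Defs
import Cfsg.Agent.Helper24.SmallDegree
import Cfsg.Agent.Helper24.SelfCentD
import Cfsg.Agent.Helper24.Abelian
import Cfsg.Agent.Helper6.S0996K1
import Cfsg.Agent.Helper6.S0996K2
import Cfsg.Agent.Helper6.S0996K3

set_option autoImplicit false

/-! # S0996 piece DEG: degrees of the characters in `X₊` and `Y` (helper15) -/

namespace Cfsg.Agent.S0996P

open Cfsg Cfsg.Agent.Helper24 Cfsg.Agent.Helper1.W2p

universe u

variable {G : Type u} [Group G]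

section L4
variable [Fintype G] [Fintype (IrrCharacter G)] {p : ℕ} [Fact p.Prime] {P : Subgroup G} {n : ℕ}
  [Fintype (Lin P)]

/-- DEG -/
theorem deg_facts (B : Basic p P n) (D : BrauerData p P) :
    (∀ χ ∈ D.X, D.δ χ = 1 → χ ≠ trivIrr G → irrDeg χ = 1 + n * p) ∧
    (D.ε = 1 → ∀ ψ ∈ D.Y, irrDeg ψ = eN P ∧ D.a ψ = 0) ∧
    (D.ε = -1 → ∀ ψ ∈ D.Y,
      Nat.card D.Y * irrDeg ψ = 1 + n * p ∧ D.a ψ * Nat.card D.Y = n + 1) := by
  have hp : p.Prime := Fact.out
  have hdvd : ∀ χ : IrrCharacter G, irrDeg χ ∣ p * eN P * (1 + n * p) := by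
    intro χ
    rw [← B.card_G]
    exact irrDeg_dvd_card χ
  have htrivY : ∀ ψ ∈ D.Y, ψ ≠ trivIrr G := by
    intro ψ hψ h
    rw [h] at hψ
    exact (Set.disjoint_left.mp D.disj D.triv_mem) hψ
  refine ⟨?_, ?_, ?_⟩
  · intro χ hχ hδ hne
    have h1 := D.deg_X χ hχ
    rw [hδ] at h1
    have hmod : irrDeg χ % p = 1 := by
      have h2 : ((irrDeg χ : ℕ) : ℤ) % (p : ℤ) = 1 % (p : ℤ) := h1
      have h3 : (1 : ℤ) % (p : ℤ) = 1 := Int.emod_eq_of_lt (by norm_num) (by exact_mod_cast hp.one_lt)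
      rw [h3] at h2
      exact_mod_cast h2
    exact arith_K1 hp B.five_le B.eN_dvd B.two_le_eN B.one_le_n B.bound (hdvd χ) hmod
      (Cfsg.Agent.Helper24.SelfCent.irrDeg_ne_one_of_perfect B.perf χ hne)
  · intro hε ψ hψ
    have h1 := D.deg_Y ψ hψ
    rw [hε, one_mul] at h1
    have hdu : irrDeg ψ = D.a ψ * p + eN P := by exact_mod_cast h1
    have hsq : irrDeg ψ * irrDeg ψ < p * eN P * (1 + n * p) := by
      rw [← B.card_G, ← sum_irrDeg_sq (G := G)]
      have hne := htrivY ψ hψ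
      have hsub : ({trivIrr G, ψ} : Finset (IrrCharacter G)) ⊆ Finset.univ := Finset.subset_univ _
      have hle := Finset.sum_le_sum_of_subset (f := fun χ : IrrCharacter G => irrDeg χ ^ 2) hsub
      rw [Finset.sum_pair hne.symm] at hle
      have ht : irrDeg (trivIrr G) = 1 := (irrDeg_eq_one_iff _).mpr rfl
      rw [ht] at hle
      nlinarith
    have hu := arith_K2 hp B.five_le B.eN_dvd B.two_le_eN B.one_le_n B.bound (hdvd ψ) hdu hsq
    rw [hu] at hdu
    exact ⟨by omega, hu⟩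
  · intro hε ψ hψ
    have h1 := D.deg_Y ψ hψ
    rw [hε] at h1
    have hdu : irrDeg ψ + eN P = D.a ψ * p := by
      have : ((irrDeg ψ + eN P : ℕ) : ℤ) = ((D.a ψ * p : ℕ) : ℤ) := by
        push_cast
        rw [h1]; ring
      exact_mod_cast this
    have hne := htrivY ψ hψ
    have h := arith_K3 (t := Nat.card D.Y) hp B.five_le D.card_Y B.two_le_eN B.one_le_n B.bound
      (hdvd ψ) hdu (Cfsg.Agent.Helper24.SelfCent.irrDeg_ne_one_of_perfect B.perf ψ hne)
    exact h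

end L4

end Cfsg.Agent.S0996P
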