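import Mathlib
import Cfsg.Agent.Helper11.SylowCount
import Cfsg.Agent.Helper24.Burnside
import Cfsg.Agent.Helper27.S0996Defs

set_option autoImplicit false

/-! # S0996 piece GS4: `5 ≤ p` (helper15) -/

namespace Cfsg.Agent.Helper15.S0996GS4

universe u

variable {G : Type u} [Group G]

/-- A perfect solvable group is trivial. -/
theorem card_eq_one_of_perfect_of_solvable [Finite G] (hperf : commutator G = ⊤)
    (hs : Group.IsSolvable G) : Nat.card G = 1 := by
  obtain ⟨k, hk⟩ := hs.solvable
  have hall : ∀ m : ℕ, derivedSeries G m = ⊤ := by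
    intro m
    induction m with
    | zero => rfl
    | succ m ih =>
      rw [derivedSeries_succ, ih]
      rw [← commutator_def]
      exact hperf
  rw [hall k] at hk
  have : Subsingleton G := by
    constructor
    intro a b
    have ha : a ∈ (⊤ : Subgroup G) := trivial
    have hb : b ∈ (⊤ : Subgroup G) := trivial
    rw [hk, Subgroup.mem_bot] at ha hb
    rw [ha, hb]
  exact Nat.card_unique

/-- A group of order `42` is solvable. -/
theorem isSolvable_of_card_42 [Finite G] (h : Nat.card G = 42) : Group.IsSolvable G := by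
  haveI : Fact (Nat.Prime 7) := ⟨by norm_num⟩
  obtain ⟨Q⟩ : Nonempty (Sylow 7 G) := inferInstance
  have h1 := Cfsg.Agent.Helper11.sylow_card_of_card_eq (q := 7) 6 (by rw [h]) (by norm_num) Q
  have hnorm : (Q : Subgroup G).Normal :=
    Cfsg.Agent.Helper11.sylow_normal_of_index_lt Q (by rw [h1.2]; norm_num)
  haveI := hnorm
  haveI : Group.IsSolvable ↥(Q : Subgroup G) :=
    Cfsg.Agent.Helper24.isSolvable_of_card_eq_prime_pow_mul 7 2 1 0 (by norm_num) (by norm_num)
      (by rw [h1.1]; norm_num)
  haveI : Group.IsSolvable (G ⧸ (Q : Subgroup G)) :=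
    Cfsg.Agent.Helper24.isSolvable_of_card_eq_prime_pow_mul 2 3 1 1 (by norm_num) (by norm_num)
      (by rw [← Subgroup.index_eq_card, h1.2]; norm_num)
  refine Group.isSolvable_of_ker_le_range (Q : Subgroup G).subtype
    (QuotientGroup.mk' (Q : Subgroup G)) ?_
  rw [QuotientGroup.ker_mk', Subgroup.range_subtype]

end Cfsg.Agent.Helper15.S0996GS4

namespace Cfsg.Agent.S0996P

open Cfsg Cfsg.Agent.Helper24 Cfsg.Agent.Helper1.W2p

universe u

variable {G : Type u} [Group G]

section L1
variable [Finite G] {p : ℕ} [Fact p.Prime] {P : Subgroup G} {n : ℕ}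

/-- GS4 -/
theorem five_le_p (H : Hyp p P n) (hcard : Nat.card G = p * eN P * (1 + n * p))
    (hdvd : eN P ∣ p - 1) (he : 2 ≤ eN P) (hn : 1 ≤ n) : 5 ≤ p := by
  have hp : p.Prime := Fact.out
  by_contra hlt
  have hp5 : p < 5 := by omega
  have hb := H.bound
  have hcases : p = 2 ∨ p = 3 := by
    interval_cases p
    · exact absurd hp (by norm_num)
    · exact absurd hp (by norm_num)
    · left; rfl
    · right; rfl
    · exact absurd hp (by norm_num)
  rcases hcases with rfl | rfl
  · have : eN P ∣ 1 := hdvd
    have := Nat.le_of_dvd one_pos this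
    omega
  · have h2 : eN P ∣ 2 := hdvd
    have hle := Nat.le_of_dvd (by norm_num) h2
    have heq : eN P = 2 := by omega
    rw [heq] at hcard
    have hn2 : n = 1 ∨ n = 2 := by omega
    have hsolv : Group.IsSolvable G := by
      rcases hn2 with rfl | rfl
      · exact Cfsg.Agent.Helper24.isSolvable_of_card_eq_prime_pow_mul 2 3 3 1 (by norm_num)
          (by norm_num) (by rw [hcard]; norm_num)
      · exact Cfsg.Agent.Helper15.S0996GS4.isSolvable_of_card_42 (by rw [hcard])
    have h1 := Cfsg.Agent.Helper15.S0996GS4.card_eq_one_of_perfect_of_solvable H.perf hsolv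
    rw [hcard] at h1
    rcases hn2 with rfl | rfl <;> omega

end L1

end Cfsg.Agent.S0996P
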