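import Mathlib
import Cfsg.Agent.Helper15.BrP2
import Cfsg.Agent.Helper11.O504A

set_option autoImplicit false
set_option linter.unusedSectionVars false

/-!
No simple group of order 4032: arithmetic of the degree equations for `p = 7`.
-/

namespace Cfsg.Agent.Helper15.O4032

open Cfsg Cfsg.Agent.Helper24 Cfsg.Agent.Helper5 Subgroup Cfsg.Agent.Helper15.BrP

theorem filter_pm1 : (Nat.divisors 4032).filter (fun c => c % 7 = 1 ∨ c % 7 = 6) =
    {1, 6, 8, 36, 48, 64, 288} := by decide +kernel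

theorem filter_pm2 : (Nat.divisors 4032).filter (fun c => c % 7 = 2 ∨ c % 7 = 5) =
    {2, 9, 12, 16, 72, 96, 576} := by decide +kernel

theorem filter_pm3 : (Nat.divisors 4032).filter (fun c => c % 7 = 3 ∨ c % 7 = 4) =
    {3, 4, 18, 24, 32, 144, 192} := by decide +kernel

theorem mem_pm1 (c : ℕ) (s : ℤ) (hs : s = 1 ∨ s = -1) (hc : c ∣ 4032)
    (hcs : (c : ℤ) ≡ s [ZMOD 7]) : c ∈ ({1, 6, 8, 36, 48, 64, 288} : Finset ℕ) := by
  rw [← filter_pm1, Finset.mem_filter, Nat.mem_divisors]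
  refine ⟨⟨hc, by norm_num⟩, ?_⟩
  unfold Int.ModEq at hcs
  rcases hs with rfl | rfl <;> omega

theorem mem_pm2 (d : ℕ) (s : ℤ) (hs : s = 1 ∨ s = -1) (hd : d ∣ 4032)
    (hds : (d : ℤ) ≡ s * 2 [ZMOD 7]) : d ∈ ({2, 9, 12, 16, 72, 96, 576} : Finset ℕ) := by
  rw [← filter_pm2, Finset.mem_filter, Nat.mem_divisors]
  refine ⟨⟨hd, by norm_num⟩, ?_⟩
  unfold Int.ModEq at hds
  rcases hs with rfl | rfl <;> omega

theorem mem_pm3 (d : ℕ) (s : ℤ) (hs : s = 1 ∨ s = -1) (hd : d ∣ 4032)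
    (hds : (d : ℤ) ≡ s * 3 [ZMOD 7]) : d ∈ ({3, 4, 18, 24, 32, 144, 192} : Finset ℕ) := by
  rw [← filter_pm3, Finset.mem_filter, Nat.mem_divisors]
  refine ⟨⟨hd, by norm_num⟩, ?_⟩
  unfold Int.ModEq at hds
  rcases hs with rfl | rfl <;> omega

/-- The degree equation for `e = 2`. -/
theorem arith_e2 (c d : ℕ) (s eps : ℤ) (hs : s = 1 ∨ s = -1) (he : eps = 1 ∨ eps = -1)
    (hc : c ∣ 4032) (hd : d ∣ 4032) (hc1 : c ≠ 1) (hcs : (c : ℤ) ≡ s [ZMOD 7])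
    (hds : (d : ℤ) ≡ eps * 2 [ZMOD 7]) (heq : eps * (d : ℤ) = 1 + s * (c : ℤ)) :
    c = 8 ∧ d = 9 ∧ s = 1 ∧ eps = 1 := by
  have h1 := mem_pm1 c s hs hc hcs
  have h2 := mem_pm2 d eps he hd hds
  unfold Int.ModEq at hcs hds
  simp only [Finset.mem_insert, Finset.mem_singleton] at h1 h2
  rcases hs with rfl | rfl <;> rcases he with rfl | rfl <;>
    rcases h1 with rfl | rfl | rfl | rfl | rfl | rfl | rfl <;>
    rcases h2 with rfl | rfl | rfl | rfl | rfl | rfl | rfl <;> omega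

/-- The degree equation for `e = 3`. -/
theorem arith_e3 (c₁ c₂ d : ℕ) (s₁ s₂ eps : ℤ) (hs₁ : s₁ = 1 ∨ s₁ = -1)
    (hs₂ : s₂ = 1 ∨ s₂ = -1) (he : eps = 1 ∨ eps = -1)
    (hc₁ : c₁ ∣ 4032) (hc₂ : c₂ ∣ 4032) (hd : d ∣ 4032) (hc₁1 : c₁ ≠ 1) (hc₂1 : c₂ ≠ 1)
    (hcs₁ : (c₁ : ℤ) ≡ s₁ [ZMOD 7]) (hcs₂ : (c₂ : ℤ) ≡ s₂ [ZMOD 7])
    (hds : (d : ℤ) ≡ eps * 3 [ZMOD 7])
    (heq : eps * (d : ℤ) = 1 + s₁ * (c₁ : ℤ) + s₂ * (c₂ : ℤ)) :
    (c₁ = 6 ∧ s₁ = -1) ∨ (c₂ = 6 ∧ s₂ = -1) := by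
  have h1 := mem_pm1 c₁ s₁ hs₁ hc₁ hcs₁
  have h2 := mem_pm1 c₂ s₂ hs₂ hc₂ hcs₂
  have h3 := mem_pm3 d eps he hd hds
  unfold Int.ModEq at hcs₁ hcs₂ hds
  simp only [Finset.mem_insert, Finset.mem_singleton] at h1 h2 h3
  rcases hs₁ with rfl | rfl <;> rcases hs₂ with rfl | rfl <;>
    rcases h1 with rfl | rfl | rfl | rfl | rfl | rfl | rfl <;>
    rcases h2 with rfl | rfl | rfl | rfl | rfl | rfl | rfl <;>
    (first
      | omega
      | (rcases he with rfl | rfl <;>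
          rcases h3 with rfl | rfl | rfl | rfl | rfl | rfl | rfl <;> omega))

section Setup

variable {G : Type*} [Group G] [Finite G] [IsSimpleGroup G]

instance fact7 : Fact (Nat.Prime 7) := ⟨by norm_num⟩

theorem noncomm (hcard : Nat.card G = 4032) : ¬ IsMulCommutative G :=
  Cfsg.Agent.Helper11.simple_noncomm_of_card (by rw [hcard]; norm_num)

theorem perfect (hcard : Nat.card G = 4032) : commutator G = ⊤ :=
  Cfsg.Agent.Helper11.O504.commutator_eq_top (noncomm hcard)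

theorem irrDeg_dvd (hcard : Nat.card G = 4032) (χ : IrrCharacter G) : irrDeg χ ∣ 4032 := by
  rw [← hcard]; exact irrDeg_dvd_card χ

theorem irrDeg_ne_one (hcard : Nat.card G = 4032) (χ : IrrCharacter G) (hχ : χ ≠ trivIrr G) :
    irrDeg χ ≠ 1 :=
  Cfsg.Agent.Helper24.SelfCent.irrDeg_ne_one_of_perfect (perfect hcard) χ hχ

/-- A generator of the Sylow `7`-subgroup. -/
theorem exists_gen (P : Sylow 7 G) (hP : Nat.card (P : Subgroup G) = 7) :
    ∃ x : G, x ∈ (P : Subgroup G) ∧ orderOf x = 7 := by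
  have h1 : 1 < Nat.card (P : Subgroup G) := by rw [hP]; norm_num
  have : Nontrivial (P : Subgroup G) := Finite.one_lt_card_iff_nontrivial.mp h1
  obtain ⟨y, hy⟩ := exists_ne (1 : (P : Subgroup G))
  refine ⟨y, y.2, ?_⟩
  have h2 : orderOf y ∣ 7 := by
    have := orderOf_dvd_natCard y
    rwa [hP] at this
  have h3 : orderOf y ≠ 1 := fun h => hy (orderOf_eq_one_iff.mp h)
  rw [← Subgroup.orderOf_coe] at h2 h3
  rcases (Nat.dvd_prime (by norm_num : Nat.Prime 7)).mp h2 with h | h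
  · exact absurd h h3
  · exact h

/-- An element of prime order `q ≠ 7` in the centralizer of `P`. -/
theorem exists_centralizer_orderOf (P : Sylow 7 G) (q : ℕ) [Fact q.Prime]
    (hq : q ∣ Nat.card (centralizer ((P : Subgroup G) : Set G))) :
    ∃ y : G, y ∈ centralizer ((P : Subgroup G) : Set G) ∧ orderOf y = q := by
  obtain ⟨y, hy⟩ := exists_prime_orderOf_dvd_card' q hq
  exact ⟨y, y.2, by rw [← hy, Subgroup.orderOf_coe]⟩

/-- Values of a character in `X` on `(x y)^k`, `7 ∤ k`. -/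
theorem val_pow {e : ℕ} {P : Sylow 7 G} (D : BData 7 P e) (χ : IrrCharacter G) (hχ : χ ∈ D.X)
    (x y : G) (hxP : x ∈ (P : Subgroup G)) (hx : orderOf x = 7)
    (hyC : y ∈ centralizer ((P : Subgroup G) : Set G)) (q : ℕ) (hy : orderOf y = q)
    (hq7 : ¬ 7 ∣ q) (k : ℕ) (hk : ¬ 7 ∣ k) :
    (χ : G → ℂ) ((x * y) ^ k) = (D.sg χ : ℂ) := by
  have hc : Commute x y := by
    have := (Subgroup.mem_centralizer_iff.mp hyC) x hxP
    exact this
  rw [hc.mul_pow]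
  apply D.hval χ hχ (x ^ k) (Subgroup.pow_mem _ hxP k)
  · intro h
    apply hk
    rw [← hx]
    exact orderOf_dvd_of_pow_eq_one h
  · exact Subgroup.pow_mem _ hyC k
  · intro h
    apply hq7
    have h1 : orderOf (y ^ k) ∣ orderOf y := orderOf_pow_dvd k
    rw [hy] at h1
    exact h.trans h1

end Setup

end Cfsg.Agent.Helper15.O4032
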