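import Mathlib
import Cfsg.Agent.Helper15.O4032a
import Cfsg.Agent.Helper5.CentralChar

set_option autoImplicit false
set_option linter.unusedSectionVars false

/-!
No simple group of order 4032: the cases `e = 3` and `e = 2`, `|C(P)| = 56`.
-/

namespace Cfsg.Agent.Helper15.O4032

open Cfsg Cfsg.Agent.Helper24 Cfsg.Agent.Helper5 Subgroup Cfsg.Agent.Helper15.BrP

variable {G : Type*} [Group G] [Finite G] [IsSimpleGroup G]

/-- A character in `X` of degree `6` with sign `-1` is impossible when `C(P) ≠ P`. -/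
theorem kill_minus (P : Sylow 7 G) (hP : Nat.card (P : Subgroup G) = 7) {e : ℕ}
    (D : BData 7 P e) (χ : IrrCharacter G) (hχ : χ ∈ D.X) (hdeg : irrDeg χ = 6)
    (hsg : D.sg χ = -1) (y : G) (hyC : y ∈ centralizer ((P : Subgroup G) : Set G)) (q : ℕ)
    (hq : q.Prime) (hq7 : q ≠ 7) (hy : orderOf y = q) : False := by
  obtain ⟨x, hxP, hx⟩ := exists_gen P hP
  have hc : Commute x y := (Subgroup.mem_centralizer_iff.mp hyC) x hxP
  have h7q : ¬ 7 ∣ q := fun h => hq7 ((Nat.prime_dvd_prime_iff_eq (by norm_num) hq).mp h).symm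
  have hcop : Nat.Coprime 7 q := (Nat.Prime.coprime_iff_not_dvd (by norm_num)).mpr h7q
  obtain ⟨m, hm⟩ := exists_mul_eq_sum_pow χ ((D.sg χ : ℤ) : ℂ) 7 q (by norm_num) hcop x y hx hy hc
    (fun k hk => val_pow D χ hχ x y hxP hx hyC q hy h7q k hk)
  rw [hsg] at hm
  have hre := congrArg Complex.re hm
  simp only [Complex.add_re, Complex.re_sum] at hre
  have h1 : (((q * (7 - 1) : ℕ) : ℂ) * (((-1 : ℤ)) : ℂ)).re = -(6 * q : ℝ) := by
    push_cast
    simp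
    ring
  have h2 : ((m : ℂ) * ((7 * q : ℕ) : ℂ)).re = (m : ℝ) * (7 * q : ℝ) := by
    push_cast
    simp
  rw [h1, h2] at hre
  have hle : ∀ j ∈ Finset.range q, ((χ : G → ℂ) (y ^ (7 * j))).re ≤ (6 : ℝ) := by
    intro j _
    have := re_le_irrDeg χ (y ^ (7 * j))
    rw [hdeg] at this
    exact_mod_cast this
  have hsum_le : ∑ j ∈ Finset.range q, ((χ : G → ℂ) (y ^ (7 * j))).re ≤
      ∑ _j ∈ Finset.range q, (6 : ℝ) := Finset.sum_le_sum hle
  rw [Finset.sum_const, Finset.card_range, nsmul_eq_mul] at hsum_le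
  have hq0 : (0 : ℝ) < q := by exact_mod_cast hq.pos
  have hm0 : (m : ℝ) * (7 * q : ℝ) ≤ 0 := by linarith
  have hm0' : m = 0 := by
    by_contra hne
    have : (1 : ℝ) ≤ m := by exact_mod_cast Nat.one_le_iff_ne_zero.mpr hne
    nlinarith
  rw [hm0'] at hre
  have hsum_eq : ∑ j ∈ Finset.range q, ((χ : G → ℂ) (y ^ (7 * j))).re =
      ∑ _j ∈ Finset.range q, (6 : ℝ) := by
    rw [Finset.sum_const, Finset.card_range, nsmul_eq_mul]
    push_cast at hre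
    linarith
  have hall := (Finset.sum_eq_sum_iff_of_le hle).mp hsum_eq
  have h1q : 1 ∈ Finset.range q := Finset.mem_range.mpr hq.one_lt
  have hy7 := hall 1 h1q
  rw [mul_one] at hy7
  have hy7' : (χ : G → ℂ) (y ^ 7) = (irrDeg χ : ℂ) := by
    apply eq_irrDeg_of_re_eq
    rw [hy7, hdeg]; norm_num
  have hxval : (χ : G → ℂ) x ≠ (irrDeg χ : ℂ) := by
    have h3 := D.hval χ hχ x hxP (by intro h; rw [h, orderOf_one] at hx; omega) 1
      (Subgroup.one_mem _) (by rw [orderOf_one]; norm_num)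
    rw [mul_one] at h3
    rw [h3, hsg, hdeg]
    norm_num
  have hy71 := eq_one_of_apply_eq_irrDeg χ x hxval (y ^ 7) hy7'
  have := orderOf_dvd_of_pow_eq_one hy71
  rw [hy] at this
  exact hq7 ((Nat.prime_dvd_prime_iff_eq hq (by norm_num)).mp this)

/-- The case `e = 3`. -/
theorem case_e3 (hcard : Nat.card G = 4032) (P : Sylow 7 G)
    (hP : Nat.card (P : Subgroup G) = 7)
    (he : (centralizer ((P : Subgroup G) : Set G)).relIndex
      (normalizer ((P : Subgroup G) : Set G)) = 3)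
    (hC : Nat.card (centralizer ((P : Subgroup G) : Set G)) = 21) : False := by
  classical
  obtain ⟨D⟩ := exists_bdata (perfect hcard) 7 (by norm_num) P hP 3 he (by norm_num)
  have hX' : (D.X.erase (trivIrr G)).card = 2 := by
    rw [Finset.card_erase_of_mem D.htriv, D.hX]
  obtain ⟨χ₁, χ₂, hne, hX2⟩ := Finset.card_eq_two.mp hX'
  have hχ₁ : χ₁ ∈ D.X.erase (trivIrr G) := by rw [hX2]; simp
  have hχ₂ : χ₂ ∈ D.X.erase (trivIrr G) := by rw [hX2]; simp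
  rw [Finset.mem_erase] at hχ₁ hχ₂
  have hYne : D.Y.Nonempty := Finset.card_pos.mp (by rw [D.hY]; norm_num)
  obtain ⟨θ, hθ⟩ := hYne
  have heq := D.deg_eq θ hθ
  have hd1 : irrDeg (trivIrr G) = 1 := by rw [irrDeg_eq_one_iff]; rfl
  rw [← Finset.add_sum_erase _ _ D.htriv, hX2, Finset.sum_pair hne, D.hsgtriv, hd1] at heq
  have key := arith_e3 (irrDeg χ₁) (irrDeg χ₂) (irrDeg θ) (D.sg χ₁) (D.sg χ₂) D.eps
    (D.hsg χ₁ hχ₁.2) (D.hsg χ₂ hχ₂.2) D.heps (irrDeg_dvd hcard χ₁) (irrDeg_dvd hcard χ₂)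
    (irrDeg_dvd hcard θ) (irrDeg_ne_one hcard χ₁ hχ₁.1) (irrDeg_ne_one hcard χ₂ hχ₂.1)
    (D.hdegX χ₁ hχ₁.2) (D.hdegX χ₂ hχ₂.2) (D.hdegY θ hθ) (by rw [heq]; push_cast; ring)
  have : Fact (Nat.Prime 3) := ⟨by norm_num⟩
  obtain ⟨y, hyC, hy⟩ := exists_centralizer_orderOf P 3 (by rw [hC]; norm_num)
  rcases key with ⟨h6, hs⟩ | ⟨h6, hs⟩
  · exact kill_minus P hP D χ₁ hχ₁.2 h6 hs y hyC 3 (by norm_num) (by norm_num) hy
  · exact kill_minus P hP D χ₂ hχ₂.2 h6 hs y hyC 3 (by norm_num) (by norm_num) hy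

/-- The shape of the principal block for `e = 2`. -/
theorem e2_data (hcard : Nat.card G = 4032) (P : Sylow 7 G) (D : BData 7 P 2) :
    ∃ χ : IrrCharacter G, χ ≠ trivIrr G ∧ χ ∈ D.X ∧ (∀ ψ ∈ D.X, ψ = trivIrr G ∨ ψ = χ) ∧
      (∀ f : IrrCharacter G → ℂ, ∑ ψ ∈ D.X, f ψ = f (trivIrr G) + f χ) ∧
      irrDeg χ = 8 ∧ D.sg χ = 1 ∧
      D.eps = 1 ∧ (∀ θ ∈ D.Y, irrDeg θ = 9) ∧ D.Y.card = 3 := by
  classical
  have hX' : (D.X.erase (trivIrr G)).card = 1 := by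
    rw [Finset.card_erase_of_mem D.htriv, D.hX]
  obtain ⟨χ, hX1⟩ := Finset.card_eq_one.mp hX'
  have hχ : χ ∈ D.X.erase (trivIrr G) := by rw [hX1]; simp
  rw [Finset.mem_erase] at hχ
  have hY3 : D.Y.card = 3 := by rw [D.hY]
  have hd1 : irrDeg (trivIrr G) = 1 := by rw [irrDeg_eq_one_iff]; rfl
  have hall : ∀ θ ∈ D.Y, irrDeg χ = 8 ∧ irrDeg θ = 9 ∧ D.sg χ = 1 ∧ D.eps = 1 := by
    intro θ hθ
    have heq := D.deg_eq θ hθ
    rw [← Finset.add_sum_erase _ _ D.htriv, hX1, Finset.sum_singleton, D.hsgtriv, hd1] at heq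
    exact arith_e2 (irrDeg χ) (irrDeg θ) (D.sg χ) D.eps (D.hsg χ hχ.2) D.heps
      (irrDeg_dvd hcard χ) (irrDeg_dvd hcard θ) (irrDeg_ne_one hcard χ hχ.1) (D.hdegX χ hχ.2)
      (D.hdegY θ hθ) (by rw [heq]; push_cast; ring)
  have hYne : D.Y.Nonempty := Finset.card_pos.mp (by rw [hY3]; norm_num)
  obtain ⟨θ₀, hθ₀⟩ := hYne
  obtain ⟨h8, -, hs, hε⟩ := hall θ₀ hθ₀
  refine ⟨χ, hχ.1, hχ.2, ?_, ?_, h8, hs, hε, fun θ hθ => (hall θ hθ).2.1, hY3⟩
  · intro ψ hψ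
    by_cases h : ψ = trivIrr G
    · exact Or.inl h
    · right
      have : ψ ∈ D.X.erase (trivIrr G) := Finset.mem_erase.mpr ⟨h, hψ⟩
      rw [hX1] at this
      exact Finset.mem_singleton.mp this
  intro f
  rw [← Finset.add_sum_erase _ _ D.htriv, hX1, Finset.sum_singleton]

end Cfsg.Agent.Helper15.O4032
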