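import Mathlib
import Cfsg.Agent.Helper15.O4032b

set_option autoImplicit false
set_option linter.unusedSectionVars false

/-!
No simple group of order 4032: the case `e = 2`, `|C(P)| = 56`.
-/

namespace Cfsg.Agent.Helper15.O4032

open Cfsg Cfsg.Agent.Helper24 Cfsg.Agent.Helper5 Cfsg.Agent.Helper5.CC Subgroup
  Cfsg.Agent.Helper15.BrP

variable {G : Type*} [Group G] [Finite G] [IsSimpleGroup G]

/-- Integrality of a central character value `idx * a / b`. -/
theorem centralChar_int (χ : IrrCharacter G) (y : G) (a : ℤ) (b : ℕ) (hb : b ≠ 0)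
    (hval : (χ : G → ℂ) y = (a : ℂ)) (hdeg : irrDeg χ = b) :
    ∃ m : ℤ, ((centralizer ({y} : Set G)).index : ℤ) * a = m * (b : ℤ) := by
  have h1 := isIntegral_centralChar χ y
  rw [centralChar_def, hval, irrDeg_spec, hdeg] at h1
  have h2 : (((centralizer ({y} : Set G)).index : ℂ) * (a : ℂ) / ((b : ℕ) : ℂ)) =
      (((((centralizer ({y} : Set G)).index : ℤ) * a : ℤ) : ℚ) / (b : ℚ) : ℚ) := by
    push_cast
    ring
  rw [h2] at h1
  obtain ⟨m, hm⟩ := exists_int_of_isIntegral_ratCast h1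
  refine ⟨m, ?_⟩
  have hb' : (b : ℚ) ≠ 0 := by exact_mod_cast hb
  rw [div_eq_iff hb'] at hm
  exact_mod_cast hm

/-- The case `e = 2`, `|C(P)| = 56`. -/
theorem case_e2_56 (hcard : Nat.card G = 4032) (P : Sylow 7 G)
    (hP : Nat.card (P : Subgroup G) = 7)
    (he : (centralizer ((P : Subgroup G) : Set G)).relIndex
      (normalizer ((P : Subgroup G) : Set G)) = 2)
    (hC : Nat.card (centralizer ((P : Subgroup G) : Set G)) = 56) : False := by
  classical
  have : Fintype G := Fintype.ofFinite G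
  have : Fintype (IrrCharacter G) := Fintype.ofFinite _
  obtain ⟨D⟩ := exists_bdata (perfect hcard) 7 (by norm_num) P hP 2 he (by norm_num)
  obtain ⟨χ, hχne, hχX, -, hsumX, h8, hs, hε, hY9, hY3⟩ := e2_data hcard P D
  have : Fact (Nat.Prime 2) := ⟨by norm_num⟩
  obtain ⟨y, hyC, hy⟩ := exists_centralizer_orderOf P 2 (by rw [hC]; norm_num)
  obtain ⟨x, hxP, hx⟩ := exists_gen P hP
  have hc : Commute x y := (Subgroup.mem_centralizer_iff.mp hyC) x hxP
  have hy1 : y ≠ 1 := by intro h; rw [h, orderOf_one] at hy; omega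
  have hy7 : y ^ 7 = y := by
    have h2 : y ^ 2 = 1 := by rw [← hy]; exact pow_orderOf_eq_one y
    calc y ^ 7 = (y ^ 2) ^ 3 * y := by group
      _ = y := by rw [h2, one_pow, one_mul]
  -- the value of χ at y
  obtain ⟨m, hm⟩ := exists_mul_eq_sum_pow χ ((D.sg χ : ℤ) : ℂ) 7 2 (by norm_num) (by norm_num)
    x y hx hy hc (fun k hk => val_pow D χ hχX x y hxP hx hyC 2 hy (by norm_num) k hk)
  rw [hs, Finset.sum_range_succ, Finset.sum_range_one, mul_zero, pow_zero, mul_one, hy7,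
    irrDeg_spec, h8] at hm
  have hχy : (χ : G → ℂ) y = ((14 * (m : ℤ) - 20 : ℤ) : ℂ) := by
    push_cast at hm ⊢
    linear_combination hm
  have hnorm := norm_le_irrDeg χ y
  rw [hχy, h8] at hnorm
  have hm12 : m = 1 ∨ m = 2 := by
    rw [Complex.norm_intCast] at hnorm
    push_cast at hnorm
    have h1 := abs_le.mp hnorm
    have h3 : (0 : ℝ) < m := by
      by_contra h
      push Not at h
      linarith [h1.1]
    have h4 : (m : ℝ) < 3 := by linarith [h1.2]
    have h5 : 0 < m := by exact_mod_cast h3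
    have h6 : m < 3 := by exact_mod_cast h4
    omega
  have hxval : (χ : G → ℂ) x ≠ (irrDeg χ : ℂ) := by
    have h3 := D.hval χ hχX x hxP (by intro h; rw [h, orderOf_one] at hx; omega) 1
      (Subgroup.one_mem _) (by rw [orderOf_one]; norm_num)
    rw [mul_one] at h3
    rw [h3, hs, h8]
    norm_num
  have hχy6 : (χ : G → ℂ) y = ((-6 : ℤ) : ℂ) := by
    rcases hm12 with h | h
    · rw [hχy, h]; norm_num
    · exfalso
      apply hy1
      apply eq_one_of_apply_eq_irrDeg χ x hxval y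
      rw [hχy, h, h8]; norm_num
  -- the values of θ at y
  have h7y : ¬ 7 ∣ orderOf y := by rw [hy]; norm_num
  have hθy : ∀ θ ∈ D.Y, (θ : G → ℂ) y = ((-5 : ℤ) : ℂ) := by
    intro θ hθ
    have h1 := D.hreg θ hθ y h7y
    rw [hsumX, hε, D.hsgtriv, hs, trivIrr_apply, hχy6] at h1
    push_cast at h1 ⊢
    linear_combination h1
  -- integrality
  set idx := (centralizer ({y} : Set G)).index with hidx
  obtain ⟨m₁, hm₁⟩ := centralChar_int χ y (-6) 8 (by norm_num) hχy6 h8
  obtain ⟨θ₀, hθ₀⟩ : D.Y.Nonempty := Finset.card_pos.mp (by rw [hY3]; norm_num)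
  obtain ⟨m₂, hm₂⟩ := centralChar_int θ₀ y (-5) 9 (by norm_num) (hθy θ₀ hθ₀) (hY9 θ₀ hθ₀)
  have hidxcard : idx * Nat.card (centralizer ({y} : Set G)) = 4032 := by
    rw [← hcard]; exact Subgroup.index_mul_card _
  have h36 : 36 ∣ idx := by
    have h4 : (4 : ℤ) ∣ idx := by omega
    have h9 : (9 : ℤ) ∣ idx := by omega
    have : (36 : ℤ) ∣ idx := by omega
    exact_mod_cast this
  have hCdvd : Nat.card (centralizer ({y} : Set G)) ∣ 112 := by
    obtain ⟨k, hk⟩ := h36
    rw [hk] at hidxcard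
    exact ⟨k, by nlinarith⟩
  -- second orthogonality at y
  have h2nd : ∑ ψ : IrrCharacter G, Complex.normSq ((ψ : G → ℂ) y) =
      (Nat.card (centralizer ({y} : Set G)) : ℝ) := by
    have := sum_irr_mul_conj y y
    rw [if_pos (IsConj.refl y)] at this
    simp only [Complex.mul_conj] at this
    exact_mod_cast this
  rw [← Finset.sum_add_sum_compl (D.X ∪ D.Y), Finset.sum_union D.hdisj] at h2nd
  have hXpart : ∑ ψ ∈ D.X, Complex.normSq ((ψ : G → ℂ) y) = 37 := by
    have := hsumX (fun ψ => ((Complex.normSq ((ψ : G → ℂ) y) : ℝ) : ℂ))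
    have h' : ((∑ ψ ∈ D.X, Complex.normSq ((ψ : G → ℂ) y) : ℝ) : ℂ) = ((37 : ℝ) : ℂ) := by
      push_cast
      rw [this, trivIrr_apply, hχy6]
      norm_num
    exact_mod_cast h'
  have hYpart : ∑ ψ ∈ D.Y, Complex.normSq ((ψ : G → ℂ) y) = 75 := by
    rw [Finset.sum_congr rfl (fun θ hθ => by rw [hθy θ hθ])]
    rw [Finset.sum_const, hY3]
    norm_num
  rw [hXpart, hYpart] at h2nd
  have hrest_nonneg : 0 ≤ ∑ ψ ∈ (D.X ∪ D.Y)ᶜ, Complex.normSq ((ψ : G → ℂ) y) :=
    Finset.sum_nonneg (fun ψ _ => Complex.normSq_nonneg _)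
  have hCge : 112 ≤ Nat.card (centralizer ({y} : Set G)) := by
    have : (112 : ℝ) ≤ (Nat.card (centralizer ({y} : Set G)) : ℝ) := by linarith
    exact_mod_cast this
  have hC112 : Nat.card (centralizer ({y} : Set G)) = 112 :=
    le_antisymm (Nat.le_of_dvd (by norm_num) hCdvd) hCge
  rw [hC112] at h2nd
  have hrest0 : ∑ ψ ∈ (D.X ∪ D.Y)ᶜ, Complex.normSq ((ψ : G → ℂ) y) = 0 := by
    push_cast at h2nd
    linarith
  have hvanish : ∀ ψ ∈ (D.X ∪ D.Y)ᶜ, (ψ : G → ℂ) y = 0 := by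
    intro ψ hψ
    have := (Finset.sum_eq_zero_iff_of_nonneg (fun ψ _ => Complex.normSq_nonneg _)).mp hrest0 ψ hψ
    exact Complex.normSq_eq_zero.mp this
  -- column orthogonality between 1 and y
  have hcol := sum_irr_mul_conj (1 : G) y
  rw [if_neg (by rw [isConj_one_right]; exact hy1)] at hcol
  rw [← Finset.sum_add_sum_compl (D.X ∪ D.Y), Finset.sum_union D.hdisj, hsumX] at hcol
  have hYcol : ∑ θ ∈ D.Y, (θ : G → ℂ) 1 * (starRingEnd ℂ) ((θ : G → ℂ) y) = -135 := by
    have hterm : ∀ θ ∈ D.Y, (θ : G → ℂ) 1 * (starRingEnd ℂ) ((θ : G → ℂ) y) = -45 := by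
      intro θ hθ
      rw [hθy θ hθ, irrDeg_spec, hY9 θ hθ, map_intCast]
      norm_num
    rw [Finset.sum_congr rfl hterm, Finset.sum_const, hY3]
    norm_num
  have hrestcol : ∑ ψ ∈ (D.X ∪ D.Y)ᶜ, (ψ : G → ℂ) 1 * (starRingEnd ℂ) ((ψ : G → ℂ) y) = 0 := by
    apply Finset.sum_eq_zero
    intro ψ hψ
    rw [hvanish ψ hψ, map_zero, mul_zero]
  rw [hYcol, hrestcol, trivIrr_apply, trivIrr_apply, hχy6, irrDeg_spec, h8,
    map_intCast, map_one] at hcol
  norm_num at hcol

end Cfsg.Agent.Helper15.O4032
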