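import Mathlib
import Cfsg.Agent.Helper4.S5033Defs
import Cfsg.Agent.Helper2.RootSub

set_option autoImplicit false

/-! Piece T of the S5033 board: transfer of a rank one pair `A, B ≤ G` to the group `↥(A ⊔ B)`. -/

namespace Cfsg.Agent.S5033P

open Cfsg

variable {G : Type*} [Group G]

theorem T.aux_conj {A B : Subgroup G} (a : ↥(A ⊔ B)) :
    conjBy (A.subgroupOf (A ⊔ B)) a = (conjBy A (a : G)).subgroupOf (A ⊔ B) :=
  Cfsg.Agent.Helper2.RootSub.conjBy_subgroupOf (A ⊔ B) A a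

theorem T.aux_conj' {A B : Subgroup G} (a : ↥(A ⊔ B)) :
    conjBy (B.subgroupOf (A ⊔ B)) a = (conjBy B (a : G)).subgroupOf (A ⊔ B) :=
  Cfsg.Agent.Helper2.RootSub.conjBy_subgroupOf (A ⊔ B) B a

theorem T.aux_conj_le {X C : Subgroup G} (hC : C ≤ X) {g : G} (hg : g ∈ X) : conjBy C g ≤ X := by
  rintro _ ⟨c, hc, rfl⟩
  have hcX : c ∈ X := hC hc
  show g * c * g⁻¹ ∈ X
  exact X.mul_mem (X.mul_mem hg hcX) (X.inv_mem hg)

theorem T.aux_cond {A B : Subgroup G} {X : Subgroup G} (hA : A ≤ X) (hB : B ≤ X)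
    (h : RankOneCondition A B) : RankOneCondition (A.subgroupOf X) (B.subgroupOf X) := by
  intro a ha hne
  have haA : (a : G) ∈ A := Subgroup.mem_subgroupOf.mp ha
  have hne' : (a : G) ≠ 1 := fun h1 => hne (Subtype.ext h1)
  obtain ⟨b, hb, hb1, hconj⟩ := h (a : G) haA hne'
  refine ⟨⟨b, hB hb⟩, Subgroup.mem_subgroupOf.mpr hb, fun h1 => hb1 (congrArg Subtype.val h1), ?_⟩
  rw [Cfsg.Agent.Helper2.RootSub.conjBy_subgroupOf, Cfsg.Agent.Helper2.RootSub.conjBy_subgroupOf]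
  show (conjBy A (b⁻¹ : G)).subgroupOf X = (conjBy B ((a : G)⁻¹)).subgroupOf X
  rw [hconj]

theorem T.aux_pair {A B : Subgroup G} (h : IsRankOnePair A B) :
    IsRankOnePair (A.subgroupOf (A ⊔ B)) (B.subgroupOf (A ⊔ B)) := by
  have hA : A ≤ A ⊔ B := le_sup_left
  have hB : B ≤ A ⊔ B := le_sup_right
  refine ⟨?_, ?_, ?_, T.aux_cond hA hB h.cond_left, T.aux_cond hB hA h.cond_right⟩
  · intro heq
    apply h.ne
    have := Subgroup.subgroupOf_inj.mp heq
    rwa [inf_of_le_left hA, inf_of_le_left hB] at this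
  · have := h.nilpotent_left
    exact Group.nilpotent_of_mulEquiv (Subgroup.subgroupOfEquivOfLe hA).symm
  · have := h.nilpotent_right
    exact Group.nilpotent_of_mulEquiv (Subgroup.subgroupOfEquivOfLe hB).symm

theorem T.rankOneGroup {A B : Subgroup G} (h : IsRankOnePair A B) :
    IsRankOneGroup ↥(A ⊔ B) (A.subgroupOf (A ⊔ B)) (B.subgroupOf (A ⊔ B)) := by
  refine ⟨?_, T.aux_pair h⟩
  rw [← Subgroup.subgroupOf_sup le_sup_left le_sup_right, Subgroup.subgroupOf_self]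

theorem T.special {A B : Subgroup G} (h : IsSpecialRankOnePair A B) :
    IsSpecialRankOnePair (A.subgroupOf (A ⊔ B)) (B.subgroupOf (A ⊔ B)) := by
  have hA : A ≤ A ⊔ B := le_sup_left
  have hB : B ≤ A ⊔ B := le_sup_right
  refine ⟨T.aux_pair h.1, ?_⟩
  intro a ha hne b hb hbne hconj
  have haA : (a : G) ∈ A := Subgroup.mem_subgroupOf.mp ha
  have hbB : (b : G) ∈ B := Subgroup.mem_subgroupOf.mp hb
  have hne' : (a : G) ≠ 1 := fun h1 => hne (Subtype.ext h1)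
  have hbne' : (b : G) ≠ 1 := fun h1 => hbne (Subtype.ext h1)
  rw [Cfsg.Agent.Helper2.RootSub.conjBy_subgroupOf, Cfsg.Agent.Helper2.RootSub.conjBy_subgroupOf]
    at hconj
  have h1 := Subgroup.subgroupOf_inj.mp hconj
  have hb' : ((b⁻¹ : ↥(A ⊔ B)) : G) ∈ A ⊔ B := (b⁻¹).2
  have ha' : ((a⁻¹ : ↥(A ⊔ B)) : G) ∈ A ⊔ B := (a⁻¹).2
  rw [inf_of_le_left (T.aux_conj_le hA hb'), inf_of_le_left (T.aux_conj_le hB ha')] at h1
  have h2 := h.2 (a : G) haA hne' (b : G) hbB hbne' h1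
  apply Subtype.ext
  exact h2

theorem T.abelian {A B : Subgroup G} (hA : IsMulCommutative A) (hB : IsMulCommutative B) :
    HasAbelianUnipotents (A.subgroupOf (A ⊔ B)) (B.subgroupOf (A ⊔ B)) := by
  constructor
  · refine ⟨⟨fun x y => ?_⟩⟩
    have hc := hA.is_comm.comm ⟨x.1.1, Subgroup.mem_subgroupOf.mp x.2⟩
      ⟨y.1.1, Subgroup.mem_subgroupOf.mp y.2⟩
    apply Subtype.ext
    apply Subtype.ext
    exact congrArg (fun z : ↥A => (z : G)) hc
  · refine ⟨⟨fun x y => ?_⟩⟩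
    have hc := hB.is_comm.comm ⟨x.1.1, Subgroup.mem_subgroupOf.mp x.2⟩
      ⟨y.1.1, Subgroup.mem_subgroupOf.mp y.2⟩
    apply Subtype.ext
    apply Subtype.ext
    exact congrArg (fun z : ↥B => (z : G)) hc

end Cfsg.Agent.S5033P
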