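import Mathlib
import Cfsg.Agent.Helper14.GLk.Defs

set_option autoImplicit false

/-! S2478, piece COUNTMON: the number of monic polynomials of degree `a` with nonzero constant
term over a finite field. -/

namespace Cfsg.Agent.S2478P

open Polynomial DirectSum

universe u

namespace COUNTMON

/-- coefficient vectors with nonzero first entry -/
theorem card_vec (F : Type u) [Field F] [Fintype F] (b : ℕ) :
    Nat.card {c : Fin (b + 1) → F // c 0 ≠ 0} =
      (Fintype.card F - 1) * Fintype.card F ^ b := by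
  have e1 : {c : Fin (b + 1) → F // c 0 ≠ 0} ≃ {x : F × (Fin b → F) // x.1 ≠ 0} :=
    Equiv.subtypeEquiv (Fin.consEquiv (fun _ : Fin (b + 1) => F)).symm (fun c => Iff.rfl)
  have e2 : {x : F × (Fin b → F) // x.1 ≠ 0} ≃ {x : F // x ≠ 0} × (Fin b → F) :=
    Equiv.prodSubtypeFstEquivSubtypeProd (α := F) (β := Fin b → F) (p := fun x : F => x ≠ 0)
  rw [Nat.card_congr (e1.trans e2), Nat.card_prod, ← Nat.card_congr (unitsEquivNeZero (G₀ := F)),
    Nat.card_units, Nat.card_fun, Nat.card_eq_fintype_card, Nat.card_eq_fintype_card,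
    Fintype.card_fin]

/-- monic polynomials of degree `b + 1` with nonzero constant term ≃ coefficient vectors -/
noncomputable def monicEquiv (F : Type u) [Field F] (b : ℕ) :
    {f : F[X] // f.Monic ∧ f.natDegree = b + 1 ∧ f.coeff 0 ≠ 0} ≃
      {c : Fin (b + 1) → F // c 0 ≠ 0} :=
  let e0 : {f : F[X] // f.Monic ∧ f.natDegree = b + 1} ≃ (Fin (b + 1) → F) :=
    (Polynomial.monicEquivDegreeLT (b + 1)).trans (Polynomial.degreeLTEquiv F (b + 1)).toEquiv
  have h0 : ∀ f : {f : F[X] // f.Monic ∧ f.natDegree = b + 1}, e0 f 0 = f.1.coeff 0 := by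
    intro f
    show (f.1.eraseLead).coeff ((0 : Fin (b + 1)) : ℕ) = f.1.coeff 0
    rw [Fin.val_zero, Polynomial.eraseLead_coeff_of_ne]
    rw [f.2.2]
    omega
  { toFun := fun f => ⟨e0 ⟨f.1, f.2.1, f.2.2.1⟩, by rw [h0]; exact f.2.2.2⟩
    invFun := fun c => ⟨(e0.symm c.1).1, (e0.symm c.1).2.1, (e0.symm c.1).2.2, by
      have := h0 (e0.symm c.1)
      rw [Equiv.apply_symm_apply] at this
      rw [← this]
      exact c.2⟩
    left_inv := fun f => by
      apply Subtype.ext
      show ((e0.symm (e0 ⟨f.1, f.2.1, f.2.2.1⟩)).1 : F[X]) = f.1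
      rw [Equiv.symm_apply_apply]
    right_inv := fun c => by
      apply Subtype.ext
      show e0 ⟨(e0.symm c.1).1, (e0.symm c.1).2.1, (e0.symm c.1).2.2⟩ = c.1
      exact Equiv.apply_symm_apply e0 c.1 }

end COUNTMON

theorem card_monic (F : Type u) [Field F] [Fintype F] (a : ℕ) :
    Nat.card {f : F[X] // f.Monic ∧ f.natDegree = a ∧ f.coeff 0 ≠ 0} = N (Fintype.card F) a := by
  rcases Nat.eq_zero_or_pos a with rfl | ha
  · have hN : N (Fintype.card F) 0 = 1 := by simp [N]
    rw [hN]
    have : Unique {f : F[X] // f.Monic ∧ f.natDegree = 0 ∧ f.coeff 0 ≠ 0} :=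
      { default := ⟨1, Polynomial.monic_one, Polynomial.natDegree_one, by simp⟩
        uniq := fun f => by
          apply Subtype.ext
          exact Polynomial.eq_one_of_monic_natDegree_zero f.2.1 f.2.2.1 }
    exact Nat.card_unique
  · obtain ⟨b, rfl⟩ : ∃ b, a = b + 1 := ⟨a - 1, by omega⟩
    rw [Nat.card_congr (COUNTMON.monicEquiv F b), COUNTMON.card_vec]
    have hN : N (Fintype.card F) (b + 1) = Fintype.card F ^ (b + 1) - Fintype.card F ^ b := by
      simp [N]
    rw [hN, pow_succ, Nat.sub_mul, one_mul, mul_comm]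

end Cfsg.Agent.S2478P
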