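import Mathlib
import Cfsg.Agent.Helper14.GLk.Defs
import Cfsg.Agent.Helper14.SLk.Defs
import Cfsg.Agent.Helper14.PSLk.Defs

set_option autoImplicit false

/-! S2480, piece UNIQC: the dimensions `rho` determine the multiset of elementary divisors. -/

namespace Cfsg.Agent.S2480P

open Polynomial DirectSum Cfsg.Agent.S2478P Cfsg.Agent.S2479P

universe u

namespace UNIQC

open Classical in
/-- the number of blocks `(r, e)` with `e > k` -/
noncomputable def cnt {F : Type u} [Field F] {ι : Type u} [Fintype ι] (p : ι → F[X]) (e : ι → ℕ)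
    (r : F[X]) (k : ℕ) : ℕ :=
  (Finset.univ.filter (fun i => p i = r ∧ k < e i)).card

open Classical in
theorem rho_step {F : Type u} [Field F] (p : F[X]) (e : ℕ) (r : F[X]) (k : ℕ) :
    rho p e r k = rho p e r (k + 1) + r.natDegree * (if p = r ∧ k < e then 1 else 0) := by
  classical
  unfold rho
  by_cases hpr : p = r
  · subst hpr
    rw [if_pos rfl, if_pos rfl]
    by_cases hk : k < e
    · rw [if_pos ⟨rfl, hk⟩, mul_one]
      have : e - k = e - (k + 1) + 1 := by omega
      rw [this, add_mul, one_mul]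
    · rw [if_neg (fun h => hk h.2), mul_zero, add_zero]
      have h1 : e - k = 0 := by omega
      have h2 : e - (k + 1) = 0 := by omega
      rw [h1, h2]
  · rw [if_neg hpr, if_neg hpr, if_neg (fun h => hpr h.1), mul_zero, add_zero]

open Classical in
theorem sum_rho_step {F : Type u} [Field F] {ι : Type u} [Fintype ι] (p : ι → F[X]) (e : ι → ℕ)
    (r : F[X]) (k : ℕ) :
    ∑ i, rho (p i) (e i) r k = ∑ i, rho (p i) (e i) r (k + 1) + r.natDegree * cnt p e r k := by
  classical
  rw [Finset.sum_congr rfl (fun i _ => rho_step (p i) (e i) r k), Finset.sum_add_distrib,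
    ← Finset.mul_sum, Finset.sum_boole]
  rfl

theorem cnt_eq {F : Type u} [Field F] {ι ι' : Type u} [Fintype ι] [Fintype ι']
    (p : ι → F[X]) (e : ι → ℕ) (p' : ι' → F[X]) (e' : ι' → ℕ) (r : F[X]) (hr : Irreducible r)
    (h : ∀ k : ℕ, ∑ i, rho (p i) (e i) r k = ∑ j, rho (p' j) (e' j) r k) (k : ℕ) :
    cnt p e r k = cnt p' e' r k := by
  have h1 := sum_rho_step p e r k
  have h2 := sum_rho_step p' e' r k
  rw [h k, h (k + 1), h2] at h1
  have h3 : r.natDegree * cnt p' e' r k = r.natDegree * cnt p e r k := by omega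
  have hd : 0 < r.natDegree := hr.natDegree_pos
  exact (Nat.eq_of_mul_eq_mul_left hd h3).symm

theorem card_eq_cnt_sub {F : Type u} [Field F] {ι : Type u} [Fintype ι] (p : ι → F[X])
    (e : ι → ℕ) (r : F[X]) (m : ℕ) (hm : 1 ≤ m) :
    Nat.card {i // (p i, e i) = (r, m)} = cnt p e r (m - 1) - cnt p e r m := by
  classical
  have h1 : cnt p e r (m - 1) = Nat.card {i // (p i, e i) = (r, m)} + cnt p e r m := by
    unfold cnt
    rw [Nat.card_eq_fintype_card, Fintype.card_subtype]
    have hdisj : Disjoint (Finset.univ.filter (fun i => (p i, e i) = (r, m)))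
        (Finset.univ.filter (fun i => p i = r ∧ m < e i)) := by
      rw [Finset.disjoint_left]
      intro i hi hi'
      rw [Finset.mem_filter] at hi hi'
      have := (Prod.ext_iff.mp hi.2).2
      simp only at this
      omega
    rw [← Finset.card_union_of_disjoint hdisj]
    congr 1
    ext i
    simp only [Finset.mem_filter, Finset.mem_univ, true_and, Finset.mem_union, Prod.mk.injEq]
    constructor
    · rintro ⟨h1, h2⟩
      by_cases h3 : e i = m
      · exact Or.inl ⟨h1, h3⟩
      · exact Or.inr ⟨h1, by omega⟩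
    · rintro (⟨h1, h2⟩ | ⟨h1, h2⟩)
      · exact ⟨h1, by omega⟩
      · exact ⟨h1, by omega⟩
  omega

end UNIQC

-- piece UNIQC
theorem cnt_eq_of_rho_eq {F : Type u} [Field F] {ι ι' : Type u} [Fintype ι] [Fintype ι']
    (p : ι → F[X]) (e : ι → ℕ) (p' : ι' → F[X]) (e' : ι' → ℕ)
    (hp : ∀ i, (p i).Monic ∧ Irreducible (p i) ∧ 1 ≤ e i)
    (hp' : ∀ j, (p' j).Monic ∧ Irreducible (p' j) ∧ 1 ≤ e' j)
    (h : ∀ r : F[X], r.Monic → Irreducible r → ∀ k : ℕ,
      ∑ i, rho (p i) (e i) r k = ∑ j, rho (p' j) (e' j) r k) :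
    ∀ t : F[X] × ℕ, Nat.card {i // (p i, e i) = t} = Nat.card {j // (p' j, e' j) = t} := by
  rintro ⟨r, m⟩
  by_cases hrm : r.Monic ∧ Irreducible r ∧ 1 ≤ m
  · obtain ⟨hr1, hr2, hm⟩ := hrm
    rw [UNIQC.card_eq_cnt_sub p e r m hm, UNIQC.card_eq_cnt_sub p' e' r m hm,
      UNIQC.cnt_eq p e p' e' r hr2 (h r hr1 hr2) (m - 1),
      UNIQC.cnt_eq p e p' e' r hr2 (h r hr1 hr2) m]
  · have h1 : IsEmpty {i // (p i, e i) = (r, m)} := by
      constructor
      rintro ⟨i, hi⟩
      apply hrm
      have h1 := (Prod.ext_iff.mp hi).1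
      have h2 := (Prod.ext_iff.mp hi).2
      simp only at h1 h2
      rw [← h1, ← h2]
      exact hp i
    have h2 : IsEmpty {j // (p' j, e' j) = (r, m)} := by
      constructor
      rintro ⟨j, hj⟩
      apply hrm
      have h1 := (Prod.ext_iff.mp hj).1
      have h2 := (Prod.ext_iff.mp hj).2
      simp only at h1 h2
      rw [← h1, ← h2]
      exact hp' j
    rw [Nat.card_of_isEmpty, Nat.card_of_isEmpty]

end Cfsg.Agent.S2480P
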