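import Mathlib
import Cfsg.Agent.Helper14.GLk.Defs

set_option autoImplicit false

/-! S2478, piece FACT: the products `h_m` determine the multiset of pairs `(p i, e i)`. -/

namespace Cfsg.Agent.S2478P

open Polynomial DirectSum

universe u

namespace FACT

open Classical in
theorem count_eq {F : Type u} [Field F] {ι : Type u} [Fintype ι] (p : ι → F[X]) (e : ι → ℕ)
    (hp : ∀ i, (p i).Monic ∧ Irreducible (p i)) (φ : F[X]) (m : ℕ) :
    Nat.card {i // (p i, e i) = (φ, m)} =
      Multiset.count φ (UniqueFactorizationMonoid.normalizedFactors (∏ i with e i = m, p i)) := by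
  have h1 : (∏ i with e i = m, p i) =
      ((Finset.univ.filter (fun i => e i = m)).val.map p).prod := rfl
  rw [h1, UniqueFactorizationMonoid.normalizedFactors_prod_eq _ (by
    intro a ha
    rw [Multiset.mem_map] at ha
    obtain ⟨i, _, rfl⟩ := ha
    exact (hp i).2)]
  rw [Multiset.map_map, Multiset.count_map, ← Finset.filter_val, ← Finset.card_def,
    Finset.filter_filter, Nat.card_eq_fintype_card, Fintype.card_subtype]
  congr 1
  apply Finset.filter_congr
  intro i _
  rw [Prod.ext_iff, Function.comp_apply, (hp i).1.normalize_eq_self]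
  constructor
  · rintro ⟨h1, h2⟩
    exact ⟨h2, h1.symm⟩
  · rintro ⟨h1, h2⟩
    exact ⟨h2.symm, h1⟩

end FACT

theorem cnt_eq_of_prod_eq {F : Type u} [Field F] {ι ι' : Type u} [Fintype ι] [Fintype ι']
    (p : ι → F[X]) (e : ι → ℕ) (p' : ι' → F[X]) (e' : ι' → ℕ)
    (hp : ∀ i, (p i).Monic ∧ Irreducible (p i)) (hp' : ∀ i, (p' i).Monic ∧ Irreducible (p' i))
    (hh : ∀ m : ℕ, ∏ i with e i = m, p i = ∏ i with e' i = m, p' i) :
    ∀ t : F[X] × ℕ, Nat.card {i // (p i, e i) = t} = Nat.card {i // (p' i, e' i) = t} := by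
  rintro ⟨φ, m⟩
  rw [FACT.count_eq p e hp φ m, FACT.count_eq p' e' hp' φ m, hh m]

end Cfsg.Agent.S2478P
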