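import Mathlib
import Cfsg.Agent.Helper14.GLk.Defs

set_option autoImplicit false

/-! S2478, piece HPROP: the tuple `h_m = ∏_{e i = m} p i` lies in `T F n n`. -/

namespace Cfsg.Agent.S2478P

open Polynomial DirectSum

universe u

namespace HPROP

theorem coeff_zero_ne {F : Type u} [Field F] (f : F[X]) (hm : f.Monic) (hi : Irreducible f)
    (hX : f ≠ X) : f.coeff 0 ≠ 0 := by
  intro h0
  have hdvd : (X : F[X]) ∣ f := Polynomial.X_dvd_iff.mpr h0
  have hass : Associated (X : F[X]) f := Polynomial.irreducible_X.associated_of_dvd hi hdvd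
  exact hX (Polynomial.eq_of_monic_of_associated Polynomial.monic_X hm hass).symm

end HPROP

theorem prod_mem_T {F : Type u} [Field F] {ι : Type u} [Fintype ι] (p : ι → F[X]) (e : ι → ℕ)
    (n : ℕ) (hp : ∀ i, (p i).Monic ∧ Irreducible (p i) ∧ p i ≠ X ∧ 1 ≤ e i)
    (hsum : ∑ i, e i * (p i).natDegree = n) :
    (fun m : ℕ => ∏ i with e i = m, p i) ∈ T F n n := by
  classical
  have hdeg : ∀ i, 1 ≤ (p i).natDegree := fun i => (hp i).2.1.natDegree_pos
  have hle : ∀ i, e i ≤ n := by
    intro i
    have h1 : e i * (p i).natDegree ≤ ∑ j, e j * (p j).natDegree :=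
      Finset.single_le_sum (f := fun j => e j * (p j).natDegree) (fun j _ => Nat.zero_le _)
        (Finset.mem_univ i)
    have h2 : e i ≤ e i * (p i).natDegree := Nat.le_mul_of_pos_right _ (hdeg i)
    omega
  refine ⟨fun m => ⟨?_, ?_⟩, ?_, ?_⟩
  · exact Polynomial.monic_prod_of_monic _ _ (fun i _ => (hp i).1)
  · show (∏ i with e i = m, p i).coeff 0 ≠ 0
    rw [Polynomial.coeff_zero_prod, Finset.prod_ne_zero_iff]
    intro i _
    exact HPROP.coeff_zero_ne (p i) (hp i).1 (hp i).2.1 (hp i).2.2.1
  · intro m hm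
    show (∏ i with e i = m, p i) = 1
    apply Finset.prod_eq_one
    intro i hi
    rw [Finset.mem_filter] at hi
    exfalso
    have h1 := (hp i).2.2.2
    have h2 := hle i
    rcases hm with hm | hm <;> omega
  · show ∑ m ∈ Finset.range (n + 1), m * (∏ i with e i = m, p i).natDegree = n
    have h1 : ∀ m ∈ Finset.range (n + 1), m * (∏ i with e i = m, p i).natDegree =
        ∑ i with e i = m, e i * (p i).natDegree := by
      intro m _
      rw [Polynomial.natDegree_prod_of_monic _ _ (fun i _ => (hp i).1), Finset.mul_sum]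
      refine Finset.sum_congr rfl fun i hi => ?_
      rw [(Finset.mem_filter.mp hi).2]
    rw [Finset.sum_congr rfl h1,
      Finset.sum_fiberwise_of_maps_to (s := Finset.univ) (t := Finset.range (n + 1)) (g := e)
        (fun i _ => Finset.mem_range.mpr (Nat.lt_succ_of_le (hle i)))
        (fun i => e i * (p i).natDegree)]
    exact hsum

end Cfsg.Agent.S2478P
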