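import Mathlib
import Cfsg.Agent.Helper14.GLk.Defs
import Cfsg.Agent.Helper14.SLk.Defs
import Cfsg.Agent.Helper14.PSLk.Defs

set_option autoImplicit false

/-! S2480, piece EQUIVCONJ: conjugate matrices have isomorphic `F[X]`-modules. -/

namespace Cfsg.Agent.S2480P

open Polynomial DirectSum Cfsg.Agent.S2478P Cfsg.Agent.S2479P

universe u

-- piece EQUIVCONJ
theorem equiv_of_isConj {F : Type u} [Field F] (n : ℕ) (g g' : Matrix.GeneralLinearGroup (Fin n) F)
    (h : IsConj g g') :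
    Nonempty (Module.AEval' (Matrix.toLin' (g : Matrix (Fin n) (Fin n) F)) ≃ₗ[F[X]]
      Module.AEval' (Matrix.toLin' (g' : Matrix (Fin n) (Fin n) F))) := by
  obtain ⟨x, hx⟩ := isConj_iff.mp h
  have hxg : (x : Matrix (Fin n) (Fin n) F) * (g : Matrix (Fin n) (Fin n) F) =
      (g' : Matrix (Fin n) (Fin n) F) * (x : Matrix (Fin n) (Fin n) F) := by
    have h1 : x * g = g' * x := by
      rw [← hx]
      group
    exact congrArg Units.val h1
  let ex : (Fin n → F) ≃ₗ[F] (Fin n → F) :=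
    Matrix.toLin'OfInv (M := ((x⁻¹ : Matrix.GeneralLinearGroup (Fin n) F) : Matrix (Fin n) (Fin n) F))
      (M' := (x : Matrix (Fin n) (Fin n) F))
      (by rw [← Units.val_mul, inv_mul_cancel, Units.val_one])
      (by rw [← Units.val_mul, mul_inv_cancel, Units.val_one])
  have hex : ∀ m, ex m = Matrix.toLin' (x : Matrix (Fin n) (Fin n) F) m := fun m => rfl
  refine ⟨LinearEquiv.ofAEval (Matrix.toLin' (g : Matrix (Fin n) (Fin n) F))
    (ex.trans (Module.AEval'.of (Matrix.toLin' (g' : Matrix (Fin n) (Fin n) F)))) ?_⟩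
  intro m
  rw [LinearEquiv.trans_apply, LinearEquiv.trans_apply, Module.AEval'.X_smul_of]
  congr 1
  show ex (Matrix.toLin' (g : Matrix (Fin n) (Fin n) F) m) =
    Matrix.toLin' (g' : Matrix (Fin n) (Fin n) F) (ex m)
  rw [hex, hex, ← LinearMap.comp_apply, ← Matrix.toLin'_mul, hxg, Matrix.toLin'_mul]
  rfl

end Cfsg.Agent.S2480P
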