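import Mathlib
import Cfsg.Agent.Helper14.S2481.Defs
import Cfsg.Agent.Helper14.GLk.COUNTT
import Cfsg.Agent.Helper3.S2481COUNTSD

/-! S2481 piece COUNTTU (driver helper14): the number of self dual tuples is `AU q r n`. -/

set_option autoImplicit false

namespace Cfsg.Agent.S2481P

open Polynomial DirectSum Matrix Cfsg.Agent.S2478P Cfsg.Agent.S2479P

universe u

namespace COUNTTU

variable {F : Type u} [Field F]

/-- self dual monic polynomials of degree `a` with nonzero constant term -/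
abbrev MonU (σ : F →+* F) (a : ℕ) : Type u :=
  {f : F[X] // f.Monic ∧ f.natDegree = a ∧ f.coeff 0 ≠ 0 ∧ tilde σ f = f}

theorem tilde_one' (σ : F →+* F) : tilde σ (1 : F[X]) = 1 := by
  have h : (1 : F[X]).reverse = 1 := by
    rw [← Polynomial.C_1, Polynomial.reverse_C]
  simp [tilde, h]

theorem finite_MonU [Fintype F] (σ : F →+* F) (a : ℕ) : Finite (MonU σ a) := by
  haveI := COUNTT.finite_Mon F a
  exact Finite.of_injective
    (fun f : MonU σ a => (⟨f.1, f.2.1, f.2.2.1, f.2.2.2.1⟩ : COUNTT.Mon F a))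
    (fun x y h => Subtype.ext (congrArg (fun z : COUNTT.Mon F a => (z : F[X])) h))

theorem TU_zero (σ : F →+* F) (n : ℕ) :
    TU σ 0 n = if n = 0 then {fun _ => 1} else ∅ := by
  ext h
  constructor
  · rintro ⟨hT, -⟩
    rw [COUNTT.T_zero] at hT
    exact hT
  · intro hh
    have hT : h ∈ T F 0 n := by
      rw [COUNTT.T_zero]
      exact hh
    refine ⟨hT, ?_⟩
    split_ifs at hh with hn
    · have hh' : h = fun _ => 1 := hh
      subst hh'
      intro m
      exact tilde_one' σ
    · exact absurd hh (Set.notMem_empty _)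

theorem deg_lt {σ : F →+* F} {r n : ℕ} {h : ℕ → F[X]} (hh : h ∈ TU σ (r + 1) n) :
    (h (r + 1)).natDegree < n / (r + 1) + 1 := COUNTT.deg_lt hh.1

theorem lower_mem {σ : F →+* F} {r n : ℕ} {h : ℕ → F[X]} (hh : h ∈ TU σ (r + 1) n) :
    Function.update h (r + 1) 1 ∈ TU σ r (n - (r + 1) * (h (r + 1)).natDegree) := by
  refine ⟨COUNTT.lower_mem hh.1, fun m => ?_⟩
  by_cases hm : m = r + 1
  · subst hm
    rw [Function.update_self]
    exact tilde_one' σ
  · rw [Function.update_of_ne hm]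
    exact hh.2 m

theorem upper_mem {σ : F →+* F} {r n a : ℕ} (ha : (r + 1) * a ≤ n) {h' : ℕ → F[X]}
    (hh' : h' ∈ TU σ r (n - (r + 1) * a)) {f : F[X]}
    (hf : f.Monic ∧ f.natDegree = a ∧ f.coeff 0 ≠ 0 ∧ tilde σ f = f) :
    Function.update h' (r + 1) f ∈ TU σ (r + 1) n := by
  refine ⟨COUNTT.upper_mem ha hh'.1 ⟨hf.1, hf.2.1, hf.2.2.1⟩, fun m => ?_⟩
  by_cases hm : m = r + 1
  · subst hm
    rw [Function.update_self]
    exact hf.2.2.2
  · rw [Function.update_of_ne hm]
    exact hh'.2 m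

/-- the fibre equivalence -/
noncomputable def fibre (σ : F →+* F) (r n a : ℕ) (ha : (r + 1) * a ≤ n) :
    {h : TU σ (r + 1) n // ((h : ℕ → F[X]) (r + 1)).natDegree = a} ≃
      MonU σ a × TU σ r (n - (r + 1) * a) where
  toFun h := (⟨(h.1 : ℕ → F[X]) (r + 1), (h.1.2.1.1 (r + 1)).1, h.2, (h.1.2.1.1 (r + 1)).2,
      h.1.2.2 (r + 1)⟩,
    ⟨Function.update (h.1 : ℕ → F[X]) (r + 1) 1, by
      have := lower_mem h.1.2
      rw [h.2] at this
      exact this⟩)
  invFun x := ⟨⟨Function.update (x.2 : ℕ → F[X]) (r + 1) x.1.1, upper_mem ha x.2.2 x.1.2⟩, by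
    show (Function.update (x.2 : ℕ → F[X]) (r + 1) x.1.1 (r + 1)).natDegree = a
    rw [Function.update_self]
    exact x.1.2.2.1⟩
  left_inv h := by
    apply Subtype.ext
    apply Subtype.ext
    show Function.update (Function.update (h.1 : ℕ → F[X]) (r + 1) 1) (r + 1)
      ((h.1 : ℕ → F[X]) (r + 1)) = h.1
    rw [Function.update_idem, Function.update_eq_self]
  right_inv x := by
    obtain ⟨f, h'⟩ := x
    have h1 : (h' : ℕ → F[X]) (r + 1) = 1 := h'.2.1.2.1 (r + 1) (by omega)
    apply Prod.ext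
    · apply Subtype.ext
      show Function.update (h' : ℕ → F[X]) (r + 1) f.1 (r + 1) = f.1
      rw [Function.update_self]
    · apply Subtype.ext
      show Function.update (Function.update (h' : ℕ → F[X]) (r + 1) f.1) (r + 1) 1 = h'
      rw [Function.update_idem, ← h1, Function.update_eq_self]

end COUNTTU

variable {F : Type u} [Field F] [Fintype F] {σ : F →+* F}

open COUNTTU in
-- piece COUNTTU
theorem card_TU (hσ : IsInvol σ) (q : ℕ) (hF : Fintype.card F = q ^ 2)
    (hσq : ∀ x, σ x = x ^ q) (r n : ℕ) :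
    (TU σ r n).Finite ∧ Nat.card (TU σ r n) = AU q r n := by
  induction r generalizing n with
  | zero =>
    rw [TU_zero]
    split_ifs with hn
    · refine ⟨Set.finite_singleton _, ?_⟩
      rw [Nat.card_coe_set_eq, Set.ncard_singleton]
      simp [AU, hn]
    · refine ⟨Set.finite_empty, ?_⟩
      rw [Nat.card_coe_set_eq, Set.ncard_empty]
      simp [AU, hn]
  | succ r ih =>
    have hfinT : ∀ m, Finite (TU σ r m) := fun m => (ih m).1
    have hfinM : ∀ a, Finite (MonU σ a) := fun a => finite_MonU σ a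
    let d : TU σ (r + 1) n → Fin (n / (r + 1) + 1) := fun h =>
      ⟨((h : ℕ → F[X]) (r + 1)).natDegree, deg_lt h.2⟩
    have hale : ∀ a : Fin (n / (r + 1) + 1), (r + 1) * (a : ℕ) ≤ n := by
      intro a
      have := a.2
      rw [Nat.lt_succ_iff, Nat.le_div_iff_mul_le (Nat.succ_pos r), mul_comm] at this
      exact this
    let E : ∀ a : Fin (n / (r + 1) + 1),
        {h : TU σ (r + 1) n // d h = a} ≃ MonU σ a × TU σ r (n - (r + 1) * a) := fun a =>
      (Equiv.subtypeEquivRight (fun h => by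
        show d h = a ↔ ((h : ℕ → F[X]) (r + 1)).natDegree = (a : ℕ)
        exact Fin.ext_iff)).trans (fibre σ r n a (hale a))
    let E' : TU σ (r + 1) n ≃ Σ a : Fin (n / (r + 1) + 1), MonU σ a × TU σ r (n - (r + 1) * a) :=
      (Equiv.sigmaFiberEquiv d).symm.trans (Equiv.sigmaCongrRight E)
    have hfin : Finite (TU σ (r + 1) n) := Finite.of_equiv _ E'.symm
    refine ⟨Set.toFinite _, ?_⟩
    rw [Nat.card_congr E', Nat.card_sigma]
    show _ = ∑ a ∈ Finset.range (n / (r + 1) + 1), NU q a * AU q r (n - (r + 1) * a)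
    rw [← Fin.sum_univ_eq_sum_range (fun a => NU q a * AU q r (n - (r + 1) * a))]
    refine Finset.sum_congr rfl (fun a _ => ?_)
    rw [Nat.card_prod, card_sd_monic hσ q hF hσq a, (ih _).2]

end Cfsg.Agent.S2481P
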