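import Mathlib
import Cfsg.Agent.Helper14.S2481.Defs
import Cfsg.Agent.Helper26.S2479DIVCOUNT
import Cfsg.Agent.Helper15.S2481COUNTTU

/-! S2481 piece DIVCOUNTU (driver helper14): self dual tuples of `TU σ n n` all of whose parts are
divisible by `d` inject into `TU σ (n/d) (n/d)`. -/

set_option autoImplicit false

namespace Cfsg.Agent.S2481P

open Polynomial DirectSum Matrix Cfsg.Agent.S2478P Cfsg.Agent.S2479P

universe u

variable {F : Type u} [Field F] [Fintype F] {σ : F →+* F}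

open Cfsg.Agent.S2479P.DIVCOUNT in
-- piece DIVCOUNTU
theorem card_parts_dvd_le_U (hσ : IsInvol σ) (q : ℕ) (hF : Fintype.card F = q ^ 2)
    (hσq : ∀ x, σ x = x ^ q) (n d : ℕ) (hd : 1 ≤ d) (hdn : d ∣ n) :
    Nat.card {t : ℕ → F[X] // t ∈ TU σ n n ∧ ∀ m ∈ parts t, d ∣ m} ≤ AU q (n / d) (n / d) := by
  classical
  obtain ⟨k, rfl⟩ := hdn
  have hk : d * k / d = k := Nat.mul_div_cancel_left k (by omega)
  rw [hk]
  obtain ⟨hfin, hcard⟩ := card_TU hσ q hF hσq k k
  have : Finite (TU σ k k) := hfin.to_subtype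
  rw [← hcard]
  have hmem : ∀ t : {t : ℕ → F[X] // t ∈ TU σ (d * k) (d * k) ∧ ∀ m ∈ parts t, d ∣ m},
      (fun j => t.1 (d * j)) ∈ TU σ k k := by
    rintro ⟨t, ⟨ht, hsd⟩, hp⟩
    refine ⟨⟨fun j => ht.1 (d * j), ?_, ?_⟩, fun j => hsd (d * j)⟩
    · rintro j (rfl | hj)
      · simp only [mul_zero]
        exact ht.2.1 0 (Or.inl rfl)
      · apply ht.2.1 (d * j) (Or.inr ?_)
        have : d * (k + 1) ≤ d * j := Nat.mul_le_mul_left d (by omega)
        rw [Nat.mul_succ] at this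
        omega
    · have h1 := ht.2.2
      rw [sum_reindex d k hd (fun m => m * (t m).natDegree)] at h1
      · simp only [mul_assoc] at h1
        rw [← Finset.mul_sum] at h1
        exact Nat.eq_of_mul_eq_mul_left (by omega) h1
      · intro m hm
        show m * (t m).natDegree = 0
        rw [eq_one_of_not_dvd ht hp m hm, natDegree_one, mul_zero]
  refine Nat.card_le_card_of_injective
    (fun t : {t : ℕ → F[X] // t ∈ TU σ (d * k) (d * k) ∧ ∀ m ∈ parts t, d ∣ m} =>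
      (⟨fun j => t.1 (d * j), hmem t⟩ : TU σ k k)) ?_
  rintro ⟨t, ⟨ht, hsd⟩, hp⟩ ⟨t', ⟨ht', hsd'⟩, hp'⟩ h
  have h1 : (fun j => t (d * j)) = fun j => t' (d * j) := congrArg Subtype.val h
  apply Subtype.ext
  funext m
  simp only
  by_cases hm : d ∣ m
  · obtain ⟨j, rfl⟩ := hm
    exact congrFun h1 j
  · rw [eq_one_of_not_dvd ht hp m hm, eq_one_of_not_dvd ht' hp' m hm]

end Cfsg.Agent.S2481P
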