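import Mathlib
import Cfsg.Agent.Helper14.S2481.Defs
import Cfsg.Agent.Helper16.S2479IDXDVD
import Cfsg.Agent.Helper11.S2481CARDU1

/-! S2481 piece IDXDVDU (driver helper14): the index of `DU σ t` divides `q + 1` and every part. -/

set_option autoImplicit false

namespace Cfsg.Agent.S2481P

open Polynomial DirectSum Matrix Cfsg.Agent.S2478P Cfsg.Agent.S2479P

universe u

variable {F : Type u} [Field F] [Fintype F] {σ : F →+* F}

-- piece IDXDVDU
theorem idxU_dvd (hσ : IsInvol σ) (q : ℕ) (hF : Fintype.card F = q ^ 2)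
    (hσq : ∀ x, σ x = x ^ q) (t : ℕ → F[X]) :
    idxU σ t ∣ q + 1 ∧ ∀ m ∈ parts t, idxU σ t ∣ m := by
  constructor
  · have := (DU σ t).index_dvd_card
    rwa [card_U1 q hF hσq] at this
  · intro m hm
    have hle : (powMonoidHom m : U1 σ →* U1 σ).range ≤ DU σ t := by
      unfold DU
      exact le_iSup₂ (f := fun m (_ : m ∈ parts t) => (powMonoidHom m : U1 σ →* U1 σ).range) m hm
    exact (Subgroup.index_dvd_of_le hle).trans (IDXDVD.index_range_pow_dvd m)

end Cfsg.Agent.S2481P
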