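import Mathlib

set_option autoImplicit false

/-! S5965, piece FROB: for a matrix over a subfield `F₀` of a finite field, the eigenspaces for
`ζ` and `ζ ^ |F₀|` have the same dimension. -/

namespace Cfsg.Agent.S5965P

namespace FROB

/-- the eigenspace dimension -/
noncomputable def dd {F : Type*} [Field F] (n : ℕ) (M : Matrix (Fin n) (Fin n) F) (ζ : F) : ℕ :=
  Module.finrank F (LinearMap.ker (Matrix.toLin' M - ζ • (1 : Module.End F (Fin n → F))))

theorem mem_ker_iff {F : Type*} [Field F] (n : ℕ) (M : Matrix (Fin n) (Fin n) F) (ζ : F)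
    (v : Fin n → F) :
    v ∈ LinearMap.ker (Matrix.toLin' M - ζ • (1 : Module.End F (Fin n → F))) ↔
      M.mulVec v = ζ • v := by
  rw [LinearMap.mem_ker, LinearMap.sub_apply, LinearMap.smul_apply, Module.End.one_apply,
    Matrix.toLin'_apply, sub_eq_zero]

/-- a ring endomorphism fixing the entries of `M` maps eigenvectors to eigenvectors -/
theorem dd_le_of_ringHom {F : Type*} [Field F] [Fintype F] (n : ℕ)
    (M : Matrix (Fin n) (Fin n) F) (σ : F →+* F) (hfix : ∀ i j, σ (M i j) = M i j) (ζ : F) :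
    dd n M ζ ≤ dd n M (σ ζ) := by
  have hMσ : M.map σ = M := by
    ext i j
    exact hfix i j
  have hmap : ∀ v : Fin n → F, M.mulVec v = ζ • v → M.mulVec (σ ∘ v) = σ ζ • (σ ∘ v) := by
    intro v hv
    ext i
    have h := RingHom.map_mulVec σ M v i
    rw [hMσ, hv] at h
    rw [← h]
    simp
  let φ : LinearMap.ker (Matrix.toLin' M - ζ • (1 : Module.End F (Fin n → F))) →
      LinearMap.ker (Matrix.toLin' M - σ ζ • (1 : Module.End F (Fin n → F))) :=
    fun v => ⟨σ ∘ v.1, (mem_ker_iff n M (σ ζ) _).mpr (hmap v.1 ((mem_ker_iff n M ζ _).mp v.2))⟩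
  have hφ : Function.Injective φ := by
    intro v w h
    apply Subtype.ext
    have h' : σ ∘ v.1 = σ ∘ w.1 := congrArg Subtype.val h
    funext i
    exact σ.injective (congrFun h' i)
  have hcard := Nat.card_le_card_of_injective φ hφ
  rw [Module.natCard_eq_pow_finrank (K := F)
      (V := LinearMap.ker (Matrix.toLin' M - ζ • (1 : Module.End F (Fin n → F)))),
    Module.natCard_eq_pow_finrank (K := F)
      (V := LinearMap.ker (Matrix.toLin' M - σ ζ • (1 : Module.End F (Fin n → F))))] at hcard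
  have h1 : 1 < Nat.card F := Finite.one_lt_card
  exact (Nat.pow_le_pow_iff_right h1).mp hcard

end FROB

/-- FROB -/
theorem finrank_ker_frobenius {F : Type*} [Field F] [Fintype F] (F₀ : Subfield F) (n : ℕ)
    (M₀ : Matrix (Fin n) (Fin n) F₀) (ζ : F) :
    Module.finrank F (LinearMap.ker (Matrix.toLin' (M₀.map F₀.subtype) -
        ζ • (1 : Module.End F (Fin n → F)))) =
      Module.finrank F (LinearMap.ker (Matrix.toLin' (M₀.map F₀.subtype) -
        (ζ ^ Nat.card F₀) • (1 : Module.End F (Fin n → F)))) := by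
  classical
  haveI : Fintype F₀ := Fintype.ofFinite F₀
  obtain ⟨p, hp⟩ := CharP.exists F
  haveI := hp
  obtain ⟨f, hpp, hf⟩ := FiniteField.card F₀ p
  haveI : Fact p.Prime := ⟨hpp⟩
  have hq0 : Nat.card F₀ = p ^ (f : ℕ) := by rw [Nat.card_eq_fintype_card, hf]
  let σ : F →+* F := iterateFrobenius F p f
  have hσ : ∀ a, σ a = a ^ Nat.card F₀ := by
    intro a
    rw [hq0]
    rfl
  have hfix : ∀ i j, σ ((M₀.map F₀.subtype) i j) = (M₀.map F₀.subtype) i j := by
    intro i j
    rw [hσ]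
    show ((M₀ i j : F₀) : F) ^ Nat.card F₀ = ((M₀ i j : F₀) : F)
    rw [Nat.card_eq_fintype_card, ← SubmonoidClass.coe_pow, FiniteField.pow_card]
  have hle : ∀ ζ, FROB.dd n (M₀.map F₀.subtype) ζ ≤
      FROB.dd n (M₀.map F₀.subtype) (ζ ^ Nat.card F₀) := by
    intro ζ
    rw [← hσ]
    exact FROB.dd_le_of_ringHom n _ σ hfix ζ
  have hiter : ∀ j ζ, FROB.dd n (M₀.map F₀.subtype) ζ ≤
      FROB.dd n (M₀.map F₀.subtype) (ζ ^ (Nat.card F₀ ^ j)) := by
    intro j
    induction j with
    | zero =>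
      intro ζ
      rw [pow_zero, pow_one]
    | succ j ih =>
      intro ζ
      rw [pow_succ, pow_mul]
      exact (ih ζ).trans (hle _)
  have hk : Nat.card F = Nat.card F₀ ^ Module.finrank F₀ F := Module.natCard_eq_pow_finrank
  have hkpos : 0 < Module.finrank F₀ F := Module.finrank_pos
  obtain ⟨k, hk'⟩ : ∃ k, Module.finrank F₀ F = k + 1 := ⟨Module.finrank F₀ F - 1, by omega⟩
  have h2 := hiter k (ζ ^ Nat.card F₀)
  rw [← pow_mul, ← pow_succ', ← hk', ← hk, Nat.card_eq_fintype_card (α := F),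
    FiniteField.pow_card] at h2
  exact le_antisymm (hle ζ) h2

end Cfsg.Agent.S5965P
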