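import Mathlib
import Cfsg.Agent.Helper16.BCElem
import Cfsg.Agent.Helper14.PCore

set_option autoImplicit false

/-! S5110 piece KHYP: the subgroup `K ≤ Aut_F(Q)` used in the last step of the criterion. -/

namespace Cfsg.Agent.Helper16.BC

open Cfsg Cfsg.FusionSystem Cfsg.Agent.Helper25

variable {Ω : Type*} [Group Ω] {S : Subgroup Ω}

namespace KHYP

theorem inn_le_autInducedBy {Q : Subgroup Ω} (hQS : Q ≤ S) : Inn Q ≤ autInducedBy S Q := by
  rintro α ⟨q, rfl⟩
  rw [mem_autInducedBy_iff]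
  exact ⟨(q : Ω), hQS q.2, fun x => rfl⟩

theorem inn_isPGroup {p : ℕ} {Q : Subgroup Ω} (hQ : IsPGroup p Q) : IsPGroup p (Inn Q) := by
  have : IsPGroup p (MulAut.conj : Q →* MulAut Q).range :=
    hQ.of_surjective (MulAut.conj : Q →* MulAut Q).rangeRestrict
      (MonoidHom.rangeRestrict_surjective _)
  exact this

theorem Q_le_NKvia {Q : Subgroup Ω} (hQS : Q ≤ S) {K : Subgroup (MulAut Q)} (hK : Inn Q ≤ K) :
    Q ≤ NKvia S Q.subtype K := by
  intro g hg
  refine ⟨hQS hg, MulAut.conj ⟨g, hg⟩, hK ⟨⟨g, hg⟩, rfl⟩, fun x => ?_⟩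
  rfl

/-- restriction of an arrow `θ : N_S(A) → S` with `θ(A) = Q` to `A` -/
theorem arrow_data (F : FusionSystem S) {A Q : Subgroup Ω} (hAS : A ≤ S)
    {θ : ↥(normalizerIn S A) →* Ω} (hθ : θ ∈ F.Hom (normalizerIn S A)) (hθA : img θ A = Q) :
    ∃ hAN : A ≤ normalizerIn S A, θ.comp (Subgroup.inclusion hAN) ∈ F.Hom A ∧
      (θ.comp (Subgroup.inclusion hAN)).range = Q := by
  have hAN : A ≤ normalizerIn S A := le_inf hAS Subgroup.le_normalizer
  refine ⟨hAN, restrict_mem F hAN hθ, ?_⟩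
  rw [← hθA]
  ext y
  rw [mem_img]
  constructor
  · rintro ⟨x, rfl⟩
    exact ⟨Subgroup.inclusion hAN x, x.2, rfl⟩
  · rintro ⟨x, hx, rfl⟩
    exact ⟨⟨x, hx⟩, rfl⟩

end KHYP

theorem khyp [Finite S] (p : ℕ) [Fact p.Prime] (hS : IsPGroup p S) (F : FusionSystem S)
    {Q : Subgroup Ω} (hQS : Q ≤ S) (harrow : ∀ A, F.IsConj A Q → NArrow F A Q)
    (hstar : F.IsCentric Q → ∃ Q', F.IsConj Q Q' ∧
      ¬ (autInducedBy S Q' ⊓ (pCore p ↥(F.autGroup Q')).map (F.autGroup Q').subtype ≤ Inn Q')) :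
    ∃ K : Subgroup (MulAut Q), K ≤ F.autGroup Q ∧ (K.subgroupOf (F.autGroup Q)).Normal ∧
      IsPGroup p K ∧ Q ≤ NKvia S Q.subtype K ∧ ¬ (NKvia S Q.subtype K ≤ Q) ∧
      (K ≤ autInducedBy S Q ∨ centralizerIn S Q ≤ Q) := by
  have hQp : IsPGroup p Q := hS.to_le hQS
  have hInnS : Inn Q ≤ autInducedBy S Q := KHYP.inn_le_autInducedBy hQS
  have hInnΓ : Inn Q ≤ F.autGroup Q := hInnS.trans (autInducedBy_le_autGroup F hQS)
  by_cases hcen : F.IsCentric Q
  · -- centric case
    have hCQ : centralizerIn S Q ≤ Q := hcen.2 Q (isConj_refl F hQS)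
    set Γ := F.autGroup Q with hΓ
    set K : Subgroup (MulAut Q) := (pCore p Γ).map Γ.subtype with hK
    have hKΓ : K ≤ Γ := Subgroup.map_subtype_le _
    have hKsub : K.subgroupOf Γ = pCore p Γ :=
      Subgroup.comap_map_eq_self_of_injective Γ.subtype_injective _
    have hKp : IsPGroup p K := (Cfsg.Agent.Helper14.pCore_isPGroup p).map _
    have hInnK : Inn Q ≤ K := by
      have h1 : (Inn Q).subgroupOf Γ ≤ pCore p Γ := by
        apply Cfsg.Agent.Helper14.le_pCore p (inn_normal_in_autGroup F Q)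
        have e : IsPGroup p ((Inn Q).subgroupOf Γ) :=
          (KHYP.inn_isPGroup hQp).comap_of_injective Γ.subtype Γ.subtype_injective
        exact e
      intro α hα
      exact ⟨⟨α, hInnΓ hα⟩, h1 hα, rfl⟩
    refine ⟨K, hKΓ, ?_, hKp, KHYP.Q_le_NKvia hQS hInnK, ?_, Or.inr hCQ⟩
    · rw [hKsub]
      exact Cfsg.Agent.Helper14.pCore_normal p
    · -- NKvia ≰ Q
      obtain ⟨Q', hQQ', hnot⟩ := hstar hcen
      have hQ'S : Q' ≤ S := (isConj_le F hQQ').2
      rw [SetLike.not_le_iff_exists] at hnot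
      obtain ⟨α', hα'mem, hα'inn⟩ := hnot
      obtain ⟨hα'S, hα'core⟩ := Subgroup.mem_inf.mp hα'mem
      rw [mem_autInducedBy_iff] at hα'S
      obtain ⟨g, hgS, hg⟩ := hα'S
      -- g normalizes Q'
      have hgN : g ∈ Subgroup.normalizer (Q' : Set Ω) := by
        rw [Subgroup.mem_normalizer_iff]
        intro y
        constructor
        · intro hy
          have := hg ⟨y, hy⟩
          rw [← this]
          exact (α' ⟨y, hy⟩).2
        · intro hy
          have h1 := hg (α'.symm ⟨g * y * g⁻¹, hy⟩)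
          rw [MulEquiv.apply_symm_apply] at h1
          have h2 : y = ((α'.symm ⟨g * y * g⁻¹, hy⟩ : Q') : Ω) :=
            mul_left_cancel (mul_right_cancel h1)
          rw [h2]
          exact (α'.symm ⟨g * y * g⁻¹, hy⟩).2
      have hgNS : g ∈ normalizerIn S Q' := ⟨hgS, hgN⟩
      obtain ⟨θ, hθ, hθQ'⟩ := harrow Q' (isConj_symm F hQQ')
      obtain ⟨hQ'N, hθ'mem, hθ'r⟩ := KHYP.arrow_data F hQ'S hθ hθQ'
      have hθS : ∀ x, θ x ∈ S := (F.le_of_mem hθ).2
      have hθinj := F.injective_of_mem hθ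
      set t : Q' ≃* Q := isoOfHom (θ.comp (Subgroup.inclusion hQ'N))
        (F.injective_of_mem hθ'mem) hθ'r with ht
      have ht_coe : ∀ x : Q', ((t x : Q) : Ω) = θ (Subgroup.inclusion hQ'N x) := fun x => rfl
      set Γ' := F.autGroup Q' with hΓ'
      -- the isomorphism Γ' ≃* Γ
      have hmapΓ : Γ'.map (MulAut.congr t).toMonoidHom = Γ := by
        apply le_antisymm
        · rintro _ ⟨β, hβ, rfl⟩
          exact congr_mem_autGroup F hθ'mem hθ'r hβ
        · intro β hβ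
          refine ⟨(MulAut.congr t).symm β, ?_, (MulAut.congr t).apply_symm_apply β⟩
          -- transport back along the inverse
          obtain ⟨ψ, hψ, hψinv, hψr⟩ := exists_inv_mem F hθ'mem hθ'r
          have h1 := congr_mem_autGroup F hψ hψr hβ
          have e : isoOfHom ψ (F.injective_of_mem hψ) hψr = t.symm := by
            apply MulEquiv.ext
            intro y
            apply Subtype.ext
            obtain ⟨x, rfl⟩ := t.surjective y
            rw [MulEquiv.symm_apply_apply]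
            exact hψinv x (t x).2
          rw [e] at h1
          have e2 : MulAut.congr t.symm = (MulAut.congr t).symm := rfl
          rw [e2] at h1
          exact h1
      let e : Γ' ≃* Γ :=
        ((MulAut.congr t).subgroupMap Γ').trans (MulEquiv.subgroupCongr hmapΓ)
      have he_coe : ∀ β : Γ', ((e β : Γ) : MulAut Q) = MulAut.congr t (β : MulAut Q') :=
        fun β => rfl
      have hcore : (pCore p Γ').map e.toMonoidHom = pCore p Γ :=
        Cfsg.Agent.Helper14.pCore_map_equiv p e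
      obtain ⟨β', hβ'core, hβ'α'⟩ := hα'core
      set α : MulAut Q := MulAut.congr t α' with hα
      have hαK : α ∈ K := by
        refine ⟨e β', ?_, ?_⟩
        · rw [← hcore]
          exact ⟨β', hβ'core, rfl⟩
        · show ((e β' : Γ) : MulAut Q) = α
          rw [he_coe, hα]
          congr 1
      -- α is conjugation by θ g
      have hαconj : ∀ x : Q, ((α x : Q) : Ω) = θ ⟨g, hgNS⟩ * (x : Ω) * (θ ⟨g, hgNS⟩)⁻¹ := by
        intro x
        obtain ⟨y, rfl⟩ := t.surjective x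
        have h1 : α (t y) = t (α' y) := by
          rw [hα]
          simp [MulAut.congr]
        rw [h1, ht_coe, ht_coe, ← map_inv, ← map_mul, ← map_mul]
        congr 1
        apply Subtype.ext
        exact hg y
      have hθgNK : θ ⟨g, hgNS⟩ ∈ NKvia S Q.subtype K :=
        ⟨hθS _, α, hαK, fun x => hαconj x⟩
      intro hle
      have hθgQ : θ ⟨g, hgNS⟩ ∈ Q := hle hθgNK
      apply hα'inn
      -- α' = conj (t.symm ⟨θ g, _⟩)
      refine ⟨t.symm ⟨θ ⟨g, hgNS⟩, hθgQ⟩, ?_⟩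
      apply MulEquiv.ext
      intro y
      apply t.injective
      apply Subtype.ext
      have h1 : t (α' y) = α (t y) := by
        rw [hα]
        simp [MulAut.congr]
      rw [h1, hαconj]
      simp [MulAut.conj_apply]
  · -- non-centric case
    have hex : ∃ A, F.IsConj Q A ∧ ¬ centralizerIn S A ≤ A := by
      by_contra hno
      apply hcen
      refine ⟨hQS, fun Q' hQ' => ?_⟩
      by_contra hno'
      exact hno ⟨Q', hQ', hno'⟩
    obtain ⟨A, hQA, hCA⟩ := hex
    have hAS : A ≤ S := (isConj_le F hQA).2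
    rw [SetLike.not_le_iff_exists] at hCA
    obtain ⟨c, hcC, hcA⟩ := hCA
    have hcC' : c ∈ S ∧ c ∈ Subgroup.centralizer (A : Set Ω) := Subgroup.mem_inf.mp hcC
    have hcN : c ∈ normalizerIn S A :=
      ⟨hcC'.1, Subgroup.centralizer_le_normalizer _ hcC'.2⟩
    obtain ⟨θ, hθ, hθA⟩ := harrow A (isConj_symm F hQA)
    obtain ⟨hAN, hθ'mem, hθ'r⟩ := KHYP.arrow_data F hAS hθ hθA
    have hθS : ∀ x, θ x ∈ S := (F.le_of_mem hθ).2
    have hθinj := F.injective_of_mem hθ
    refine ⟨Inn Q, hInnΓ, inn_normal_in_autGroup F Q, KHYP.inn_isPGroup hQp,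
      KHYP.Q_le_NKvia hQS le_rfl, ?_, Or.inl hInnS⟩
    intro hle
    -- θ c centralizes Q
    have hθcC : θ ⟨c, hcN⟩ ∈ centralizerIn S (Q.subtype).range := by
      refine Subgroup.mem_inf.mpr ⟨hθS _, ?_⟩
      rw [Subgroup.mem_centralizer_iff]
      rintro y ⟨y', rfl⟩
      have hy : (y' : Ω) ∈ img θ A := hθA.symm ▸ y'.2
      rw [mem_img] at hy
      obtain ⟨x, hxA, hx⟩ := hy
      show (y' : Ω) * θ ⟨c, hcN⟩ = θ ⟨c, hcN⟩ * (y' : Ω)
      rw [← hx, ← map_mul, ← map_mul]
      congr 1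
      apply Subtype.ext
      exact Subgroup.mem_centralizer_iff.mp hcC'.2 _ hxA
    have hθcQ : θ ⟨c, hcN⟩ ∈ Q := hle (centralizerIn_le_NKvia Q.subtype (Inn Q) hθcC)
    have hθcimg : θ ⟨c, hcN⟩ ∈ img θ A := hθA.symm ▸ hθcQ
    rw [mem_img] at hθcimg
    obtain ⟨x, hxA, hx⟩ := hθcimg
    have : x = ⟨c, hcN⟩ := hθinj hx
    apply hcA
    rw [this] at hxA
    exact hxA

end Cfsg.Agent.Helper16.BC
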