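import Mathlib
import Cfsg.Agent.Helper16.BCElem
import Cfsg.Agent.Helper16.BCGENPRIN

set_option autoImplicit false

/-! S5110 piece TOP: if `S ∉ ℋ` then `Aut_F(S) = Inn(S)`, so `S` is fully automized and receptive. -/

namespace Cfsg.Agent.Helper16.BC

open Cfsg Cfsg.FusionSystem Cfsg.Agent.Helper25

variable {Ω : Type*} [Group Ω] {S : Subgroup Ω}

namespace TOP

theorem eq_of_hom_top [Finite S] (F : FusionSystem S) {P : Subgroup Ω} {φ : P →* Ω}
    (hφ : φ ∈ F.Hom P) (hr : φ.range = S) : P = S := by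
  have hPS : P ≤ S := (F.le_of_mem hφ).1
  haveI : Finite P := finite_of_le hPS
  have hinj := F.injective_of_mem hφ
  have hcard : Nat.card S ≤ Nat.card P := by
    have e : S ≃ P := by
      have e1 : P ≃ φ.range := (MonoidHom.ofInjective hinj).toEquiv
      have e2 : φ.range ≃ S := Equiv.setCongr (by rw [hr])
      exact (e1.trans e2).symm
    exact (Nat.card_congr e).le
  exact Subgroup.eq_of_le_of_card_ge hPS hcard

theorem range_eq_top [Finite S] (F : FusionSystem S) {φ : S →* Ω}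
    (hφ : φ ∈ F.Hom S) : φ.range = S := by
  have hle : φ.range ≤ S := by
    rintro _ ⟨x, rfl⟩
    exact (F.le_of_mem hφ).2 x
  have hinj := F.injective_of_mem hφ
  have hcard : Nat.card S ≤ Nat.card φ.range :=
    (Nat.card_congr (MonoidHom.ofInjective hinj).toEquiv).le
  haveI : Finite φ.range := finite_of_le hle
  exact Subgroup.eq_of_le_of_card_ge hle hcard

end TOP

theorem top_case [Finite S] (p : ℕ) [Fact p.Prime] (hS : IsPGroup p S) (F : FusionSystem S)
    (ℋ : Set (Subgroup Ω)) (hyp : Hyp p F ℋ) (hSℋ : S ∉ ℋ) :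
    F.IsFullyAutomized p S ∧ F.IsReceptive S := by
  -- every map of the system defined on S is conjugation by an element of S
  have hinner : ∀ A ∈ ({S} : Set (Subgroup Ω)), ∀ φ ∈ F.Hom A,
      ∃ g ∈ S, ∀ x : A, φ x = g * (x : Ω) * g⁻¹ := by
    refine genprin p F ℋ hyp {S} ?_ ?_ (fun A φ => ∃ g ∈ S, ∀ x : A, φ x = g * (x : Ω) * g⁻¹)
      ?_ ?_ ?_ ?_
    · -- closed under conjugacy
      intro A hA B hAB
      rw [Set.mem_singleton_iff] at hA
      subst hA
      obtain ⟨φ, hφ, hr⟩ := hAB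
      rw [Set.mem_singleton_iff, ← hr]
      exact TOP.range_eq_top F hφ
    · intro A hA
      rw [Set.mem_singleton_iff] at hA
      rw [hA]
      exact hSℋ
    · intro A _ g hg
      exact ⟨g, hg, fun x => rfl⟩
    · rintro A _ φ B ψ χ _ hr _ hχ ⟨g₁, hg₁, h₁⟩ ⟨g₂, hg₂, h₂⟩
      refine ⟨g₂ * g₁, S.mul_mem hg₂ hg₁, fun x => ?_⟩
      have hx : φ x ∈ B := hr ▸ ⟨x, rfl⟩
      rw [hχ x hx, h₂]
      show g₂ * φ x * g₂⁻¹ = _
      rw [h₁]
      group
    · rintro A _ φ B ψ _ hr _ hinv ⟨g, hg, h₁⟩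
      refine ⟨g⁻¹, S.inv_mem hg, fun y => ?_⟩
      have hy : (y : Ω) ∈ φ.range := hr.symm ▸ y.2
      obtain ⟨x, hx⟩ := hy
      have hxB : φ x ∈ B := hr ▸ ⟨x, rfl⟩
      have e : y = ⟨φ x, hxB⟩ := Subtype.ext hx.symm
      rw [e, hinv x hxB]
      show (x : Ω) = g⁻¹ * φ x * g⁻¹⁻¹
      rw [h₁]
      group
    · intro R hR ψ hψ A hA hAR
      exfalso
      rw [Set.mem_singleton_iff] at hA
      subst hA
      have : R = A := le_antisymm (F.le_of_mem hψ).1 hAR
      rw [this] at hR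
      exact hSℋ hR
  have hinner' : ∀ φ ∈ F.Hom S, ∃ g ∈ S, ∀ x : S, φ x = g * (x : Ω) * g⁻¹ :=
    hinner S (Set.mem_singleton S)
  refine ⟨?_, le_rfl, ?_⟩
  · -- fully automized
    rw [isFullyAutomized_iff_card F p le_rfl]
    have hle : F.autGroup S ≤ autInducedBy S S := by
      intro α hα
      rw [mem_autGroup_iff F le_rfl] at hα
      obtain ⟨g, hg, h⟩ := hinner' _ hα
      rw [mem_autInducedBy_iff]
      exact ⟨g, hg, fun x => h x⟩
    have heq : F.autGroup S = autInducedBy S S :=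
      le_antisymm hle (autInducedBy_le_autGroup F le_rfl)
    rw [heq]
    have hp : IsPGroup p (autInducedBy S S) := autInducedBy_isPGroup hS S
    obtain ⟨k, hk⟩ := IsPGroup.iff_card.mp hp
    rw [hk]
    unfold pPart
    rw [Nat.Prime.factorization_pow (Fact.out : p.Prime)]
    simp
  · -- receptive
    intro P φ hφ hr
    have hPS : P = S := TOP.eq_of_hom_top F hφ hr
    subst hPS
    obtain ⟨g, hg, h⟩ := hinner' φ hφ
    have hES : extender P P φ ≤ P :=
      (extender_le_normalizerIn P φ).trans inf_le_left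
    refine ⟨conjHom (extender P P φ) g, F.conj_mem hES hg, ?_⟩
    intro x hP hN
    rw [h]
    rfl

end Cfsg.Agent.Helper16.BC
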