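import Mathlib
import Cfsg.Agent.Helper16.BCElem

set_option autoImplicit false

/-! S5110 piece TRANSFER: fully automized + receptive in `N_F(Q)` implies the same in `F`
(given arrows onto `Q`). -/

namespace Cfsg.Agent.Helper16.BC

open Cfsg Cfsg.FusionSystem Cfsg.Agent.Helper25

variable {Ω : Type*} [Group Ω] {S : Subgroup Ω}

namespace TRANSFER

theorem img_self {Q : Subgroup Ω} (χ : Q →* Ω) : img χ Q = χ.range := by
  ext y
  rw [mem_img]
  constructor
  · rintro ⟨x, -, rfl⟩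
    exact ⟨x, rfl⟩
  · rintro ⟨x, rfl⟩
    exact ⟨x, x.2, rfl⟩

end TRANSFER

theorem transfer [Finite S] (p : ℕ) [Fact p.Prime] (hS : IsPGroup p S) (F : FusionSystem S)
    {Q : Subgroup Ω} (hQS : Q ≤ S) (harrow : ∀ A, F.IsConj A Q → NArrow F A Q)
    (hfa : (NSys F Q hQS).IsFullyAutomized p Q) (hrec : (NSys F Q hQS).IsReceptive Q) :
    F.IsFullyAutomized p Q ∧ F.IsReceptive Q := by
  have hN0S : N0 S Q ≤ S := N0_le S Q
  have : Finite (N0 S Q) := finite_of_le hN0S
  have hQN0 : Q ≤ N0 S Q := Q_le_N0 hQS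
  refine ⟨?_, hQS, ?_⟩
  · -- fully automized
    rw [isFullyAutomized_iff_card F p hQS]
    have h1 := (isFullyAutomized_iff_card (NSys F Q hQS) p hQN0).mp hfa
    rw [autInducedBy_N0, NSys_autGroup] at h1
    exact h1
  · -- receptive
    intro P φ hφ hφr
    have hPS : P ≤ S := (F.le_of_mem hφ).1
    have hφS : ∀ x, φ x ∈ S := (F.le_of_mem hφ).2
    have hφQ : ∀ x : P, φ x ∈ Q := fun x => hφr ▸ ⟨x, rfl⟩
    obtain ⟨θ, hθ, hθP⟩ := harrow P ⟨φ, hφ, hφr⟩
    have hθinj := F.injective_of_mem hθ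
    have hθS : ∀ x, θ x ∈ S := (F.le_of_mem hθ).2
    have hPN : P ≤ normalizerIn S P := le_inf hPS Subgroup.le_normalizer
    -- θ restricted to P
    have hθPmem : θ.comp (Subgroup.inclusion hPN) ∈ F.Hom P := restrict_mem F hPN hθ
    have hθPr : (θ.comp (Subgroup.inclusion hPN)).range = Q := by
      rw [← hθP]
      ext y
      rw [mem_img]
      constructor
      · rintro ⟨x, rfl⟩
        exact ⟨Subgroup.inclusion hPN x, x.2, rfl⟩
      · rintro ⟨x, hx, rfl⟩
        exact ⟨⟨x, hx⟩, rfl⟩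
    have hθQ : ∀ x : P, θ (Subgroup.inclusion hPN x) ∈ Q := by
      intro x
      rw [← hθPr]
      exact ⟨x, rfl⟩
    obtain ⟨ψ, hψ, hψinv, hψr⟩ := exists_inv_mem F hθPmem hθPr
    have hψP : ∀ y : Q, ψ y ∈ P := fun y => hψr ▸ ⟨y, rfl⟩
    -- χ = φ ∘ (θ|_P)⁻¹
    let χ : Q →* Ω := φ.comp (ψ.codRestrict P hψP)
    have hχ : χ ∈ F.Hom Q := F.comp_mem hψ hφ hψP
    have hχθ : ∀ x : P, χ ⟨θ (Subgroup.inclusion hPN x), hθQ x⟩ = φ x := by
      intro x
      show φ (ψ.codRestrict P hψP ⟨θ (Subgroup.inclusion hPN x), hθQ x⟩) = φ x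
      congr 1
      apply Subtype.ext
      exact hψinv x (hθQ x)
    have hQsurj : ∀ y : Q, ∃ x : P, θ (Subgroup.inclusion hPN x) = (y : Ω) := by
      intro y
      have : (y : Ω) ∈ (θ.comp (Subgroup.inclusion hPN)).range := hθPr.symm ▸ y.2
      obtain ⟨x, hx⟩ := this
      exact ⟨x, hx⟩
    have hχr : χ.range = Q := by
      ext y
      constructor
      · rintro ⟨x, rfl⟩
        exact hφQ _
      · intro hy
        have : y ∈ φ.range := hφr.symm ▸ hy
        obtain ⟨x, rfl⟩ := this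
        exact ⟨⟨θ (Subgroup.inclusion hPN x), hθQ x⟩, hχθ x⟩
    have hχE : χ ∈ (NSys F Q hQS).Hom Q := by
      rw [mem_NSys_iff F hQS le_rfl]
      refine ⟨hχ, hQN0, ?_⟩
      rw [TRANSFER.img_self, hχr]
    obtain ⟨α', hα', hα'ext⟩ := hrec.2 Q χ hχE hχr
    have hα'F : α' ∈ F.Hom (extender (N0 S Q) Q χ) := NSys_le F hQS hα'
    -- θ maps extender S P φ into extender N₀ Q χ
    have hEN : extender S P φ ≤ normalizerIn S P := extender_le_normalizerIn P φ
    have hmap : ∀ g (hg : g ∈ extender S P φ), θ ⟨g, hEN hg⟩ ∈ extender (N0 S Q) Q χ := by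
      have hle : extender S P φ ≤
          ((extender (N0 S Q) Q χ).comap θ).map (normalizerIn S P).subtype := by
        unfold extender
        rw [Subgroup.closure_le]
        rintro g ⟨hgS, hgN, h, hhS, hh⟩
        have hgNS : g ∈ normalizerIn S P := ⟨hgS, hgN⟩
        refine ⟨⟨g, hgNS⟩, ?_, rfl⟩
        show θ ⟨g, hgNS⟩ ∈ Subgroup.closure _
        apply Subgroup.subset_closure
        -- θ g normalizes Q
        have hconj : ∀ x : P, ∃ hx : g * (x : Ω) * g⁻¹ ∈ P,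
            θ ⟨g, hgNS⟩ * θ (Subgroup.inclusion hPN x) * (θ ⟨g, hgNS⟩)⁻¹ =
              θ (Subgroup.inclusion hPN ⟨g * (x : Ω) * g⁻¹, hx⟩) := by
          intro x
          have hx : g * (x : Ω) * g⁻¹ ∈ P := (Subgroup.mem_normalizer_iff.mp hgN _).mp x.2
          refine ⟨hx, ?_⟩
          rw [← map_inv, ← map_mul, ← map_mul]
          congr 1
        have hθgN : θ ⟨g, hgNS⟩ ∈ Subgroup.normalizer (Q : Set Ω) := by
          rw [Subgroup.mem_normalizer_iff]
          intro y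
          constructor
          · intro hy
            obtain ⟨x, hx⟩ := hQsurj ⟨y, hy⟩
            obtain ⟨hx', he⟩ := hconj x
            rw [← (show θ (Subgroup.inclusion hPN x) = y from hx), he]
            exact hθQ _
          · intro hy
            obtain ⟨x, hx⟩ := hQsurj ⟨_, hy⟩
            -- y = θ(g⁻¹ x g)
            have hx' : g⁻¹ * (x : Ω) * g⁻¹⁻¹ ∈ P :=
              (Subgroup.mem_normalizer_iff.mp (Subgroup.inv_mem _ hgN) _).mp x.2
            have e : y = θ (Subgroup.inclusion hPN ⟨g⁻¹ * (x : Ω) * g⁻¹⁻¹, hx'⟩) := by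
              have e1 : θ (Subgroup.inclusion hPN ⟨g⁻¹ * (x : Ω) * g⁻¹⁻¹, hx'⟩) =
                  (θ ⟨g, hgNS⟩)⁻¹ * θ (Subgroup.inclusion hPN x) * (θ ⟨g, hgNS⟩) := by
                rw [← map_inv, ← map_mul, ← map_mul]
                congr 1
                apply Subtype.ext
                simp
              rw [e1, hx]
              group
            rw [e]
            exact hθQ _
        have hhN : h ∈ Subgroup.normalizer (Q : Set Ω) :=
          witness_mem_normalizer φ hφr hgN hh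
        refine ⟨(mem_N0_iff S Q _).mpr ⟨hθS _, hθgN⟩, hθgN, h,
          (mem_N0_iff S Q _).mpr ⟨hhS, hhN⟩, ?_⟩
        intro y hy
        obtain ⟨x, hx⟩ := hQsurj y
        obtain ⟨hx', he⟩ := hconj x
        have ey : y = ⟨θ (Subgroup.inclusion hPN x), hθQ x⟩ := Subtype.ext hx.symm
        have e2 : (⟨θ ⟨g, hgNS⟩ * (y : Ω) * (θ ⟨g, hgNS⟩)⁻¹, hy⟩ : Q) =
            ⟨θ (Subgroup.inclusion hPN ⟨g * (x : Ω) * g⁻¹, hx'⟩), hθQ _⟩ := by
          apply Subtype.ext
          show θ ⟨g, hgNS⟩ * (y : Ω) * (θ ⟨g, hgNS⟩)⁻¹ = _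
          rw [← hx, he]
        rw [e2, hχθ, ey, hχθ]
        exact hh x hx'
      intro g hg
      obtain ⟨⟨g', hg'N⟩, hg', hgg'⟩ := hle hg
      have : g' = g := hgg'
      subst this
      exact hg'
    -- the composite
    have hθE : θ.comp (Subgroup.inclusion hEN) ∈ F.Hom (extender S P φ) := restrict_mem F hEN hθ
    let ρ : ↥(extender S P φ) →* Ω :=
      α'.comp ((θ.comp (Subgroup.inclusion hEN)).codRestrict (extender (N0 S Q) Q χ)
        (fun x => hmap x.1 x.2))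
    have hρ : ρ ∈ F.Hom (extender S P φ) := F.comp_mem hθE hα'F _
    refine ⟨ρ, hρ, ?_⟩
    intro x hP hN
    show α' ⟨θ (Subgroup.inclusion hEN ⟨x, hN⟩), _⟩ = φ ⟨x, hP⟩
    have hxQ : θ (Subgroup.inclusion hEN ⟨x, hN⟩) ∈ Q := hθQ ⟨x, hP⟩
    exact (hα'ext _ hxQ _).trans (hχθ ⟨x, hP⟩)

end Cfsg.Agent.Helper16.BC
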