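import Mathlib
import Cfsg.Prelude.Def_BaumannBlocks
import Cfsg.Agent.Helper15.CD

set_option autoImplicit false

namespace Cfsg.Agent.Helper15

open Subgroup
open scoped Pointwise

variable {P : Type*} [Group P]

/-- conjugate of a subgroup -/
abbrev cj (g : P) (H : Subgroup P) : Subgroup P := H.map (MulAut.conj g).toMonoidHom

theorem mem_cj {g x : P} {H : Subgroup P} : x ∈ cj g H ↔ g⁻¹ * x * g ∈ H := by
  constructor
  · rintro ⟨y, hy, rfl⟩
    simpa [MulAut.conj_apply, mul_assoc] using hy
  · intro h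
    refine ⟨g⁻¹ * x * g, h, ?_⟩
    simp [MulAut.conj_apply, mul_assoc]

theorem card_cj (g : P) (H : Subgroup P) : Nat.card ↥(cj g H) = Nat.card H :=
  (Nat.card_congr (H.equivMapOfInjective (MulAut.conj g).toMonoidHom
    (MulAut.conj g).injective).toEquiv).symm

theorem cz_cj (g : P) (H : Subgroup P) : cz (cj g H) = cj g (cz H) := by
  ext x
  rw [mem_cj, Subgroup.mem_centralizer_iff, Subgroup.mem_centralizer_iff]
  constructor
  · intro h y hy
    have := h (g * y * g⁻¹) (mem_cj.mpr (by simpa [mul_assoc] using hy))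
    calc y * (g⁻¹ * x * g) = g⁻¹ * ((g * y * g⁻¹) * x) * g := by group
      _ = g⁻¹ * (x * (g * y * g⁻¹)) * g := by rw [this]
      _ = _ := by group
  · intro h y hy
    have hy' : g⁻¹ * y * g ∈ H := mem_cj.mp hy
    have := h _ hy'
    calc y * x = g * ((g⁻¹ * y * g) * (g⁻¹ * x * g)) * g⁻¹ := by group
      _ = g * ((g⁻¹ * x * g) * (g⁻¹ * y * g)) * g⁻¹ := by rw [this]
      _ = _ := by group

theorem cdm_cj (g : P) (H : Subgroup P) : cdm (cj g H) = cdm H := by
  unfold cdm
  rw [cz_cj, card_cj, card_cj]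

theorem cdm_bot : cdm (⊥ : Subgroup P) = Nat.card P := by
  unfold cdm
  have : cz (⊥ : Subgroup P) = ⊤ := by
    rw [eq_top_iff]
    intro x _
    rw [Subgroup.mem_centralizer_iff]
    intro h hh
    have : h = 1 := hh
    subst this
    simp
  rw [this]
  simp

theorem cdm_top : cdm (⊤ : Subgroup P) = Nat.card P * Nat.card ↥(Subgroup.center P) := by
  unfold cdm
  have : cz (⊤ : Subgroup P) = Subgroup.center P := by
    show Subgroup.centralizer ((⊤ : Subgroup P) : Set P) = _
    rw [Subgroup.coe_top, Subgroup.centralizer_univ]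
  rw [this]
  simp

/-- In a finite non-abelian simple group the only measure-largest subgroups are `⊥` and `⊤`. -/
theorem centralizerLarge_simple [Finite P] [IsSimpleGroup P] (H : Subgroup P)
    (hH : Cfsg.IsCentralizerLarge H) (hbot : H ≠ ⊥) : H = ⊤ := by
  by_contra htop
  -- pick a maximal measure-largest proper subgroup above H
  have hfin : {K : Subgroup P | Cfsg.IsCentralizerLarge K ∧ K ≠ ⊤ ∧ H ≤ K}.Finite := Set.toFinite _
  obtain ⟨M, hM⟩ := hfin.exists_maximal ⟨H, hH, htop, le_rfl⟩
  obtain ⟨⟨hM1, hM2, hM3⟩, hMmax⟩ := hM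
  have hconj : ∀ g : P, cj g M ≤ M := by
    intro g
    have hcl : Cfsg.IsCentralizerLarge (cj g M) := by
      rw [isCentralizerLarge_iff, cdm_cj]; exact hM1
    obtain ⟨h1, -, h3, -, -⟩ := cd_lattice M (cj g M) hM1 hcl
    by_cases hT : M ⊔ cj g M = ⊤
    · exfalso
      have hprod := coe_sup_eq_mul_of_card_eq M (cj g M) h3
      rw [hT] at hprod
      have hg : g⁻¹ ∈ ((⊤ : Subgroup P) : Set P) := Subgroup.mem_top _
      rw [hprod] at hg
      obtain ⟨m, hm, c, hc, hmc⟩ := hg
      have hc' : g⁻¹ * c * g ∈ M := mem_cj.mp hc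
      have hgM : g ∈ M := by
        have e : g = m⁻¹ * (g⁻¹ * c * g)⁻¹ := by
          have : m * c = g⁻¹ := hmc
          have hc2 : c = m⁻¹ * g⁻¹ := by rw [← this]; group
          rw [hc2]; group
        rw [e]
        exact M.mul_mem (M.inv_mem hm) (M.inv_mem hc')
      have : cj g M ≤ M := by
        intro x hx
        have hx' := mem_cj.mp hx
        have : x = g * (g⁻¹ * x * g) * g⁻¹ := by group
        rw [this]
        exact M.mul_mem (M.mul_mem hgM hx') (M.inv_mem hgM)
      apply hM2
      rw [← hT]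
      exact (sup_eq_left.mpr this).symm
    · have hle : M ≤ M ⊔ cj g M := le_sup_left
      have := hMmax ⟨h1, hT, le_trans hM3 hle⟩ hle
      exact le_trans le_sup_right this
  have hnorm : M.Normal := by
    constructor
    intro n hn g
    apply hconj g
    exact mem_cj.mpr (by simpa [mul_assoc] using hn)
  rcases IsSimpleGroup.eq_bot_or_eq_top_of_normal M hnorm with h | h
  · apply hbot
    rw [eq_bot_iff, ← h]; exact hM3
  · exact hM2 h

theorem center_eq_bot_of_simple [IsSimpleGroup P] (hP : ¬ IsMulCommutative P) :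
    Subgroup.center P = ⊥ := by
  rcases IsSimpleGroup.eq_bot_or_eq_top_of_normal (Subgroup.center P) inferInstance with h | h
  · exact h
  · exfalso
    apply hP
    refine ⟨⟨fun a b => ?_⟩⟩
    have : a ∈ Subgroup.center P := by rw [h]; trivial
    exact ((Subgroup.mem_center_iff.mp this) b).symm

theorem card_mul_card_centralizer_lt [Finite P] [IsSimpleGroup P] (hP : ¬ IsMulCommutative P)
    (A : Subgroup P) (hA1 : A ≠ ⊥) (hA2 : A ≠ ⊤) :
    Nat.card A * Nat.card ↥(Subgroup.centralizer (A : Set P)) < Nat.card P := by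
  have hmax : Cfsg.maxCentralizerProduct P = Nat.card P := by
    obtain ⟨H, hH⟩ := exists_cdm_eq_max (P := P)
    by_cases hb : H = ⊥
    · rw [← hH, hb, cdm_bot]
    · have := centralizerLarge_simple H hH hb
      rw [← hH, this, cdm_top, center_eq_bot_of_simple hP]
      simp
  have hle : cdm A ≤ Nat.card P := hmax ▸ cdm_le_max A
  rcases lt_or_eq_of_le hle with h | h
  · exact h
  · exfalso
    have : Cfsg.IsCentralizerLarge A := by
      rw [isCentralizerLarge_iff, h, hmax]
    exact hA2 (centralizerLarge_simple A this hA1)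

end Cfsg.Agent.Helper15
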