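import Cfsg.Agent.Helper15.CL3

/-! # Centrally large subgroups and the Thompson subgroup: parts 1, 3, 4 of `S3008`

`J = J(P)` (abelian version), `Z(J) = J ⊓ C(J)`.  For centrally large `Q`, `Q J` is centrally large and
`C(Z(J)) ≤ Q J`; if every minimal centrally large subgroup is abelian then `C(Z(J)) = J`; if `J = P` and
`d(P)² = |P| |Z(P)|` then every minimal centrally large subgroup is abelian.  `s3008_of_part2` assembles the frozen
statement of `S3008` from its second part. -/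

set_option autoImplicit false

namespace Cfsg.Agent.Helper15

open Subgroup

variable {P : Type*} [Group P]

/-- `Q J(P)` is centrally large for centrally large `Q`. -/
theorem cl_sup_thompsonA [Finite P] (Q : Subgroup P) (hQ : Cfsg.IsCentrallyLarge Q) :
    Cfsg.IsCentrallyLarge (Q ⊔ Cfsg.thompsonSubgroupA P) := by
  obtain ⟨A₀, hA₀⟩ := exists_maxAbelian (P := P)
  set F : Set (Subgroup P) := (fun A => Q ⊔ A) '' Cfsg.maxAbelianSubgroups P with hF
  have hFne : F.Nonempty := ⟨Q ⊔ A₀, A₀, hA₀, rfl⟩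
  have hFcl : ∀ R ∈ F, R ∈ {R : Subgroup P | Cfsg.IsCentrallyLarge R} := by
    rintro R ⟨A, hA, rfl⟩
    exact (cl_maxAbelian_all Q A hQ hA).2.1
  have h1 : sSup F ∈ {R : Subgroup P | Cfsg.IsCentrallyLarge R} :=
    supClosed_cl.sSup_mem_of_nonempty (Set.toFinite _) hFne hFcl
  have h2 : sSup F = Q ⊔ Cfsg.thompsonSubgroupA P := by
    apply le_antisymm
    · apply sSup_le
      rintro R ⟨A, hA, rfl⟩
      exact sup_le_sup_left (le_sSup hA) Q
    · apply sup_le
      · exact le_trans le_sup_left (le_sSup (⟨A₀, hA₀, rfl⟩ : Q ⊔ A₀ ∈ F))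
      · unfold Cfsg.thompsonSubgroupA
        apply sSup_le
        intro A hA
        exact le_trans le_sup_right (le_sSup (⟨A, hA, rfl⟩ : Q ⊔ A ∈ F))
  rw [← h2]
  exact h1

/-- Part 1 of `S3008`: `C(Z(J)) ≤ Q J` for every centrally large `Q`. -/
theorem cz_center_thompsonA_le_sup [Finite P] (Q : Subgroup P) (hQ : Cfsg.IsCentrallyLarge Q) :
    cz (Cfsg.thompsonSubgroupA P ⊓ cz (Cfsg.thompsonSubgroupA P)) ≤ Q ⊔ Cfsg.thompsonSubgroupA P := by
  set J := Cfsg.thompsonSubgroupA P with hJ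
  set S := Q ⊔ J with hS
  have hScl : Cfsg.IsCentrallyLarge S := cl_sup_thompsonA Q hQ
  obtain ⟨hS1, hS2⟩ := cl_imp S hScl
  obtain ⟨-, hS3⟩ := cd_centralizer S hS1
  have hJS : J ≤ S := le_sup_right
  obtain ⟨A, hA⟩ := exists_maxAbelian (P := P)
  have hAJ : A ≤ J := le_sSup hA
  have h1 : cz S ≤ J ⊓ cz J := by
    refine le_inf ?_ (cz_anti hJS)
    calc cz S ≤ cz A := cz_anti (le_trans hAJ hJS)
      _ = A := cz_maxAbelian hA
      _ ≤ J := hAJ
  calc cz (J ⊓ cz J) ≤ cz (cz S) := cz_anti h1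
    _ = S := hS3.symm

/-- Part 4 of `S3008`: if every minimal centrally large subgroup is abelian then `C(Z(J)) = J`. -/
theorem cz_center_thompsonA_eq_of_mcl_abelian [Finite P]
    (h : ∀ Q : Subgroup P, Cfsg.IsMinimalCentrallyLarge Q → IsMulCommutative ↥Q) :
    cz (Cfsg.thompsonSubgroupA P ⊓ cz (Cfsg.thompsonSubgroupA P)) = Cfsg.thompsonSubgroupA P := by
  obtain ⟨Q₀, hQ₀⟩ := exists_cl (P := P)
  obtain ⟨R, -, hR⟩ := exists_mcl_le Q₀ hQ₀
  have hRA : R ∈ Cfsg.maxAbelianSubgroups P := (mcl_abelian R hR (h R hR) R).mp hR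
  have hRJ : R ≤ Cfsg.thompsonSubgroupA P := le_sSup hRA
  apply le_antisymm
  · calc cz (Cfsg.thompsonSubgroupA P ⊓ cz (Cfsg.thompsonSubgroupA P))
        ≤ R ⊔ Cfsg.thompsonSubgroupA P := cz_center_thompsonA_le_sup R hR.1
      _ = Cfsg.thompsonSubgroupA P := sup_eq_right.mpr hRJ
  · exact le_trans (le_cz_cz _) (cz_anti inf_le_right)

/-- Part 3 of `S3008`: if `J(P) = P` and `d(P)² = |P| |Z(P)|` then the minimal centrally large subgroups
are abelian. -/
theorem mcl_abelian_of_thompsonA_top [Finite P] (hJ : Cfsg.thompsonSubgroupA P = ⊤)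
    (hd : ∀ A ∈ Cfsg.maxAbelianSubgroups P,
      Nat.card ↥A ^ 2 = Nat.card P * Nat.card ↥(Subgroup.center P)) :
    ∀ Q : Subgroup P, Cfsg.IsMinimalCentrallyLarge Q → IsMulCommutative ↥Q := by
  have hS : Cfsg.centrallyLargeJoin P = ⊤ := by
    rw [← top_le_iff, ← hJ]
    exact thompsonA_le_clJoin
  have htop : Cfsg.IsCentrallyLarge (⊤ : Subgroup P) := by
    rw [← hS]
    exact cl_centrallyLargeJoin
  rw [isCentrallyLarge_iff] at htop
  have hclmtop : clm (⊤ : Subgroup P) = Nat.card P * Nat.card ↥(Subgroup.center P) := by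
    unfold clm
    have h1 : Nat.card ↥(⊤ : Subgroup P) = Nat.card P := Subgroup.card_top
    have h2 : (⊤ : Subgroup P) ⊓ cz (⊤ : Subgroup P) = Subgroup.center P := by
      rw [top_inf_eq]
      show Subgroup.centralizer ((⊤ : Subgroup P) : Set P) = Subgroup.center P
      rw [Subgroup.coe_top, Subgroup.centralizer_univ]
    rw [h1, h2]
  obtain ⟨A, hA⟩ := exists_maxAbelian (P := P)
  have hAcl : Cfsg.IsCentrallyLarge A := by
    rw [isCentrallyLarge_iff]
    unfold clm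
    rw [card_inf_cz_of_comm hA.1, ← htop, hclmtop, ← hd A hA, pow_two]
  obtain ⟨R, hRA, hR⟩ := exists_mcl_le A hAcl
  have hRab : IsMulCommutative ↥R := by
    rw [isMulCommutative_iff_le_cz]
    calc R ≤ A := hRA
      _ ≤ cz A := (isMulCommutative_iff_le_cz A).mp hA.1
      _ ≤ cz R := cz_anti hRA
  intro Q hQ
  exact ((mcl_abelian R hR hRab Q).mp hQ).1

/-- The frozen statement of `S3008`, from its second part. -/
theorem s3008_of_part2 [Finite P]
    (h2 : ∃ Q : Subgroup P, Cfsg.IsMinimalCentrallyLarge Q ∧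
      Cfsg.thompsonSubgroupA P ≤ Subgroup.normalizer (Q : Set P) ∧
      Cfsg.minimalCentrallyLargeJoin P ≤ Subgroup.normalizer (Q : Set P)) :
    (∀ Q : Subgroup P, Cfsg.IsCentrallyLarge Q → Subgroup.centralizer ((Cfsg.thompsonSubgroupA P ⊓ Subgroup.centralizer (Cfsg.thompsonSubgroupA P : Set P) : Subgroup P) : Set P) ≤ Q ⊔ Cfsg.thompsonSubgroupA P) ∧ (∃ Q : Subgroup P, Cfsg.IsMinimalCentrallyLarge Q ∧ Cfsg.thompsonSubgroupA P ≤ Subgroup.normalizer (Q : Set P) ∧ Cfsg.minimalCentrallyLargeJoin P ≤ Subgroup.normalizer (Q : Set P)) ∧ (Cfsg.thompsonSubgroupA P = ⊤ → (∀ A ∈ Cfsg.maxAbelianSubgroups P, Nat.card ↥A ^ 2 = Nat.card P * Nat.card ↥(Subgroup.center P)) → ∀ Q : Subgroup P, Cfsg.IsMinimalCentrallyLarge Q → IsMulCommutative ↥Q) ∧ ((∀ Q : Subgroup P, Cfsg.IsMinimalCentrallyLarge Q → IsMulCommutative ↥Q) → Subgroup.centralizer ((Cfsg.thompsonSubgroupA P ⊓ Subgroup.centralizer (Cfsg.thompsonSubgroupA P : Set P) : Subgroup P) : Set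 P) = Cfsg.thompsonSubgroupA P) :=
  ⟨fun Q hQ => cz_center_thompsonA_le_sup Q hQ, h2,
    fun hJ hd => mcl_abelian_of_thompsonA_top hJ hd,
    fun h => cz_center_thompsonA_eq_of_mcl_abelian h⟩

end Cfsg.Agent.Helper15
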