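import Cfsg.Agent.Helper15.CL4

/-! # Centrally large subgroups: reduction of part 2 of `S3008` to a `J`-invariant member

* `cz_cl_le_thompsonA` : `Z(Q) ≤ J(P)` for centrally large `Q`;
* `mclJoin_le_normalizer` : a minimal centrally large `Q` normalised by `J(P)` is normalised by `P_MCL`;
* `cz_mcl_maximal`, `mcl_cz_of_maximal` : `Q ↦ C(Q)`, `B ↦ C(B)` match the minimal centrally large subgroups with the
  maximal abelian members of the Chermak–Delgado lattice;
* `s3008_part2_of_invariant` : part 2 from a `J`-invariant maximal abelian member of the lattice. -/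

set_option autoImplicit false

namespace Cfsg.Agent.Helper15

open Subgroup

variable {P : Type*} [Group P]

/-- `Z(Q) = C(Q) ≤ J(P)` for centrally large `Q`. -/
theorem cz_cl_le_thompsonA [Finite P] (Q : Subgroup P) (hQ : Cfsg.IsCentrallyLarge Q) :
    cz Q ≤ Cfsg.thompsonSubgroupA P := by
  obtain ⟨A, hA⟩ := exists_maxAbelian (P := P)
  obtain ⟨-, -, h3, -⟩ := cl_sup_maxAbelian Q A hQ hA
  obtain ⟨-, hQ2⟩ := cl_imp Q hQ
  calc cz Q = Q ⊓ cz Q := hQ2
    _ ≤ (Q ⊓ A) ⊔ (Q ⊓ cz Q) := le_sup_right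
    _ ≤ Cfsg.thompsonSubgroupA P := le_sSup h3

/-- the normaliser of a subgroup normalises its centraliser -/
theorem normalizer_le_normalizer_cz (B : Subgroup P) :
    Subgroup.normalizer (B : Set P) ≤ Subgroup.normalizer (cz B : Set P) := by
  intro g hg
  have key : ∀ g : P, g ∈ Subgroup.normalizer (B : Set P) → ∀ x ∈ cz B, g * x * g⁻¹ ∈ cz B := by
    intro g hg x hx
    rw [mem_cz_iff] at hx ⊢
    intro b hb
    have hb' : g⁻¹ * b * g ∈ B := by
      have := (Subgroup.mem_normalizer_iff'.mp hg (g⁻¹ * b)).mpr (by simpa using hb)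
      simpa [mul_assoc] using this
    have h1 := hx _ hb'
    calc b * (g * x * g⁻¹) = g * ((g⁻¹ * b * g) * x) * g⁻¹ := by group
      _ = g * (x * (g⁻¹ * b * g)) * g⁻¹ := by rw [h1]
      _ = g * x * g⁻¹ * b := by group
  rw [Subgroup.mem_normalizer_iff]
  intro x
  constructor
  · intro hx
    exact key g hg x hx
  · intro hx
    have := key g⁻¹ (Subgroup.inv_mem _ hg) _ hx
    simpa [mul_assoc] using this

/-- A minimal centrally large subgroup normalised by `J(P)` is normalised by `P_MCL`. -/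
theorem mclJoin_le_normalizer [Finite P] (Q : Subgroup P) (hQ : Cfsg.IsMinimalCentrallyLarge Q)
    (hJ : Cfsg.thompsonSubgroupA P ≤ Subgroup.normalizer (Q : Set P)) :
    Cfsg.minimalCentrallyLargeJoin P ≤ Subgroup.normalizer (Q : Set P) := by
  unfold Cfsg.minimalCentrallyLargeJoin
  apply sSup_le
  intro R hR
  have h1 : (R ⊓ Q) ⊔ cz R = R := mcl_eq_inf_sup_center R Q hR hQ.1
  rw [← h1]
  apply sup_le
  · exact le_trans inf_le_right Subgroup.le_normalizer
  · exact le_trans (cz_cl_le_thompsonA R hR.1) hJ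

/-- Part 2 of `S3008` from a minimal centrally large subgroup normalised by `J(P)`. -/
theorem s3008_part2_of_mcl [Finite P] (Q : Subgroup P) (hQ : Cfsg.IsMinimalCentrallyLarge Q)
    (hJ : Cfsg.thompsonSubgroupA P ≤ Subgroup.normalizer (Q : Set P)) :
    ∃ Q : Subgroup P, Cfsg.IsMinimalCentrallyLarge Q ∧
      Cfsg.thompsonSubgroupA P ≤ Subgroup.normalizer (Q : Set P) ∧
      Cfsg.minimalCentrallyLargeJoin P ≤ Subgroup.normalizer (Q : Set P) :=
  ⟨Q, hQ, hJ, mclJoin_le_normalizer Q hQ hJ⟩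

/-- the centraliser of an abelian member of the Chermak–Delgado lattice is centrally large -/
theorem cl_cz_of_abelian [Finite P] (B : Subgroup P) (hBL : Cfsg.IsCentralizerLarge B)
    (hBab : IsMulCommutative ↥B) : Cfsg.IsCentrallyLarge (cz B) := by
  obtain ⟨h1, h2⟩ := cd_centralizer B hBL
  rw [cl_iff_of_centralizerLarge _ h1, ← h2]
  exact (isMulCommutative_iff_le_cz B).mp hBab

/-- the centre of a centrally large subgroup is an abelian member of the Chermak–Delgado lattice -/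
theorem cz_cl_abelian [Finite P] (Q : Subgroup P) (hQ : Cfsg.IsCentrallyLarge Q) :
    Cfsg.IsCentralizerLarge (cz Q) ∧ IsMulCommutative ↥(cz Q) := by
  obtain ⟨hQ1, hQ2⟩ := cl_imp Q hQ
  obtain ⟨h1, h2⟩ := cd_centralizer Q hQ1
  refine ⟨h1, ?_⟩
  rw [isMulCommutative_iff_le_cz, ← h2, hQ2]
  exact inf_le_left

/-- `Z(Q)` is a maximal abelian member of the Chermak–Delgado lattice, for `Q` minimal centrally large. -/
theorem cz_mcl_maximal [Finite P] (Q : Subgroup P) (hQ : Cfsg.IsMinimalCentrallyLarge Q)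
    (B' : Subgroup P) (hBL : Cfsg.IsCentralizerLarge B') (hBab : IsMulCommutative ↥B')
    (hle : cz Q ≤ B') : B' = cz Q := by
  obtain ⟨hQ1, -⟩ := cl_imp Q hQ.1
  obtain ⟨-, hQcc⟩ := cd_centralizer Q hQ1
  obtain ⟨-, hBcc⟩ := cd_centralizer B' hBL
  have h1 : Cfsg.IsCentrallyLarge (cz B') := cl_cz_of_abelian B' hBL hBab
  have h2 : cz B' ≤ Q := by
    calc cz B' ≤ cz (cz Q) := cz_anti hle
      _ = Q := hQcc.symm
  have h3 : cz B' = Q := hQ.2 _ h2 h1
  rw [hBcc, h3]

/-- `C(B)` is minimal centrally large, for `B` a maximal abelian member of the Chermak–Delgado lattice. -/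
theorem mcl_cz_of_maximal [Finite P] (B : Subgroup P) (hBL : Cfsg.IsCentralizerLarge B)
    (hBab : IsMulCommutative ↥B)
    (hmax : ∀ B' : Subgroup P, Cfsg.IsCentralizerLarge B' → IsMulCommutative ↥B' → B ≤ B' → B' = B) :
    Cfsg.IsMinimalCentrallyLarge (cz B) := by
  obtain ⟨-, hBcc⟩ := cd_centralizer B hBL
  refine ⟨cl_cz_of_abelian B hBL hBab, fun R hle hR => ?_⟩
  obtain ⟨hR1, -⟩ := cl_imp R hR
  obtain ⟨-, hRcc⟩ := cd_centralizer R hR1
  obtain ⟨h1, h2⟩ := cz_cl_abelian R hR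
  have h3 : B ≤ cz R := by
    calc B = cz (cz B) := hBcc
      _ ≤ cz R := cz_anti hle
  have h4 : cz R = B := hmax _ h1 h2 h3
  rw [hRcc, h4]

/-- Part 2 of `S3008` from a maximal abelian member of the Chermak–Delgado lattice normalised by `J(P)`. -/
theorem s3008_part2_of_invariant [Finite P] (B : Subgroup P) (hBL : Cfsg.IsCentralizerLarge B)
    (hBab : IsMulCommutative ↥B)
    (hmax : ∀ B' : Subgroup P, Cfsg.IsCentralizerLarge B' → IsMulCommutative ↥B' → B ≤ B' → B' = B)
    (hJ : Cfsg.thompsonSubgroupA P ≤ Subgroup.normalizer (B : Set P)) :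
    ∃ Q : Subgroup P, Cfsg.IsMinimalCentrallyLarge Q ∧
      Cfsg.thompsonSubgroupA P ≤ Subgroup.normalizer (Q : Set P) ∧
      Cfsg.minimalCentrallyLargeJoin P ≤ Subgroup.normalizer (Q : Set P) :=
  s3008_part2_of_mcl (cz B) (mcl_cz_of_maximal B hBL hBab hmax)
    (le_trans hJ (normalizer_le_normalizer_cz B))

end Cfsg.Agent.Helper15
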