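import Cfsg.Agent.Helper15.CL5

/-! # Maximal abelian members of the Chermak–Delgado lattice

`IsAbCD B` : `B` is an abelian member of the Chermak–Delgado lattice `L` of `P`; `IsMaxAbCD B` : a maximal one.
All maximal ones have the same order (`maxAbCD_card_eq`), every abelian member lies in a maximal one
(`exists_maxAbCD_ge`), an abelian member of that order is maximal (`maxAbCD_of_card_eq`), and
`(B ⊓ C(C₁)) C₁` is a maximal one for `B` maximal and `C₁` abelian in `L` (`maxAbCD_replace`). -/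

set_option autoImplicit false

namespace Cfsg.Agent.Helper15

open Subgroup

variable {P : Type*} [Group P]

/-- an abelian member of the Chermak–Delgado lattice -/
def IsAbCD (B : Subgroup P) : Prop := Cfsg.IsCentralizerLarge B ∧ IsMulCommutative ↥B

/-- a maximal abelian member of the Chermak–Delgado lattice -/
def IsMaxAbCD (B : Subgroup P) : Prop :=
  IsAbCD B ∧ ∀ B' : Subgroup P, IsAbCD B' → B ≤ B' → B' = B

theorem IsMaxAbCD.mcl [Finite P] {B : Subgroup P} (hB : IsMaxAbCD B) :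
    Cfsg.IsMinimalCentrallyLarge (cz B) :=
  mcl_cz_of_maximal B hB.1.1 hB.1.2 (fun B' h1 h2 h3 => hB.2 B' ⟨h1, h2⟩ h3)

theorem IsAbCD.cz_cz [Finite P] {B : Subgroup P} (hB : IsAbCD B) : cz (cz B) = B :=
  ((cd_centralizer B hB.1).2).symm

theorem IsAbCD.le_cz {B : Subgroup P} (hB : IsAbCD B) : B ≤ cz B :=
  (isMulCommutative_iff_le_cz B).mp hB.2

theorem isMaxAbCD_cz_of_mcl [Finite P] {Q : Subgroup P} (hQ : Cfsg.IsMinimalCentrallyLarge Q) :
    IsMaxAbCD (cz Q) :=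
  ⟨cz_cl_abelian Q hQ.1, fun B' hB' hle => cz_mcl_maximal Q hQ B' hB'.1 hB'.2 hle⟩

/-- all maximal abelian members of the lattice have the same order -/
theorem maxAbCD_card_eq [Finite P] {B B' : Subgroup P} (hB : IsMaxAbCD B) (hB' : IsMaxAbCD B') :
    Nat.card B = Nat.card B' := by
  have h := (mcl_card_eq (cz B) (cz B') hB.mcl hB'.mcl).2
  rwa [hB.1.cz_cz, hB'.1.cz_cz] at h

/-- every abelian member of the lattice lies in a maximal one -/
theorem exists_maxAbCD_ge [Finite P] {B : Subgroup P} (hB : IsAbCD B) :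
    ∃ B' : Subgroup P, IsMaxAbCD B' ∧ B ≤ B' := by
  have hfin : {X : Subgroup P | IsAbCD X}.Finite := Set.toFinite _
  obtain ⟨B', hle, hmax⟩ := hfin.exists_le_maximal (a := B) hB
  refine ⟨B', ⟨hmax.1, fun X hX hBX => ?_⟩, hle⟩
  exact le_antisymm (hmax.2 hX hBX) hBX

theorem exists_maxAbCD [Finite P] : ∃ B : Subgroup P, IsMaxAbCD B := by
  obtain ⟨Q₀, hQ₀⟩ := exists_cl (P := P)
  obtain ⟨R, -, hR⟩ := exists_mcl_le Q₀ hQ₀
  exact ⟨cz R, isMaxAbCD_cz_of_mcl hR⟩

/-- an abelian member of the lattice of the order of the maximal ones is maximal -/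
theorem maxAbCD_of_card_eq [Finite P] {B B₁ : Subgroup P} (hB : IsMaxAbCD B) (hB₁ : IsAbCD B₁)
    (hcard : Nat.card B₁ = Nat.card B) : IsMaxAbCD B₁ := by
  obtain ⟨B₂, hB₂, hle⟩ := exists_maxAbCD_ge hB₁
  have h1 : Nat.card B₂ = Nat.card B₁ := by rw [hcard]; exact maxAbCD_card_eq hB₂ hB
  have h2 : B₁ = B₂ := eq_of_le_of_card_ge' hle (le_of_eq h1)
  rw [h2]; exact hB₂

/-- an abelian member of the lattice centralising a maximal one lies in it -/
theorem IsMaxAbCD.le_of_le_cz [Finite P] {B X : Subgroup P} (hB : IsMaxAbCD B) (hX : IsAbCD X)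
    (hXB : X ≤ cz B) : X ≤ B := by
  have h1 : IsAbCD (X ⊔ B) :=
    ⟨(cd_lattice X B hX.1 hB.1.1).1, isMulCommutative_sup hX.2 hB.1.2 hXB⟩
  have h2 := hB.2 _ h1 le_sup_right
  rw [← h2]; exact le_sup_left

theorem arith_replace (b c cc bc bcc j b1 : ℕ) (hcc : 0 < cc) (hbc : 0 < bc)
    (e1 : b * cc = j * bcc) (e2 : j * bc = cc * c) (e3 : bcc * c = b1 * bc) : b1 = b := by
  have h1 : b * cc * bc = bcc * (cc * c) := by rw [e1, ← e2]; ring
  have h2 : b * (cc * bc) = b1 * (cc * bc) := by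
    calc b * (cc * bc) = b * cc * bc := by ring
      _ = bcc * (cc * c) := h1
      _ = cc * (bcc * c) := by ring
      _ = cc * (b1 * bc) := by rw [e3]
      _ = b1 * (cc * bc) := by ring
  exact (Nat.eq_of_mul_eq_mul_right (Nat.mul_pos hcc hbc) h2).symm

/-- `(B ⊓ C(C₁)) C₁` is a maximal abelian member of the lattice, for `B` maximal and `C₁` abelian in the lattice -/
theorem maxAbCD_replace [Finite P] {B C₁ : Subgroup P} (hB : IsMaxAbCD B) (hC : IsAbCD C₁) :
    IsMaxAbCD ((B ⊓ cz C₁) ⊔ C₁) := by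
  obtain ⟨hCc, hCcc⟩ := cd_centralizer C₁ hC.1
  obtain ⟨hj, hm, e1, -, -⟩ := cd_lattice B (cz C₁) hB.1.1 hCc
  obtain ⟨h1, -, e3, -, -⟩ := cd_lattice (B ⊓ cz C₁) C₁ hm hC.1
  have hab : IsAbCD ((B ⊓ cz C₁) ⊔ C₁) := by
    refine ⟨h1, isMulCommutative_sup ?_ hC.2 inf_le_right⟩
    rw [isMulCommutative_iff_le_cz]
    exact le_trans inf_le_left (le_trans hB.1.le_cz (cz_anti inf_le_left))
  refine maxAbCD_of_card_eq hB hab ?_
  -- `C(B ⊔ C(C₁)) = B ⊓ C₁`
  have h2 : cz (B ⊔ cz C₁) = B ⊓ C₁ := by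
    rw [cz_sup, ← hCcc]
    apply le_antisymm
    · refine le_inf ?_ inf_le_right
      have hX : IsAbCD (cz B ⊓ C₁) := by
        refine ⟨(cd_lattice (cz B) C₁ (cd_centralizer B hB.1.1).1 hC.1).2.1, ?_⟩
        rw [isMulCommutative_iff_le_cz]
        exact le_trans inf_le_right (le_trans hC.le_cz (cz_anti inf_le_right))
      exact hB.le_of_le_cz hX inf_le_left
    · exact inf_le_inf_right _ hB.1.le_cz
  have h3 : (B ⊓ cz C₁) ⊓ C₁ = B ⊓ C₁ := by
    rw [inf_assoc, inf_eq_right.mpr hC.le_cz]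
  -- measures
  have e2 : Nat.card ↥(B ⊔ cz C₁) * Nat.card ↥(B ⊓ C₁) = Nat.card ↥(cz C₁) * Nat.card C₁ := by
    have ha := hj
    have hb := hCc
    rw [isCentralizerLarge_iff] at ha hb
    unfold cdm at ha hb
    rw [h2] at ha
    rw [← hCcc] at hb
    rw [ha, hb]
  rw [h3] at e3
  exact arith_replace (Nat.card B) (Nat.card C₁) (Nat.card ↥(cz C₁)) (Nat.card ↥(B ⊓ C₁))
    (Nat.card ↥(B ⊓ cz C₁)) (Nat.card ↥(B ⊔ cz C₁)) _ Nat.card_pos Nat.card_pos e1 e2 e3

end Cfsg.Agent.Helper15
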