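import Cfsg.Agent.Helper15.CL6

/-! # Conjugates in the Chermak–Delgado lattice

Conjugates are written `MulAut.conj g • H`.  The Chermak–Delgado lattice, its maximal abelian members and the abelian subgroups of
largest order are permuted by conjugation; finite joins and meets of members of the lattice are members;
the normaliser-condition step of part 2 of `S3008` (`exists_maxAbelian_le_normalizer`). -/

set_option autoImplicit false

namespace Cfsg.Agent.Helper15

open Subgroup
open scoped Pointwise

variable {P : Type*} [Group P]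

theorem mem_conj_smul_iff {g x : P} {H : Subgroup P} : x ∈ MulAut.conj g • H ↔ g⁻¹ * x * g ∈ H := by
  rw [Subgroup.mem_pointwise_smul_iff_inv_smul_mem, ← map_inv, MulAut.smul_def, MulAut.conj_apply,
    inv_inv]

theorem conj_mem_conj_smul {g x : P} {H : Subgroup P} (hx : x ∈ H) : g * x * g⁻¹ ∈ MulAut.conj g • H := by
  rw [mem_conj_smul_iff]
  simpa [mul_assoc] using hx

theorem conj_smul_conj_smul (g h : P) (H : Subgroup P) :
    MulAut.conj g • MulAut.conj h • H = MulAut.conj (g * h) • H := by
  rw [map_mul, mul_smul]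

theorem conj_one_smul (H : Subgroup P) : MulAut.conj (1 : P) • H = H := by
  rw [map_one, one_smul]

theorem conj_inv_smul_conj_smul (g : P) (H : Subgroup P) :
    MulAut.conj g⁻¹ • MulAut.conj g • H = H := by
  rw [conj_smul_conj_smul, inv_mul_cancel, conj_one_smul]

theorem conj_smul_conj_inv_smul (g : P) (H : Subgroup P) :
    MulAut.conj g • MulAut.conj g⁻¹ • H = H := by
  rw [conj_smul_conj_smul, mul_inv_cancel, conj_one_smul]

theorem card_conj_smul (g : P) (H : Subgroup P) : Nat.card ↥(MulAut.conj g • H) = Nat.card ↥H :=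
  (Nat.card_congr (Subgroup.equivSMul (MulAut.conj g) H).toEquiv).symm

theorem conj_smul_le_iff {g : P} {H K : Subgroup P} :
    MulAut.conj g • H ≤ K ↔ H ≤ MulAut.conj g⁻¹ • K := by
  rw [Subgroup.pointwise_smul_subset_iff, map_inv]

theorem le_conj_smul_iff {g : P} {H K : Subgroup P} :
    H ≤ MulAut.conj g • K ↔ MulAut.conj g⁻¹ • H ≤ K := by
  rw [Subgroup.subset_pointwise_smul_iff, map_inv]

theorem mem_normalizer_iff_conj_smul_eq {g : P} {H : Subgroup P} :
    g ∈ Subgroup.normalizer (H : Set P) ↔ MulAut.conj g • H = H := by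
  constructor
  · intro hg
    ext x
    rw [mem_conj_smul_iff]
    have hg' := Subgroup.inv_mem _ hg
    rw [Subgroup.mem_normalizer_iff] at hg'
    rw [hg' x, inv_inv]
  · intro h
    rw [Subgroup.mem_normalizer_iff]
    intro x
    constructor
    · intro hx
      rw [← h]
      exact conj_mem_conj_smul hx
    · intro hx
      rw [← h, mem_conj_smul_iff] at hx
      simpa [mul_assoc] using hx

theorem conj_smul_eq_of_le_normalizer {A H : Subgroup P} (h : A ≤ Subgroup.normalizer (H : Set P))
    {a : P} (ha : a ∈ A) : MulAut.conj a • H = H :=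
  mem_normalizer_iff_conj_smul_eq.mp (h ha)

/-- it suffices to check `a • H ≤ H` for all `a` in a subgroup -/
theorem le_normalizer_of_conj_smul_le {A H : Subgroup P}
    (h : ∀ a ∈ A, MulAut.conj a • H ≤ H) : A ≤ Subgroup.normalizer (H : Set P) := by
  intro a ha
  rw [mem_normalizer_iff_conj_smul_eq]
  apply le_antisymm (h a ha)
  rw [le_conj_smul_iff]
  exact h a⁻¹ (A.inv_mem ha)

theorem cz_conj_smul (g : P) (H : Subgroup P) : cz (MulAut.conj g • H) = MulAut.conj g • cz H := by
  ext x
  rw [mem_conj_smul_iff, mem_cz_iff, mem_cz_iff]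
  constructor
  · intro hx h hh
    have := hx (g * h * g⁻¹) (conj_mem_conj_smul hh)
    calc h * (g⁻¹ * x * g) = g⁻¹ * ((g * h * g⁻¹) * x) * g := by group
      _ = g⁻¹ * (x * (g * h * g⁻¹)) * g := by rw [this]
      _ = g⁻¹ * x * g * h := by group
  · intro hx y hy
    rw [mem_conj_smul_iff] at hy
    have := hx _ hy
    calc y * x = g * ((g⁻¹ * y * g) * (g⁻¹ * x * g)) * g⁻¹ := by group
      _ = g * ((g⁻¹ * x * g) * (g⁻¹ * y * g)) * g⁻¹ := by rw [this]
      _ = x * y := by group

theorem cd_conj_smul (g : P) {H : Subgroup P} (hH : Cfsg.IsCentralizerLarge H) :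
    Cfsg.IsCentralizerLarge (MulAut.conj g • H) := by
  rw [isCentralizerLarge_iff] at hH ⊢
  unfold cdm at hH ⊢
  rw [cz_conj_smul, card_conj_smul, card_conj_smul]
  exact hH

theorem isMulCommutative_conj_smul (g : P) {H : Subgroup P} (hH : IsMulCommutative ↥H) :
    IsMulCommutative ↥(MulAut.conj g • H) := by
  rw [isMulCommutative_iff_le_cz] at hH ⊢
  rw [cz_conj_smul]
  exact Subgroup.pointwise_smul_le_pointwise_smul_iff.mpr hH

theorem IsAbCD.conj_smul (g : P) {B : Subgroup P} (hB : IsAbCD B) : IsAbCD (MulAut.conj g • B) :=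
  ⟨cd_conj_smul g hB.1, isMulCommutative_conj_smul g hB.2⟩

theorem IsMaxAbCD.conj_smul (g : P) {B : Subgroup P} (hB : IsMaxAbCD B) :
    IsMaxAbCD (MulAut.conj g • B) := by
  refine ⟨hB.1.conj_smul g, fun B' hB' hle => ?_⟩
  have h1 : B ≤ MulAut.conj g⁻¹ • B' := conj_smul_le_iff.mp hle
  have h2 := hB.2 _ (hB'.conj_smul g⁻¹) h1
  rw [← h2, conj_smul_conj_inv_smul]

theorem maxAbelian_conj_smul (g : P) {A : Subgroup P} (hA : A ∈ Cfsg.maxAbelianSubgroups P) :
    MulAut.conj g • A ∈ Cfsg.maxAbelianSubgroups P := by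
  refine ⟨isMulCommutative_conj_smul g hA.1, fun B hB => ?_⟩
  rw [card_conj_smul]
  exact hA.2 B hB

/-- a finite nonempty join of members of the lattice is a member -/
theorem cd_iSup [Finite P] {ι : Type*} [Nonempty ι] (f : ι → Subgroup P)
    (hf : ∀ i, Cfsg.IsCentralizerLarge (f i)) : Cfsg.IsCentralizerLarge (⨆ i, f i) := by
  have hcl : SupClosed {R : Subgroup P | Cfsg.IsCentralizerLarge R} :=
    fun a ha b hb => (cd_lattice a b ha hb).1
  have : sSup (Set.range f) ∈ {R : Subgroup P | Cfsg.IsCentralizerLarge R} :=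
    hcl.sSup_mem_of_nonempty (Set.toFinite _) (Set.range_nonempty f) (by rintro _ ⟨i, rfl⟩; exact hf i)
  exact this

/-- a finite nonempty meet of members of the lattice is a member -/
theorem cd_iInf [Finite P] {ι : Type*} [Nonempty ι] (f : ι → Subgroup P)
    (hf : ∀ i, Cfsg.IsCentralizerLarge (f i)) : Cfsg.IsCentralizerLarge (⨅ i, f i) := by
  have hcl : InfClosed {R : Subgroup P | Cfsg.IsCentralizerLarge R} :=
    fun a ha b hb => (cd_lattice a b ha hb).2.1
  have : sInf (Set.range f) ∈ {R : Subgroup P | Cfsg.IsCentralizerLarge R} :=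
    hcl.sInf_mem_of_nonempty (Set.toFinite _) (Set.range_nonempty f) (by rintro _ ⟨i, rfl⟩; exact hf i)
  exact this

/-- **Normaliser-condition step.**  In a finite `p`-group, let `N` be generated by members of `𝒜` (abelian subgroups of
largest order) and `N ≠ J(P)`.  Then some `A ∈ 𝒜` normalises `N` and is not contained in `N`. -/
theorem exists_maxAbelian_le_normalizer {p : ℕ} [Fact p.Prime] [Finite P] (hP : IsPGroup p P)
    (N : Subgroup P) (hgen : N = sSup {A : Subgroup P | A ∈ Cfsg.maxAbelianSubgroups P ∧ A ≤ N})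
    (hne : N ≠ Cfsg.thompsonSubgroupA P) :
    ∃ A ∈ Cfsg.maxAbelianSubgroups P, A ≤ Subgroup.normalizer (N : Set P) ∧ ¬ A ≤ N := by
  by_contra hcon
  push Not at hcon
  set M := Subgroup.normalizer (N : Set P) with hM
  -- `N` is generated by the members of `𝒜` in `M`
  have hN_le : ∀ A ∈ Cfsg.maxAbelianSubgroups P, A ≤ M → A ≤ N := fun A hA hAM => hcon A hA hAM
  -- the normaliser of `M` normalises `N`
  have h1 : Subgroup.normalizer (M : Set P) ≤ M := by
    apply le_normalizer_of_conj_smul_le
    intro g hg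
    rw [conj_smul_le_iff]
    rw [hgen]
    apply sSup_le
    rintro A ⟨hA, hAN⟩
    rw [← hgen, ← conj_smul_le_iff]
    apply hN_le _ (maxAbelian_conj_smul g hA)
    have hAM : A ≤ M := le_trans hAN Subgroup.le_normalizer
    calc MulAut.conj g • A ≤ MulAut.conj g • M := Subgroup.pointwise_smul_le_pointwise_smul_iff.mpr hAM
      _ = M := mem_normalizer_iff_conj_smul_eq.mp hg
  have : Group.IsNilpotent P := hP.isNilpotent
  have hnc : NormalizerCondition P := Group.normalizerCondition_of_isNilpotent
  have hMtop : M = ⊤ := by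
    by_contra hMne
    have := hnc M (lt_top_iff_ne_top.mpr hMne)
    exact absurd h1 (not_le_of_gt this)
  apply hne
  apply le_antisymm
  · rw [hgen]
    apply sSup_le
    rintro A ⟨hA, -⟩
    exact le_sSup hA
  · unfold Cfsg.thompsonSubgroupA
    apply sSup_le
    intro A hA
    exact hN_le A hA (by rw [hMtop]; exact le_top)

end Cfsg.Agent.Helper15
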