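import Mathlib
import Cfsg.Prelude.Def_Local
import Cfsg.Agent.Helper7.Components
import Cfsg.Agent.Helper7.Layer
import Cfsg.Agent.Helper7.PLocal
import Cfsg.Agent.Helper7.PConstrained
import Cfsg.Agent.Helper7.PConstrained2
import Cfsg.Agent.Helper7.PComponent
import Cfsg.Agent.Helper7.PComponent3
import Cfsg.Agent.Helper7.CoreTransport
import Cfsg.Agent.Helper10.Crit19
import Cfsg.Agent.S1276
import Cfsg.Agent.S1304

set_option autoImplicit false
set_option linter.unusedSectionVars false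
set_option linter.unusedVariables false

/-! # No 2-components from a characteristic-2 involution centralizer

`C` finite with `E(C) = 1`, `z` an involution of `C` with `F*(C_C(z)) = O_2(C_C(z))`.
Then `C / O(C)` has no component, i.e. the 2-layer of `C` is trivial. -/

namespace Cfsg.Agent.Helper15.CoreBal

open Subgroup Cfsg Cfsg.Agent.Helper7
open Cfsg.Agent.Helper19 (pPrimeCore_coprime)

universe u

variable {C : Type u} [Group C] [Finite C]

instance fact_two_prime' : Fact (Nat.Prime 2) := ⟨Nat.prime_two⟩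

/-- (F1) `C_{O(C)}(z) = 1`. -/
theorem oddCore_inf_centralizer_eq_bot {z : C}
    (hz : generalizedFittingSubgroup ↥(centralizer ({z} : Set C)) =
      pCore 2 ↥(centralizer ({z} : Set C))) :
    pPrimeCore 2 C ⊓ centralizer ({z} : Set C) = ⊥ := by
  have h0 : pPrimeCore 2 ↥(centralizer ({z} : Set C)) = ⊥ :=
    pPrimeCore_eq_bot_of_generalizedFitting_eq_pCore hz
  have h1 := le_map_pPrimeCore_of_le_normalizer (p := 2) (C := centralizer ({z} : Set C))
    (W := pPrimeCore 2 C ⊓ centralizer ({z} : Set C)) inf_le_right ?_ ?_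
  · rw [h0, Subgroup.map_bot] at h1
    exact le_bot_iff.1 h1
  · intro n hn
    rw [mem_normalizer_iff]
    intro w
    have hnorm : (pPrimeCore 2 C).Normal := inferInstance
    constructor
    · intro hw
      obtain ⟨hw1, hw2⟩ := Subgroup.mem_inf.1 hw
      exact Subgroup.mem_inf.2 ⟨hnorm.conj_mem w hw1 n,
        Subgroup.mul_mem _ (Subgroup.mul_mem _ hn hw2) (Subgroup.inv_mem _ hn)⟩
    · intro hw
      obtain ⟨hw1, hw2⟩ := Subgroup.mem_inf.1 hw
      have e : w = n⁻¹ * (n * w * n⁻¹) * n⁻¹⁻¹ := by group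
      rw [e]
      exact Subgroup.mem_inf.2 ⟨hnorm.conj_mem _ hw1 n⁻¹,
        Subgroup.mul_mem _ (Subgroup.mul_mem _ (Subgroup.inv_mem _ hn) hw2)
          (Subgroup.inv_mem _ (Subgroup.inv_mem _ hn))⟩
  · exact Nat.Coprime.coprime_dvd_left (card_dvd_of_le inf_le_left) (pPrimeCore_coprime 2)

/-- (F2) `z` inverts `O(C)`. -/
theorem conj_eq_inv_of_mem_oddCore {z : C} (hz2 : z * z = 1)
    (hz : generalizedFittingSubgroup ↥(centralizer ({z} : Set C)) =
      pCore 2 ↥(centralizer ({z} : Set C))) :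
    ∀ r ∈ pPrimeCore 2 C, z * r * z⁻¹ = r⁻¹ := by
  apply Cfsg.Agent.Helper10.conj_eq_inv_of_fpf hz2
  intro n hn h
  have h1 : n ∈ pPrimeCore 2 C ⊓ centralizer ({z} : Set C) := by
    refine Subgroup.mem_inf.2 ⟨hn, ?_⟩
    rw [mem_centralizer_iff]
    intro y hy
    rw [Set.mem_singleton_iff] at hy
    subst hy
    calc y * n = y * n * y⁻¹ * y := by group
      _ = n * y := by rw [h]
  rw [oddCore_inf_centralizer_eq_bot hz] at h1
  exact (mem_bot).1 h1

theorem oddCore_le_centralizer_oddCore {z : C}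
    (hinv : ∀ r ∈ pPrimeCore 2 C, z * r * z⁻¹ = r⁻¹) :
    pPrimeCore 2 C ≤ centralizer ((pPrimeCore 2 C : Subgroup C) : Set C) := by
  intro a ha
  rw [mem_centralizer_iff]
  intro b hb
  have h1 := hinv (a * b) (mul_mem ha hb)
  have h2 := hinv a ha
  have h3 := hinv b hb
  have h4 : z * (a * b) * z⁻¹ = (z * a * z⁻¹) * (z * b * z⁻¹) := by group
  rw [h4, h2, h3] at h1
  -- a⁻¹ * b⁻¹ = (a*b)⁻¹ = b⁻¹ * a⁻¹
  have h5 : a⁻¹ * b⁻¹ = b⁻¹ * a⁻¹ := by rw [h1]; group
  have h6 : (a⁻¹ * b⁻¹)⁻¹ = (b⁻¹ * a⁻¹)⁻¹ := by rw [h5]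
  simpa using h6

/-- (F3) `[g, z]` centralizes `O(C)`. -/
theorem comm_mem_centralizer_oddCore {z : C} (hz2 : z * z = 1)
    (hinv : ∀ r ∈ pPrimeCore 2 C, z * r * z⁻¹ = r⁻¹) (g : C) :
    g * z * g⁻¹ * z⁻¹ ∈ centralizer ((pPrimeCore 2 C : Subgroup C) : Set C) := by
  have hz' : z⁻¹ = z := inv_eq_of_mul_eq_one_left hz2
  have hnorm : (pPrimeCore 2 C).Normal := inferInstance
  rw [mem_centralizer_iff]
  intro r hr
  have ha : g⁻¹ * r⁻¹ * g ∈ pPrimeCore 2 C := by
    have := hnorm.conj_mem _ (inv_mem hr) g⁻¹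
    simpa using this
  have i1 : z⁻¹ * r * z = r⁻¹ := by
    have := hinv r hr
    rw [hz'] at this ⊢
    exact this
  have i2 := hinv _ ha
  have key : (g * z * g⁻¹ * z⁻¹) * r * (g * z * g⁻¹ * z⁻¹)⁻¹ = r := by
    calc (g * z * g⁻¹ * z⁻¹) * r * (g * z * g⁻¹ * z⁻¹)⁻¹
        = g * (z * (g⁻¹ * (z⁻¹ * r * z) * g) * z⁻¹) * g⁻¹ := by group
      _ = g * (z * (g⁻¹ * r⁻¹ * g) * z⁻¹) * g⁻¹ := by rw [i1]
      _ = g * (g⁻¹ * r⁻¹ * g)⁻¹ * g⁻¹ := by rw [i2]
      _ = r := by group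
  calc r * (g * z * g⁻¹ * z⁻¹)
      = ((g * z * g⁻¹ * z⁻¹) * r * (g * z * g⁻¹ * z⁻¹)⁻¹) * (g * z * g⁻¹ * z⁻¹) := by rw [key]
    _ = (g * z * g⁻¹ * z⁻¹) * r := by group

/-- square roots in `O(C)`. -/
theorem exists_sq_eq_of_mem_oddCore {t : C} (ht : t ∈ pPrimeCore 2 C) :
    ∃ r ∈ pPrimeCore 2 C, r * r = t := by
  have hcop : (2 : ℕ).Coprime (orderOf t) :=
    (orderOf_coprime_of_mem_pPrimeCore 2 ht).symm
  obtain ⟨m, hm⟩ := exists_pow_eq_self_of_coprime hcop
  refine ⟨t ^ m, pow_mem ht m, ?_⟩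
  rw [← pow_two, ← pow_mul, mul_comm, pow_mul]
  exact hm

/-- The centralizer of `z̄` in `C/O(C)` is the image of `C_C(z)`. -/
theorem centralizer_mk_le_map {z : C} (hz2 : z * z = 1)
    (hinv : ∀ r ∈ pPrimeCore 2 C, z * r * z⁻¹ = r⁻¹) :
    centralizer ({(QuotientGroup.mk' (pPrimeCore 2 C) z)} : Set (C ⧸ pPrimeCore 2 C)) ≤
      (centralizer ({z} : Set C)).map (QuotientGroup.mk' (pPrimeCore 2 C)) := by
  have hz' : z⁻¹ = z := inv_eq_of_mul_eq_one_left hz2
  have hnorm : (pPrimeCore 2 C).Normal := inferInstance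
  intro gbar hg
  obtain ⟨g, rfl⟩ := QuotientGroup.mk'_surjective (pPrimeCore 2 C) gbar
  rw [mem_centralizer_iff] at hg
  have hg1 := hg _ rfl
  -- s := g z g⁻¹ z⁻¹ ∈ R
  have hs : g * z * g⁻¹ * z⁻¹ ∈ pPrimeCore 2 C := by
    rw [← QuotientGroup.ker_mk' (pPrimeCore 2 C), MonoidHom.mem_ker]
    simp only [map_mul, map_inv]
    rw [← hg1]
    group
  -- t := g⁻¹ s⁻¹ g
  have ht : g⁻¹ * (g * z * g⁻¹ * z⁻¹)⁻¹ * g ∈ pPrimeCore 2 C := by
    have := hnorm.conj_mem _ (inv_mem hs) g⁻¹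
    simpa using this
  obtain ⟨r, hr, hrr⟩ := exists_sq_eq_of_mem_oddCore ht
  refine ⟨g * r, ?_, ?_⟩
  · show g * r ∈ centralizer ({z} : Set C)
    rw [mem_centralizer_iff]
    intro y hy
    rw [Set.mem_singleton_iff] at hy
    subst hy
    -- r y r⁻¹ = r r y
    have i1 : y * r⁻¹ * y⁻¹ = r := by
      have := hinv _ (inv_mem hr)
      simpa using this
    have e1 : (g * r) * y * (g * r)⁻¹ = y := by
      calc (g * r) * y * (g * r)⁻¹ = g * (r * (y * r⁻¹ * y⁻¹)) * g⁻¹ * (g * y * g⁻¹ * y⁻¹) * y := by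
            group
        _ = g * (r * r) * g⁻¹ * (g * y * g⁻¹ * y⁻¹) * y := by rw [i1]
        _ = g * (g⁻¹ * (g * y * g⁻¹ * y⁻¹)⁻¹ * g) * g⁻¹ * (g * y * g⁻¹ * y⁻¹) * y := by rw [hrr]
        _ = y := by group
    calc y * (g * r) = ((g * r) * y * (g * r)⁻¹) * (g * r) := by rw [e1]
      _ = (g * r) * y := by group
  · have : (QuotientGroup.mk' (pPrimeCore 2 C)) r = 1 := by
      rw [← MonoidHom.mem_ker, QuotientGroup.ker_mk']; exact hr
    rw [map_mul, this, mul_one]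

/-- Main theorem: the 2-layer is trivial. -/
theorem pLayer_two_eq_bot (hE : layer C = ⊥) {z : C} (hz2 : z * z = 1)
    (hz : generalizedFittingSubgroup ↥(centralizer ({z} : Set C)) =
      pCore 2 ↥(centralizer ({z} : Set C))) :
    pLayer 2 C = ⊥ := by
  rw [pLayer_eq_bot_iff]
  have hinv := conj_eq_inv_of_mem_oddCore hz2 hz
  have hRab := oddCore_le_centralizer_oddCore hinv
  have hF3 := comm_mem_centralizer_oddCore hz2 hinv
  have hz' : z⁻¹ = z := inv_eq_of_mul_eq_one_left hz2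
  set R := pPrimeCore 2 C with hR
  set π := QuotientGroup.mk' R with hπ
  have hπs : Function.Surjective π := QuotientGroup.mk'_surjective R
  set C0 := centralizer ((R : Subgroup C) : Set C) with hC0
  have hC0n : C0.Normal := by
    rw [hC0]; infer_instance
  have hC0bn : (C0.map π).Normal := hC0n.map π hπs
  unfold layer
  rw [sSup_eq_bot]
  intro Kb hKb
  exfalso
  have hKb' : IsComponent Kb := hKb
  rcases component_le_or_commutator_eq_bot hKb' hC0bn.isSubnormal with hle | hcomm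
  · -- Case 1
    obtain ⟨K, ⟨hKcomp, hKmap⟩, -⟩ := existsUnique_pComponent_over (p := 2) hKb'
    have hKle : K ≤ C0 := by
      have h1 : K.map π ≤ C0.map π := by rw [hKmap]; exact hle
      have h2 := (Subgroup.map_le_map_iff).1 h1
      rw [hπ, QuotientGroup.ker_mk'] at h2
      exact h2.trans (sup_le le_rfl hRab)
    have hq : IsQuasisimple ↥K := by
      rw [Cfsg.Agent.S1276.result K hKcomp, commutator_eq_bot_iff_le_centralizer]
      have h3 : ((oddCore ↥K).map K.subtype : Subgroup C) ≤ R := by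
        have := map_subtype_pPrimeCore (p := 2) hKcomp.1
        show ((pPrimeCore 2 ↥K).map K.subtype : Subgroup C) ≤ R
        rw [this]
        exact inf_le_left
      exact hKle.trans (centralizer_le h3)
    have hcomp : IsComponent K := ⟨hKcomp.1, hq⟩
    have h4 := IsComponent.le_layer hcomp
    rw [hE] at h4
    exact IsComponent.ne_bot hcomp (le_bot_iff.1 h4)
  · -- Case 2
    have hcomm' := commutator_eq_bot_iff_forall_commute.1 hcomm
    set zb := π z with hzb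
    have hzb2 : zb * zb = 1 := by rw [hzb, ← map_mul, hz2, map_one]
    have hzb' : zb⁻¹ = zb := inv_eq_of_mul_eq_one_left hzb2
    have hkey : ∀ k : C ⧸ R, k * zb * k⁻¹ * zb⁻¹ ∈ C0.map π := by
      intro k
      obtain ⟨g, rfl⟩ := hπs k
      exact ⟨g * z * g⁻¹ * z⁻¹, hF3 g, by simp [hzb]⟩
    have hKb2 : IsComponent (Kb.map (MulAut.conj zb).toMonoidHom) := isComponent_map_conj hKb' zb
    by_cases hne : Kb.map (MulAut.conj zb).toMonoidHom = Kb
    · -- 2b: z̄ normalizes K̄, hence centralizes it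
      have hmem : ∀ x ∈ Kb, zb * x * zb⁻¹ ∈ Kb := by
        intro x hx
        have : zb * x * zb⁻¹ ∈ Kb.map (MulAut.conj zb).toMonoidHom := ⟨x, hx, by simp⟩
        rwa [hne] at this
      let α : ↥Kb ≃* ↥Kb :=
        (Kb.equivMapOfInjective (MulAut.conj zb).toMonoidHom (MulAut.conj zb).injective).trans
          (MulEquiv.subgroupCongr hne)
      have hα : ∀ x : ↥Kb, ((α x : ↥Kb) : C ⧸ R) = zb * x * zb⁻¹ := by
        intro x; rfl
      have hperf : commutator ↥Kb = ⊤ := hKb'.2.1.commutator_eq_top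
      have hcen : ∀ x : ↥Kb, α x * x⁻¹ ∈ center ↥Kb := by
        intro x
        rw [mem_center_iff]
        intro y
        apply Subtype.ext
        have h1 : ((α x * x⁻¹ : ↥Kb) : C ⧸ R) = ((x : C ⧸ R) * zb * (x : C ⧸ R)⁻¹ * zb⁻¹)⁻¹ := by
          rw [Subgroup.coe_mul, hα, Subgroup.coe_inv]; group
        have h2 : ((x : C ⧸ R) * zb * (x : C ⧸ R)⁻¹ * zb⁻¹)⁻¹ ∈ C0.map π := inv_mem (hkey _)
        have h3 := hcomm' (y : C ⧸ R) y.2 _ h2
        show (y : C ⧸ R) * ((α x * x⁻¹ : ↥Kb) : C ⧸ R) =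
          ((α x * x⁻¹ : ↥Kb) : C ⧸ R) * (y : C ⧸ R)
        rw [h1]
        exact h3
      have hfix := Cfsg.Agent.S1304.result hperf α hcen
      have hKcz : Kb ≤ centralizer ({zb} : Set (C ⧸ R)) := by
        intro x hx
        rw [mem_centralizer_iff]
        intro y hy
        rw [Set.mem_singleton_iff] at hy
        rw [hy]
        have h1 := congrArg Subtype.val (hfix ⟨x, hx⟩)
        rw [hα] at h1
        simp only at h1
        calc zb * x = (zb * x * zb⁻¹) * zb := by group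
          _ = x * zb := by rw [h1]
      -- component of the centralizer of z̄
      have hcompN := isComponent_subgroupOf hKb' hKcz
      -- the centralizer of z̄ is isomorphic to C_C(z)
      have hRN : R ⊓ centralizer ({z} : Set C) = ⊥ := oddCore_inf_centralizer_eq_bot hz
      set N := centralizer ({z} : Set C) with hN
      let f : ↥N →* (C ⧸ R) := π.comp N.subtype
      have hfinj : Function.Injective f := by
        rw [injective_iff_map_eq_one]
        intro a ha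
        have h1 : (a : C) ∈ R := by
          have : π (a : C) = 1 := ha
          rwa [← MonoidHom.mem_ker, hπ, QuotientGroup.ker_mk'] at this
        have h2 : (a : C) ∈ R ⊓ N := ⟨h1, a.2⟩
        rw [hRN] at h2
        exact Subtype.ext ((mem_bot).1 h2)
      have hrange : f.range = centralizer ({zb} : Set (C ⧸ R)) := by
        apply le_antisymm
        · rintro _ ⟨a, rfl⟩
          rw [mem_centralizer_iff]
          intro y hy
          rw [Set.mem_singleton_iff] at hy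
          subst hy
          have h1 : z * (a : C) = (a : C) * z := (mem_centralizer_iff.1 a.2 z rfl)
          show π z * π (a : C) = π (a : C) * π z
          rw [← map_mul, ← map_mul, h1]
        · intro g hg
          obtain ⟨a, ha, rfl⟩ := centralizer_mk_le_map hz2 hinv hg
          exact ⟨⟨a, ha⟩, rfl⟩
      let e : ↥N ≃* ↥(centralizer ({zb} : Set (C ⧸ R))) :=
        (MonoidHom.ofInjective hfinj).trans (MulEquiv.subgroupCongr hrange)
      have hlN : layer ↥N = ⊥ := layer_eq_bot_of_generalizedFitting_eq_pCore hz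
      have hl2 : layer ↥(centralizer ({zb} : Set (C ⧸ R))) = ⊥ := by
        rw [← layer_map_equiv e, hlN, Subgroup.map_bot]
      have h4 := IsComponent.le_layer hcompN
      rw [hl2] at h4
      exact IsComponent.ne_bot hcompN (le_bot_iff.1 h4)
    · -- 2a: K̄ and its z̄-conjugate commute, so K̄ is abelian
      have hc2 := commutator_eq_bot_iff_forall_commute.1 (components_commute hKb2 hKb' hne)
      have hab : ∀ k ∈ Kb, ∀ k' ∈ Kb, k' * k = k * k' := by
        intro k hk k' hk'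
        have h1 := hcomm' k' hk' _ (hkey k)
        have hd : zb * k⁻¹ * zb⁻¹ ∈ Kb.map (MulAut.conj zb).toMonoidHom :=
          ⟨k⁻¹, inv_mem hk, by simp⟩
        have h2 := hc2 _ hd k' hk'
        -- k = (k zb k⁻¹ zb⁻¹) * (zb k⁻¹ zb⁻¹)⁻¹
        have e1 : k = (k * zb * k⁻¹ * zb⁻¹) * (zb * k⁻¹ * zb⁻¹)⁻¹ := by group
        have h3 : k' * (zb * k⁻¹ * zb⁻¹)⁻¹ = (zb * k⁻¹ * zb⁻¹)⁻¹ * k' := by
          have : (zb * k⁻¹ * zb⁻¹)⁻¹ * (zb * k⁻¹ * zb⁻¹ * k') * (zb * k⁻¹ * zb⁻¹)⁻¹ =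
              (zb * k⁻¹ * zb⁻¹)⁻¹ * (k' * (zb * k⁻¹ * zb⁻¹)) * (zb * k⁻¹ * zb⁻¹)⁻¹ := by rw [h2]
          have e2 : (zb * k⁻¹ * zb⁻¹)⁻¹ * (zb * k⁻¹ * zb⁻¹ * k') * (zb * k⁻¹ * zb⁻¹)⁻¹ =
              k' * (zb * k⁻¹ * zb⁻¹)⁻¹ := by group
          have e3 : (zb * k⁻¹ * zb⁻¹)⁻¹ * (k' * (zb * k⁻¹ * zb⁻¹)) * (zb * k⁻¹ * zb⁻¹)⁻¹ =
              (zb * k⁻¹ * zb⁻¹)⁻¹ * k' := by group
          rw [e2, e3] at this
          exact this
        calc k' * k = k' * ((k * zb * k⁻¹ * zb⁻¹) * (zb * k⁻¹ * zb⁻¹)⁻¹) := by rw [← e1]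
          _ = (k' * (k * zb * k⁻¹ * zb⁻¹)) * (zb * k⁻¹ * zb⁻¹)⁻¹ := by group
          _ = ((k * zb * k⁻¹ * zb⁻¹) * k') * (zb * k⁻¹ * zb⁻¹)⁻¹ := by rw [h1]
          _ = (k * zb * k⁻¹ * zb⁻¹) * (k' * (zb * k⁻¹ * zb⁻¹)⁻¹) := by group
          _ = (k * zb * k⁻¹ * zb⁻¹) * ((zb * k⁻¹ * zb⁻¹)⁻¹ * k') := by rw [h3]
          _ = ((k * zb * k⁻¹ * zb⁻¹) * (zb * k⁻¹ * zb⁻¹)⁻¹) * k' := by group
          _ = k * k' := by rw [← e1]
      have hbot : ⁅Kb, Kb⁆ = ⊥ := by
        rw [commutator_eq_bot_iff_forall_commute]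
        intro a ha b hb
        exact hab b hb a ha
      have := IsComponent.commutator_eq hKb'
      rw [hbot] at this
      exact IsComponent.ne_bot hKb' this.symm

end Cfsg.Agent.Helper15.CoreBal
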