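import Mathlib
import Cfsg.Prelude.Def_Local
import Cfsg.Agent.Helper15.CoreBal1
import Cfsg.Agent.Helper10.CharP2
import Cfsg.Agent.Helper10.PTerminal
import Cfsg.Agent.Helper10.NormLemmas
import Cfsg.Agent.Helper7.ExtLayer
import Cfsg.Agent.Helper17.Basic
import Cfsg.Agent.S1293
import Cfsg.Agent.S1324

set_option autoImplicit false
set_option linter.unusedSectionVars false
set_option linter.unusedVariables false

/-! # Cores of involution centralizers over an elementary abelian 2-group of rank ≥ 3 with a
characteristic-2 member: the cores generate an abelian group of odd order. -/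

namespace Cfsg.Agent.Helper15.CoreBal

open Subgroup Cfsg Cfsg.Agent.Helper7 Cfsg.Agent.Helper10

universe u

variable {X : Type u} [Group X] [Finite X]

/-- `θ(y) = O(C_X(y))` in the ambient group. -/
def th (y : X) : Subgroup X := coreOf 2 (centralizer ({y} : Set X))

theorem th_le (y : X) : th y ≤ centralizer ({y} : Set X) := coreOf_le _

theorem card_th_coprime (y : X) : (Nat.card (th y)).Coprime 2 := card_coreOf_coprime _

theorem le_normalizer_th (y : X) : centralizer ({y} : Set X) ≤ normalizer ((th y : Subgroup X) : Set X) :=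
  le_normalizer_map_subtype_pPrimeCore (p := 2) (centralizer ({y} : Set X))

theorem orderOf_odd_of_mem_th {y a : X} (ha : a ∈ th y) : (orderOf a).Coprime 2 := by
  have h1 : orderOf (⟨a, ha⟩ : th y) ∣ Nat.card (th y) := orderOf_dvd_natCard _
  rw [Subgroup.orderOf_mk] at h1
  exact Nat.Coprime.coprime_dvd_left h1 (card_th_coprime y)

theorem centralizer_closure_pair (z h : X) :
    centralizer ((closure ({z, h} : Set X) : Subgroup X) : Set X) =
      centralizer ({z} : Set X) ⊓ centralizer ({h} : Set X) := by
  apply le_antisymm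
  · apply le_inf
    · apply centralizer_le
      intro t ht
      rw [Set.mem_singleton_iff] at ht
      subst ht
      exact subset_closure (by simp)
    · apply centralizer_le
      intro t ht
      rw [Set.mem_singleton_iff] at ht
      subst ht
      exact subset_closure (by simp)
  · intro x hx
    obtain ⟨hx1, hx2⟩ := Subgroup.mem_inf.1 hx
    rw [mem_centralizer_iff]
    intro t ht
    have hle : closure ({z, h} : Set X) ≤ centralizer ({x} : Set X) := by
      rw [closure_le]
      intro s hs
      rcases hs with rfl | hs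
      · show s ∈ centralizer ({x} : Set X)
        rw [mem_centralizer_iff]
        intro w hw
        rw [Set.mem_singleton_iff] at hw
        subst hw
        exact ((mem_centralizer_iff.1 hx1) s rfl).symm
      · rw [Set.mem_singleton_iff] at hs
        subst hs
        show s ∈ centralizer ({x} : Set X)
        rw [mem_centralizer_iff]
        intro w hw
        rw [Set.mem_singleton_iff] at hw
        subst hw
        exact ((mem_centralizer_iff.1 hx2) s rfl).symm
    exact ((mem_centralizer_iff.1 (hle ht)) x rfl).symm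

theorem isPGroup_of_isElementaryAbelian {Y : Subgroup X} (hY : IsElementaryAbelian 2 Y) :
    IsPGroup 2 ↥Y := by
  intro g
  refine ⟨1, ?_⟩
  apply Subtype.ext
  rw [pow_one, Subgroup.coe_pow]
  exact hY.2 g g.2

theorem commute_of_mem {Y : Subgroup X} (hY : IsElementaryAbelian 2 Y) {a b : X}
    (ha : a ∈ Y) (hb : b ∈ Y) : a * b = b * a := by
  have h1 := hY.1.is_comm.comm (⟨a, ha⟩ : ↥Y) ⟨b, hb⟩
  have h2 := congrArg Subtype.val h1
  simpa using h2

theorem mem_centralizer_singleton_of_mem {Y : Subgroup X} (hY : IsElementaryAbelian 2 Y) {a b : X}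
    (ha : a ∈ Y) (hb : b ∈ Y) : a ∈ centralizer ({b} : Set X) := by
  rw [mem_centralizer_iff]
  intro t ht
  rw [Set.mem_singleton_iff] at ht
  subst ht
  exact commute_of_mem hY hb ha

/-- characteristic 2 for `C(z) ∩ C(h)`. -/
theorem charP_pair {Y : Subgroup X} (hY : IsElementaryAbelian 2 Y) {z h : X} (hzY : z ∈ Y)
    (hhY : h ∈ Y)
    (hz : generalizedFittingSubgroup ↥(centralizer ({z} : Set X)) =
      pCore 2 ↥(centralizer ({z} : Set X))) :
    generalizedFittingSubgroup ↥(centralizer ({z} : Set X) ⊓ centralizer ({h} : Set X)) =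
      pCore 2 ↥(centralizer ({z} : Set X) ⊓ centralizer ({h} : Set X)) := by
  have hUY : closure ({z, h} : Set X) ≤ Y := by
    rw [closure_le]
    intro s hs
    rcases hs with rfl | hs
    · exact hzY
    · rw [Set.mem_singleton_iff] at hs; subst hs; exact hhY
  have hU : IsPGroup 2 ↥(closure ({z, h} : Set X)) :=
    (isPGroup_of_isElementaryAbelian hY).to_le hUY
  have hVU : zpowers z ≤ closure ({z, h} : Set X) := zpowers_le.2 (subset_closure (by simp))
  have h1 := charP_centralizer_of_le (p := 2) hVU hU
    (charP_subgroup_congr (centralizer_singleton_eq_zpowers z) hz)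
  exact charP_subgroup_congr (centralizer_closure_pair z h) h1

/-- Step 2: `C_{θ(y)}(z) = 1`. -/
theorem th_inf_centralizer_eq_bot {Y : Subgroup X} (hY : IsElementaryAbelian 2 Y) {z y : X}
    (hzY : z ∈ Y) (hyY : y ∈ Y)
    (hz : generalizedFittingSubgroup ↥(centralizer ({z} : Set X)) =
      pCore 2 ↥(centralizer ({z} : Set X))) :
    th y ⊓ centralizer ({z} : Set X) = ⊥ := by
  have h0 : pPrimeCore 2 ↥(centralizer ({z} : Set X) ⊓ centralizer ({y} : Set X)) = ⊥ :=
    pPrimeCore_eq_bot_of_generalizedFitting_eq_pCore (charP_pair hY hzY hyY hz)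
  have h1 := le_map_pPrimeCore_of_le_normalizer (p := 2)
    (C := centralizer ({z} : Set X) ⊓ centralizer ({y} : Set X))
    (W := th y ⊓ centralizer ({z} : Set X)) ?_ ?_ ?_
  · rw [h0, Subgroup.map_bot] at h1
    exact le_bot_iff.1 h1
  · exact le_inf inf_le_right (inf_le_left.trans (th_le y))
  · apply le_normalizer_inf_of_le
    · exact inf_le_right.trans (le_normalizer_th y)
    · exact inf_le_left.trans le_normalizer
  · exact Nat.Coprime.coprime_dvd_left (card_dvd_of_le inf_le_left) (card_th_coprime y)

/-- Step 3: `z` inverts `θ(y)`. -/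
theorem conj_eq_inv_of_mem_th {Y : Subgroup X} (hY : IsElementaryAbelian 2 Y) {z y : X}
    (hzY : z ∈ Y) (hyY : y ∈ Y)
    (hz : generalizedFittingSubgroup ↥(centralizer ({z} : Set X)) =
      pCore 2 ↥(centralizer ({z} : Set X))) :
    ∀ a ∈ th y, z * a * z⁻¹ = a⁻¹ := by
  have hzy : z ∈ centralizer ({y} : Set X) := mem_centralizer_singleton_of_mem hY hzY hyY
  have hz2 : z * z = 1 := by rw [← pow_two]; exact hY.2 z hzY
  have he : (⟨z, hzy⟩ : ↥(centralizer ({y} : Set X))) * ⟨z, hzy⟩ = 1 := Subtype.ext hz2
  have hbot := th_inf_centralizer_eq_bot hY hzY hyY hz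
  have key := Cfsg.Agent.Helper10.conj_eq_inv_of_fpf
    (N := pPrimeCore 2 ↥(centralizer ({y} : Set X))) he ?_
  · intro a ha
    obtain ⟨n, hn, rfl⟩ := ha
    have := congrArg Subtype.val (key n hn)
    simpa using this
  · intro n hn h
    have h1 : (n : X) ∈ th y ⊓ centralizer ({z} : Set X) := by
      refine Subgroup.mem_inf.2 ⟨⟨n, hn, rfl⟩, ?_⟩
      rw [mem_centralizer_iff]
      intro t ht
      rw [Set.mem_singleton_iff] at ht
      subst ht
      have h2 := congrArg Subtype.val h
      simp only [Subgroup.coe_mul, Subgroup.coe_inv] at h2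
      calc t * (n : X) = t * (n : X) * t⁻¹ * t := by group
        _ = (n : X) * t := by rw [h2]
    rw [hbot] at h1
    exact Subtype.ext ((mem_bot).1 h1)

theorem comm_of_inverted {S : Subgroup X} {z : X} (hinv : ∀ r ∈ S, z * r * z⁻¹ = r⁻¹) :
    ∀ a ∈ S, ∀ b ∈ S, a * b = b * a := by
  intro a ha b hb
  have h1 := hinv (a * b) (mul_mem ha hb)
  have h2 := hinv a ha
  have h3 := hinv b hb
  have h4 : z * (a * b) * z⁻¹ = (z * a * z⁻¹) * (z * b * z⁻¹) := by group
  rw [h4, h2, h3] at h1
  have h5 : a⁻¹ * b⁻¹ = b⁻¹ * a⁻¹ := by rw [h1]; group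
  have h6 : (a⁻¹ * b⁻¹)⁻¹ = (b⁻¹ * a⁻¹)⁻¹ := by rw [h5]
  have h7 : b * a = a * b := by simpa using h6
  exact h7.symm

/-- `C(z) ∩ C(h)` seen inside `C(h)`. -/
def pairEquiv (z h : X) (hzh : z ∈ centralizer ({h} : Set X)) :
    ↥(centralizer ({z} : Set X) ⊓ centralizer ({h} : Set X)) ≃*
      ↥(centralizer ({(⟨z, hzh⟩ : ↥(centralizer ({h} : Set X)))} :
        Set ↥(centralizer ({h} : Set X)))) where
  toFun x := ⟨⟨(x : X), (Subgroup.mem_inf.1 x.2).2⟩, by
    rw [mem_centralizer_iff]
    intro t ht
    rw [Set.mem_singleton_iff] at ht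
    subst ht
    apply Subtype.ext
    exact mem_centralizer_iff.1 (Subgroup.mem_inf.1 x.2).1 z rfl⟩
  invFun w := ⟨((w : ↥(centralizer ({h} : Set X))) : X), Subgroup.mem_inf.2 ⟨by
    rw [mem_centralizer_iff]
    intro t ht
    rw [Set.mem_singleton_iff] at ht
    subst ht
    exact congrArg Subtype.val (mem_centralizer_iff.1 w.2 ⟨t, hzh⟩ rfl),
    (w : ↥(centralizer ({h} : Set X))).2⟩⟩
  left_inv x := by apply Subtype.ext; rfl
  right_inv w := by apply Subtype.ext; apply Subtype.ext; rfl
  map_mul' x y := by apply Subtype.ext; apply Subtype.ext; rfl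

theorem zpowers_cases {G : Type*} [Group G] {y t : G} (hy2 : y * y = 1) (ht : t ∈ zpowers y) :
    t = 1 ∨ t = y := by
  obtain ⟨k, rfl⟩ := mem_zpowers_iff.1 ht
  rcases Int.even_or_odd k with ⟨m, hm⟩ | ⟨m, hm⟩
  · left
    rw [hm, zpow_add, ← (Commute.refl y).mul_zpow, hy2, one_zpow]
  · right
    rw [hm, zpow_add, two_mul, zpow_add, ← (Commute.refl y).mul_zpow, hy2, one_zpow, one_mul,
      zpow_one]

/-- Step 4: balance. -/
theorem balance {Y : Subgroup X} (hY : IsElementaryAbelian 2 Y) {z y h : X}
    (hzY : z ∈ Y) (hyY : y ∈ Y) (hhY : h ∈ Y) (hy1 : y ≠ 1)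
    (hE : layer ↥(centralizer ({h} : Set X)) = ⊥)
    (hz : generalizedFittingSubgroup ↥(centralizer ({z} : Set X)) =
      pCore 2 ↥(centralizer ({z} : Set X))) :
    th y ⊓ centralizer ({h} : Set X) ≤ th h := by
  have hzh : z ∈ centralizer ({h} : Set X) := mem_centralizer_singleton_of_mem hY hzY hhY
  have hyh : y ∈ centralizer ({h} : Set X) := mem_centralizer_singleton_of_mem hY hyY hhY
  have hz2 : z * z = 1 := by rw [← pow_two]; exact hY.2 z hzY
  have hy2 : y * y = 1 := by rw [← pow_two]; exact hY.2 y hyY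
  -- the 2-layer of C(h) is trivial
  have hzC := fstar_eq_pCore_congr (p := 2) (pairEquiv z h hzh) (charP_pair hY hzY hhY hz)
  have hL : pLayer 2 ↥(centralizer ({h} : Set X)) = ⊥ :=
    pLayer_two_eq_bot hE (z := ⟨z, hzh⟩) (Subtype.ext hz2) hzC
  -- the 2-local N(⟨y⟩) of C(h)
  set y' : ↥(centralizer ({h} : Set X)) := ⟨y, hyh⟩ with hy'
  have hy'2 : y' * y' = 1 := Subtype.ext hy2
  have hy'1 : y' ≠ 1 := by
    intro hc
    exact hy1 (congrArg Subtype.val hc)
  have hP : IsPGroup 2 ↥(zpowers y') := by
    intro g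
    refine ⟨1, ?_⟩
    rw [pow_one]
    apply Subtype.ext
    rw [Subgroup.coe_pow]
    rcases zpowers_cases hy'2 g.2 with h1 | h1
    · rw [h1]; simp
    · rw [h1, pow_two, hy'2]; rfl
  have hP1 : zpowers y' ≠ ⊥ := by
    intro hc
    rw [zpowers_eq_bot] at hc
    exact hy'1 hc
  have hS := (Cfsg.Agent.S1293.result 2 hL (zpowers y') hP hP1).2
  -- D
  set D : Subgroup X := th y ⊓ centralizer ({h} : Set X) with hD
  have hDle : D ≤ centralizer ({h} : Set X) := inf_le_right
  have hDn : centralizer ({y} : Set X) ⊓ centralizer ({h} : Set X) ≤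
      normalizer ((D : Subgroup X) : Set X) := by
    apply le_normalizer_inf_of_le
    · exact inf_le_left.trans (le_normalizer_th y)
    · exact inf_le_right.trans le_normalizer
  have h1 : D.subgroupOf (centralizer ({h} : Set X)) ≤
      (pPrimeCore 2 ↥(normalizer ((zpowers y' : Subgroup ↥(centralizer ({h} : Set X))) :
        Set ↥(centralizer ({h} : Set X))))).map
        (normalizer ((zpowers y' : Subgroup ↥(centralizer ({h} : Set X))) :
          Set ↥(centralizer ({h} : Set X)))).subtype := by
    apply le_map_pPrimeCore_of_le_normalizer (p := 2)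
    · -- D' ≤ N(P)
      intro d hd
      have hdX : ((d : ↥(centralizer ({h} : Set X))) : X) ∈ D := mem_subgroupOf.1 hd
      have hdy : (d : X) ∈ centralizer ({y} : Set X) := th_le y (Subgroup.mem_inf.1 hdX).1
      have hcomm : d * y' = y' * d := by
        apply Subtype.ext
        exact ((mem_centralizer_iff.1 hdy) y rfl).symm
      rw [mem_normalizer_iff]
      intro t
      have hfix : ∀ s ∈ zpowers y', d * s * d⁻¹ = s := by
        intro s hs
        rcases zpowers_cases hy'2 hs with h2 | h2
        · rw [h2]; group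
        · rw [h2, hcomm]; group
      constructor
      · intro ht
        rw [hfix t ht]; exact ht
      · intro ht
        have h3 := hfix _ ht
        have h4 : d * t * d⁻¹ = t := by
          calc d * t * d⁻¹ = d⁻¹ * (d * (d * t * d⁻¹) * d⁻¹) * d := by group
            _ = d⁻¹ * (d * t * d⁻¹) * d := by rw [h3]
            _ = t := by group
        rw [← h4]; exact ht
    · -- N(P) ≤ N(D')
      intro n hn
      have hn1 := (mem_normalizer_iff.1 hn y').1 (mem_zpowers y')
      have hny : n * y' * n⁻¹ = y' := by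
        rcases zpowers_cases hy'2 hn1 with h2 | h2
        · exfalso
          apply hy'1
          have e : y' = n⁻¹ * (n * y' * n⁻¹) * n := by group
          rw [e, h2]; group
        · exact h2
      have hnX : (n : X) ∈ centralizer ({y} : Set X) ⊓ centralizer ({h} : Set X) := by
        refine Subgroup.mem_inf.2 ⟨?_, n.2⟩
        rw [mem_centralizer_iff]
        intro t ht
        rw [Set.mem_singleton_iff] at ht
        subst ht
        have h3 := congrArg Subtype.val hny
        simp only [Subgroup.coe_mul, Subgroup.coe_inv, hy'] at h3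
        calc t * (n : X) = ((n : X) * t * (n : X)⁻¹) * (n : X) := by rw [h3]
          _ = (n : X) * t := by group
      have hnD := hDn hnX
      rw [mem_normalizer_iff]
      intro d
      rw [mem_subgroupOf, mem_subgroupOf]
      have := mem_normalizer_iff.1 hnD (d : X)
      simpa using this
    · rw [Cfsg.Agent.Helper17.card_subgroupOf_of_le hDle]
      exact Nat.Coprime.coprime_dvd_left (card_dvd_of_le inf_le_left) (card_th_coprime y)
  have h2 := h1.trans hS
  have h3 := map_mono (f := (centralizer ({h} : Set X)).subtype) h2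
  rw [map_subgroupOf_eq_of_le hDle] at h3
  exact h3

end Cfsg.Agent.Helper15.CoreBal
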