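import Mathlib
import Cfsg.Prelude.Def_Local
import Cfsg.Agent.Helper15.CoreBal2

set_option autoImplicit false
set_option linter.unusedSectionVars false
set_option linter.unusedVariables false

/-! # The cores `O(C_X(y))`, `y ∈ Y#`, generate an abelian group of odd order (S2924). -/

namespace Cfsg.Agent.Helper15.CoreBal

open Subgroup Cfsg Cfsg.Agent.Helper7 Cfsg.Agent.Helper10

universe u

variable {X : Type u} [Group X] [Finite X]

/-- hypotheses of S2924 with the characteristic-2 element `z` fixed. -/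
structure Hyp (Y : Subgroup X) (z : X) : Prop where
  hY : IsElementaryAbelian 2 Y
  h8 : 8 ≤ Nat.card ↥Y
  hE : ∀ x ∈ Y, x ≠ 1 → layer ↥(centralizer ({x} : Set X)) = ⊥
  hzY : z ∈ Y
  hz : generalizedFittingSubgroup ↥(centralizer ({z} : Set X)) =
    pCore 2 ↥(centralizer ({z} : Set X))

/-- the generating pieces `C_{θ(y)}(B)`, `B` a hyperplane of `Y` missing `z`. -/
def gens (Y : Subgroup X) (z : X) : Set X :=
  {g | ∃ y ∈ Y, y ≠ 1 ∧ ∃ B : Subgroup X, B ≤ Y ∧ B.relIndex Y ≤ 2 ∧ z ∉ B ∧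
    g ∈ th y ⊓ centralizer ((B : Subgroup X) : Set X)}

variable {Y : Subgroup X} {z : X}

theorem th_le_closure_gens (H : Hyp Y z) {y : X} (hy : y ∈ Y) (hy1 : y ≠ 1) :
    th y ≤ closure (gens Y z) := by
  have h4 : 2 ^ 2 ≤ Nat.card ↥Y := by have := H.h8; omega
  have hodd : ¬ 2 ∣ Nat.card ↥(th y) :=
    (Nat.Prime.coprime_iff_not_dvd Nat.prime_two).1 (card_th_coprime y).symm
  have hnorm : Y ≤ normalizer ((th y : Subgroup X) : Set X) := fun a ha =>
    le_normalizer_th y (mem_centralizer_singleton_of_mem H.hY ha hy)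
  have e := Cfsg.Agent.S1324.result 2 Y (th y) H.hY h4 hodd hnorm
  calc th y = ⨆ B : {B : Subgroup X // B ≤ Y ∧ B.relIndex Y ≤ 2},
        th y ⊓ centralizer ((B : Subgroup X) : Set X) := e
    _ ≤ closure (gens Y z) := by
      apply iSup_le
      rintro ⟨B, hBY, hBi⟩
      by_cases hzB : z ∈ B
      · have h1 : th y ⊓ centralizer ((B : Subgroup X) : Set X) ≤
            th y ⊓ centralizer ({z} : Set X) := by
          apply inf_le_inf_left
          apply centralizer_le
          intro t ht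
          rw [Set.mem_singleton_iff] at ht
          subst ht
          exact hzB
        rw [th_inf_centralizer_eq_bot H.hY H.hzY hy H.hz] at h1
        exact h1.trans bot_le
      · intro g hg
        exact subset_closure ⟨y, hy, hy1, B, hBY, hBi, hzB, hg⟩

theorem exists_ne_one_mem_inf (H : Hyp Y z) {B B' : Subgroup X} (hB : B.relIndex Y ≤ 2)
    (hB' : B'.relIndex Y ≤ 2) : ∃ u ∈ B ⊓ B' ⊓ Y, u ≠ 1 := by
  by_contra hcon
  have hcon : ∀ u ∈ B ⊓ B' ⊓ Y, u = 1 := by
    intro u hu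
    by_contra h1
    exact hcon ⟨u, hu, h1⟩
  have hbot : B ⊓ B' ⊓ Y = ⊥ := by
    rw [eq_bot_iff]
    intro u hu
    exact (mem_bot).2 (hcon u hu)
  have h1 := Cfsg.Agent.Helper17.relIndex_mul_card_inf (B ⊓ B') Y
  rw [hbot, Subgroup.card_bot, mul_one] at h1
  have h2 : (B ⊓ B').relIndex Y ≤ B.relIndex Y * B'.relIndex Y := relIndex_inf_le
  have h3 : B.relIndex Y * B'.relIndex Y ≤ 2 * 2 := Nat.mul_le_mul hB hB'
  have := H.h8
  omega

theorem gens_commute (H : Hyp Y z) {g g' : X} (hg : g ∈ gens Y z) (hg' : g' ∈ gens Y z) :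
    g * g' = g' * g := by
  obtain ⟨y, hy, hy1, B, hBY, hBi, hzB, hgB⟩ := hg
  obtain ⟨y', hy', hy'1, B', hB'Y, hB'i, hzB', hgB'⟩ := hg'
  obtain ⟨u, hu, hu1⟩ := exists_ne_one_mem_inf H hBi hB'i
  obtain ⟨hu12, huY⟩ := Subgroup.mem_inf.1 hu
  obtain ⟨huB, huB'⟩ := Subgroup.mem_inf.1 hu12
  have hcu : ∀ {B : Subgroup X}, u ∈ B →
      centralizer ((B : Subgroup X) : Set X) ≤ centralizer ({u} : Set X) := by
    intro B hB
    apply centralizer_le
    intro t ht
    rw [Set.mem_singleton_iff] at ht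
    subst ht
    exact hB
  have h1 : g ∈ th u := by
    apply balance H.hY H.hzY hy huY hy1 (H.hE u huY hu1) H.hz
    exact Subgroup.mem_inf.2 ⟨(Subgroup.mem_inf.1 hgB).1, hcu huB (Subgroup.mem_inf.1 hgB).2⟩
  have h2 : g' ∈ th u := by
    apply balance H.hY H.hzY hy' huY hy'1 (H.hE u huY hu1) H.hz
    exact Subgroup.mem_inf.2 ⟨(Subgroup.mem_inf.1 hgB').1, hcu huB' (Subgroup.mem_inf.1 hgB').2⟩
  exact comm_of_inverted (conj_eq_inv_of_mem_th H.hY H.hzY huY H.hz) g h1 g' h2

theorem orderOf_coprime_of_mem_gens {g : X} (hg : g ∈ gens Y z) : (orderOf g).Coprime 2 := by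
  obtain ⟨y, hy, hy1, B, hBY, hBi, hzB, hgB⟩ := hg
  exact orderOf_odd_of_mem_th (Subgroup.mem_inf.1 hgB).1

theorem closure_gens_comm (H : Hyp Y z) :
    ∀ a ∈ closure (gens Y z), ∀ b ∈ closure (gens Y z), a * b = b * a := by
  have h1 : closure (gens Y z) ≤ centralizer (gens Y z) := by
    rw [closure_le]
    intro g hg
    show g ∈ centralizer (gens Y z)
    rw [mem_centralizer_iff]
    intro g' hg'
    exact gens_commute H hg' hg
  have h2 : closure (gens Y z) ≤ centralizer ((closure (gens Y z) : Subgroup X) : Set X) := by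
    rw [closure_le]
    intro g hg
    show g ∈ centralizer ((closure (gens Y z) : Subgroup X) : Set X)
    rw [mem_centralizer_iff]
    intro m hm
    exact ((mem_centralizer_iff.1 (h1 hm)) g hg).symm
  intro a ha b hb
  exact ((mem_centralizer_iff.1 (h2 hb)) a ha)

theorem closure_gens_odd (H : Hyp Y z) : ¬ 2 ∣ Nat.card ↥(closure (gens Y z)) := by
  have hcomm := closure_gens_comm H
  let Q : Subgroup X :=
    { carrier := {x | x ∈ closure (gens Y z) ∧ (orderOf x).Coprime 2}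
      one_mem' := ⟨one_mem _, by simp⟩
      mul_mem' := by
        rintro a b ⟨ha, ha2⟩ ⟨hb, hb2⟩
        refine ⟨mul_mem ha hb, ?_⟩
        have hc : Commute a b := hcomm a ha b hb
        have h1 : orderOf (a * b) ∣ orderOf a * orderOf b :=
          hc.orderOf_mul_dvd_lcm.trans (Nat.lcm_dvd_mul _ _)
        exact Nat.Coprime.coprime_dvd_left h1 (Nat.Coprime.mul_left ha2 hb2)
      inv_mem' := by
        rintro a ⟨ha, ha2⟩
        exact ⟨inv_mem ha, by rwa [orderOf_inv]⟩ }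
  have hQ : closure (gens Y z) ≤ Q := by
    rw [closure_le]
    intro g hg
    exact ⟨subset_closure hg, orderOf_coprime_of_mem_gens hg⟩
  intro hdvd
  obtain ⟨x, hx⟩ := exists_prime_orderOf_dvd_card' (G := ↥(closure (gens Y z))) 2 hdvd
  have h1 : (orderOf (x : X)).Coprime 2 := (hQ x.2).2
  rw [Subgroup.orderOf_coe, hx] at h1
  exact absurd h1 (by decide)

theorem th_map_conj (g y : X) :
    (th y).map (MulAut.conj g).toMonoidHom = th (g * y * g⁻¹) := by
  unfold th
  have h1 := coreOf_map_equiv (p := 2) (MulAut.conj g) (centralizer ({y} : Set X))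
  have h2 := centralizer_singleton_conj g y
  rw [h2]
  exact h1

theorem main (Y : Subgroup X) (hY : IsElementaryAbelian 2 Y) (h8 : 8 ≤ Nat.card ↥Y)
    (hE : ∀ x ∈ Y, x ≠ 1 → layer ↥(centralizer ({x} : Set X)) = ⊥)
    (hz : ∃ z ∈ Y, z ≠ 1 ∧ generalizedFittingSubgroup ↥(centralizer ({z} : Set X)) =
      pCore 2 ↥(centralizer ({z} : Set X))) :
    Odd (Nat.card ↥(⨆ y : {y : X // y ∈ Y ∧ y ≠ 1}, th (y : X))) ∧
      normalizer (Y : Set X) ≤
        normalizer ((⨆ y : {y : X // y ∈ Y ∧ y ≠ 1}, th (y : X) : Subgroup X) : Set X) := by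
  obtain ⟨z, hzY, hz1, hzc⟩ := hz
  have H : Hyp Y z := ⟨hY, h8, hE, hzY, hzc⟩
  constructor
  · have hle : (⨆ y : {y : X // y ∈ Y ∧ y ≠ 1}, th (y : X)) ≤ closure (gens Y z) := by
      apply iSup_le
      rintro ⟨y, hy, hy1⟩
      exact th_le_closure_gens H hy hy1
    have h1 := closure_gens_odd H
    have h2 : ¬ 2 ∣ Nat.card ↥(⨆ y : {y : X // y ∈ Y ∧ y ≠ 1}, th (y : X)) := fun h =>
      h1 (h.trans (card_dvd_of_le hle))
    rw [← Nat.not_even_iff_odd, even_iff_two_dvd]
    exact h2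
  · have hmap : ∀ g ∈ normalizer (Y : Set X),
        (⨆ y : {y : X // y ∈ Y ∧ y ≠ 1}, th (y : X)).map (MulAut.conj g).toMonoidHom ≤
          ⨆ y : {y : X // y ∈ Y ∧ y ≠ 1}, th (y : X) := by
      intro g hg
      rw [Subgroup.map_iSup]
      apply iSup_le
      rintro ⟨y, hy, hy1⟩
      rw [th_map_conj]
      have hy' : g * y * g⁻¹ ∈ Y := (mem_normalizer_iff.1 hg y).1 hy
      have hy'1 : g * y * g⁻¹ ≠ 1 := by
        intro hc
        apply hy1
        have e : y = g⁻¹ * (g * y * g⁻¹) * g := by group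
        rw [e, hc]; group
      exact le_iSup (fun y : {y : X // y ∈ Y ∧ y ≠ 1} => th (y : X)) ⟨g * y * g⁻¹, hy', hy'1⟩
    intro g hg
    rw [mem_normalizer_iff]
    intro w
    constructor
    · intro hw
      exact hmap g hg ⟨w, hw, by simp⟩
    · intro hw
      have h1 := hmap g⁻¹ (inv_mem hg) ⟨g * w * g⁻¹, hw, rfl⟩
      have e : (MulAut.conj g⁻¹).toMonoidHom (g * w * g⁻¹) = w := by
        simp only [MulEquiv.coe_toMonoidHom, MulAut.conj_apply]
        group
      rwa [e] at h1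

end Cfsg.Agent.Helper15.CoreBal
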