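import Mathlib
import Cfsg.Prelude.Def_LocalStructure
import Cfsg.Prelude.Def_CaseTheorems
import Cfsg.Agent.Helper14.PCore
import Cfsg.Agent.Helper19.Cores

set_option autoImplicit false

namespace Cfsg.Agent.Helper15

open Cfsg

/-- Lemma P: in a group `L` with `C_L(O_p(L)) ≤ O_p(L)`, a normal subgroup of order prime to `p`
is trivial. -/
theorem eq_bot_of_normal_coprime_of_charP {L : Type*} [Group L] [Finite L] (p : ℕ) [Fact p.Prime]
    (hchar : Subgroup.centralizer (pCore p L : Set L) ≤ pCore p L)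
    (K : Subgroup L) [hK : K.Normal] (hcop : (Nat.card K).Coprime p) : K = ⊥ := by
  have hP : IsPGroup p (pCore p L) := Cfsg.Agent.Helper14.pCore_isPGroup p
  have hdis : Disjoint K (pCore p L) := by
    apply Subgroup.disjoint_of_coprime_natCard
    obtain ⟨n, hn⟩ := IsPGroup.iff_card.mp hP
    rw [hn]
    exact Nat.Coprime.pow_right n hcop
  have hle : K ≤ Subgroup.centralizer (pCore p L : Set L) := by
    intro k hk
    rw [Subgroup.mem_centralizer_iff]
    intro y hy
    exact (Subgroup.commute_of_normal_of_disjoint K (pCore p L) hK (Cfsg.pCore_normal p L) hdis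
      k y hk hy).symm
  have : K ≤ K ⊓ pCore p L := le_inf le_rfl (hle.trans hchar)
  rw [disjoint_iff.mp hdis] at this
  exact le_bot_iff.mp this

/-- Lemma Q: in a group of parabolic characteristic `p`, if `N_G(T)` contains a Sylow `p`-subgroup
(`T` a nontrivial `p`-subgroup), every `p'`-subgroup `K ≤ N_G(T)` normalized by `N_G(T)` is
trivial. -/
theorem eq_bot_of_parabolic {G : Type*} [Group G] [Finite G] (p : ℕ) [Fact p.Prime]
    (hG : IsOfParabolicCharacteristic p G) (T : Subgroup G) (hT : IsPGroup p T) (hT1 : T ≠ ⊥)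
    (S : Sylow p G) (hS : (S : Subgroup G) ≤ Subgroup.normalizer (T : Set G))
    (K : Subgroup G) (hKN : K ≤ Subgroup.normalizer (T : Set G))
    (hNK : Subgroup.normalizer (T : Set G) ≤ Subgroup.normalizer (K : Set G))
    (hcop : (Nat.card K).Coprime p) : K = ⊥ := by
  have hchar := hG T hT hT1 ⟨S, hS⟩
  have : (K.subgroupOf (Subgroup.normalizer (T : Set G))).Normal :=
    (Subgroup.normal_subgroupOf_iff_le_normalizer hKN).mpr hNK
  have hcard : Nat.card (K.subgroupOf (Subgroup.normalizer (T : Set G))) = Nat.card K :=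
    Nat.card_congr (Subgroup.subgroupOfEquivOfLe hKN).toEquiv
  have h := eq_bot_of_normal_coprime_of_charP p hchar
    (K.subgroupOf (Subgroup.normalizer (T : Set G))) (by rw [hcard]; exact hcop)
  rw [Subgroup.subgroupOf_eq_bot] at h
  exact h.eq_bot_of_le hKN

/-- An involution acting fixed-point-freely on a finite normal subgroup inverts it. -/
theorem inverts_of_fixedPointFree {G : Type*} [Group G] (R : Subgroup G) [hR : R.Normal]
    [Finite R] (z : G) (hz : z * z = 1)
    (hfix : ∀ r ∈ R, z * r = r * z → r = 1) : ∀ r ∈ R, z * r * z⁻¹ = r⁻¹ := by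
  have hzinv : z⁻¹ = z := inv_eq_of_mul_eq_one_left hz
  let f : R → R := fun r => ⟨(r : G)⁻¹ * (z * r * z⁻¹), R.mul_mem (R.inv_mem r.2) (hR.conj_mem _ r.2 z)⟩
  have hinj : Function.Injective f := by
    intro r s hrs
    have h1 : (r : G)⁻¹ * (z * r * z⁻¹) = (s : G)⁻¹ * (z * s * z⁻¹) := congrArg Subtype.val hrs
    have h2 : z * ((s : G) * (r : G)⁻¹) = ((s : G) * (r : G)⁻¹) * z := by
      have : (s : G) * (r : G)⁻¹ = (z * s * z⁻¹) * (z * r * z⁻¹)⁻¹ := by
        have h3 : (s : G) * ((r : G)⁻¹ * (z * r * z⁻¹)) = z * s * z⁻¹ := by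
          rw [h1]; group
        calc (s : G) * (r : G)⁻¹ = ((s : G) * ((r : G)⁻¹ * (z * r * z⁻¹))) * (z * r * z⁻¹)⁻¹ := by group
          _ = (z * s * z⁻¹) * (z * r * z⁻¹)⁻¹ := by rw [h3]
      have h4 : (z * s * z⁻¹) * (z * r * z⁻¹)⁻¹ = z * ((s : G) * (r : G)⁻¹) * z⁻¹ := by group
      rw [h4] at this
      calc z * ((s : G) * (r : G)⁻¹) = (z * ((s : G) * (r : G)⁻¹) * z⁻¹) * z := by group
        _ = ((s : G) * (r : G)⁻¹) * z := by rw [← this]
    have h5 := hfix _ (R.mul_mem s.2 (R.inv_mem r.2)) h2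
    have : (s : G) = r := by
      have := mul_inv_eq_one.mp h5
      exact this
    exact Subtype.ext this.symm
  have hsurj : Function.Surjective f := Finite.injective_iff_surjective.mp hinj
  intro r hr
  obtain ⟨s, hs⟩ := hsurj ⟨r, hr⟩
  have hs' : (s : G)⁻¹ * (z * s * z⁻¹) = r := congrArg Subtype.val hs
  rw [← hs', hzinv]
  have e1 : z * ((s : G)⁻¹ * (z * s * z)) * z = (z * (s : G)⁻¹ * z) * (s : G) * (z * z) := by
    group
  have e2 : ((s : G)⁻¹ * (z * s * z))⁻¹ = z⁻¹ * (s : G)⁻¹ * z⁻¹ * s := by group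
  rw [e1, e2, hz, hzinv, mul_one]

end Cfsg.Agent.Helper15
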