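import Mathlib
import Cfsg.Prelude.Def_DStar
import Cfsg.Agent.Helper10.KMax

set_option autoImplicit false

namespace Cfsg.Agent.Helper15

open Cfsg
open scoped commutatorElement

/-- In a nilpotent group, if `Z₂ ≤ Z` (elementwise form) then the group is abelian. -/
theorem center_eq_top_of_second_center {G : Type*} [Group G] [hn : Group.IsNilpotent G]
    (h : ∀ x : G, (∀ y : G, ⁅x, y⁆ ∈ Subgroup.center G) → x ∈ Subgroup.center G) :
    Subgroup.center G = ⊤ := by
  obtain ⟨n, hn⟩ := hn.nilpotent'
  have key : ∀ m : ℕ, Subgroup.upperCentralSeries G m ≤ Subgroup.center G := by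
    intro m
    induction m with
    | zero => rw [Subgroup.upperCentralSeries_zero]; exact bot_le
    | succ m ih =>
      intro x hx
      exact h x (fun y => ih (Subgroup.mem_upperCentralSeries_succ_iff.mp hx y))
  rw [eq_top_iff, ← hn]
  exact key n

variable {S : Type*} [Group S]

/-- the class-two condition is inherited by subgroups -/
theorem class_two_mono {K L : Subgroup S} (hKL : K ≤ L) (hL : ⁅⁅L, L⁆, L⁆ = ⊥) :
    ⁅⁅K, K⁆, K⁆ = ⊥ := by
  rw [eq_bot_iff, ← hL]
  exact Subgroup.commutator_mono (Subgroup.commutator_mono hKL hKL) hKL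

/-- If all commutators `[x, y]` are central, then `⟨A, x⟩` has class at most two for abelian `A`. -/
theorem class_two_of_central {T : Type*} [Group T] (A : Subgroup T)
    (hA : ∀ a ∈ A, ∀ b ∈ A, a * b = b * a) (x : T)
    (hx : ∀ y : T, ⁅x, y⁆ ∈ Subgroup.center T) :
    ⁅⁅A ⊔ Subgroup.zpowers x, A ⊔ Subgroup.zpowers x⁆, A ⊔ Subgroup.zpowers x⁆ = ⊥ := by
  have hW : ∀ (K : Subgroup T), ∀ g ∈ K, ∀ w ∈ Subgroup.center T, g * w * g⁻¹ ∈ Subgroup.center T :=
    fun K g _ w hw => (inferInstance : (Subgroup.center T).Normal).conj_mem w hw g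
  have hxY : ∀ Y : Subgroup T, ⁅Subgroup.zpowers x, Y⁆ ≤ Subgroup.center T := by
    intro Y
    exact Cfsg.Agent.Helper10.commutator_zpowers_le (hW _) (fun y _ => hx y)
  have hAA : ⁅A, A⁆ ≤ Subgroup.center T := by
    rw [Subgroup.commutator_le]
    intro a ha b hb
    have : ⁅a, b⁆ = 1 := by
      rw [commutatorElement_def, hA a ha b hb]; group
    rw [this]; exact Subgroup.one_mem _
  have h1 : ⁅A, A ⊔ Subgroup.zpowers x⁆ ≤ Subgroup.center T := by
    rw [Subgroup.commutator_comm]
    exact Cfsg.Agent.Helper10.commutator_sup_le_of_conj_mem (hW _) hAA (hxY A)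
  have h2 : ⁅A ⊔ Subgroup.zpowers x, A ⊔ Subgroup.zpowers x⁆ ≤ Subgroup.center T :=
    Cfsg.Agent.Helper10.commutator_sup_le_of_conj_mem (hW _) h1 (hxY _)
  rw [eq_bot_iff]
  refine (Subgroup.commutator_mono h2 le_top).trans ?_
  rw [le_bot_iff, Subgroup.commutator_eq_bot_iff_le_centralizer]
  intro z hz
  rw [Subgroup.mem_centralizer_iff]
  intro t _
  exact (Subgroup.mem_center_iff.mp hz t)

/-- Two members of the `D*` family commute elementwise (in a nilpotent group). -/
theorem dStarFamily_commute [hn : Group.IsNilpotent S] {A B : Subgroup S}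
    (hA : A ∈ dStarFamily S) (hB : B ∈ dStarFamily S) :
    ∀ a ∈ A, ∀ b ∈ B, a * b = b * a := by
  set T : Subgroup S := A ⊔ B with hT
  have hAT : A ≤ T := le_sup_left
  have hBT : B ≤ T := le_sup_right
  -- the key property inside T
  have key : ∀ (C : Subgroup S), C ∈ dStarFamily S → C ≤ T → ∀ x : ↥T,
      (∀ y : ↥T, ⁅x, y⁆ ∈ Subgroup.center ↥T) → ∀ c ∈ C, c * (x : S) = (x : S) * c := by
    intro C hC hCT x hx
    have hCcomm : ∀ a ∈ C.subgroupOf T, ∀ b ∈ C.subgroupOf T, a * b = b * a := by
      intro a ha b hb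
      rw [Subgroup.mem_subgroupOf] at ha hb
      apply Subtype.ext
      have := hC.1.is_comm.comm ⟨(a : S), ha⟩ ⟨(b : S), hb⟩
      have h3 : (a : S) * (b : S) = (b : S) * (a : S) := congrArg Subtype.val this
      exact h3
    have h1 := class_two_of_central (C.subgroupOf T) hCcomm x hx
    have h2 := congrArg (Subgroup.map T.subtype) h1
    rw [Subgroup.map_commutator, Subgroup.map_commutator, Subgroup.map_sup,
      Subgroup.subgroupOf_map_subtype, inf_eq_left.mpr hCT, MonoidHom.map_zpowers,
      Subgroup.map_bot] at h2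
    exact hC.2 (x : S) h2
  have hcenter : Subgroup.center ↥T = ⊤ := by
    apply center_eq_top_of_second_center
    intro x hx
    have hxA := key A hA hAT x hx
    have hxB := key B hB hBT x hx
    have hle : T ≤ Subgroup.centralizer ({(x : S)} : Set S) := by
      apply sup_le
      · intro a ha
        rw [Subgroup.mem_centralizer_singleton_iff]
        exact hxA a ha
      · intro b hb
        rw [Subgroup.mem_centralizer_singleton_iff]
        exact hxB b hb
    rw [Subgroup.mem_center_iff]
    intro t
    apply Subtype.ext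
    exact Subgroup.mem_centralizer_singleton_iff.mp (hle t.2)
  intro a ha b hb
  have h1 : (⟨a, hAT ha⟩ : ↥T) ∈ Subgroup.center ↥T := by rw [hcenter]; exact Subgroup.mem_top _
  have h2 := Subgroup.mem_center_iff.mp h1 ⟨b, hBT hb⟩
  exact (congrArg Subtype.val h2).symm

/-- S3061: `D*(S)` belongs to its own family. -/
theorem dStar_mem_dStarFamily [hn : Group.IsNilpotent S] : dStar S ∈ dStarFamily S := by
  constructor
  · rw [← Subgroup.le_centralizer_iff_isMulCommutative]
    unfold dStar
    apply sSup_le
    intro A hA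
    rw [Subgroup.le_centralizer_iff]
    apply sSup_le
    intro B hB b hb
    rw [Subgroup.mem_centralizer_iff]
    intro a ha
    exact dStarFamily_commute hA hB a ha b hb
  · intro x hx
    have hle : dStar S ≤ Subgroup.centralizer ({x} : Set S) := by
      unfold dStar
      apply sSup_le
      intro A hA a ha
      rw [Subgroup.mem_centralizer_singleton_iff]
      have hAD : A ≤ dStar S := le_sSup hA
      exact hA.2 x (class_two_mono (sup_le_sup_right hAD _) hx) a ha
    intro d hd
    exact Subgroup.mem_centralizer_singleton_iff.mp (hle hd)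

end Cfsg.Agent.Helper15
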