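import Mathlib
import Cfsg.Prelude.Def_DStar
import Cfsg.Agent.Helper15.DStar
import Cfsg.Agent.S0649
import Cfsg.Agent.S0650

set_option autoImplicit false

/-! S3062: `Z(S) ≤ D*(S) ≤ Z(J(S))`, and `D*(S)` lies in every maximal normal abelian subgroup. -/

namespace Cfsg.Agent.Helper15

open Cfsg
open scoped commutatorElement

variable {S : Type*} [Group S]

/-- The `D*` family is invariant under conjugation. -/
theorem dStarFamily_conj {A : Subgroup S} (hA : A ∈ dStarFamily S) (g : S) :
    A.map (MulAut.conj g).toMonoidHom ∈ dStarFamily S := by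
  set φ : S →* S := (MulAut.conj g).toMonoidHom with hφ
  have hφinj : Function.Injective φ := (MulAut.conj g).injective
  constructor
  · refine ⟨⟨?_⟩⟩
    rintro ⟨_, ⟨a, ha, rfl⟩⟩ ⟨_, ⟨b, hb, rfl⟩⟩
    apply Subtype.ext
    have := hA.1.is_comm.comm ⟨a, ha⟩ ⟨b, hb⟩
    have h3 : a * b = b * a := congrArg Subtype.val this
    show φ a * φ b = φ b * φ a
    rw [← map_mul, ← map_mul, h3]
  · intro x hx
    set x₀ : S := g⁻¹ * x * g with hx₀
    have hφx : φ x₀ = x := by
      simp only [hφ, hx₀, MulEquiv.toMonoidHom_eq_coe, MonoidHom.coe_coe, MulAut.conj_apply]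
      group
    have hK : A.map φ ⊔ Subgroup.zpowers x = (A ⊔ Subgroup.zpowers x₀).map φ := by
      rw [Subgroup.map_sup, MonoidHom.map_zpowers, hφx]
    rw [hK, ← Subgroup.map_commutator, ← Subgroup.map_commutator,
      Subgroup.map_eq_bot_iff_of_injective _ hφinj] at hx
    have h := hA.2 x₀ hx
    rintro _ ⟨a, ha, rfl⟩
    rw [← hφx, ← map_mul, ← map_mul, h a ha]

/-- `D*(S)` is normal. -/
theorem dStar_normal [hn : Group.IsNilpotent S] : (dStar S).Normal := by
  have hD : dStar S ∈ dStarFamily S := dStar_mem_dStarFamily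
  constructor
  intro d hd g
  have h1 : (dStar S).map (MulAut.conj g).toMonoidHom ≤ dStar S :=
    le_sSup (dStarFamily_conj hD g)
  exact h1 ⟨d, hd, by simp [MulAut.conj_apply]⟩

/-- The centre belongs to the family. -/
theorem center_mem_dStarFamily : Subgroup.center S ∈ dStarFamily S := by
  refine ⟨inferInstance, ?_⟩
  intro x _ a ha
  exact ((Subgroup.mem_center_iff.mp ha) x).symm

/-- An abelian subgroup normalized by `D*(S)` centralizes it. -/
theorem commute_dStar_of_normalized [hn : Group.IsNilpotent S] (B : Subgroup S)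
    (hBc : ∀ a ∈ B, ∀ b ∈ B, a * b = b * a)
    (hDB : dStar S ≤ Subgroup.normalizer (B : Set S)) :
    ∀ x ∈ B, ∀ d ∈ dStar S, d * x = x * d := by
  have hD : dStar S ∈ dStarFamily S := dStar_mem_dStarFamily
  have hDn : (dStar S).Normal := dStar_normal
  set D := dStar S with hDdef
  have hDc : ∀ a ∈ D, ∀ b ∈ D, a * b = b * a := by
    intro a ha b hb
    have := hD.1.is_comm.comm ⟨a, ha⟩ ⟨b, hb⟩
    exact congrArg Subtype.val this
  set T : Subgroup S := D ⊔ B with hT
  have hDT : D ≤ T := le_sup_left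
  have hBT : B ≤ T := le_sup_right
  have hTN : T ≤ Subgroup.normalizer (B : Set S) := sup_le hDB Subgroup.le_normalizer
  intro x hxB
  -- elements of D ⊓ B are central in T
  have hZ : ∀ z ∈ D ⊓ B, ∀ t ∈ T, t * z = z * t := by
    intro z hz t ht
    have h1 : D ≤ Subgroup.centralizer ({z} : Set S) := by
      intro d hd
      rw [Subgroup.mem_centralizer_singleton_iff]
      exact hDc d hd z hz.1
    have h2 : B ≤ Subgroup.centralizer ({z} : Set S) := by
      intro b hb
      rw [Subgroup.mem_centralizer_singleton_iff]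
      exact hBc b hb z hz.2
    exact Subgroup.mem_centralizer_singleton_iff.mp ((sup_le h1 h2) ht)
  have hcomm : ∀ y ∈ T, ⁅x, y⁆ ∈ D ⊓ B := by
    intro y hy
    constructor
    · obtain ⟨d, hd, b, hb, rfl⟩ := Subgroup.mem_sup_of_normal_left.mp hy
      have hbx : b * x⁻¹ * b⁻¹ = x⁻¹ := by
        have := hBc b hb x⁻¹ (B.inv_mem hxB)
        rw [this]; group
      have e : ⁅x, d * b⁆ = (x * d * x⁻¹) * d⁻¹ := by
        rw [commutatorElement_def]
        calc x * (d * b) * x⁻¹ * (d * b)⁻¹ = x * d * (b * x⁻¹ * b⁻¹) * d⁻¹ := by group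
          _ = x * d * x⁻¹ * d⁻¹ := by rw [hbx]
      rw [e]
      exact D.mul_mem (hDn.conj_mem d hd x) (D.inv_mem hd)
    · have hyN := hTN hy
      have h1 : y * x⁻¹ * y⁻¹ ∈ B :=
        (Subgroup.mem_normalizer_iff.mp hyN x⁻¹).mp (B.inv_mem hxB)
      have e : ⁅x, y⁆ = x * (y * x⁻¹ * y⁻¹) := by
        rw [commutatorElement_def]; group
      rw [e]
      exact B.mul_mem hxB h1
  -- class two inside T
  have hDcomm' : ∀ a ∈ D.subgroupOf T, ∀ b ∈ D.subgroupOf T, a * b = b * a := by
    intro a ha b hb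
    rw [Subgroup.mem_subgroupOf] at ha hb
    exact Subtype.ext (hDc a ha b hb)
  have hx' : ∀ y : ↥T, ⁅(⟨x, hBT hxB⟩ : ↥T), y⁆ ∈ Subgroup.center ↥T := by
    intro y
    rw [Subgroup.mem_center_iff]
    intro t
    apply Subtype.ext
    have := hZ _ (hcomm (y : S) y.2) (t : S) t.2
    simpa [commutatorElement_def] using this
  have h1 := class_two_of_central (D.subgroupOf T) hDcomm' (⟨x, hBT hxB⟩ : ↥T) hx'
  have h2 := congrArg (Subgroup.map T.subtype) h1
  rw [Subgroup.map_commutator, Subgroup.map_commutator, Subgroup.map_sup,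
    Subgroup.subgroupOf_map_subtype, inf_eq_left.mpr hDT, MonoidHom.map_zpowers,
    Subgroup.map_bot] at h2
  exact hD.2 x h2

/-- If `D*(S)` normalizes the abelian subgroup `B`, then `D*(S) B` is abelian. -/
theorem isMulCommutative_dStar_sup [hn : Group.IsNilpotent S] (B : Subgroup S)
    (hB : IsMulCommutative B)
    (hDB : dStar S ≤ Subgroup.normalizer (B : Set S)) : IsMulCommutative ↥(dStar S ⊔ B) := by
  have hD : dStar S ∈ dStarFamily S := dStar_mem_dStarFamily
  have hBc : ∀ a ∈ B, ∀ b ∈ B, a * b = b * a := by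
    intro a ha b hb
    exact congrArg Subtype.val (hB.is_comm.comm ⟨a, ha⟩ ⟨b, hb⟩)
  have hDc : ∀ a ∈ dStar S, ∀ b ∈ dStar S, a * b = b * a := by
    intro a ha b hb
    exact congrArg Subtype.val (hD.1.is_comm.comm ⟨a, ha⟩ ⟨b, hb⟩)
  have hcen := commute_dStar_of_normalized B hBc hDB
  rw [← Subgroup.le_centralizer_iff_isMulCommutative]
  apply sup_le
  · rw [Subgroup.le_centralizer_iff]
    apply sup_le
    · intro d hd
      rw [Subgroup.mem_centralizer_iff]
      intro d' hd'
      exact hDc d' hd' d hd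
    · intro b hb
      rw [Subgroup.mem_centralizer_iff]
      intro d hd
      exact hcen b hb d hd
  · rw [Subgroup.le_centralizer_iff]
    apply sup_le
    · intro d hd
      rw [Subgroup.mem_centralizer_iff]
      intro b hb
      exact (hcen b hb d hd).symm
    · intro b hb
      rw [Subgroup.mem_centralizer_iff]
      intro b' hb'
      exact hBc b' hb' b hb

end Cfsg.Agent.Helper15
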