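import Mathlib
import Cfsg.Prelude.Def_DStar
import Cfsg.Prelude.Def_PLocal
import Cfsg.Agent.Helper15.DStar2
import Cfsg.Agent.Helper26.ZJInst
import Cfsg.Agent.Helper14.PCore
import Cfsg.Agent.Helper14.Conj

set_option autoImplicit false

/-! S3060: the `D*`-theorem. -/

namespace Cfsg.Agent.Helper15

open Cfsg Subgroup
open scoped commutatorElement

variable {G : Type*} [Group G]

/-- `G`-level form of membership in the `D*` family of the subgroup `S`. -/
def DProp (S A : Subgroup G) : Prop :=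
  A ≤ S ∧ (∀ a ∈ A, ∀ b ∈ A, a * b = b * a) ∧
    ∀ x ∈ S, ⁅⁅A ⊔ zpowers x, A ⊔ zpowers x⁆, A ⊔ zpowers x⁆ = ⊥ → ∀ a ∈ A, a * x = x * a

theorem map_class_two (S : Subgroup G) (A' : Subgroup ↥S) (x : ↥S) :
    (⁅⁅A' ⊔ zpowers x, A' ⊔ zpowers x⁆, A' ⊔ zpowers x⁆).map S.subtype =
      ⁅⁅A'.map S.subtype ⊔ zpowers (x : G), A'.map S.subtype ⊔ zpowers (x : G)⁆,
        A'.map S.subtype ⊔ zpowers (x : G)⁆ := by
  rw [Subgroup.map_commutator, Subgroup.map_commutator, Subgroup.map_sup,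
    MonoidHom.map_zpowers]
  rfl

theorem class_two_iff (S : Subgroup G) (A' : Subgroup ↥S) (x : ↥S) :
    ⁅⁅A' ⊔ zpowers x, A' ⊔ zpowers x⁆, A' ⊔ zpowers x⁆ = ⊥ ↔
      ⁅⁅A'.map S.subtype ⊔ zpowers (x : G), A'.map S.subtype ⊔ zpowers (x : G)⁆,
        A'.map S.subtype ⊔ zpowers (x : G)⁆ = ⊥ := by
  rw [← map_class_two, Subgroup.map_eq_bot_iff_of_injective _ S.subtype_injective]

theorem dProp_of_mem {S : Subgroup G} {A' : Subgroup ↥S} (h : A' ∈ dStarFamily ↥S) :
    DProp S (A'.map S.subtype) := by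
  refine ⟨Subgroup.map_subtype_le A', ?_, ?_⟩
  · rintro _ ⟨a, ha, rfl⟩ _ ⟨b, hb, rfl⟩
    have := h.1.is_comm.comm ⟨a, ha⟩ ⟨b, hb⟩
    have h3 : a * b = b * a := congrArg Subtype.val this
    rw [← map_mul, ← map_mul, h3]
  · intro x hxS hx
    have hx' := (class_two_iff S A' ⟨x, hxS⟩).mpr hx
    rintro _ ⟨a, ha, rfl⟩
    have := h.2 ⟨x, hxS⟩ hx' a ha
    exact congrArg Subtype.val this

theorem mem_of_dProp {S A : Subgroup G} (h : DProp S A) : A.subgroupOf S ∈ dStarFamily ↥S := by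
  constructor
  · refine ⟨⟨?_⟩⟩
    intro a b
    apply Subtype.ext
    apply Subtype.ext
    exact h.2.1 _ (mem_subgroupOf.mp a.2) _ (mem_subgroupOf.mp b.2)
  · intro x hx a ha
    rw [class_two_iff, subgroupOf_map_subtype, inf_eq_left.mpr h.1] at hx
    apply Subtype.ext
    exact h.2.2 x x.2 hx a (mem_subgroupOf.mp ha)

theorem dProp_dStarOf (S : Subgroup G) [Group.IsNilpotent ↥S] : DProp S (dStarOf S) :=
  dProp_of_mem dStar_mem_dStarFamily

theorem le_dStarOf_of_dProp {S A : Subgroup G} (h : DProp S A) : A ≤ dStarOf S := by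
  have h1 : A.subgroupOf S ≤ dStar ↥S := le_sSup (mem_of_dProp h)
  have h2 := Subgroup.map_mono (f := S.subtype) h1
  rw [subgroupOf_map_subtype, inf_eq_left.mpr h.1] at h2
  exact h2

theorem le_normalizer_dStarOf (S : Subgroup G) [Group.IsNilpotent ↥S] :
    S ≤ normalizer ((dStarOf S : Subgroup G) : Set G) := by
  have hn : (dStar ↥S).Normal := dStar_normal
  intro s hs
  rw [mem_normalizer_iff]
  have key : ∀ t ∈ S, ∀ d ∈ dStarOf S, t * d * t⁻¹ ∈ dStarOf S := by
    rintro t ht _ ⟨d, hd, rfl⟩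
    exact ⟨⟨t, ht⟩ * d * ⟨t, ht⟩⁻¹, hn.conj_mem d hd ⟨t, ht⟩, rfl⟩
  intro d
  constructor
  · exact key s hs d
  · intro hd
    have := key s⁻¹ (inv_mem hs) _ hd
    simpa [mul_assoc] using this

theorem commute_dStarOf_of_normalized (S : Subgroup G) [Group.IsNilpotent ↥S] (B : Subgroup G)
    (hBS : B ≤ S) (hBc : ∀ a ∈ B, ∀ b ∈ B, a * b = b * a)
    (hDB : dStarOf S ≤ normalizer (B : Set G)) :
    ∀ x ∈ B, ∀ d ∈ dStarOf S, d * x = x * d := by
  have hBc' : ∀ a ∈ B.subgroupOf S, ∀ b ∈ B.subgroupOf S, a * b = b * a := by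
    intro a ha b hb
    apply Subtype.ext
    exact hBc _ (mem_subgroupOf.mp ha) _ (mem_subgroupOf.mp hb)
  have hDB' : dStar ↥S ≤ normalizer ((B.subgroupOf S : Subgroup ↥S) : Set ↥S) := by
    intro d hd
    have hdG : (d : G) ∈ dStarOf S := ⟨d, hd, rfl⟩
    have := hDB hdG
    rw [mem_normalizer_iff] at this ⊢
    intro b
    rw [mem_subgroupOf, mem_subgroupOf]
    exact this (b : G)
  have := commute_dStar_of_normalized (B.subgroupOf S) hBc' hDB'
  rintro x hxB _ ⟨d, hd, rfl⟩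
  have h1 := this ⟨x, hBS hxB⟩ (mem_subgroupOf.mpr hxB) d hd
  exact congrArg Subtype.val h1

theorem DProp.map {S A : Subgroup G} (h : DProp S A) (φ : G ≃* G) :
    DProp (S.map φ.toMonoidHom) (A.map φ.toMonoidHom) := by
  refine ⟨Subgroup.map_mono h.1, ?_, ?_⟩
  · rintro _ ⟨a, ha, rfl⟩ _ ⟨b, hb, rfl⟩
    rw [← map_mul, ← map_mul, h.2.1 a ha b hb]
  · rintro _ ⟨x₀, hx₀, rfl⟩ hx
    have hK : A.map φ.toMonoidHom ⊔ zpowers (φ.toMonoidHom x₀) =
        (A ⊔ zpowers x₀).map φ.toMonoidHom := by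
      rw [Subgroup.map_sup, MonoidHom.map_zpowers]
    rw [hK, ← Subgroup.map_commutator, ← Subgroup.map_commutator,
      Subgroup.map_eq_bot_iff_of_injective _ φ.injective] at hx
    have hh := h.2.2 x₀ hx₀ hx
    rintro _ ⟨a, ha, rfl⟩
    rw [← map_mul, ← map_mul, hh a ha]

/-- If `L/C` is a `p`-group then `L = C (S ∩ L)` for a Sylow `p`-subgroup `S`. -/
theorem le_sup_sylow_inf [Finite G] {p : ℕ} [Fact p.Prime] (S : Sylow p G)
    (L C : Subgroup G) [hL : L.Normal]
    (hpow : ∀ x ∈ L, ∃ k : ℕ, x ^ (p ^ k) ∈ C) [hC : C.Normal] :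
    L ≤ C ⊔ ((S : Subgroup G) ⊓ L) := by
  have hp : p.Prime := Fact.out
  have hcardT : Nat.card (((S : Subgroup G) ⊓ L).subgroupOf L) =
      p ^ (Nat.card L).factorization p := by
    rw [Cfsg.Agent.Helper26.card_subgroupOf_of_le inf_le_right]
    exact Cfsg.Agent.Helper3.card_sylow_inf_normal S L
  let P : Sylow p L := Sylow.ofCard _ hcardT
  have hP : (P : Subgroup L) = ((S : Subgroup G) ⊓ L).subgroupOf L := Sylow.coe_ofCard _ hcardT
  have hnd : ¬ p ∣ ((S : Subgroup G) ⊓ L).relIndex L := by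
    have := P.not_dvd_index
    rwa [hP] at this
  have hquot : IsPGroup p (L ⧸ C.subgroupOf L) := by
    intro q
    obtain ⟨x, rfl⟩ := QuotientGroup.mk_surjective q
    obtain ⟨k, hk⟩ := hpow x.1 x.2
    refine ⟨k, ?_⟩
    rw [← QuotientGroup.mk_pow, QuotientGroup.eq_one_iff, mem_subgroupOf]
    simpa using hk
  obtain ⟨n, hn⟩ := IsPGroup.iff_card.mp hquot
  have hCrel : C.relIndex L = p ^ n := by
    rw [← hn]
    exact (Subgroup.index_eq_card _)
  have hM1 : (C ⊔ ((S : Subgroup G) ⊓ L)).relIndex L ∣ p ^ n := by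
    rw [← hCrel]
    exact relIndex_dvd_of_le_left L le_sup_left
  have hM2 : (C ⊔ ((S : Subgroup G) ⊓ L)).relIndex L ∣ ((S : Subgroup G) ⊓ L).relIndex L :=
    relIndex_dvd_of_le_left L le_sup_right
  obtain ⟨j, _, hj⟩ := (Nat.dvd_prime_pow hp).mp hM1
  have hj0 : j = 0 := by
    by_contra hne
    apply hnd
    refine dvd_trans ?_ hM2
    rw [hj]
    exact dvd_pow_self p hne
  rw [hj0, pow_zero, relIndex_eq_one] at hj
  exact hj

/-- `G`-level form of `class_two_of_central`. -/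
theorem class_two_of_central_mem (A : Subgroup G) (hA : ∀ a ∈ A, ∀ b ∈ A, a * b = b * a) (x : G)
    (hx : ∀ y ∈ A ⊔ zpowers x, ∀ t ∈ A ⊔ zpowers x, ⁅x, y⁆ * t = t * ⁅x, y⁆) :
    ⁅⁅A ⊔ zpowers x, A ⊔ zpowers x⁆, A ⊔ zpowers x⁆ = ⊥ := by
  set T : Subgroup G := A ⊔ zpowers x with hT
  have hAT : A ≤ T := le_sup_left
  have hxT : x ∈ T := (le_sup_right : zpowers x ≤ T) (mem_zpowers x)
  have hA' : ∀ a ∈ A.subgroupOf T, ∀ b ∈ A.subgroupOf T, a * b = b * a := by
    intro a ha b hb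
    apply Subtype.ext
    exact hA _ (mem_subgroupOf.mp ha) _ (mem_subgroupOf.mp hb)
  have hx' : ∀ y : ↥T, ⁅(⟨x, hxT⟩ : ↥T), y⁆ ∈ Subgroup.center ↥T := by
    intro y
    rw [Subgroup.mem_center_iff]
    intro t
    apply Subtype.ext
    have := hx (y : G) y.2 (t : G) t.2
    simpa [commutatorElement_def] using this.symm
  have h1 := class_two_of_central (A.subgroupOf T) hA' (⟨x, hxT⟩ : ↥T) hx'
  rw [class_two_iff, subgroupOf_map_subtype, inf_eq_left.mpr hAT] at h1
  exact h1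

/-- The `D*`-theorem in quotient-free form. -/
theorem dStarOf_normal_of_stabHyp [Finite G] {p : ℕ} [Fact p.Prime]
    (hc : centralizer (pCore p G : Set G) ≤ pCore p G)
    (hst : Cfsg.Agent.Helper26.StabHyp p G) (S : Sylow p G) :
    (dStarOf (S : Subgroup G)).Normal := by
  have : Group.IsNilpotent ↥(S : Subgroup G) := S.2.isNilpotent
  set D := dStarOf (S : Subgroup G) with hD
  set Q := pCore p G with hQ
  have hQn : Q.Normal := Cfsg.Agent.Helper14.pCore_normal p
  have hQp : IsPGroup p Q := Cfsg.Agent.Helper14.pCore_isPGroup p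
  have hQS : Q ≤ S := Cfsg.Agent.Helper14.pCore_le_sylow p S
  have hDP : DProp (S : Subgroup G) D := dProp_dStarOf _
  have hDS : D ≤ S := hDP.1
  have hDc := hDP.2.1
  have hSD : (S : Subgroup G) ≤ normalizer (D : Set G) := le_normalizer_dStarOf _
  -- (1) `D ≤ Q`
  have hDQ : D ≤ Q := by
    obtain ⟨L, hLn, hCL, hLpow, hLq⟩ := hst Q hQn hQp
    have hLp : IsPGroup p L := by
      rintro ⟨x, hx⟩
      obtain ⟨k, hk⟩ := hLpow x hx
      obtain ⟨j, hj⟩ := hQp ⟨_, hc hk⟩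
      refine ⟨k + j, ?_⟩
      apply Subtype.ext
      have h2 : (x ^ p ^ k) ^ p ^ j = 1 := congrArg Subtype.val hj
      show x ^ p ^ (k + j) = 1
      rw [pow_add, pow_mul]; exact h2
    have hLQ : L ≤ Q := Cfsg.Agent.Helper14.le_pCore p hLn hLp
    intro d hd
    apply hLQ
    apply hLq
    have h1 : ⁅Q, zpowers d⁆ ≤ D := by
      rw [commutator_le]
      intro q hq y hy
      have hyD : y ∈ D := (zpowers_le.mpr hd) hy
      have : q * y * q⁻¹ ∈ D := (mem_normalizer_iff.mp (hSD (hQS hq)) y).mp hyD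
      rw [commutatorElement_def]
      exact D.mul_mem this (D.inv_mem hyD)
    rw [eq_bot_iff]
    refine (commutator_mono h1 (zpowers_le.mpr hd)).trans ?_
    rw [commutator_le]
    intro a ha b hb
    rw [commutatorElement_def, hDc a ha b hb]
    simp
  -- (2) `D` commutes with each conjugate
  have hcjS : ∀ h : G, D.map (Cfsg.Agent.Helper14.cj h) ≤ Q := by
    rintro h _ ⟨d, hd, rfl⟩
    exact hQn.conj_mem d (hDQ hd) h
  have hcomm1 : ∀ h : G, ∀ x ∈ D.map (Cfsg.Agent.Helper14.cj h), ∀ d ∈ D, d * x = x * d := by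
    intro h
    apply commute_dStarOf_of_normalized (S : Subgroup G) (D.map (Cfsg.Agent.Helper14.cj h))
    · exact (hcjS h).trans hQS
    · rintro _ ⟨a, ha, rfl⟩ _ ⟨b, hb, rfl⟩
      rw [← map_mul, ← map_mul, hDc a ha b hb]
    · intro d hd
      have h1 : h⁻¹ * d * h ∈ normalizer (D : Set G) := by
        apply hSD; apply hQS
        have := hQn.conj_mem d (hDQ hd) h⁻¹
        simpa using this
      rw [← Cfsg.Agent.Helper14.mem_map_cj, Cfsg.Agent.Helper14.map_cj_normalizer] at h1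
      exact h1
  -- (3) the normal closure
  set P := normalClosure (D : Set G) with hP
  have hPn : P.Normal := normalClosure_normal
  have hDP' : D ≤ P := le_normalClosure
  have hPQ : P ≤ Q := normalClosure_le_normal hDQ
  have hPp : IsPGroup p P := hQp.to_le hPQ
  have hgen : ∀ y ∈ Group.conjugatesOfSet (D : Set G), ∃ g : G, ∃ d ∈ D, y = g * d * g⁻¹ := by
    intro y hy
    rw [Group.mem_conjugatesOfSet_iff] at hy
    obtain ⟨d, hd, hdy⟩ := hy
    rw [isConj_iff] at hdy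
    obtain ⟨g, rfl⟩ := hdy
    exact ⟨g, d, hd, rfl⟩
  have hPc : ∀ a ∈ P, ∀ b ∈ P, a * b = b * a := by
    have hcomm : IsMulCommutative ↥(closure (Group.conjugatesOfSet (D : Set G))) := by
      apply Subgroup.isMulCommutative_closure
      intro y₁ hy₁ y₂ hy₂
      obtain ⟨g₁, d₁, hd₁, rfl⟩ := hgen y₁ hy₁
      obtain ⟨g₂, d₂, hd₂, rfl⟩ := hgen y₂ hy₂
      have h1 := hcomm1 (g₁⁻¹ * g₂) _ ⟨d₂, hd₂, rfl⟩ d₁ hd₁
      rw [Cfsg.Agent.Helper14.cj_apply] at h1
      have e1 : g₁ * d₁ * g₁⁻¹ * (g₂ * d₂ * g₂⁻¹) =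
          g₁ * (d₁ * (g₁⁻¹ * g₂ * d₂ * (g₁⁻¹ * g₂)⁻¹)) * g₁⁻¹ := by group
      have e2 : g₂ * d₂ * g₂⁻¹ * (g₁ * d₁ * g₁⁻¹) =
          g₁ * ((g₁⁻¹ * g₂ * d₂ * (g₁⁻¹ * g₂)⁻¹) * d₁) * g₁⁻¹ := by group
      rw [e1, e2, h1]
    intro a ha b hb
    exact congrArg Subtype.val (hcomm.is_comm.comm ⟨a, ha⟩ ⟨b, hb⟩)
  -- (4) `P` has the `D*` property
  have hPD : DProp (S : Subgroup G) P := by
    refine ⟨hPQ.trans hQS, hPc, ?_⟩
    intro x hxS hx
    obtain ⟨L, hLn, hCL, hLpow, hLq⟩ := hst P hPn hPp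
    have hxL : x ∈ L := by
      apply hLq
      rw [eq_bot_iff, ← hx]
      exact commutator_mono (commutator_mono le_sup_left le_sup_right) le_sup_right
    set T : Subgroup G := P ⊔ zpowers x with hT
    have hPT : P ≤ T := le_sup_left
    have hxT : x ∈ T := (le_sup_right : zpowers x ≤ T) (mem_zpowers x)
    -- commutators `[x, a]` are central in `T`
    have hcen : ∀ a ∈ P, ∀ t ∈ T, ⁅x, a⁆ * t = t * ⁅x, a⁆ := by
      intro a ha t ht
      have h1 : ⁅x, a⁆ ∈ ⁅T, T⁆ := commutator_mem_commutator hxT (hPT ha)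
      have h2 : ⁅⁅x, a⁆, t⁆ ∈ ⁅⁅T, T⁆, T⁆ := commutator_mem_commutator h1 ht
      rw [hx, mem_bot, commutatorElement_eq_one_iff_mul_comm] at h2
      exact h2
    have hxaP : ∀ a ∈ P, ⁅x, a⁆ ∈ P := by
      intro a ha
      rw [commutatorElement_def]
      exact P.mul_mem (hPn.conj_mem a ha x) (P.inv_mem ha)
    have key : ∀ h : G, ∀ y ∈ D.map (Cfsg.Agent.Helper14.cj h), y * x = x * y := by
      intro h y hy
      have : (centralizer (P : Set G)).Normal := Subgroup.normal_centralizer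
      have hle := le_sup_sylow_inf (h • S) L (centralizer (P : Set G)) hLpow
      obtain ⟨c, hcC, s, hs, rfl⟩ := mem_sup_of_normal_left.mp (hle hxL)
      have hsS : s ∈ (S : Subgroup G).map (Cfsg.Agent.Helper14.cj h) := by
        rw [Cfsg.Agent.Helper14.mem_map_cj]
        exact (Cfsg.Agent.Helper14.mem_sylow_smul S h s).mp hs.1
      have hcP : ∀ a ∈ P, a * c = c * a := fun a ha => (mem_centralizer_iff.mp hcC a ha)
      have hsa : ∀ a ∈ P, ⁅s, a⁆ = ⁅c * s, a⁆ := by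
        intro a ha
        have h1 := hcP _ (hPn.conj_mem a ha s)
        rw [commutatorElement_def, commutatorElement_def]
        calc s * a * s⁻¹ * a⁻¹ = c * (s * a * s⁻¹) * c⁻¹ * a⁻¹ := by rw [← h1]; group
          _ = c * s * a * (c * s)⁻¹ * a⁻¹ := by group
      -- `P ⊔ zpowers s` has class at most two
      have hcl : ⁅⁅P ⊔ zpowers s, P ⊔ zpowers s⁆, P ⊔ zpowers s⁆ = ⊥ := by
        apply class_two_of_central_mem P hPc s
        intro y' hy' t ht
        obtain ⟨a, ha, z, hz, rfl⟩ := mem_sup_of_normal_left.mp hy'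
        have hzs : z * s⁻¹ * z⁻¹ = s⁻¹ := by
          obtain ⟨k, rfl⟩ := hz
          have : Commute (s ^ k) s⁻¹ := ((Commute.refl s).zpow_left k).inv_right
          rw [this.eq]; group
        have e : ⁅s, a * z⁆ = ⁅c * s, a⁆ := by
          rw [← hsa a ha, commutatorElement_def, commutatorElement_def]
          calc s * (a * z) * s⁻¹ * (a * z)⁻¹ = s * a * (z * s⁻¹ * z⁻¹) * a⁻¹ := by group
            _ = s * a * s⁻¹ * a⁻¹ := by rw [hzs]
        rw [e]
        -- `[x, a]` commutes with `P` and with `s`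
        have hw := hxaP a ha
        have h1 : P ≤ centralizer ({⁅c * s, a⁆} : Set G) := by
          intro b hb
          rw [mem_centralizer_singleton_iff]
          exact hPc b hb _ hw
        have h2 : zpowers s ≤ centralizer ({⁅c * s, a⁆} : Set G) := by
          rw [zpowers_le, mem_centralizer_singleton_iff]
          have h3 := hcen a ha (c * s) hxT
          have h4 := hcP _ hw
          -- s = c⁻¹ * (c * s)
          calc s * ⁅c * s, a⁆ = c⁻¹ * ((c * s) * ⁅c * s, a⁆) := by group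
            _ = c⁻¹ * (⁅c * s, a⁆ * (c * s)) := by rw [h3]
            _ = c⁻¹ * (⁅c * s, a⁆ * c) * s := by group
            _ = c⁻¹ * (c * ⁅c * s, a⁆) * s := by rw [h4]
            _ = ⁅c * s, a⁆ * s := by group
        exact (mem_centralizer_singleton_iff.mp ((sup_le h1 h2) ht)).symm
      have hDh : D.map (Cfsg.Agent.Helper14.cj h) ≤ P := by
        rintro _ ⟨d, hd, rfl⟩
        exact hPn.conj_mem d (hDP' hd) h
      have hcl2 := class_two_mono (sup_le_sup_right hDh (zpowers s)) hcl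
      have hDPh := (hDP.map (MulAut.conj h)).2.2 s hsS hcl2 y hy
      have hyc := hcP y (hDh hy)
      calc y * (c * s) = (y * c) * s := by group
        _ = c * (y * s) := by rw [hyc]; group
        _ = c * s * y := by rw [hDPh]; group
    have hle : P ≤ centralizer ({x} : Set G) := by
      show closure (Group.conjugatesOfSet (D : Set G)) ≤ _
      rw [closure_le]
      intro y hy
      obtain ⟨g, d, hd, rfl⟩ := hgen y hy
      show _ ∈ centralizer ({x} : Set G)
      rw [mem_centralizer_singleton_iff]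
      exact key g _ ⟨d, hd, rfl⟩
    intro a ha
    exact mem_centralizer_singleton_iff.mp (hle ha)
  have hPD' : P ≤ D := le_dStarOf_of_dProp hPD
  have hDeq : D = P := le_antisymm hDP' hPD'
  rw [hDeq]
  exact hPn

end Cfsg.Agent.Helper15
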