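import Mathlib
import Cfsg.Agent.Helper29.EsnDefs

set_option autoImplicit false

/-! S5877 piece WSP: fixed-space computations. -/

namespace Cfsg.Agent.S5877P

open Matrix Module

variable {n : ℕ} {F : Type*} [Field F] {r : ℕ} {Q : Subgroup (GLn n F)} {ζ : Fˣ}

namespace WSP

theorem inv_mulVec_of_mem_Eig (g : GLn n F) (c : F) (hc : c ≠ 0) (v : Fin n → F)
    (hv : v ∈ Eig g c) :
    ((g⁻¹ : GLn n F) : Matrix (Fin n) (Fin n) F) *ᵥ v = c⁻¹ • v := by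
  rw [mem_Eig] at hv
  apply mulVec_injective g
  show (g : Matrix (Fin n) (Fin n) F) *ᵥ (((g⁻¹ : GLn n F) : Matrix (Fin n) (Fin n) F) *ᵥ v) =
    (g : Matrix (Fin n) (Fin n) F) *ᵥ (c⁻¹ • v)
  rw [mulVec_inv_mulVec, Matrix.mulVec_smul, hv, smul_smul, inv_mul_cancel₀ hc, one_smul]

end WSP

theorem tw_fixes_Wsp (g a : GLn n F) (c : F) (hc : c ≠ 0) : Fixes (tw g a) (Wsp g c a) := by
  intro v hv
  rw [mem_Wsp] at hv
  obtain ⟨hv1, hv2⟩ := hv
  rw [mem_Eig] at hv2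
  unfold tw
  rw [mul_mulVec, mul_mulVec, mul_mulVec, WSP.inv_mulVec_of_mem_Eig g c hc v hv1,
    Matrix.mulVec_smul, Matrix.mulVec_smul, hv2, smul_smul, inv_mul_cancel₀ hc, one_smul,
    inv_mulVec_mulVec]

theorem conj_fixes (g u : GLn n F) (c : F) (hc : c ≠ 0) (W : Submodule F (Fin n → F))
    (hW : W ≤ Eig g c) (hu : Fixes u W) : Fixes (g * u * g⁻¹) W := by
  intro v hv
  have hv1 : v ∈ Eig g c := hW hv
  have hv2 := hv1
  rw [mem_Eig] at hv2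
  rw [mul_mulVec, mul_mulVec, WSP.inv_mulVec_of_mem_Eig g c hc v hv1, Matrix.mulVec_smul,
    hu v hv, Matrix.mulVec_smul, hv2, smul_smul, inv_mul_cancel₀ hc, one_smul]

theorem conj_inv_fixes (g u : GLn n F) (c : F) (hc : c ≠ 0) (W : Submodule F (Fin n → F))
    (hW : W ≤ Eig g c) (hu : Fixes u W) : Fixes (g⁻¹ * u * g) W := by
  intro v hv
  have hv1 : v ∈ Eig g c := hW hv
  have hv2 := hv1
  rw [mem_Eig] at hv2
  rw [mul_mulVec, mul_mulVec, hv2, Matrix.mulVec_smul, hu v hv, Matrix.mulVec_smul,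
    WSP.inv_mulVec_of_mem_Eig g c hc v hv1, smul_smul, mul_inv_cancel₀ hc, one_smul]

theorem comm_of_common_fixed (hC : Cfg n F r Q ζ) (a b : GLn n F) (ha : a ∈ Q) (hb : b ∈ Q)
    (W : Submodule F (Fin n → F)) (hW : W ≠ ⊥) (haW : Fixes a W) (hbW : Fixes b W) :
    a * b = b * a := by
  obtain ⟨k, hk⟩ := hC.comm a ha b hb
  obtain ⟨v, hvW, hv0⟩ := Submodule.exists_mem_ne_zero_of_ne_bot hW
  have h1 : ((a * b : GLn n F) : Matrix (Fin n) (Fin n) F) *ᵥ v = v := by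
    rw [mul_mulVec, hbW v hvW, haW v hvW]
  have h2 : ((sc n (ζ ^ k) : GLn n F) : Matrix (Fin n) (Fin n) F) *ᵥ v = v := by
    rw [hk, mul_mulVec, mul_mulVec, haW v hvW, hbW v hvW] at h1
    exact h1
  have h3 : ζ ^ k = 1 := sc_eq_one_of_fixed (ζ ^ k) v hv0 h2
  rw [hk, h3, map_one, one_mul]

end Cfsg.Agent.S5877P
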