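import Mathlib
import Cfsg.Agent.Helper21.Gruen

set_option autoImplicit false

/-! S3014 (Flavell): `H` maximal in `M` maximal in `G`, `⟨H, H^g⟩ ∩ M = H` for all `g`;
then `⟨H^G⟩ ∩ M = H`. Proof by transfer into `M / H`. -/

namespace Cfsg.Agent.Helper15

open Subgroup MonoidHom

section

/-- quotient by a normal coatom is cyclic of prime order -/
theorem quotient_coatom_structure (M' : Type*) [Group M'] [Finite M'] (N : Subgroup M') [N.Normal]
    (hN : IsCoatom N) :
    ∃ r : ℕ, r.Prime ∧ Nat.card (M' ⧸ N) = r ∧ IsCyclic (M' ⧸ N) := by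
  have hsub : ∀ R : Subgroup (M' ⧸ N), R = ⊥ ∨ R = ⊤ := by
    intro R
    have hle : N ≤ R.comap (QuotientGroup.mk' N) := by
      intro n hn
      show (QuotientGroup.mk' N) n ∈ R
      have : (QuotientGroup.mk' N) n = 1 := (QuotientGroup.eq_one_iff n).mpr hn
      rw [this]; exact R.one_mem
    have hmc : (R.comap (QuotientGroup.mk' N)).map (QuotientGroup.mk' N) = R :=
      map_comap_eq_self_of_surjective (QuotientGroup.mk'_surjective N) R
    rcases eq_or_lt_of_le hle with h | h
    · left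
      rw [← hmc, ← h, eq_bot_iff]
      rintro _ ⟨n, hn, rfl⟩
      exact Subgroup.mem_bot.mpr ((QuotientGroup.eq_one_iff n).mpr hn)
    · right
      rw [← hmc, hN.2 _ h, eq_top_iff]
      intro y _
      obtain ⟨x, rfl⟩ := QuotientGroup.mk_surjective y
      exact ⟨x, mem_top x, rfl⟩
  have hnt : ∃ x : M' ⧸ N, x ≠ 1 := by
    by_contra hcon
    push Not at hcon
    apply hN.1
    rw [eq_top_iff]
    intro y _
    exact (QuotientGroup.eq_one_iff y).mp (hcon _)
  obtain ⟨x, hx⟩ := hnt
  have hcard1 : Nat.card (M' ⧸ N) ≠ 1 := by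
    intro h
    have := Nat.card_eq_one_iff_unique.mp h
    exact hx (this.1.elim _ _)
  obtain ⟨r, hr, hrd⟩ := Nat.exists_prime_and_dvd hcard1
  have := Fact.mk hr
  obtain ⟨y, hy⟩ := exists_prime_orderOf_dvd_card' r hrd
  have hy1 : zpowers y ≠ ⊥ := by
    rw [Ne, zpowers_eq_bot]
    intro h
    rw [h, orderOf_one] at hy
    exact hr.one_lt.ne hy
  have hytop : zpowers y = ⊤ := (hsub _).resolve_left hy1
  have hgen : ∀ z : M' ⧸ N, z ∈ zpowers y := fun z => by rw [hytop]; exact mem_top z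
  refine ⟨r, hr, ?_, ⟨⟨y, hgen⟩⟩⟩
  rw [← hy, ← Nat.card_zpowers, hytop, card_top]

variable {G : Type*} [Group G] [Finite G]

/-- coatom helper -/
theorem le_of_coatom_subgroupOf {H M K : Subgroup G} (hmax : IsCoatom (H.subgroupOf M))
    (hHK : H ≤ K) {k : G} (hkK : k ∈ K) (hkM : k ∈ M) (hkH : k ∉ H) : M ≤ K := by
  have hlt : H.subgroupOf M < K.subgroupOf M := by
    refine lt_of_le_of_ne (fun y hy => mem_subgroupOf.mpr (hHK (mem_subgroupOf.mp hy))) ?_
    intro h
    have : (⟨k, hkM⟩ : M) ∈ H.subgroupOf M := by rw [h]; exact mem_subgroupOf.mpr hkK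
    exact hkH (mem_subgroupOf.mp this)
  have htop := hmax.2 _ hlt
  intro y hy
  have : (⟨y, hy⟩ : M) ∈ K.subgroupOf M := by rw [htop]; exact mem_top _
  exact mem_subgroupOf.mp this

theorem conj_mem_map_conj' (K : Subgroup G) (g : G) {k : G} (hk : k ∈ K) :
    g * k * g⁻¹ ∈ K.map (MulAut.conj g).toMonoidHom :=
  ⟨k, hk, by simp [MulAut.conj_apply]⟩

theorem mem_map_conj_iff' (K : Subgroup G) (g y : G) :
    y ∈ K.map (MulAut.conj g).toMonoidHom ↔ g⁻¹ * y * g ∈ K := by
  constructor
  · rintro ⟨k, hk, rfl⟩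
    have : g⁻¹ * ((MulAut.conj g).toMonoidHom k) * g = k := by
      simp [MulAut.conj_apply, mul_assoc]
    rw [this]; exact hk
  · intro h
    refine ⟨g⁻¹ * y * g, h, ?_⟩
    simp [MulAut.conj_apply, mul_assoc]

/-- Flavell's theorem on extremely closed chains. -/
theorem normalClosure_inf_of_chain (H M : Subgroup G) (hHM : H ≤ M)
    (hcl : ∀ g : G, (H ⊔ H.map (MulAut.conj g).toMonoidHom) ⊓ M = H)
    (hmaxH : IsCoatom (H.subgroupOf M)) (hmaxM : IsCoatom M) :
    normalClosure (H : Set G) ⊓ M = H := by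
  classical
  have hstar : ∀ g : G, H.map (MulAut.conj g).toMonoidHom ⊓ M ≤ H := fun g => by
    calc H.map (MulAut.conj g).toMonoidHom ⊓ M
        ≤ (H ⊔ H.map (MulAut.conj g).toMonoidHom) ⊓ M := inf_le_inf le_sup_right le_rfl
      _ = H := hcl g
  have hHnM : ∀ g ∈ M, ∀ h ∈ H, g * h * g⁻¹ ∈ H := by
    intro g hg h hh
    have h1 : H ⊔ H.map (MulAut.conj g).toMonoidHom ≤ M := by
      apply sup_le hHM
      intro y hy
      rw [mem_map_conj_iff'] at hy
      have : y = g * (g⁻¹ * y * g) * g⁻¹ := by group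
      rw [this]
      exact M.mul_mem (M.mul_mem hg (hHM hy)) (M.inv_mem hg)
    have h2 := hcl g
    rw [inf_of_le_left h1] at h2
    rw [← h2]
    exact mem_sup_right (conj_mem_map_conj' H g hh)
  by_cases hMn : M.Normal
  · have hHn : H.Normal := by
      constructor
      intro h hh g
      have h1 : H ⊔ H.map (MulAut.conj g).toMonoidHom ≤ M := by
        apply sup_le hHM
        intro y hy
        rw [mem_map_conj_iff'] at hy
        have : y = g * (g⁻¹ * y * g) * g⁻¹ := by group
        rw [this]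
        exact hMn.conj_mem _ (hHM hy) g
      have h2 := hcl g
      rw [inf_of_le_left h1] at h2
      rw [← h2]
      exact mem_sup_right (conj_mem_map_conj' H g hh)
    rw [normalClosure_eq_self H]
    exact inf_of_le_left hHM
  have hNM : ∀ x : G, x ∉ M → ¬ M.map (MulAut.conj x).toMonoidHom ≤ M := by
    intro x hx hle
    apply hMn
    have hxN : x ∈ normalizer (M : Set G) := by
      apply mem_normalizer_fintype
      intro n hn
      exact hle (conj_mem_map_conj' M x hn)
    have hlt : M < normalizer (M : Set G) :=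
      lt_of_le_of_ne le_normalizer (fun h => hx (h ▸ hxN))
    exact normalizer_eq_top_iff.mp (hmaxM.2 _ hlt)
  have hHMn : (H.subgroupOf M).Normal := by
    constructor
    intro n hn g
    rw [mem_subgroupOf] at hn ⊢
    push_cast
    exact hHnM g g.2 n hn
  obtain ⟨r, hr, hcardQ, hcycQ⟩ := quotient_coatom_structure ↥M (H.subgroupOf M) hmaxH
  let _ : CommGroup (↥M ⧸ H.subgroupOf M) := IsCyclic.commGroup
  set ϕ : ↥M →* ↥M ⧸ H.subgroupOf M := QuotientGroup.mk' _ with hϕdef
  have hϕ : ∀ y : ↥M, ϕ y = 1 ↔ (y : G) ∈ H := fun y => by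
    rw [hϕdef, QuotientGroup.mk'_apply, QuotientGroup.eq_one_iff, mem_subgroupOf]
  obtain ⟨m₀, hm₀M, hm₀H⟩ : ∃ m₀ ∈ M, m₀ ∉ H := by
    by_contra hcon
    push Not at hcon
    apply hmaxH.1
    rw [eq_top_iff]
    intro y _
    exact mem_subgroupOf.mpr (hcon y y.2)
  obtain ⟨a, s, hs, hord⟩ := Nat.exists_eq_pow_mul_and_not_dvd (orderOf_pos m₀).ne' r hr.ne_one
  set m := m₀ ^ s with hmdef
  have hmM : m ∈ M := M.pow_mem hm₀M s
  have hϕm₀ : ϕ ⟨m₀, hm₀M⟩ ≠ 1 := fun h => hm₀H ((hϕ _).mp h)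
  have hordϕ : orderOf (ϕ ⟨m₀, hm₀M⟩) = r := by
    have h1 : orderOf (ϕ ⟨m₀, hm₀M⟩) ∣ r := by rw [← hcardQ]; exact orderOf_dvd_natCard _
    rcases (Nat.dvd_prime hr).mp h1 with h | h
    · exact absurd (orderOf_eq_one_iff.mp h) hϕm₀
    · exact h
  have hϕm : ϕ ⟨m, hmM⟩ ≠ 1 := by
    intro h
    have e : (⟨m, hmM⟩ : ↥M) = (⟨m₀, hm₀M⟩ : ↥M) ^ s := Subtype.ext (by simp [hmdef])
    rw [e, map_pow] at h
    have := orderOf_dvd_of_pow_eq_one h
    rw [hordϕ] at this
    exact hs this
  have hmH : m ∉ H := fun h => hϕm ((hϕ _).mpr h)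
  have hmpow : m ^ (r ^ a) = 1 := by
    rw [hmdef, ← pow_mul, mul_comm, ← hord, pow_orderOf_eq_one]
  have hdiv : ∀ r' : ℕ, r' ≠ 1 → r' ∣ orderOf m → r ∣ r' := by
    intro r' h1 h2
    have h3 : r' ∣ r ^ a := h2.trans (orderOf_dvd_of_pow_eq_one hmpow)
    obtain ⟨j, -, rfl⟩ := (Nat.dvd_prime_pow hr).mp h3
    rcases Nat.eq_zero_or_pos j with rfl | hj
    · exact absurd (pow_zero r) h1
    · exact dvd_pow_self r hj.ne'
  have hpowH : ∀ r' : ℕ, r ∣ r' → m ^ r' ∈ H := by
    rintro r' ⟨t, rfl⟩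
    have : ϕ ⟨m ^ (r * t), M.pow_mem hmM _⟩ = 1 := by
      have e : (⟨m ^ (r * t), M.pow_mem hmM _⟩ : ↥M) = (⟨m, hmM⟩ : ↥M) ^ (r * t) :=
        Subtype.ext (by simp)
      rw [e, map_pow, pow_mul, ← hcardQ, pow_card_eq_one', one_pow]
    exact (hϕ _).mp this
  by_cases hA : ∃ k : G, k ∉ M ∧ k⁻¹ * m * k ∈ M
  · -- a second fixed point: a normal subgroup of index r
    obtain ⟨x, hxM, hxm⟩ := hA
    set H' := H.map (MulAut.conj x).toMonoidHom with hH'
    set M' := M.map (MulAut.conj x).toMonoidHom with hM'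
    have hmH' : m ∉ H' := fun h => hmH (hstar x ⟨h, hmM⟩)
    set L := H ⊔ H' with hL
    have hLM : L ⊓ M = H := hcl x
    have hmL : m ∈ normalizer (L : Set G) := by
      have hle : L ≤ L.comap (MulAut.conj m).toMonoidHom := by
        apply sup_le
        · intro h hh
          show (MulAut.conj m).toMonoidHom h ∈ L
          simp only [MulEquiv.toMonoidHom_eq_coe, MonoidHom.coe_coe, MulAut.conj_apply]
          exact mem_sup_left (hHnM m hmM h hh)
        · intro y hy
          show (MulAut.conj m).toMonoidHom y ∈ L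
          simp only [MulEquiv.toMonoidHom_eq_coe, MonoidHom.coe_coe, MulAut.conj_apply]
          apply mem_sup_right
          rw [hH', mem_map_conj_iff'] at hy ⊢
          have e : x⁻¹ * (m * y * m⁻¹) * x =
              (x⁻¹ * m * x) * (x⁻¹ * y * x) * (x⁻¹ * m * x)⁻¹ := by group
          rw [e]
          exact hHnM _ hxm _ hy
      apply mem_normalizer_fintype
      intro n hn
      have := hle hn
      simpa [MulAut.conj_apply] using this
    set U := L ⊔ zpowers m with hU
    have hmU : m ∈ U := mem_sup_right (mem_zpowers m)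
    have hHU : H ≤ U := le_sup_left.trans le_sup_left
    have hMU : M ≤ U := le_of_coatom_subgroupOf hmaxH hHU hmU hmM hmH
    have hM'U : M' ≤ U := by
      have hHK' : H ≤ U.comap (MulAut.conj x).toMonoidHom := by
        intro h hh
        show (MulAut.conj x).toMonoidHom h ∈ U
        exact (le_sup_left : L ≤ U) (mem_sup_right ⟨h, hh, rfl⟩)
      have hk1 : x⁻¹ * m * x ∈ U.comap (MulAut.conj x).toMonoidHom := by
        show (MulAut.conj x).toMonoidHom (x⁻¹ * m * x) ∈ U
        have : (MulAut.conj x).toMonoidHom (x⁻¹ * m * x) = m := by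
          simp only [MulEquiv.toMonoidHom_eq_coe, MonoidHom.coe_coe, MulAut.conj_apply]
          group
        rw [this]; exact hmU
      have hk2 : x⁻¹ * m * x ∉ H := by
        intro h
        apply hmH'
        rw [hH', mem_map_conj_iff']
        exact h
      have := le_of_coatom_subgroupOf hmaxH hHK' hk1 hxm hk2
      rintro _ ⟨y, hy, rfl⟩
      exact this hy
    have hMM' : M ⊔ M' = ⊤ := by
      apply hmaxM.2
      refine lt_of_le_of_ne le_sup_left ?_
      intro h
      exact hNM x hxM ((le_sup_right : M' ≤ M ⊔ M').trans h.ge)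
    have hUtop : (⊤ : Subgroup G) ≤ U := hMM'.ge.trans (sup_le hMU hM'U)
    have hUN : U ≤ normalizer (L : Set G) := sup_le le_normalizer ((zpowers_le).mpr hmL)
    have hLn : L.Normal := normalizer_eq_top_iff.mp (eq_top_iff.mpr (hUtop.trans hUN))
    have hncl : normalClosure (H : Set G) ≤ L := normalClosure_le_normal (le_sup_left : H ≤ L)
    apply le_antisymm _ (le_inf le_normalClosure hHM)
    exact (inf_le_inf hncl le_rfl).trans hLM.le
  · push Not at hA
    have hkill : ∀ (k : G) (r' : ℕ), r' ≠ 1 → r' ∣ orderOf m → ∀ h : k⁻¹ * m ^ r' * k ∈ M,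
        ϕ ⟨k⁻¹ * m ^ r' * k, h⟩ = 1 := by
      intro k r' h1 h2 hmem
      rw [hϕ]
      apply hstar k⁻¹
      refine ⟨?_, hmem⟩
      refine (mem_map_conj_iff' H k⁻¹ _).mpr ?_
      have e : k⁻¹⁻¹ * (k⁻¹ * m ^ r' * k) * k⁻¹ = m ^ r' := by group
      show k⁻¹⁻¹ * (k⁻¹ * m ^ r' * k) * k⁻¹ ∈ H
      rw [e]
      exact hpowH r' (hdiv r' h1 h2)
    have hVH : ∀ h ∈ H, transfer ϕ h = 1 := by
      intro h hh
      have := Fintype.ofFinite (Quotient (MulAction.orbitRel (zpowers h) (G ⧸ M)))
      rw [transfer_eq_prod_quotient_orbitRel_zpowers_quot]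
      apply Finset.prod_eq_one
      intro q _
      rw [hϕ]
      apply hstar (Quotient.out q.out)⁻¹
      refine ⟨?_, QuotientGroup.out_conj_pow_minimalPeriod_mem M h q.out⟩
      refine (mem_map_conj_iff' H (Quotient.out q.out)⁻¹ _).mpr ?_
      set k := Quotient.out q.out
      set n := Function.minimalPeriod (fun x => h • x) q.out
      have e : k⁻¹⁻¹ * (k⁻¹ * h ^ n * k) * k⁻¹ = h ^ n := by group
      show k⁻¹⁻¹ * (k⁻¹ * h ^ n * k) * k⁻¹ ∈ H
      rw [e]
      exact H.pow_mem hh n
    have hVm : transfer ϕ m = ϕ ⟨m, hmM⟩ := by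
      have := Fintype.ofFinite (G ⧸ M)
      rw [Cfsg.Agent.Helper21.transfer_eq_prod_fixed M ϕ m hkill]
      have hfilter : Finset.univ.filter (fun c : G ⧸ M => m • c = c) = {((1 : G) : G ⧸ M)} := by
        ext c
        simp only [Finset.mem_filter, Finset.mem_univ, true_and, Finset.mem_singleton]
        constructor
        · intro hc
          obtain ⟨k, rfl⟩ := QuotientGroup.mk_surjective c
          rw [Cfsg.Agent.Helper21.smul_mk_eq_iff] at hc
          by_contra hne
          have hkM : k ∉ M := by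
            intro hk
            apply hne
            rw [QuotientGroup.eq]
            simpa using M.inv_mem hk
          exact hA k hkM hc
        · rintro rfl
          rw [Cfsg.Agent.Helper21.smul_mk_eq_iff]
          simpa using hmM
      rw [hfilter, Finset.prod_singleton]
      have h1 : (1 : G)⁻¹ * m * 1 ∈ M := by simpa using hmM
      rw [Cfsg.Agent.Helper21.trF_mk M ϕ m 1 h1]
      congr 1
      apply Subtype.ext
      simp
    have hker : normalClosure (H : Set G) ≤ (transfer ϕ).ker :=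
      normalClosure_le_normal (fun h hh => MonoidHom.mem_ker.mpr (hVH h hh))
    apply le_antisymm _ (le_inf le_normalClosure hHM)
    intro y hy
    by_contra hyH
    have hMle : M ≤ normalClosure (H : Set G) ⊓ M :=
      le_of_coatom_subgroupOf hmaxH (le_inf le_normalClosure hHM) hy hy.2 hyH
    have hmk : m ∈ (transfer ϕ).ker := hker (hMle hmM).1
    rw [MonoidHom.mem_ker, hVm] at hmk
    exact hϕm hmk

end

end Cfsg.Agent.Helper15
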