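import Mathlib

/-! Coordinates on a group of order `p²` and exponent `p`, and the passage between
automorphisms and `2 × 2` matrices over `ZMod p`. -/

set_option autoImplicit false

namespace Cfsg.Agent.Helper15.ExtraGrp

open Matrix

variable {p : ℕ} [Fact p.Prime]

theorem pow_eq_pow_of_natCast_eq {E : Type*} [Monoid E] {x : E} (hx : x ^ p = 1) {m n : ℕ}
    (h : (m : ZMod p) = (n : ZMod p)) : x ^ m = x ^ n := by
  rw [ZMod.natCast_eq_natCast_iff'] at h
  rw [pow_eq_pow_mod m hx, pow_eq_pow_mod n hx, h]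

theorem pow_val_natCast {E : Type*} [Monoid E] {x : E} (hx : x ^ p = 1) (m : ℕ) :
    x ^ ((m : ZMod p).val) = x ^ m := by
  apply pow_eq_pow_of_natCast_eq hx
  rw [ZMod.natCast_zmod_val]

theorem pow_val_add {E : Type*} [Monoid E] {x : E} (hx : x ^ p = 1) (a b : ZMod p) :
    x ^ (a + b).val = x ^ a.val * x ^ b.val := by
  rw [← pow_add]
  apply pow_eq_pow_of_natCast_eq hx
  rw [Nat.cast_add, ZMod.natCast_zmod_val, ZMod.natCast_zmod_val, ZMod.natCast_zmod_val]

theorem pow_val_mul {E : Type*} [Monoid E] {x : E} (hx : x ^ p = 1) (a b : ZMod p) :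
    x ^ (a * b).val = (x ^ a.val) ^ b.val := by
  rw [← pow_mul]
  apply pow_eq_pow_of_natCast_eq hx
  rw [Nat.cast_mul, ZMod.natCast_zmod_val, ZMod.natCast_zmod_val, ZMod.natCast_zmod_val]

section coord

variable {E : Type*} [Group E]

/-- the homomorphism `(i, j) ↦ z ^ i * v ^ j` -/
noncomputable def coordHom (z v : E) (hzv : Commute z v) (hz : z ^ p = 1) (hv : v ^ p = 1) :
    Multiplicative (Fin 2 → ZMod p) →* E where
  toFun x := z ^ (Multiplicative.toAdd x 0).val * v ^ (Multiplicative.toAdd x 1).val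
  map_one' := by simp
  map_mul' x y := by
    simp only [toAdd_mul, Pi.add_apply]
    rw [pow_val_add hz, pow_val_add hv]
    have h1 : Commute (z ^ (Multiplicative.toAdd y 0).val) (v ^ (Multiplicative.toAdd x 1).val) :=
      (hzv.pow_pow _ _)
    calc z ^ (Multiplicative.toAdd x 0).val * z ^ (Multiplicative.toAdd y 0).val *
          (v ^ (Multiplicative.toAdd x 1).val * v ^ (Multiplicative.toAdd y 1).val)
        = z ^ (Multiplicative.toAdd x 0).val * (z ^ (Multiplicative.toAdd y 0).val *
          v ^ (Multiplicative.toAdd x 1).val) * v ^ (Multiplicative.toAdd y 1).val := by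
          simp only [mul_assoc]
      _ = z ^ (Multiplicative.toAdd x 0).val * (v ^ (Multiplicative.toAdd x 1).val *
          z ^ (Multiplicative.toAdd y 0).val) * v ^ (Multiplicative.toAdd y 1).val := by
          rw [h1.eq]
      _ = _ := by simp only [mul_assoc]

theorem coordHom_injective (z v : E) (hzv : Commute z v) (hz : z ^ p = 1) (hv : v ^ p = 1)
    (hz1 : z ≠ 1) (hvz : v ∉ Subgroup.zpowers z) :
    Function.Injective (coordHom z v hzv hz hv) := by
  have hp : p.Prime := Fact.out
  rw [injective_iff_map_eq_one]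
  intro x hx
  have hx' : z ^ (Multiplicative.toAdd x 0).val * v ^ (Multiplicative.toAdd x 1).val = 1 := hx
  have hj : Multiplicative.toAdd x 1 = 0 := by
    by_contra hne
    apply hvz
    have h1 : v ^ (Multiplicative.toAdd x 1).val ∈ Subgroup.zpowers z := by
      have : v ^ (Multiplicative.toAdd x 1).val = (z ^ (Multiplicative.toAdd x 0).val)⁻¹ :=
        eq_inv_of_mul_eq_one_right hx'
      rw [this]
      exact Subgroup.inv_mem _ (Subgroup.pow_mem _ (Subgroup.mem_zpowers z) _)
    have h2 : v = (v ^ (Multiplicative.toAdd x 1).val) ^ ((Multiplicative.toAdd x 1)⁻¹).val := by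
      rw [← pow_val_mul hv, mul_inv_cancel₀ hne, ZMod.val_one, pow_one]
    rw [h2]
    exact Subgroup.pow_mem _ h1 _
  rw [hj, ZMod.val_zero, pow_zero, mul_one] at hx'
  have hi : Multiplicative.toAdd x 0 = 0 := by
    by_contra hne
    apply hz1
    have h2 : z = (z ^ (Multiplicative.toAdd x 0).val) ^ ((Multiplicative.toAdd x 0)⁻¹).val := by
      rw [← pow_val_mul hz, mul_inv_cancel₀ hne, ZMod.val_one, pow_one]
    rw [h2, hx', one_pow]
  have : Multiplicative.toAdd x = 0 := by
    ext i; fin_cases i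
    · exact hi
    · exact hj
  exact this

/-- coordinates on a group of order `p²` generated by two commuting elements of order `p` -/
theorem exists_coord [Finite E] (z v : E) (hzv : Commute z v) (hz : z ^ p = 1) (hv : v ^ p = 1)
    (hz1 : z ≠ 1) (hvz : v ∉ Subgroup.zpowers z) (hcard : Nat.card E = p ^ 2) :
    ∃ e : E ≃* Multiplicative (Fin 2 → ZMod p),
      e z = Multiplicative.ofAdd (Pi.single 0 1) ∧ e v = Multiplicative.ofAdd (Pi.single 1 1) ∧
      ∀ x : E, x = z ^ (Multiplicative.toAdd (e x) 0).val * v ^ (Multiplicative.toAdd (e x) 1).val := by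
  have hinj := coordHom_injective z v hzv hz hv hz1 hvz
  have hc : Nat.card (Multiplicative (Fin 2 → ZMod p)) = p ^ 2 := by
    show Nat.card (Fin 2 → ZMod p) = p ^ 2
    rw [Nat.card_fun, Nat.card_zmod, Nat.card_fin]
  have hbij : Function.Bijective (coordHom z v hzv hz hv) := by
    have : Finite (Multiplicative (Fin 2 → ZMod p)) := by
      apply Nat.finite_of_card_ne_zero
      rw [hc]; exact pow_ne_zero _ (Fact.out : p.Prime).ne_zero
    exact (Nat.bijective_iff_injective_and_card _).mpr ⟨hinj, by rw [hc, hcard]⟩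
  refine ⟨(MulEquiv.ofBijective _ hbij).symm, ?_, ?_, ?_⟩
  · rw [MulEquiv.symm_apply_eq]
    show z = z ^ _ * v ^ _
    simp [ZMod.val_one]
  · rw [MulEquiv.symm_apply_eq]
    show v = z ^ _ * v ^ _
    simp [ZMod.val_one]
  · intro x
    have h := (MulEquiv.ofBijective _ hbij).apply_symm_apply x
    exact h.symm

end coord

end Cfsg.Agent.Helper15.ExtraGrp
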