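import Cfsg.Agent.Helper15.ExtraGrp9
import Cfsg.Agent.Helper10.Alperin

/-! Alperin step: if all nonidentity elements of `P` are fused then every subgroup of order `p²`
of `P` satisfies the `SL₂`-hypothesis. -/

set_option autoImplicit false

namespace Cfsg.Agent.Helper15.ExtraGrp

open Cfsg.Agent.Helper10 (rc Dec lprod tameFam)
open Cfsg.Agent.Helper14 (cj mem_map_cj)

variable {G : Type*} [Group G] {p : ℕ} [Fact p.Prime]

/-- `N_G(A)` normalizes `Z` -/
def NormZ (Z A : Subgroup G) : Prop :=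
  ∀ u ∈ Subgroup.normalizer (A : Set G), ∀ z ∈ Z, u * z * u⁻¹ ∈ Z

namespace ESyl

variable {P Z : Subgroup G} (h : ESyl p P Z)
include h

theorem normZ_self : NormZ Z P := by
  intro u hu z hz
  have huz : u * z * u⁻¹ ∈ P := (Subgroup.mem_normalizer_iff.mp hu z).mp (h.ZP hz)
  apply h.center _ huz
  intro y hy
  have hy' : u⁻¹ * y * u ∈ P := by
    have := (Subgroup.mem_normalizer_iff.mp (Subgroup.inv_mem _ hu) y).mp hy
    simpa using this
  have := h.central z hz _ hy'
  calc u * z * u⁻¹ * y = u * (z * (u⁻¹ * y * u)) * u⁻¹ := by group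
    _ = u * ((u⁻¹ * y * u) * z) * u⁻¹ := by rw [this]
    _ = y * (u * z * u⁻¹) := by group

theorem sup_zpowers_le {a : G} (ha : a ∈ P) : Z ⊔ Subgroup.zpowers a ≤ P :=
  sup_le h.ZP (by rw [Subgroup.zpowers_le]; exact ha)

theorem card_sup_zpowers {a : G} (ha : a ∈ P) (haZ : a ∉ Z) :
    Nat.card ↥(Z ⊔ Subgroup.zpowers a) = p ^ 2 := by
  have hp : p.Prime := Fact.out
  have := h.finiteP
  have hCP := h.sup_zpowers_le ha
  have hCfin : Finite ↥(Z ⊔ Subgroup.zpowers a) :=
    Finite.of_injective _ (Subgroup.inclusion_injective hCP)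
  have hZfin : Finite ↥Z := Finite.of_injective _ (Subgroup.inclusion_injective h.ZP)
  have haC : a ∈ Z ⊔ Subgroup.zpowers a :=
    (le_sup_right : Subgroup.zpowers a ≤ _) (Subgroup.mem_zpowers a)
  have hcent : Z ⊔ Subgroup.zpowers a ≤ Subgroup.centralizer {a} := by
    apply sup_le
    · intro z hz
      rw [Subgroup.mem_centralizer_singleton_iff]
      exact h.central z hz a ha
    · rw [Subgroup.zpowers_le, Subgroup.mem_centralizer_singleton_iff]
  have hne : Z ⊔ Subgroup.zpowers a ≠ P := by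
    intro heq
    apply haZ
    apply h.center a ha
    intro y hy
    rw [← heq] at hy
    have := hcent hy
    rw [Subgroup.mem_centralizer_singleton_iff] at this
    exact this.symm
  have hd : Nat.card ↥(Z ⊔ Subgroup.zpowers a) ∣ p ^ 3 := by
    rw [← h.cardP]; exact Subgroup.card_dvd_of_le hCP
  obtain ⟨k, hk, hkC⟩ := (Nat.dvd_prime_pow hp).mp hd
  have hk3 : k ≠ 3 := by
    intro h3
    apply hne
    apply Subgroup.eq_of_le_of_card_ge hCP
    rw [h.cardP, hkC, h3]
  have hk1 : k ≠ 1 := by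
    intro h1
    apply haZ
    have : Z = Z ⊔ Subgroup.zpowers a :=
      Subgroup.eq_of_le_of_card_ge le_sup_left (by rw [hkC, h1, pow_one, h.cardZ])
    rw [this]; exact haC
  have hk0 : k ≠ 0 := by
    intro h0
    rw [h0, pow_zero] at hkC
    have := Subgroup.card_le_of_le (le_sup_left : Z ≤ Z ⊔ Subgroup.zpowers a)
    rw [hkC, h.cardZ] at this
    have := hp.one_lt
    omega
  have : k = 2 := by omega
  rw [hkC, this]

theorem sup_zpowers_eq_of_mem {a a' : G} (ha : a ∈ P) (haZ : a ∉ Z)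
    (ha' : a' ∈ Z ⊔ Subgroup.zpowers a) (ha'Z : a' ∉ Z) :
    Z ⊔ Subgroup.zpowers a' = Z ⊔ Subgroup.zpowers a := by
  have := h.finiteP
  have hCP := h.sup_zpowers_le ha
  have hCfin : Finite ↥(Z ⊔ Subgroup.zpowers a) :=
    Finite.of_injective _ (Subgroup.inclusion_injective hCP)
  apply Subgroup.eq_of_le_of_card_ge
  · apply sup_le le_sup_left
    rw [Subgroup.zpowers_le]; exact ha'
  · rw [h.card_sup_zpowers ha haZ, h.card_sup_zpowers (hCP ha') ha'Z]

/-- conjugating by an element of `N_G(P)` preserves `NormZ` -/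
theorem normZ_conj {C : Subgroup G} {x : G} (hx : x ∈ Subgroup.normalizer (P : Set G))
    (hC : NormZ Z C) : NormZ Z (C.map (cj x⁻¹)) := by
  intro u hu z hz
  have hxinv : x⁻¹ ∈ Subgroup.normalizer (P : Set G) := Subgroup.inv_mem _ hx
  have hu' : x * u * x⁻¹ ∈ Subgroup.normalizer (C : Set G) := by
    rw [Subgroup.mem_normalizer_iff]
    intro y
    have h1 := Subgroup.mem_normalizer_iff.mp hu (x⁻¹ * y * x)
    rw [mem_map_cj, mem_map_cj] at h1
    have e1 : x⁻¹⁻¹ * (x⁻¹ * y * x) * x⁻¹ = y := by group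
    have e2 : x⁻¹⁻¹ * (u * (x⁻¹ * y * x) * u⁻¹) * x⁻¹ = x * u * x⁻¹ * y * (x * u * x⁻¹)⁻¹ := by
      group
    rw [e1, e2] at h1
    exact h1
  have hz' : x * z * x⁻¹ ∈ Z := h.normZ_self x hx z hz
  have h2 := hC _ hu' _ hz'
  have h3 := h.normZ_self x⁻¹ hxinv _ h2
  have e3 : x⁻¹ * (x * u * x⁻¹ * (x * z * x⁻¹) * (x * u * x⁻¹)⁻¹) * x⁻¹⁻¹ = u * z * u⁻¹ := by
    group
  rw [e3] at h3
  exact h3

theorem map_cj_sup_zpowers {x : G} (hx : x ∈ Subgroup.normalizer (P : Set G)) (a : G) :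
    (Z ⊔ Subgroup.zpowers a).map (cj x⁻¹) = Z ⊔ Subgroup.zpowers (x⁻¹ * a * x) := by
  have hxinv : x⁻¹ ∈ Subgroup.normalizer (P : Set G) := Subgroup.inv_mem _ hx
  have hZ : Z.map (cj x⁻¹) = Z := by
    ext y
    rw [mem_map_cj]
    constructor
    · intro hy
      have := h.normZ_self x⁻¹ hxinv _ hy
      have e : x⁻¹ * (x⁻¹⁻¹ * y * x⁻¹) * x⁻¹⁻¹ = y := by group
      rwa [e] at this
    · intro hy
      have := h.normZ_self x hx _ hy
      simpa using this
  rw [Subgroup.map_sup, MonoidHom.map_zpowers, hZ]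
  congr 2
  simp [Cfsg.Agent.Helper14.cj_apply]

/-- one step of the Alperin chain preserves the invariant -/
theorem inv_step {T : Subgroup G} (hTP : T ≤ P) {x : G}
    (hx : x ∈ Subgroup.normalizer (T : Set G)) {a : G} (haT : a ∈ T) (haZ : a ∉ Z)
    (hnb : NormZ Z (Z ⊔ Subgroup.zpowers a)) :
    x⁻¹ * a * x ∉ Z ∧ NormZ Z (Z ⊔ Subgroup.zpowers (x⁻¹ * a * x)) := by
  have hp : p.Prime := Fact.out
  have := h.finiteP
  have haP := hTP haT
  have hTfin : Finite ↥T := Finite.of_injective _ (Subgroup.inclusion_injective hTP)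
  have hxinv : x⁻¹ ∈ Subgroup.normalizer (T : Set G) := Subgroup.inv_mem _ hx
  have ha'T : x⁻¹ * a * x ∈ T := by
    have := (Subgroup.mem_normalizer_iff.mp hxinv a).mp haT
    simpa using this
  have ha'P := hTP ha'T
  have hCc := h.card_sup_zpowers haP haZ
  have hCP := h.sup_zpowers_le haP
  have haC : a ∈ Z ⊔ Subgroup.zpowers a :=
    (le_sup_right : Subgroup.zpowers a ≤ _) (Subgroup.mem_zpowers a)
  have hback : x * (x⁻¹ * a * x) * x⁻¹ = a := by group
  by_cases hT : T = P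
  · rw [hT] at hx
    constructor
    · intro ha'Z
      apply haZ
      have := h.normZ_self x hx _ ha'Z
      rwa [hback] at this
    · rw [← h.map_cj_sup_zpowers hx a]
      exact h.normZ_conj hx hnb
  · -- it suffices to show `a' ∉ Z` and `a' ∈ C`
    suffices hsuff : x⁻¹ * a * x ∉ Z ∧ x⁻¹ * a * x ∈ Z ⊔ Subgroup.zpowers a by
      refine ⟨hsuff.1, ?_⟩
      rw [h.sup_zpowers_eq_of_mem haP haZ hsuff.2 hsuff.1]
      exact hnb
    have hd : Nat.card ↥T ∣ p ^ 3 := by
      rw [← h.cardP]; exact Subgroup.card_dvd_of_le hTP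
    obtain ⟨k, hk, hkT⟩ := (Nat.dvd_prime_pow hp).mp hd
    have hk3 : k ≠ 3 := by
      intro h3
      apply hT
      apply Subgroup.eq_of_le_of_card_ge hTP
      rw [h.cardP, hkT, h3]
    have ha1 : a ≠ 1 := fun h1 => haZ (h1 ▸ Z.one_mem)
    have hk0 : k ≠ 0 := by
      intro h0
      rw [h0, pow_zero] at hkT
      have hbot : T = ⊥ := Subgroup.card_eq_one.mp hkT
      rw [hbot, Subgroup.mem_bot] at haT
      exact ha1 haT
    have hk12 : k = 1 ∨ k = 2 := by omega
    rcases hk12 with hk1 | hk2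
    · -- `T = ⟨a⟩`
      rw [hk1, pow_one] at hkT
      have hoa : orderOf a = p := orderOf_eq_prime (h.exp a haP) ha1
      have hTa : Subgroup.zpowers a = T := by
        apply Subgroup.eq_of_le_of_card_ge
        · rw [Subgroup.zpowers_le]; exact haT
        · rw [Nat.card_zpowers, hoa, hkT]
      have ha'1 : x⁻¹ * a * x ≠ 1 := by
        intro h1
        apply ha1
        rw [← hback, h1]; group
      have hoa' : orderOf (x⁻¹ * a * x) = p := orderOf_eq_prime (h.exp _ ha'P) ha'1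
      have hTa' : Subgroup.zpowers (x⁻¹ * a * x) = T := by
        apply Subgroup.eq_of_le_of_card_ge
        · rw [Subgroup.zpowers_le]; exact ha'T
        · rw [Nat.card_zpowers, hoa', hkT]
      constructor
      · intro ha'Z
        apply haZ
        have : a ∈ Subgroup.zpowers (x⁻¹ * a * x) := by rw [hTa']; exact haT
        have hle : Subgroup.zpowers (x⁻¹ * a * x) ≤ Z := by
          rw [Subgroup.zpowers_le]; exact ha'Z
        exact hle this
      · have : x⁻¹ * a * x ∈ Subgroup.zpowers a := by rw [hTa]; exact ha'T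
        exact (le_sup_right : Subgroup.zpowers a ≤ _) this
    · -- `T = C`
      rw [hk2] at hkT
      have hZT : Z ≤ T := h.Z_le_A hTP hkT
      have hCT : Z ⊔ Subgroup.zpowers a ≤ T := by
        apply sup_le hZT
        rw [Subgroup.zpowers_le]; exact haT
      have hTC : T = Z ⊔ Subgroup.zpowers a := h.card_of_between hCc hCT hTP hT
      constructor
      · intro ha'Z
        apply haZ
        rw [hTC] at hx
        have := hnb x hx _ ha'Z
        rwa [hback] at this
      · rw [← hTC]; exact ha'T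

/-- the invariant along an Alperin chain -/
theorem inv_chain {𝓕 : Set (Subgroup G)} (h𝓕 : ∀ T ∈ 𝓕, T ≤ P) :
    ∀ (l : List (Subgroup G × G)) (a : G), Dec 𝓕 {a} l → a ∉ Z →
      NormZ Z (Z ⊔ Subgroup.zpowers a) → (lprod l)⁻¹ * a * lprod l ∉ Z := by
  intro l
  induction l with
  | nil =>
    intro a _ haZ _
    rw [Cfsg.Agent.Helper10.lprod_nil]
    simpa using haZ
  | cons e l ih =>
    obtain ⟨T, x⟩ := e
    intro a hd haZ hnb
    obtain ⟨hT, hx, haT, hd'⟩ := hd
    have haT' : a ∈ T := haT (Set.mem_singleton a)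
    obtain ⟨h1, h2⟩ := h.inv_step (h𝓕 T hT) hx haT' haZ hnb
    have hrc : rc x ({a} : Set G) = {x⁻¹ * a * x} := by
      unfold Cfsg.Agent.Helper10.rc
      rw [Set.image_singleton]
    rw [hrc] at hd'
    have := ih _ hd' h1 h2
    rw [Cfsg.Agent.Helper10.lprod_cons]
    have e : (x * lprod l)⁻¹ * a * (x * lprod l) = (lprod l)⁻¹ * (x⁻¹ * a * x) * lprod l := by
      group
    rw [e]
    exact this

end ESyl

/-- if all nonidentity elements of `P` are fused, no subgroup of order `p²` has a normalizer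
normalizing `Z` -/
theorem not_normZ_of_fused [Finite G] (P : Sylow p G) {Z : Subgroup G}
    (h : ESyl p (P : Subgroup G) Z)
    (hconj : ∀ x ∈ (P : Subgroup G), ∀ y ∈ (P : Subgroup G), x ≠ 1 → y ≠ 1 →
      ∃ g : G, g * x * g⁻¹ = y)
    {a : G} (ha : a ∈ (P : Subgroup G)) (haZ : a ∉ Z) :
    ¬ NormZ Z (Z ⊔ Subgroup.zpowers a) := by
  intro hnb
  obtain ⟨z₀, hz₀, hz₀1, -⟩ := h.exists_gen
  have ha1 : a ≠ 1 := fun h1 => haZ (h1 ▸ Z.one_mem)
  obtain ⟨g, hg⟩ := hconj z₀ (h.ZP hz₀) a ha hz₀1 ha1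
  have hga : g⁻¹ * a * g = z₀ := by rw [← hg]; group
  have hrc : rc g ({a} : Set G) = {g⁻¹ * a * g} := by
    unfold Cfsg.Agent.Helper10.rc
    rw [Set.image_singleton]
  obtain ⟨l, hd, -, hl⟩ := Cfsg.Agent.Helper10.alperin_tame P ({a} : Set G) g
    (by intro y hy; rw [Set.mem_singleton_iff] at hy; rw [hy]; exact ha)
    (by
      rw [hrc, hga]
      intro y hy
      rw [Set.mem_singleton_iff] at hy; rw [hy]; exact h.ZP hz₀)
  have := h.inv_chain (fun T hT => Cfsg.Agent.Helper10.tameFam_le hT) l a hd haZ hnb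
  rw [hl, hga] at this
  exact this hz₀

/-- if all nonidentity elements of `P` are fused, the `SL₂`-hypothesis holds for all subgroups
of order `p²` -/
theorem hSL_of_fused [Finite G] (P : Sylow p G) {Z : Subgroup G}
    (h : ESyl p (P : Subgroup G) Z)
    (hconj : ∀ x ∈ (P : Subgroup G), ∀ y ∈ (P : Subgroup G), x ≠ 1 → y ≠ 1 →
      ∃ g : G, g * x * g⁻¹ = y)
    {a : G} (ha : a ∈ (P : Subgroup G)) (haZ : a ∉ Z) :
    ∀ φ : MulAut ↥(Z ⊔ Subgroup.zpowers a), orderOf φ = p →
      ∃ g : G, ∀ b : ↥(Z ⊔ Subgroup.zpowers a), ((φ b : ↥(Z ⊔ Subgroup.zpowers a)) : G) =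
        g * b * g⁻¹ := by
  have hbad := not_normZ_of_fused P h hconj ha haZ
  unfold NormZ at hbad
  push Not at hbad
  obtain ⟨u, hu, z, hz, huz⟩ := hbad
  exact hSL_of_bad h (h.sup_zpowers_le ha) (h.card_sup_zpowers ha haZ) u hu z hz huz

end Cfsg.Agent.Helper15.ExtraGrp
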