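import Cfsg.Agent.Helper15.ExtraGrp10

/-! The prime bound `p ≤ 7` when all nonidentity elements of `P` are fused. -/

set_option autoImplicit false

namespace Cfsg.Agent.Helper15.ExtraGrp

open Matrix
open Cfsg.Agent.Helper15.ExtraMat (TorusAt dt uc dt_uc uc_ne_zero)

variable {G : Type*} [Group G] {p : ℕ} [Fact p.Prime]

/-- **Main theorem when all elements are fused.** -/
theorem main_all [Finite G] (hp2 : p ≠ 2) (P : Sylow p G)
    (hE : Cfsg.IsExtraspecial p ↥(P : Subgroup G))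
    (hcard : Nat.card (P : Subgroup G) = p ^ 3) (hexp : Monoid.exponent ↥(P : Subgroup G) = p)
    (hconj : ∀ x y : ↥(P : Subgroup G), x ≠ 1 → y ≠ 1 → ∃ g : G, g * (x : G) * g⁻¹ = (y : G)) :
    p ≤ 7 := by
  have hp : p.Prime := Fact.out
  obtain ⟨Z, hZ⟩ : ∃ Z, Z = (Subgroup.center ↥(P : Subgroup G)).map (P : Subgroup G).subtype :=
    ⟨_, rfl⟩
  have h : ESyl p (P : Subgroup G) Z := hZ ▸ esyl_of_extraspecial (P : Subgroup G) hE hcard hexp
  have hconj' : ∀ x ∈ (P : Subgroup G), ∀ y ∈ (P : Subgroup G), x ≠ 1 → y ≠ 1 →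
      ∃ g : G, g * x * g⁻¹ = y := by
    intro x hx y hy hx1 hy1
    exact hconj ⟨x, hx⟩ ⟨y, hy⟩ (fun hh => hx1 (congrArg Subtype.val hh))
      (fun hh => hy1 (congrArg Subtype.val hh))
  obtain ⟨e⟩ := exists_coordW (P : Subgroup G) hE hcard hexp
  obtain ⟨a, ha⟩ := IsCyclic.exists_generator (α := (ZMod p)ˣ)
  have hord : orderOf a = p - 1 := by
    rw [orderOf_eq_card_of_forall_mem_zpowers ha, Nat.card_eq_fintype_card, ZMod.card_units_eq_totient,
      Nat.totient_prime hp]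
  by_cases ha6 : a ^ 6 = 1
  · have h1 := orderOf_dvd_of_pow_eq_one ha6
    rw [hord] at h1
    have := Nat.le_of_dvd (by norm_num) h1
    omega
  · -- a torus element at every nonzero vector
    have hall : ∀ u : Fin 2 → ZMod p, u ≠ 0 → ∃ T ∈ (rho (P : Subgroup G) e).range,
        TorusAt (((a⁻¹ : (ZMod p)ˣ)) : ZMod p) (((a ^ 2 : (ZMod p)ˣ)) : ZMod p)
          (T : Matrix (Fin 2) (Fin 2) (ZMod p)) u := by
      intro u hu
      obtain ⟨w, hw⟩ := e.surjective (Multiplicative.ofAdd u)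
      obtain ⟨x, hx⟩ := QuotientGroup.mk_surjective w
      obtain ⟨x, hxP⟩ := x
      have hux : u = Multiplicative.toAdd (e (QuotientGroup.mk (⟨x, hxP⟩ : ↥(P : Subgroup G)))) := by
        rw [hx, hw, toAdd_ofAdd]
      have hxZ : x ∉ Z := by
        intro hxZ
        apply hu
        rw [hux]
        have : (QuotientGroup.mk (⟨x, hxP⟩ : ↥(P : Subgroup G)) :
            ↥(P : Subgroup G) ⧸ Subgroup.center ↥(P : Subgroup G)) = 1 := by
          rw [QuotientGroup.eq_one_iff, mem_center_iff_coe_mem, ← hZ]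
          exact hxZ
        rw [this, map_one]
        rfl
      have hxA : x ∈ Z ⊔ Subgroup.zpowers x :=
        (le_sup_right : Subgroup.zpowers x ≤ _) (Subgroup.mem_zpowers x)
      obtain ⟨n, hn⟩ := exists_torusAt_of P hZ h e (h.sup_zpowers_le hxP)
        (h.card_sup_zpowers hxP hxZ) (hSL_of_fused P h hconj' hxP hxZ) a x hxA hxZ
      refine ⟨_, ⟨n, rfl⟩, ?_⟩
      rw [hux]
      exact hn
    have hH := not_dvd_card_range P hE e
    obtain ⟨T₀, hT₀, ht₀⟩ := hall (uc 0) (uc_ne_zero 0)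
    obtain ⟨T₁, hT₁, ht₁⟩ := hall (uc 1) (uc_ne_zero 1)
    obtain ⟨T₂, hT₂, ht₂⟩ := hall (uc 2) (uc_ne_zero 2)
    have h01 : dt (uc (0 : ZMod p)) (uc 1) ≠ 0 := by rw [dt_uc]; simp
    have h2ne : (2 : ZMod p) ≠ 0 := by
      intro h
      have h' : ((2 : ℕ) : ZMod p) = 0 := by exact_mod_cast h
      rw [ZMod.natCast_eq_zero_iff] at h'
      exact hp2 ((Nat.prime_dvd_prime_iff_eq hp Nat.prime_two).mp h')
    have h02 : dt (uc (0 : ZMod p)) (uc 2) ≠ 0 := by rw [dt_uc]; simpa using h2ne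
    have h12 : dt (uc (1 : ZMod p)) (uc 2) ≠ 0 := by
      rw [dt_uc]
      have : (2 : ZMod p) - 1 = 1 := by ring
      rw [this]; exact one_ne_zero
    have hb := Cfsg.Agent.Helper15.ExtraMat.torus_bound hp2 (rho (P : Subgroup G) e).range hH a ha6
      T₀ T₁ T₂ hT₀ hT₁ hT₂ _ _ _ ht₀ ht₁ ht₂ h01 h02 h12
    have hk : (a ^ 3) ^ orderOf (a ^ 3) = 1 := pow_orderOf_eq_one _
    rw [← pow_mul] at hk
    have h1 := orderOf_dvd_of_pow_eq_one hk
    rw [hord] at h1
    have hpos : 0 < orderOf (a ^ 3) := orderOf_pos _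
    have h2 := Nat.le_of_dvd (by positivity) h1
    have h4 : 12 < p → orderOf (a ^ 3) ≠ 4 := fun h12p =>
      Cfsg.Agent.Helper15.ExtraMat.torus_all hp2 h12p (rho (P : Subgroup G) e).range
        hH a ha6 hall
    generalize orderOf (a ^ 3) = k at h1 hb hpos h2 h4
    by_contra hcon
    push Not at hcon
    have h16 : p ≤ 16 := by omega
    have h3 : p = 8 ∨ p = 9 ∨ p = 10 ∨ p = 11 ∨ p = 12 ∨ p = 13 ∨ p = 14 ∨ p = 15 ∨ p = 16 := by
      omega
    rcases h3 with h3 | h3 | h3 | h3 | h3 | h3 | h3 | h3 | h3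
    · rw [h3] at hp; norm_num at hp
    · rw [h3] at hp; norm_num at hp
    · rw [h3] at hp; norm_num at hp
    · -- `p = 11`
      rw [h3] at h1
      obtain ⟨c, hc⟩ := h1
      omega
    · rw [h3] at hp; norm_num at hp
    · -- `p = 13`
      have h4' := h4 (by omega)
      rw [h3] at h1
      obtain ⟨c, hc⟩ := h1
      omega
    · rw [h3] at hp; norm_num at hp
    · rw [h3] at hp; norm_num at hp
    · rw [h3] at hp; norm_num at hp

end Cfsg.Agent.Helper15.ExtraGrp
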