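import Cfsg.Agent.Helper15.ExtraGrp1

/-! Automorphisms of a coordinatized group of order `p²` versus `GL₂(p)`. -/

set_option autoImplicit false

namespace Cfsg.Agent.Helper15.ExtraGrp

open Matrix

variable {p : ℕ} [Fact p.Prime]

section aut

variable {E : Type*} [Group E] (e : E ≃* Multiplicative (Fin 2 → ZMod p))

/-- the multiplicative map attached to a matrix -/
noncomputable def matFun (M : Matrix (Fin 2) (Fin 2) (ZMod p)) : E →* E where
  toFun x := e.symm (Multiplicative.ofAdd (M *ᵥ Multiplicative.toAdd (e x)))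
  map_one' := by simp
  map_mul' x y := by
    rw [map_mul, toAdd_mul, mulVec_add, ofAdd_add, map_mul]

theorem matFun_apply (M : Matrix (Fin 2) (Fin 2) (ZMod p)) (x : E) :
    e (matFun e M x) = Multiplicative.ofAdd (M *ᵥ Multiplicative.toAdd (e x)) := by
  show e (e.symm _) = _
  rw [MulEquiv.apply_symm_apply]

theorem matFun_mul (M N : Matrix (Fin 2) (Fin 2) (ZMod p)) (x : E) :
    matFun e (M * N) x = matFun e M (matFun e N x) := by
  apply e.injective
  rw [matFun_apply, matFun_apply, matFun_apply, toAdd_ofAdd, mulVec_mulVec]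

theorem matFun_one (x : E) : matFun e (1 : Matrix (Fin 2) (Fin 2) (ZMod p)) x = x := by
  apply e.injective
  rw [matFun_apply, one_mulVec, ofAdd_toAdd]

/-- matrix to automorphism -/
noncomputable def GLinv : GL (Fin 2) (ZMod p) →* MulAut E where
  toFun M :=
    { toFun := matFun e (M : Matrix (Fin 2) (Fin 2) (ZMod p))
      invFun := matFun e ((M⁻¹ : GL (Fin 2) (ZMod p)) : Matrix (Fin 2) (Fin 2) (ZMod p))
      left_inv := fun x => by
        rw [← matFun_mul, ← Units.val_mul, inv_mul_cancel, Units.val_one, matFun_one]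
      right_inv := fun x => by
        rw [← matFun_mul, ← Units.val_mul, mul_inv_cancel, Units.val_one, matFun_one]
      map_mul' := fun x y => map_mul _ x y }
  map_one' := by
    ext x
    show matFun e ((1 : GL (Fin 2) (ZMod p)) : Matrix (Fin 2) (Fin 2) (ZMod p)) x = x
    rw [Units.val_one, matFun_one]
  map_mul' M N := by
    ext x
    show matFun e ((M * N : GL (Fin 2) (ZMod p)) : Matrix (Fin 2) (Fin 2) (ZMod p)) x =
      matFun e M (matFun e N x)
    rw [Units.val_mul, matFun_mul]

theorem GLinv_apply (M : GL (Fin 2) (ZMod p)) (x : E) :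
    e (GLinv e M x) = Multiplicative.ofAdd
      ((M : Matrix (Fin 2) (Fin 2) (ZMod p)) *ᵥ Multiplicative.toAdd (e x)) :=
  matFun_apply e _ x

/-- the additive map attached to an endomorphism -/
noncomputable def autAdd (σ : E →* E) : (Fin 2 → ZMod p) →+ (Fin 2 → ZMod p) :=
  AddMonoidHom.toMultiplicative.symm (e.toMonoidHom.comp (σ.comp e.symm.toMonoidHom))

theorem autAdd_apply (σ : E →* E) (w : Fin 2 → ZMod p) :
    autAdd e σ w = Multiplicative.toAdd (e (σ (e.symm (Multiplicative.ofAdd w)))) := rfl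

/-- the matrix of an endomorphism -/
noncomputable def endMat (σ : E →* E) : Matrix (Fin 2) (Fin 2) (ZMod p) :=
  LinearMap.toMatrix' (AddMonoidHom.toZModLinearMap p (autAdd e σ))

theorem endMat_mulVec (σ : E →* E) (x : E) :
    endMat e σ *ᵥ Multiplicative.toAdd (e x) = Multiplicative.toAdd (e (σ x)) := by
  unfold endMat
  rw [LinearMap.toMatrix'_mulVec]
  show autAdd e σ _ = _
  rw [autAdd_apply, ofAdd_toAdd, MulEquiv.symm_apply_apply]

theorem endMat_mulVec' (σ : E →* E) (w : Fin 2 → ZMod p) :
    endMat e σ *ᵥ w = Multiplicative.toAdd (e (σ (e.symm (Multiplicative.ofAdd w)))) := by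
  have := endMat_mulVec e σ (e.symm (Multiplicative.ofAdd w))
  rwa [MulEquiv.apply_symm_apply, toAdd_ofAdd] at this

theorem mat_ext {M N : Matrix (Fin 2) (Fin 2) (ZMod p)} (h : ∀ w, M *ᵥ w = N *ᵥ w) : M = N := by
  ext i j
  have := congrFun (h (Pi.single j 1)) i
  simpa using this

theorem endMat_comp (σ τ : E →* E) : endMat e (σ.comp τ) = endMat e σ * endMat e τ := by
  apply mat_ext
  intro w
  rw [← mulVec_mulVec, endMat_mulVec', endMat_mulVec' e τ, endMat_mulVec]
  rfl

theorem endMat_id : endMat e (MonoidHom.id E) = 1 := by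
  apply mat_ext
  intro w
  rw [endMat_mulVec', one_mulVec]
  simp

/-- automorphism to matrix -/
noncomputable def autMat : MulAut E →* GL (Fin 2) (ZMod p) :=
  MonoidHom.toHomUnits
    { toFun := fun σ => endMat e σ.toMonoidHom
      map_one' := endMat_id e
      map_mul' := fun σ τ => endMat_comp e σ.toMonoidHom τ.toMonoidHom }

theorem autMat_val (σ : MulAut E) :
    ((autMat e σ : GL (Fin 2) (ZMod p)) : Matrix (Fin 2) (Fin 2) (ZMod p)) =
      endMat e σ.toMonoidHom := rfl

theorem autMat_mulVec (σ : MulAut E) (x : E) :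
    ((autMat e σ : GL (Fin 2) (ZMod p)) : Matrix (Fin 2) (Fin 2) (ZMod p)) *ᵥ
      Multiplicative.toAdd (e x) = Multiplicative.toAdd (e (σ x)) := by
  rw [autMat_val, endMat_mulVec]
  rfl

theorem autMat_GLinv (M : GL (Fin 2) (ZMod p)) : autMat e (GLinv e M) = M := by
  apply Units.ext
  apply mat_ext
  intro w
  have := autMat_mulVec e (GLinv e M) (e.symm (Multiplicative.ofAdd w))
  rw [MulEquiv.apply_symm_apply, toAdd_ofAdd, GLinv_apply, MulEquiv.apply_symm_apply,
    toAdd_ofAdd, toAdd_ofAdd] at this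
  exact this

theorem autMat_injective : Function.Injective (autMat e) := by
  rw [injective_iff_map_eq_one]
  intro σ h
  ext x
  apply e.injective
  have := autMat_mulVec e σ x
  rw [h, Units.val_one, one_mulVec] at this
  have h2 := congrArg Multiplicative.ofAdd this
  rw [ofAdd_toAdd, ofAdd_toAdd] at h2
  rw [← h2]
  rfl

theorem GLinv_autMat (σ : MulAut E) : GLinv e (autMat e σ) = σ := by
  apply autMat_injective e
  rw [autMat_GLinv]

theorem toAdd_map_pow_val (x : E) (c : ZMod p) :
    Multiplicative.toAdd (e (x ^ c.val)) = c • Multiplicative.toAdd (e x) := by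
  rw [map_pow, toAdd_pow, ← Nat.cast_smul_eq_nsmul (ZMod p), ZMod.natCast_zmod_val]

end aut

end Cfsg.Agent.Helper15.ExtraGrp
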