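import Cfsg.Agent.Helper15.ExtraGrp2
import Cfsg.Prelude.Def_Transfer

/-! Extraspecial groups of order `p³` and exponent `p` as subgroups: basic structure. -/

set_option autoImplicit false

namespace Cfsg.Agent.Helper15.ExtraGrp

open scoped commutatorElement

variable {G : Type*} [Group G] {p : ℕ}

/-- the structure of an extraspecial subgroup `P` of order `p³` and exponent `p` with centre `Z` -/
structure ESyl (p : ℕ) (P Z : Subgroup G) : Prop where
  exp : ∀ x ∈ P, x ^ p = 1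
  ZP : Z ≤ P
  cardZ : Nat.card Z = p
  cardP : Nat.card P = p ^ 3
  central : ∀ z ∈ Z, ∀ x ∈ P, z * x = x * z
  comm : ∀ x ∈ P, ∀ y ∈ P, x * y * x⁻¹ * y⁻¹ ∈ Z
  center : ∀ x ∈ P, (∀ y ∈ P, x * y = y * x) → x ∈ Z

theorem esyl_of_extraspecial (P : Subgroup G) (hE : Cfsg.IsExtraspecial p ↥P)
    (hcard : Nat.card P = p ^ 3) (hexp : Monoid.exponent ↥P = p) :
    ESyl p P ((Subgroup.center ↥P).map P.subtype) := by
  obtain ⟨⟨-, -, hcomm⟩, hZ⟩ := hE
  refine ⟨?_, ?_, ?_, hcard, ?_, ?_, ?_⟩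
  · intro x hx
    have := Monoid.pow_exponent_eq_one (⟨x, hx⟩ : ↥P)
    rw [hexp] at this
    exact congrArg Subtype.val this
  · rintro _ ⟨x, -, rfl⟩
    exact x.2
  · rw [← hZ]
    exact (Nat.card_congr ((Subgroup.center ↥P).equivMapOfInjective _
      (Subgroup.subtype_injective _)).toEquiv).symm
  · rintro _ ⟨z, hz, rfl⟩ x hx
    have := (Subgroup.mem_center_iff.mp hz) ⟨x, hx⟩
    have h2 := congrArg Subtype.val this
    simp only [Subgroup.coe_mul] at h2
    exact h2.symm
  · intro x hx y hy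
    have h1 : ⁅(⟨x, hx⟩ : ↥P), (⟨y, hy⟩ : ↥P)⁆ ∈ commutator ↥P := by
      rw [commutator_def]
      exact Subgroup.commutator_mem_commutator (Subgroup.mem_top _) (Subgroup.mem_top _)
    rw [hcomm] at h1
    refine ⟨_, h1, ?_⟩
    simp [commutatorElement_def]
  · intro x hx h
    refine ⟨⟨x, hx⟩, ?_, rfl⟩
    show (⟨x, hx⟩ : ↥P) ∈ Subgroup.center ↥P
    rw [Subgroup.mem_center_iff]
    intro y
    apply Subtype.ext
    simp only [Subgroup.coe_mul]
    exact (h y y.2).symm

namespace ESyl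

variable {P Z : Subgroup G} (h : ESyl p P Z)

include h

/-- the commutator map is multiplicative in the first variable -/
theorem com_mul_left {x y v : G} (hx : x ∈ P) (hy : y ∈ P) (hv : v ∈ P) :
    (x * y) * v * (x * y)⁻¹ * v⁻¹ = (x * v * x⁻¹ * v⁻¹) * (y * v * y⁻¹ * v⁻¹) := by
  have hc := h.central _ (h.comm y hy v hv) x hx
  have hc2 := h.central _ (h.comm y hy v hv) (x * v * x⁻¹ * v⁻¹) (h.ZP (h.comm x hx v hv))
  calc (x * y) * v * (x * y)⁻¹ * v⁻¹ = x * ((y * v * y⁻¹ * v⁻¹) * v) * x⁻¹ * v⁻¹ := by group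
    _ = (x * (y * v * y⁻¹ * v⁻¹)) * v * x⁻¹ * v⁻¹ := by group
    _ = ((y * v * y⁻¹ * v⁻¹) * x) * v * x⁻¹ * v⁻¹ := by rw [hc]
    _ = (y * v * y⁻¹ * v⁻¹) * (x * v * x⁻¹ * v⁻¹) := by group
    _ = _ := hc2

/-- the commutator map is multiplicative in the second variable -/
theorem com_mul_right {x v w : G} (hx : x ∈ P) (hv : v ∈ P) (hw : w ∈ P) :
    x * (v * w) * x⁻¹ * (v * w)⁻¹ = (x * v * x⁻¹ * v⁻¹) * (x * w * x⁻¹ * w⁻¹) := by
  have hc := h.central _ (h.comm x hx w hw) v⁻¹ (P.inv_mem hv)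
  calc x * (v * w) * x⁻¹ * (v * w)⁻¹ = (x * v * x⁻¹) * ((x * w * x⁻¹ * w⁻¹) * v⁻¹) := by group
    _ = (x * v * x⁻¹) * (v⁻¹ * (x * w * x⁻¹ * w⁻¹)) := by rw [hc]
    _ = _ := by group

theorem com_pow_left {x v : G} (hx : x ∈ P) (hv : v ∈ P) (k : ℕ) :
    x ^ k * v * (x ^ k)⁻¹ * v⁻¹ = (x * v * x⁻¹ * v⁻¹) ^ k := by
  induction k with
  | zero => simp
  | succ k ih =>
    rw [pow_succ, h.com_mul_left (P.pow_mem hx k) hx hv, ih, pow_succ]

theorem com_pow_right {x v : G} (hx : x ∈ P) (hv : v ∈ P) (k : ℕ) :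
    x * v ^ k * x⁻¹ * (v ^ k)⁻¹ = (x * v * x⁻¹ * v⁻¹) ^ k := by
  induction k with
  | zero => simp
  | succ k ih =>
    rw [pow_succ, h.com_mul_right hx (P.pow_mem hv k) hv, ih, pow_succ]

section maxsub

variable [Fact p.Prime] {A : Subgroup G}

include h

theorem finiteP : Finite ↥P := by
  apply Nat.finite_of_card_ne_zero
  rw [h.cardP]
  exact pow_ne_zero _ (Fact.out : p.Prime).ne_zero

omit h in
theorem A_comm (hAc : Nat.card A = p ^ 2) : ∀ a ∈ A, ∀ b ∈ A, a * b = b * a := by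
  intro a ha b hb
  have hc := IsPGroup.isMulCommutative_of_card_eq_prime_sq hAc
  have := hc.is_comm.comm (⟨a, ha⟩ : ↥A) ⟨b, hb⟩
  exact congrArg Subtype.val this

/-- `P` is not abelian -/
theorem not_le_centralizer : ¬ P ≤ Subgroup.centralizer (P : Set G) := by
  intro hle
  have hp : p.Prime := Fact.out
  have hPZ : P ≤ Z := by
    intro x hx
    apply h.center x hx
    intro y hy
    exact ((Subgroup.mem_centralizer_iff.mp (hle hx)) y hy).symm
  have := h.finiteP
  have hZfin : Finite ↥Z := Finite.of_injective _ (Subgroup.inclusion_injective h.ZP)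
  have h1 := Subgroup.card_le_of_le hPZ
  rw [h.cardP, h.cardZ] at h1
  have : p ^ 1 < p ^ 3 := Nat.pow_lt_pow_right hp.one_lt (by norm_num)
  rw [pow_one] at this
  omega

theorem card_of_between {B : Subgroup G} (hAc : Nat.card A = p ^ 2) (hAB : A ≤ B) (hBP : B ≤ P)
    (hne : B ≠ P) : B = A := by
  have hp : p.Prime := Fact.out
  have := h.finiteP
  have hBfin : Finite ↥B := Finite.of_injective _ (Subgroup.inclusion_injective hBP)
  have hd : Nat.card B ∣ p ^ 3 := by rw [← h.cardP]; exact Subgroup.card_dvd_of_le hBP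
  obtain ⟨k, hk, hkB⟩ := (Nat.dvd_prime_pow hp).mp hd
  have h2 : p ^ 2 ≤ p ^ k := by rw [← hAc, ← hkB]; exact Subgroup.card_le_of_le hAB
  have hk2 : 2 ≤ k := (Nat.pow_le_pow_iff_right hp.one_lt).mp h2
  have hk3 : k ≠ 3 := by
    intro h3
    apply hne
    apply Subgroup.eq_of_le_of_card_ge hBP
    rw [h.cardP, hkB, h3]
  have hk' : k = 2 := by omega
  symm
  apply Subgroup.eq_of_le_of_card_ge hAB
  rw [hAc, hkB, hk']

theorem Z_le_A (hAP : A ≤ P) (hAc : Nat.card A = p ^ 2) : Z ≤ A := by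
  have hcomm := A_comm (A := A) hAc
  have hne : A ⊔ Z ≠ P := by
    intro heq
    apply h.not_le_centralizer
    -- every element of `P = A ⊔ Z` commutes with `A`
    have h1 : P ≤ Subgroup.centralizer (A : Set G) := by
      rw [← heq]
      apply sup_le
      · intro a ha
        rw [Subgroup.mem_centralizer_iff]
        intro b hb
        exact hcomm b hb a ha
      · intro z hz
        rw [Subgroup.mem_centralizer_iff]
        intro b hb
        exact (h.central z hz b (hAP hb)).symm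
    have h2 : P ≤ Subgroup.centralizer (P : Set G) := by
      nth_rewrite 1 [← heq]
      apply sup_le
      · intro a ha
        rw [Subgroup.mem_centralizer_iff]
        intro y hy
        exact ((Subgroup.mem_centralizer_iff.mp (h1 hy)) a ha).symm
      · intro z hz
        rw [Subgroup.mem_centralizer_iff]
        intro y hy
        exact (h.central z hz y hy).symm
    exact h2
  have := h.card_of_between hAc (le_sup_left : A ≤ A ⊔ Z) (sup_le hAP h.ZP) hne
  rw [← this]
  exact le_sup_right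

theorem conj_mem_A (hAP : A ≤ P) (hAc : Nat.card A = p ^ 2) {x a : G} (hx : x ∈ P)
    (ha : a ∈ A) : x * a * x⁻¹ ∈ A := by
  have h1 : x * a * x⁻¹ = (x * a * x⁻¹ * a⁻¹) * a := by group
  rw [h1]
  exact A.mul_mem (h.Z_le_A hAP hAc (h.comm x hx a (hAP ha))) ha

theorem mem_A_of_commute (hAP : A ≤ P) (hAc : Nat.card A = p ^ 2) {v x : G} (hv : v ∈ A)
    (hvZ : v ∉ Z) (hx : x ∈ P) (hxv : x * v = v * x) : x ∈ A := by
  by_contra hxA
  have hcomm := A_comm (A := A) hAc
  have hne : A ⊔ Subgroup.zpowers x ≠ P := by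
    intro heq
    apply hvZ
    apply h.center v (hAP hv)
    have h1 : P ≤ Subgroup.centralizer ({v} : Set G) := by
      rw [← heq]
      apply sup_le
      · intro a ha
        rw [Subgroup.mem_centralizer_iff]
        intro b hb
        rw [Set.mem_singleton_iff] at hb
        rw [hb]
        exact hcomm v hv a ha
      · rw [Subgroup.zpowers_le]
        rw [Subgroup.mem_centralizer_iff]
        intro b hb
        rw [Set.mem_singleton_iff] at hb
        rw [hb]
        exact hxv.symm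
    intro y hy
    exact (Subgroup.mem_centralizer_iff.mp (h1 hy)) v rfl
  have := h.card_of_between hAc (le_sup_left : A ≤ A ⊔ Subgroup.zpowers x)
    (sup_le hAP (by rw [Subgroup.zpowers_le]; exact hx)) hne
  apply hxA
  rw [← this]
  exact le_sup_right (a := A) (Subgroup.mem_zpowers x)

theorem exists_gen : ∃ z₀ ∈ Z, z₀ ≠ 1 ∧ ∀ z ∈ Z, z ∈ Subgroup.zpowers z₀ := by
  have hp : p.Prime := Fact.out
  have hZc : IsCyclic ↥Z := isCyclic_of_prime_card h.cardZ
  obtain ⟨g, hg⟩ := hZc.exists_generator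
  refine ⟨g, g.2, ?_, ?_⟩
  · intro h1
    have hg1 : g = 1 := Subtype.ext h1
    have : ∀ z : ↥Z, z = 1 := by
      intro z
      obtain ⟨k, rfl⟩ := Subgroup.mem_zpowers_iff.mp (hg z)
      rw [hg1, one_zpow]
    have hsub : Subsingleton ↥Z := ⟨fun a b => by rw [this a, this b]⟩
    have := Nat.card_of_subsingleton (1 : ↥Z)
    rw [h.cardZ] at this
    exact hp.one_lt.ne' this
  · intro z hz
    obtain ⟨k, hk⟩ := Subgroup.mem_zpowers_iff.mp (hg ⟨z, hz⟩)
    rw [Subgroup.mem_zpowers_iff]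
    refine ⟨k, ?_⟩
    have := congrArg Subtype.val hk
    simpa using this

theorem exists_not_mem (hAP : A ≤ P) (hAc : Nat.card A = p ^ 2) : ∃ v ∈ A, v ∉ Z := by
  have hp : p.Prime := Fact.out
  by_contra hcon
  push Not at hcon
  have hAZ : A ≤ Z := hcon
  have := h.finiteP
  have hZfin : Finite ↥Z := Finite.of_injective _ (Subgroup.inclusion_injective h.ZP)
  have h1 := Subgroup.card_le_of_le hAZ
  rw [hAc, h.cardZ] at h1
  have : p ^ 1 < p ^ 2 := Nat.pow_lt_pow_right hp.one_lt (by norm_num)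
  rw [pow_one] at this
  omega

end maxsub

end ESyl

end Cfsg.Agent.Helper15.ExtraGrp
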