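import Cfsg.Agent.Helper15.ExtraGrp3
import Cfsg.Agent.Helper18.Dickson21
import Cfsg.Agent.Helper10.PairFusion

/-! Torus elements: from the `SL₂`-hypothesis on a subgroup `A` of order `p²` to an element of
`N_G(P)` acting as `diag(t, t⁻¹)` on `A`. -/

set_option autoImplicit false

namespace Cfsg.Agent.Helper15.ExtraGrp

open Matrix
open Cfsg.Agent.Helper18.Dickson (uM lM dM)

variable {G : Type*} [Group G] {p : ℕ} [Fact p.Prime]

/-- automorphisms of `A` induced by conjugation in `G` -/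
def inducedAut (A : Subgroup G) : Subgroup (MulAut ↥A) where
  carrier := {φ | ∃ g : G, ∀ a : ↥A, ((φ a : ↥A) : G) = g * a * g⁻¹}
  one_mem' := ⟨1, fun a => by simp⟩
  mul_mem' := by
    rintro φ ψ ⟨g, hg⟩ ⟨k, hk⟩
    refine ⟨g * k, fun a => ?_⟩
    rw [MulAut.mul_apply, hg, hk]; group
  inv_mem' := by
    rintro φ ⟨g, hg⟩
    refine ⟨g⁻¹, fun a => ?_⟩
    have := hg (φ⁻¹ a)
    rw [MulAut.apply_inv_self] at this
    rw [this]; group

theorem mem_inducedAut {A : Subgroup G} {φ : MulAut ↥A} :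
    φ ∈ inducedAut A ↔ ∃ g : G, ∀ a : ↥A, ((φ a : ↥A) : G) = g * a * g⁻¹ := Iff.rfl

section torus

variable {K : Type*} [Field K]

theorem dM_mul_w (t : K) (ht : t ≠ 0) :
    dM t ht * (uM 1 * lM (-1) * uM 1) = uM t * lM (-t⁻¹) * uM t := by
  apply Subtype.ext
  simp only [Matrix.SpecialLinearGroup.coe_mul, Cfsg.Agent.Helper18.Dickson.uM_coe,
    Cfsg.Agent.Helper18.Dickson.lM_coe, Cfsg.Agent.Helper18.Dickson.dM_coe]
  ext i j
  fin_cases i <;> fin_cases j
  · simp [Matrix.mul_apply, Fin.sum_univ_two]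
    field_simp
    ring
  · simp [Matrix.mul_apply, Fin.sum_univ_two, ht]
  · simp [Matrix.mul_apply, Fin.sum_univ_two]
  · simp [Matrix.mul_apply, Fin.sum_univ_two, ht]

theorem dM_eq (t : K) (ht : t ≠ 0) :
    dM t ht = uM t * lM (-t⁻¹) * uM t * (uM 1 * lM (-1) * uM 1)⁻¹ := by
  rw [← dM_mul_w t ht]; group

end torus

theorem lM_pow_p (c : ZMod p) : (lM c) ^ p = 1 := by
  rw [Cfsg.Agent.Helper18.Dickson.lM_pow]
  have : ((p : ℕ) : ZMod p) * c = 0 := by rw [ZMod.natCast_self, zero_mul]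
  rw [this]
  apply Subtype.ext
  simp [lM]
  ext i j
  fin_cases i <;> fin_cases j <;> simp

theorem uM_pow_p (c : ZMod p) : (uM c) ^ p = 1 :=
  Cfsg.Agent.Helper18.Dickson.uM_pow_char p c

section hSL

variable {A : Subgroup G} (e : ↥A ≃* Multiplicative (Fin 2 → ZMod p))
  (hSL : ∀ φ : MulAut ↥A, orderOf φ = p → ∃ g : G, ∀ a : ↥A, ((φ a : ↥A) : G) = g * a * g⁻¹)

include hSL in
theorem mem_inducedAut_of_pow (M : Matrix.SpecialLinearGroup (Fin 2) (ZMod p))
    (hM : M ^ p = 1) : GLinv e (Matrix.SpecialLinearGroup.toGL M) ∈ inducedAut A := by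
  have hp : p.Prime := Fact.out
  have h1 : (GLinv e (Matrix.SpecialLinearGroup.toGL M)) ^ p = 1 := by
    rw [← map_pow, ← map_pow, hM, map_one, map_one]
  have h2 := orderOf_dvd_of_pow_eq_one h1
  rcases (Nat.dvd_prime hp).mp h2 with h3 | h3
  · rw [orderOf_eq_one_iff] at h3
    rw [h3]; exact Subgroup.one_mem _
  · exact hSL _ h3

include hSL in
theorem exists_torus (t : ZMod p) (ht : t ≠ 0) :
    ∃ g : G, ∀ a : ↥A,
      ((GLinv e (Matrix.SpecialLinearGroup.toGL (dM t ht)) a : ↥A) : G) = g * a * g⁻¹ := by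
  rw [← mem_inducedAut, dM_eq t ht]
  simp only [map_mul, map_inv]
  have hu := fun c => mem_inducedAut_of_pow e hSL (uM c) (uM_pow_p c)
  have hl := fun c => mem_inducedAut_of_pow e hSL (lM c) (lM_pow_p c)
  exact Subgroup.mul_mem _ (Subgroup.mul_mem _ (Subgroup.mul_mem _ (hu t) (hl _)) (hu t))
    (Subgroup.inv_mem _ (Subgroup.mul_mem _ (Subgroup.mul_mem _ (hu 1) (hl _)) (hu 1)))

theorem GLinv_dM_apply_zero (t : ZMod p) (ht : t ≠ 0) (z : ↥A)
    (hz : e z = Multiplicative.ofAdd (Pi.single 0 1)) :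
    GLinv e (Matrix.SpecialLinearGroup.toGL (dM t ht)) z = z ^ t.val := by
  apply e.injective
  rw [GLinv_apply, hz, toAdd_ofAdd]
  have h1 : Multiplicative.toAdd (e (z ^ t.val)) = t • (Pi.single 0 1 : Fin 2 → ZMod p) := by
    rw [toAdd_map_pow_val, hz, toAdd_ofAdd]
  have h2 : e (z ^ t.val) = Multiplicative.ofAdd (t • (Pi.single 0 1 : Fin 2 → ZMod p)) := by
    rw [← h1, ofAdd_toAdd]
  rw [h2]
  congr 1
  ext i
  fin_cases i <;>
    simp [Matrix.SpecialLinearGroup.coe_GL_coe_matrix, Cfsg.Agent.Helper18.Dickson.dM_coe,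
      Matrix.mulVec, dotProduct, Fin.sum_univ_two]

theorem GLinv_dM_apply_one (t : ZMod p) (ht : t ≠ 0) (v : ↥A)
    (hv : e v = Multiplicative.ofAdd (Pi.single 1 1)) :
    GLinv e (Matrix.SpecialLinearGroup.toGL (dM t ht)) v = v ^ (t⁻¹).val := by
  apply e.injective
  rw [GLinv_apply, hv, toAdd_ofAdd]
  have h1 : Multiplicative.toAdd (e (v ^ (t⁻¹).val)) = t⁻¹ • (Pi.single 1 1 : Fin 2 → ZMod p) := by
    rw [toAdd_map_pow_val, hv, toAdd_ofAdd]
  have h2 : e (v ^ (t⁻¹).val) = Multiplicative.ofAdd (t⁻¹ • (Pi.single 1 1 : Fin 2 → ZMod p)) := by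
    rw [← h1, ofAdd_toAdd]
  rw [h2]
  congr 1
  ext i
  fin_cases i <;>
    simp [Matrix.SpecialLinearGroup.coe_GL_coe_matrix, Cfsg.Agent.Helper18.Dickson.dM_coe,
      Matrix.mulVec, dotProduct, Fin.sum_univ_two]

end hSL

end Cfsg.Agent.Helper15.ExtraGrp
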