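import Cfsg.Agent.Helper15.ExtraGrp4

/-! The Frattini step: an element of `G` inducing a torus automorphism on `A` may be replaced by
an element of `N_G(P)`. -/

set_option autoImplicit false

namespace Cfsg.Agent.Helper15.ExtraGrp

open Cfsg.Agent.Helper14 (cj)

variable {G : Type*} [Group G] {p : ℕ} [Fact p.Prime]

theorem conj_gen_eq {A : Subgroup G} {z₀ v₀ : G}
    (hgenA : ∀ a ∈ A, ∃ i j : ℕ, a = z₀ ^ i * v₀ ^ j) {B x : G}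
    (hz : B * z₀ * B⁻¹ = x * z₀ * x⁻¹) (hv : B * v₀ * B⁻¹ = x * v₀ * x⁻¹) :
    ∀ a ∈ A, B * a * B⁻¹ = x * a * x⁻¹ := by
  intro a ha
  obtain ⟨i, j, rfl⟩ := hgenA a ha
  rw [← conj_mul, ← conj_mul, ← conj_pow, ← conj_pow, ← conj_pow, ← conj_pow, hz, hv]

theorem exists_normalizer_elt [Finite G] (P : Sylow p G) {Z A : Subgroup G}
    (h : ESyl p (P : Subgroup G) Z) (hAP : A ≤ (P : Subgroup G)) (hAc : Nat.card A = p ^ 2)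
    (z₀ v₀ : G) (hz₀ : z₀ ∈ Z) (hv₀ : v₀ ∈ A)
    (hgenZ : ∀ z ∈ Z, ∃ k : ℕ, z = z₀ ^ k)
    (hgenA : ∀ a ∈ A, ∃ i j : ℕ, a = z₀ ^ i * v₀ ^ j)
    (r s : ℕ) (hrs : ((r * s : ℕ) : ZMod p) = 1)
    (g : G) (hgz : g * z₀ * g⁻¹ = z₀ ^ r) (hgv : g * v₀ * g⁻¹ = v₀ ^ s) :
    ∃ n ∈ Subgroup.normalizer ((P : Subgroup G) : Set G),
      n * z₀ * n⁻¹ = z₀ ^ r ∧ n * v₀ * n⁻¹ = v₀ ^ s := by
  have hZA : Z ≤ A := h.Z_le_A hAP hAc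
  have hz₀P : z₀ ∈ (P : Subgroup G) := h.ZP hz₀
  have hv₀P : v₀ ∈ (P : Subgroup G) := hAP hv₀
  have hz₀p : z₀ ^ p = 1 := h.exp _ hz₀P
  have hv₀p : v₀ ^ p = 1 := h.exp _ hv₀P
  have hrs1 : ((r * s : ℕ) : ZMod p) = ((1 : ℕ) : ZMod p) := by rw [hrs, Nat.cast_one]
  have hsr1 : ((s * r : ℕ) : ZMod p) = ((1 : ℕ) : ZMod p) := by rw [mul_comm, hrs1]
  -- inverse conjugation
  have hgiz : g⁻¹ * z₀ * g = z₀ ^ s := by
    have h1 : g * z₀ ^ s * g⁻¹ = z₀ := by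
      rw [← conj_pow, hgz, ← pow_mul, pow_eq_pow_of_natCast_eq hz₀p hrs1, pow_one]
    calc g⁻¹ * z₀ * g = g⁻¹ * (g * z₀ ^ s * g⁻¹) * g := by rw [h1]
      _ = z₀ ^ s := by group
  have hgiv : g⁻¹ * v₀ * g = v₀ ^ r := by
    have h1 : g * v₀ ^ r * g⁻¹ = v₀ := by
      rw [← conj_pow, hgv, ← pow_mul, pow_eq_pow_of_natCast_eq hv₀p hsr1, pow_one]
    calc g⁻¹ * v₀ * g = g⁻¹ * (g * v₀ ^ r * g⁻¹) * g := by rw [h1]
      _ = v₀ ^ r := by group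
  have hgc : ∀ c ∈ Z, g * c * g⁻¹ = c ^ r := by
    intro c hc
    obtain ⟨k, rfl⟩ := hgenZ c hc
    rw [← conj_pow, hgz, ← pow_mul, ← pow_mul, mul_comm]
  -- the subgroup of elements acting on `A` like an element of `P`
  let K' : Subgroup G :=
    { carrier := {k | ∃ x ∈ (P : Subgroup G), ∀ a ∈ A, k * a * k⁻¹ = x * a * x⁻¹}
      one_mem' := ⟨1, Subgroup.one_mem _, fun a _ => rfl⟩
      mul_mem' := by
        rintro k₁ k₂ ⟨x₁, hx₁, h₁⟩ ⟨x₂, hx₂, h₂⟩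
        refine ⟨x₁ * x₂, Subgroup.mul_mem _ hx₁ hx₂, fun a ha => ?_⟩
        have h3 : x₂ * a * x₂⁻¹ ∈ A := h.conj_mem_A hAP hAc hx₂ ha
        calc k₁ * k₂ * a * (k₁ * k₂)⁻¹ = k₁ * (k₂ * a * k₂⁻¹) * k₁⁻¹ := by group
          _ = k₁ * (x₂ * a * x₂⁻¹) * k₁⁻¹ := by rw [h₂ a ha]
          _ = x₁ * (x₂ * a * x₂⁻¹) * x₁⁻¹ := h₁ _ h3
          _ = _ := by group
      inv_mem' := by
        rintro k ⟨x, hx, h₁⟩
        refine ⟨x⁻¹, Subgroup.inv_mem _ hx, fun a ha => ?_⟩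
        have h3 : x⁻¹ * a * x⁻¹⁻¹ ∈ A := h.conj_mem_A hAP hAc (Subgroup.inv_mem _ hx) ha
        have h4 := h₁ _ h3
        have h5 : x * (x⁻¹ * a * x⁻¹⁻¹) * x⁻¹ = a := by group
        rw [h5] at h4
        calc k⁻¹ * a * k⁻¹⁻¹ = k⁻¹ * (k * (x⁻¹ * a * x⁻¹⁻¹) * k⁻¹) * k := by rw [h4]; group
          _ = _ := by group }
  have hK'mem : ∀ k : G, k ∈ K' ↔ ∃ x ∈ (P : Subgroup G), ∀ a ∈ A, k * a * k⁻¹ = x * a * x⁻¹ :=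
    fun k => Iff.rfl
  have hPK : (P : Subgroup G) ≤ K' := fun x hx => (hK'mem x).mpr ⟨x, hx, fun a _ => rfl⟩
  -- Step i
  have hstep : ∀ x ∈ (P : Subgroup G), g * x * g⁻¹ ∈ K' := by
    intro x hx
    rw [hK'mem]
    refine ⟨x ^ (r * r), Subgroup.pow_mem _ hx _, ?_⟩
    apply conj_gen_eq hgenA
    · -- on `z₀`
      have hzs : z₀ ^ s ∈ Z := Subgroup.pow_mem _ hz₀ _
      have h1 : x * z₀ ^ s * x⁻¹ = z₀ ^ s := by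
        rw [← h.central _ hzs x hx]; group
      have h2 : x ^ (r * r) * z₀ * (x ^ (r * r))⁻¹ = z₀ := by
        rw [← h.central _ hz₀ _ (Subgroup.pow_mem _ hx _)]; group
      rw [h2]
      calc g * x * g⁻¹ * z₀ * (g * x * g⁻¹)⁻¹ = g * (x * (g⁻¹ * z₀ * g) * x⁻¹) * g⁻¹ := by group
        _ = g * z₀ ^ s * g⁻¹ := by rw [hgiz, h1]
        _ = z₀ := by
          rw [← conj_pow, hgz, ← pow_mul, pow_eq_pow_of_natCast_eq hz₀p hrs1, pow_one]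
    · -- on `v₀`
      obtain ⟨c, hc⟩ : ∃ c, c = x * v₀ * x⁻¹ * v₀⁻¹ := ⟨_, rfl⟩
      have hcZ : c ∈ Z := hc ▸ h.comm x hx v₀ hv₀P
      have hcv : x * v₀ * x⁻¹ = c * v₀ := by rw [hc]; group
      have hcomm : Commute c v₀ := h.central c hcZ v₀ hv₀P
      have h1 : x * v₀ ^ r * x⁻¹ = c ^ r * v₀ ^ r := by
        rw [← conj_pow, hcv, hcomm.mul_pow]
      have h2 : x ^ (r * r) * v₀ * (x ^ (r * r))⁻¹ = c ^ (r * r) * v₀ := by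
        have := h.com_pow_left hx hv₀P (r * r)
        rw [← hc] at this
        rw [← this]; group
      rw [h2]
      calc g * x * g⁻¹ * v₀ * (g * x * g⁻¹)⁻¹ = g * (x * (g⁻¹ * v₀ * g) * x⁻¹) * g⁻¹ := by group
        _ = g * (c ^ r * v₀ ^ r) * g⁻¹ := by rw [hgiv, h1]
        _ = (g * c * g⁻¹) ^ r * (g * v₀ * g⁻¹) ^ r := by rw [← conj_mul, conj_pow, conj_pow]
        _ = (c ^ r) ^ r * (v₀ ^ s) ^ r := by rw [hgc c hcZ, hgv]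
        _ = c ^ (r * r) * v₀ := by
          rw [← pow_mul, ← pow_mul, pow_eq_pow_of_natCast_eq hv₀p hsr1, pow_one]
  have hR : (P : Subgroup G).map (cj g) ≤ K' := by
    rintro _ ⟨x, hx, rfl⟩
    exact hstep x hx
  have hindex : ¬ p ∣ (P : Subgroup G).relIndex K' := fun hd =>
    P.not_dvd_index (hd.trans (Subgroup.relIndex_dvd_index_of_le hPK))
  obtain ⟨u, huK, hu⟩ := Cfsg.Agent.Helper10.exists_conj_le_of_not_dvd_relIndex hPK hR P.2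
    (P.2.map _) hindex
  obtain ⟨x, hxP, hx⟩ := (hK'mem u).mp huK
  refine ⟨x⁻¹ * u * g, ?_, ?_, ?_⟩
  · apply Subgroup.mem_normalizer_fintype
    intro y hy
    have h1 : u * (g * y * g⁻¹) * u⁻¹ ∈ (P : Subgroup G) :=
      hu ⟨g * y * g⁻¹, ⟨y, hy, rfl⟩, rfl⟩
    have h2 : x⁻¹ * u * g * y * (x⁻¹ * u * g)⁻¹ = x⁻¹ * (u * (g * y * g⁻¹) * u⁻¹) * x := by group
    rw [h2]
    exact Subgroup.mul_mem _ (Subgroup.mul_mem _ (Subgroup.inv_mem _ hxP) h1) hxP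
  · have hzr : z₀ ^ r ∈ A := hZA (Subgroup.pow_mem _ hz₀ _)
    calc x⁻¹ * u * g * z₀ * (x⁻¹ * u * g)⁻¹ = x⁻¹ * (u * (g * z₀ * g⁻¹) * u⁻¹) * x := by group
      _ = x⁻¹ * (x * z₀ ^ r * x⁻¹) * x := by rw [hgz, hx _ hzr]
      _ = z₀ ^ r := by group
  · have hvs : v₀ ^ s ∈ A := Subgroup.pow_mem _ hv₀ _
    calc x⁻¹ * u * g * v₀ * (x⁻¹ * u * g)⁻¹ = x⁻¹ * (u * (g * v₀ * g⁻¹) * u⁻¹) * x := by group
      _ = x⁻¹ * (x * v₀ ^ s * x⁻¹) * x := by rw [hgv, hx _ hvs]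
      _ = v₀ ^ s := by group

end Cfsg.Agent.Helper15.ExtraGrp
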