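import Cfsg.Agent.Helper15.ExtraGrp5

/-! The action of a torus element on `P / A`, and automorphisms of `P / Z(P)`. -/

set_option autoImplicit false

namespace Cfsg.Agent.Helper15.ExtraGrp

variable {G : Type*} [Group G] {p : ℕ} [Fact p.Prime]

/-- a torus element acts on `P / A` as the `r²`-th power -/
theorem torus_quotient_action {P Z A : Subgroup G}
    (h : ESyl p P Z) (hAP : A ≤ P) (hAc : Nat.card A = p ^ 2)
    (z₀ v₀ : G) (hz₀ : z₀ ∈ Z) (hv₀ : v₀ ∈ A) (hv₀Z : v₀ ∉ Z)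
    (hgenZ : ∀ z ∈ Z, ∃ k : ℕ, z = z₀ ^ k)
    (r s : ℕ) (hrs : ((r * s : ℕ) : ZMod p) = 1)
    (n : G) (hn : n ∈ Subgroup.normalizer (P : Set G))
    (hnz : n * z₀ * n⁻¹ = z₀ ^ r) (hnv : n * v₀ * n⁻¹ = v₀ ^ s) :
    ∀ x ∈ P, ∃ y ∈ A, n * x * n⁻¹ = x ^ (r * r) * y := by
  have hv₀P : v₀ ∈ P := hAP hv₀
  have hv₀p : v₀ ^ p = 1 := h.exp _ hv₀P
  have hsr1 : ((s * r : ℕ) : ZMod p) = ((1 : ℕ) : ZMod p) := by
    rw [mul_comm, hrs, Nat.cast_one]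
  have hniv : n⁻¹ * v₀ * n = v₀ ^ r := by
    have h1 : n * v₀ ^ r * n⁻¹ = v₀ := by
      rw [← conj_pow, hnv, ← pow_mul, pow_eq_pow_of_natCast_eq hv₀p hsr1, pow_one]
    calc n⁻¹ * v₀ * n = n⁻¹ * (n * v₀ ^ r * n⁻¹) * n := by rw [h1]
      _ = v₀ ^ r := by group
  have hnc : ∀ c ∈ Z, n * c * n⁻¹ = c ^ r := by
    intro c hc
    obtain ⟨k, rfl⟩ := hgenZ c hc
    rw [← conj_pow, hnz, ← pow_mul, ← pow_mul, mul_comm]
  intro x hx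
  have hxn : n * x * n⁻¹ ∈ P := (Subgroup.mem_normalizer_iff.mp hn x).mp hx
  obtain ⟨c, hc⟩ : ∃ c, c = x * v₀ * x⁻¹ * v₀⁻¹ := ⟨_, rfl⟩
  have hcZ : c ∈ Z := hc ▸ h.comm x hx v₀ hv₀P
  have h1 : x ^ (r * r) * v₀ * (x ^ (r * r))⁻¹ * v₀⁻¹ = c ^ (r * r) := by
    rw [h.com_pow_left hx hv₀P, ← hc]
  have h2 : (n * x * n⁻¹) * v₀ * (n * x * n⁻¹)⁻¹ * v₀⁻¹ = c ^ (r * r) := by
    have h3 : x * v₀ ^ r * x⁻¹ * (v₀ ^ r)⁻¹ = c ^ r := by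
      rw [h.com_pow_right hx hv₀P, ← hc]
    calc (n * x * n⁻¹) * v₀ * (n * x * n⁻¹)⁻¹ * v₀⁻¹
        = n * (x * (n⁻¹ * v₀ * n) * x⁻¹ * (n⁻¹ * v₀ * n)⁻¹) * n⁻¹ := by group
      _ = n * (c ^ r) * n⁻¹ := by rw [hniv, h3]
      _ = (c ^ r) ^ r := by rw [← conj_pow, hnc c hcZ]
      _ = c ^ (r * r) := by rw [← pow_mul]
  refine ⟨(x ^ (r * r))⁻¹ * (n * x * n⁻¹), ?_, by group⟩
  apply h.mem_A_of_commute hAP hAc hv₀ hv₀Z
  · exact Subgroup.mul_mem _ (Subgroup.inv_mem _ (Subgroup.pow_mem _ hx _)) hxn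
  · have h4 : (n * x * n⁻¹) * v₀ * (n * x * n⁻¹)⁻¹ = x ^ (r * r) * v₀ * (x ^ (r * r))⁻¹ := by
      have := h2.trans h1.symm
      calc (n * x * n⁻¹) * v₀ * (n * x * n⁻¹)⁻¹
          = ((n * x * n⁻¹) * v₀ * (n * x * n⁻¹)⁻¹ * v₀⁻¹) * v₀ := by group
        _ = (x ^ (r * r) * v₀ * (x ^ (r * r))⁻¹ * v₀⁻¹) * v₀ := by rw [this]
        _ = _ := by group
    calc (x ^ (r * r))⁻¹ * (n * x * n⁻¹) * v₀
        = (x ^ (r * r))⁻¹ * ((n * x * n⁻¹) * v₀ * (n * x * n⁻¹)⁻¹) * (n * x * n⁻¹) := by group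
      _ = (x ^ (r * r))⁻¹ * (x ^ (r * r) * v₀ * (x ^ (r * r))⁻¹) * (n * x * n⁻¹) := by rw [h4]
      _ = _ := by group

/-- automorphisms induced on the quotient by the centre -/
def quotAut (Q : Type*) [Group Q] : MulAut Q →* MulAut (Q ⧸ Subgroup.center Q) where
  toFun σ := QuotientGroup.congr (Subgroup.center Q) (Subgroup.center Q) σ
    (Subgroup.characteristic_iff_map_eq.mp inferInstance σ)
  map_one' := by
    ext x
    induction x using QuotientGroup.induction_on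
    rfl
  map_mul' σ τ := by
    ext x
    induction x using QuotientGroup.induction_on
    rfl

theorem quotAut_mk (Q : Type*) [Group Q] (σ : MulAut Q) (x : Q) :
    quotAut Q σ (QuotientGroup.mk x) = QuotientGroup.mk (σ x) := rfl

end Cfsg.Agent.Helper15.ExtraGrp
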