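import Mathlib

/-! Linear algebra of "torus elements" in `GL₂`: a `2 × 2` matrix `T` with eigenvalue `α` on the
vector `u` and inducing `δ` on the quotient by the line of `u`. -/

set_option autoImplicit false

namespace Cfsg.Agent.Helper15.ExtraMat

open Matrix

variable {K : Type*} [Field K]

/-- `T` has eigenvalue `α` on `u` and acts as `δ` modulo `u`. -/
def TorusAt (α δ : K) (T : Matrix (Fin 2) (Fin 2) K) (u : Fin 2 → K) : Prop :=
  T *ᵥ u = α • u ∧ ∀ w : Fin 2 → K, ∃ c : K, T *ᵥ w = δ • w + c • u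

/-- the `2 × 2` determinant of two vectors -/
def dt (u v : Fin 2 → K) : K := u 0 * v 1 - u 1 * v 0

theorem TorusAt.one (u : Fin 2 → K) : TorusAt (1 : K) 1 (1 : Matrix (Fin 2) (Fin 2) K) u := by
  refine ⟨by simp, fun w => ⟨0, by simp⟩⟩

theorem TorusAt.mul {α δ α' δ' : K} {T T' : Matrix (Fin 2) (Fin 2) K} {u : Fin 2 → K}
    (h : TorusAt α δ T u) (h' : TorusAt α' δ' T' u) : TorusAt (α * α') (δ * δ') (T * T') u := by
  refine ⟨?_, fun w => ?_⟩
  · rw [← mulVec_mulVec, h'.1, mulVec_smul, h.1, smul_smul, mul_comm]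
  · obtain ⟨c', hc'⟩ := h'.2 w
    obtain ⟨c, hc⟩ := h.2 w
    refine ⟨δ' * c + c' * α, ?_⟩
    rw [← mulVec_mulVec, hc', mulVec_add, mulVec_smul, mulVec_smul, hc, h.1]
    ext i
    simp only [Pi.add_apply, Pi.smul_apply, smul_eq_mul]
    ring

theorem TorusAt.pow {α δ : K} {T : Matrix (Fin 2) (Fin 2) K} {u : Fin 2 → K}
    (h : TorusAt α δ T u) (k : ℕ) : TorusAt (α ^ k) (δ ^ k) (T ^ k) u := by
  induction k with
  | zero => simpa using TorusAt.one u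
  | succ k ih => simpa [pow_succ] using ih.mul h

/-- if `dt u w = 0` and `u ≠ 0` then `w` is a multiple of `u` -/
theorem exists_smul_of_dt_eq_zero {u w : Fin 2 → K} (hu : u ≠ 0) (h : dt u w = 0) :
    ∃ c : K, w = c • u := by
  unfold dt at h
  by_cases h0 : u 0 = 0
  · have h1 : u 1 ≠ 0 := by
      intro h1
      apply hu
      ext i; fin_cases i
      · exact h0
      · exact h1
    refine ⟨w 1 / u 1, ?_⟩
    ext i; fin_cases i
    · simp only [Fin.zero_eta, Pi.smul_apply, smul_eq_mul]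
      rw [h0] at h ⊢
      have : u 1 * w 0 = 0 := by linear_combination -h
      rcases mul_eq_zero.mp this with h2 | h2
      · exact absurd h2 h1
      · rw [h2]; ring
    · simp only [Fin.mk_one, Pi.smul_apply, smul_eq_mul]
      field_simp
  · refine ⟨w 0 / u 0, ?_⟩
    ext i; fin_cases i
    · simp only [Fin.zero_eta, Pi.smul_apply, smul_eq_mul]
      field_simp
    · simp only [Fin.mk_one, Pi.smul_apply, smul_eq_mul]
      field_simp
      linear_combination h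

theorem dt_smul_right (u v : Fin 2 → K) (c : K) : dt u (c • v) = c * dt u v := by
  unfold dt; simp only [Pi.smul_apply, smul_eq_mul]; ring

theorem dt_self (u : Fin 2 → K) : dt u u = 0 := by unfold dt; ring

theorem dt_swap (u v : Fin 2 → K) : dt u v = - dt v u := by unfold dt; ring

theorem ne_zero_of_dt_ne_zero_left {u v : Fin 2 → K} (h : dt u v ≠ 0) : u ≠ 0 := by
  rintro rfl
  apply h
  unfold dt; simp

theorem ne_zero_of_dt_ne_zero_right {u v : Fin 2 → K} (h : dt u v ≠ 0) : v ≠ 0 := by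
  rintro rfl
  apply h
  unfold dt; simp

/-- every vector is a combination of two independent ones -/
theorem exists_comb {u v : Fin 2 → K} (h : dt u v ≠ 0) (w : Fin 2 → K) :
    ∃ x y : K, w = x • u + y • v := by
  refine ⟨dt w v / dt u v, dt u w / dt u v, ?_⟩
  unfold dt at h ⊢
  ext i; fin_cases i
  · simp only [Fin.zero_eta, Pi.add_apply, Pi.smul_apply, smul_eq_mul]
    rw [div_mul_eq_mul_div, div_mul_eq_mul_div, ← add_div, eq_div_iff h]
    ring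
  · simp only [Fin.mk_one, Pi.add_apply, Pi.smul_apply, smul_eq_mul]
    rw [div_mul_eq_mul_div, div_mul_eq_mul_div, ← add_div, eq_div_iff h]
    ring

/-- for `u ≠ 0` there is a vector independent of `u` -/
theorem exists_dt_ne_zero {u : Fin 2 → K} (hu : u ≠ 0) : ∃ w : Fin 2 → K, dt u w ≠ 0 := by
  by_cases h0 : u 0 = 0
  · have h1 : u 1 ≠ 0 := by
      intro h1
      apply hu
      ext i; fin_cases i
      · exact h0
      · exact h1
    refine ⟨![1, 0], ?_⟩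
    unfold dt
    simp [h1]
  · refine ⟨![0, 1], ?_⟩
    unfold dt
    simp [h0]

/-- eigenvalues of a torus element -/
theorem TorusAt.eigen {α δ : K} {T : Matrix (Fin 2) (Fin 2) K} {u : Fin 2 → K}
    (h : TorusAt α δ T u) (_hu : u ≠ 0) {μ : K} {x : Fin 2 → K} (hx : x ≠ 0)
    (hTx : T *ᵥ x = μ • x) : (μ = α ∧ ∃ c : K, x = c • u) ∨ μ = δ := by
  by_cases hμ : μ = δ
  · exact Or.inr hμ
  · left
    obtain ⟨c, hc⟩ := h.2 x
    have h1 : (μ - δ) • x = c • u := by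
      rw [sub_smul, ← hTx, hc]; abel
    have hμ' : μ - δ ≠ 0 := sub_ne_zero.mpr hμ
    have h2 : x = (c / (μ - δ)) • u := by
      rw [div_eq_inv_mul, ← smul_smul, ← h1, smul_smul, inv_mul_cancel₀ hμ', one_smul]
    refine ⟨?_, _, h2⟩
    have h3 : T *ᵥ x = α • x := by
      rw [h2, mulVec_smul, h.1, smul_comm]
    have h4 : (μ - α) • x = 0 := by rw [sub_smul, ← hTx, h3, sub_self]
    rcases smul_eq_zero.mp h4 with h5 | h5
    · exact sub_eq_zero.mp h5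
    · exact absurd h5 hx

/-- a torus element with `α ≠ δ` is not scalar -/
theorem TorusAt.not_scalar {α δ : K} {T : Matrix (Fin 2) (Fin 2) K} {u : Fin 2 → K}
    (h : TorusAt α δ T u) (hu : u ≠ 0) (μ : K) (hT : T = μ • (1 : Matrix (Fin 2) (Fin 2) K)) :
    α = δ := by
  obtain ⟨w, hw⟩ := exists_dt_ne_zero hu
  have hμα : μ = α := by
    have h1 := h.1
    rw [hT, smul_mulVec, one_mulVec] at h1
    have h4 : (μ - α) • u = 0 := by rw [sub_smul, h1, sub_self]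
    rcases smul_eq_zero.mp h4 with h5 | h5
    · exact sub_eq_zero.mp h5
    · exact absurd h5 hu
  obtain ⟨c, hc⟩ := h.2 w
  rw [hT, smul_mulVec, one_mulVec] at hc
  by_contra hne
  have hμ' : μ - δ ≠ 0 := by rw [hμα]; exact sub_ne_zero.mpr hne
  have h1 : (μ - δ) • w = c • u := by rw [sub_smul, hc]; abel
  have h2 : w = (c / (μ - δ)) • u := by
    rw [div_eq_inv_mul, ← smul_smul, ← h1, smul_smul, inv_mul_cancel₀ hμ', one_smul]
  apply hw
  rw [h2, dt_smul_right, dt_self, mul_zero]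

/-- two torus elements at independent vectors which commute up to a scalar -/
theorem TorusAt.commute_aux {α δ : K} {T₁ T₂ : Matrix (Fin 2) (Fin 2) K} {u₁ u₂ : Fin 2 → K}
    (h₁ : TorusAt α δ T₁ u₁) (h₂ : TorusAt α δ T₂ u₂) (hd : dt u₁ u₂ ≠ 0)
    (_hα : α ≠ 0) (hαδ : α ^ 2 ≠ δ ^ 2) (hdet₁ : T₁.det ≠ 0) (hdet₂ : T₂.det ≠ 0)
    (lam : K) (hcomm : T₁ * T₂ = lam • (T₂ * T₁)) : T₂ *ᵥ u₁ = δ • u₁ := by
  have hu₁ := ne_zero_of_dt_ne_zero_left hd
  have hu₂ := ne_zero_of_dt_ne_zero_right hd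
  have hlam : lam ^ 2 = 1 := by
    have h1 := congrArg Matrix.det hcomm
    rw [det_smul, det_mul, det_mul, Fintype.card_fin, mul_comm T₂.det] at h1
    have h2 : T₁.det * T₂.det ≠ 0 := mul_ne_zero hdet₁ hdet₂
    have h3 : (lam ^ 2 - 1) * (T₁.det * T₂.det) = 0 := by linear_combination -h1
    rcases mul_eq_zero.mp h3 with h4 | h4
    · exact sub_eq_zero.mp h4
    · exact absurd h4 h2
  have hx : T₂ *ᵥ u₁ ≠ 0 := by
    intro h0
    have hunit : IsUnit T₂.det := isUnit_iff_ne_zero.mpr hdet₂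
    have := congrArg (fun y => T₂⁻¹ *ᵥ y) h0
    simp only [mulVec_mulVec, mulVec_zero] at this
    rw [nonsing_inv_mul _ hunit, one_mulVec] at this
    exact hu₁ this
  have h1 : T₁ *ᵥ (T₂ *ᵥ u₁) = (lam * α) • (T₂ *ᵥ u₁) := by
    rw [mulVec_mulVec, hcomm, smul_mulVec, ← mulVec_mulVec, h₁.1, mulVec_smul, smul_smul]
  rcases h₁.eigen hu₁ hx h1 with ⟨h2, c, hc⟩ | h2
  · -- `T₂ u₁ = c u₁`
    have hc0 : T₂ *ᵥ u₁ = c • u₁ := hc
    rcases h₂.eigen hu₂ hu₁ hc0 with ⟨-, c', hc'⟩ | h3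
    · exfalso
      apply hd
      rw [dt_swap, hc', dt_smul_right, dt_self, mul_zero, neg_zero]
    · rw [hc0, h3]
  · exfalso
    apply hαδ
    rw [← h2, mul_pow, hlam, one_mul]

/-- three torus elements at pairwise independent vectors cannot pairwise commute up to scalars -/
theorem TorusAt.three {α δ : K} {T₁ T₂ T₃ : Matrix (Fin 2) (Fin 2) K} {u₁ u₂ u₃ : Fin 2 → K}
    (h₁ : TorusAt α δ T₁ u₁) (h₂ : TorusAt α δ T₂ u₂) (h₃ : TorusAt α δ T₃ u₃)
    (hd₁₂ : dt u₁ u₂ ≠ 0) (hd₁₃ : dt u₁ u₃ ≠ 0) (hd₂₃ : dt u₂ u₃ ≠ 0)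
    (hα : α ≠ 0) (hαδ : α ^ 2 ≠ δ ^ 2) (hdet₁ : T₁.det ≠ 0) (hdet₂ : T₂.det ≠ 0)
    (hdet₃ : T₃.det ≠ 0)
    (l₁₃ l₂₃ : K) (hc₁₃ : T₁ * T₃ = l₁₃ • (T₃ * T₁)) (hc₂₃ : T₂ * T₃ = l₂₃ • (T₃ * T₂)) :
    False := by
  have e1 : T₃ *ᵥ u₁ = δ • u₁ := h₁.commute_aux h₃ hd₁₃ hα hαδ hdet₁ hdet₃ l₁₃ hc₁₃
  have e2 : T₃ *ᵥ u₂ = δ • u₂ := h₂.commute_aux h₃ hd₂₃ hα hαδ hdet₂ hdet₃ l₂₃ hc₂₃
  obtain ⟨x, y, hxy⟩ := exists_comb hd₁₂ u₃
  have hu₃ := ne_zero_of_dt_ne_zero_right hd₁₃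
  have e3 : T₃ *ᵥ u₃ = δ • u₃ := by
    rw [hxy, mulVec_add, mulVec_smul, mulVec_smul, e1, e2, smul_add, smul_comm δ x, smul_comm δ y]
  rw [h₃.1] at e3
  have h4 : (α - δ) • u₃ = 0 := by rw [sub_smul, e3, sub_self]
  rcases smul_eq_zero.mp h4 with h5 | h5
  · apply hαδ
    rw [sub_eq_zero.mp h5]
  · exact hu₃ h5

/-- a torus element with three pairwise independent eigenvectors does not exist -/
theorem TorusAt.three_eigen {α δ : K} {T : Matrix (Fin 2) (Fin 2) K} {u₁ u₂ u₃ : Fin 2 → K}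
    (h₁ : TorusAt α δ T u₁)
    (hd₁₂ : dt u₁ u₂ ≠ 0) (hd₁₃ : dt u₁ u₃ ≠ 0) (hd₂₃ : dt u₂ u₃ ≠ 0) (hαδ : α ≠ δ)
    (μ₂ μ₃ : K) (e₂ : T *ᵥ u₂ = μ₂ • u₂) (e₃ : T *ᵥ u₃ = μ₃ • u₃) : False := by
  have hu₁ := ne_zero_of_dt_ne_zero_left hd₁₂
  have hu₂ := ne_zero_of_dt_ne_zero_right hd₁₂
  have hu₃ := ne_zero_of_dt_ne_zero_right hd₁₃
  have k2 : μ₂ = δ := by
    rcases h₁.eigen hu₁ hu₂ e₂ with ⟨-, c, hc⟩ | h
    · exfalso; apply hd₁₂; rw [hc, dt_smul_right, dt_self, mul_zero]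
    · exact h
  have k3 : μ₃ = δ := by
    rcases h₁.eigen hu₁ hu₃ e₃ with ⟨-, c, hc⟩ | h
    · exfalso; apply hd₁₃; rw [hc, dt_smul_right, dt_self, mul_zero]
    · exact h
  obtain ⟨x, y, hxy⟩ := exists_comb hd₂₃ u₁
  have e1 : T *ᵥ u₁ = δ • u₁ := by
    rw [hxy, mulVec_add, mulVec_smul, mulVec_smul, e₂, e₃, k2, k3, smul_add, smul_comm δ x,
      smul_comm δ y]
  rw [h₁.1] at e1
  have h4 : (α - δ) • u₁ = 0 := by rw [sub_smul, e1, sub_self]
  rcases smul_eq_zero.mp h4 with h5 | h5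
  · exact hαδ (sub_eq_zero.mp h5)
  · exact hu₁ h5

end Cfsg.Agent.Helper15.ExtraMat
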