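import Cfsg.Agent.Helper15.ExtraGrp6
import Cfsg.Agent.Helper15.ExtraMat1

/-! The representation of `N_G(P)` on `P / Z(P)` and torus elements. -/

set_option autoImplicit false

namespace Cfsg.Agent.Helper15.ExtraGrp

open Matrix
open Cfsg.Agent.Helper15.ExtraMat (TorusAt dt)

variable {G : Type*} [Group G] {p : ℕ} [Fact p.Prime]

section rho

variable (P : Subgroup G)
  (e : (↥P ⧸ Subgroup.center ↥P) ≃* Multiplicative (Fin 2 → ZMod p))

/-- the representation of `N_G(P)` on `P / Z(P)` in coordinates -/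
noncomputable def rho : ↥(Subgroup.normalizer (P : Set G)) →* GL (Fin 2) (ZMod p) :=
  (autMat e).comp ((quotAut ↥P).comp P.normalizerMonoidHom)

theorem rho_mulVec (n : ↥(Subgroup.normalizer (P : Set G))) (x : ↥P) :
    ((rho P e n : GL (Fin 2) (ZMod p)) : Matrix (Fin 2) (Fin 2) (ZMod p)) *ᵥ
      Multiplicative.toAdd (e (QuotientGroup.mk x)) =
    Multiplicative.toAdd (e (QuotientGroup.mk (P.normalizerMonoidHom n x))) := by
  unfold rho
  rw [MonoidHom.comp_apply, MonoidHom.comp_apply, autMat_mulVec, quotAut_mk]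

end rho

theorem toAdd_map_pow_nat {E : Type*} [Group E] (e : E ≃* Multiplicative (Fin 2 → ZMod p))
    (x : E) (k : ℕ) :
    Multiplicative.toAdd (e (x ^ k)) = (k : ZMod p) • Multiplicative.toAdd (e x) := by
  rw [map_pow, toAdd_pow, Nat.cast_smul_eq_nsmul]

theorem mem_center_iff_coe_mem (P : Subgroup G) (x : ↥P) :
    x ∈ Subgroup.center ↥P ↔ (x : G) ∈ (Subgroup.center ↥P).map P.subtype := by
  constructor
  · intro hx
    exact ⟨x, hx, rfl⟩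
  · rintro ⟨y, hy, hyx⟩
    have : y = x := Subtype.ext hyx
    rwa [← this]

theorem exists_nat_pow_of_gen [Finite G] {Z : Subgroup G} {z₀ : G}
    (hgen : ∀ z ∈ Z, z ∈ Subgroup.zpowers z₀) : ∀ z ∈ Z, ∃ k : ℕ, z = z₀ ^ k := by
  intro z hz
  have h1 := hgen z hz
  rw [← mem_powers_iff_mem_zpowers, Submonoid.mem_powers_iff] at h1
  obtain ⟨k, hk⟩ := h1
  exact ⟨k, hk.symm⟩

theorem exists_torusAt_of [Finite G] (P : Sylow p G) {Z : Subgroup G}
    (hZ : Z = (Subgroup.center ↥(P : Subgroup G)).map (P : Subgroup G).subtype)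
    (h : ESyl p (P : Subgroup G) Z)
    (e : (↥(P : Subgroup G) ⧸ Subgroup.center ↥(P : Subgroup G)) ≃*
      Multiplicative (Fin 2 → ZMod p))
    {A : Subgroup G} (hAP : A ≤ (P : Subgroup G)) (hAc : Nat.card A = p ^ 2)
    (hSL : ∀ φ : MulAut ↥A, orderOf φ = p →
      ∃ g : G, ∀ a : ↥A, ((φ a : ↥A) : G) = g * a * g⁻¹)
    (a : (ZMod p)ˣ) (v₀ : G) (hv₀ : v₀ ∈ A) (hv₀Z : v₀ ∉ Z) :
    ∃ (n : ↥(Subgroup.normalizer ((P : Subgroup G) : Set G))),
      TorusAt (((a⁻¹ : (ZMod p)ˣ)) : ZMod p) (((a ^ 2 : (ZMod p)ˣ)) : ZMod p)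
        ((rho (P : Subgroup G) e n : GL (Fin 2) (ZMod p)) : Matrix (Fin 2) (Fin 2) (ZMod p))
        (Multiplicative.toAdd (e (QuotientGroup.mk ⟨v₀, hAP hv₀⟩))) := by
  have hp : p.Prime := Fact.out
  have hZA : Z ≤ A := h.Z_le_A hAP hAc
  obtain ⟨z₀, hz₀, hz₀1, hgen⟩ := h.exists_gen
  have hgenZ := exists_nat_pow_of_gen hgen
  have hz₀A : z₀ ∈ A := hZA hz₀
  have hz₀P : z₀ ∈ (P : Subgroup G) := h.ZP hz₀
  have hv₀P : v₀ ∈ (P : Subgroup G) := hAP hv₀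
  -- coordinates on `A`
  have hAcomm := ESyl.A_comm (A := A) hAc
  obtain ⟨eA, heAz, heAv, hrepr⟩ := exists_coord (p := p) (E := ↥A) ⟨z₀, hz₀A⟩ ⟨v₀, hv₀⟩
    (Subtype.ext (hAcomm z₀ hz₀A v₀ hv₀))
    (Subtype.ext (by simpa using h.exp z₀ hz₀P))
    (Subtype.ext (by simpa using h.exp v₀ hv₀P))
    (fun hh => hz₀1 (congrArg Subtype.val hh))
    (by
      intro hmem
      apply hv₀Z
      obtain ⟨k, hk⟩ := Subgroup.mem_zpowers_iff.mp hmem
      have := congrArg Subtype.val hk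
      simp only [Subgroup.coe_zpow] at this
      rw [← this]
      exact Subgroup.zpow_mem _ hz₀ k)
    hAc
  have hgenA : ∀ b ∈ A, ∃ i j : ℕ, b = z₀ ^ i * v₀ ^ j := by
    intro b hb
    have := congrArg Subtype.val (hrepr ⟨b, hb⟩)
    simp only [Subgroup.coe_mul, Subgroup.coe_pow] at this
    exact ⟨_, _, this⟩
  -- the torus automorphism
  obtain ⟨t, ht⟩ : ∃ t : ZMod p, t = (a : ZMod p) := ⟨_, rfl⟩
  have ht0 : t ≠ 0 := ht ▸ Units.ne_zero a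
  obtain ⟨g, hg⟩ := exists_torus eA hSL t ht0
  have hgz : g * z₀ * g⁻¹ = z₀ ^ t.val := by
    have := hg ⟨z₀, hz₀A⟩
    rw [GLinv_dM_apply_zero eA t ht0 _ heAz] at this
    simpa using this.symm
  have hgv : g * v₀ * g⁻¹ = v₀ ^ (t⁻¹).val := by
    have := hg ⟨v₀, hv₀⟩
    rw [GLinv_dM_apply_one eA t ht0 _ heAv] at this
    simpa using this.symm
  have hrs : ((t.val * (t⁻¹).val : ℕ) : ZMod p) = 1 := by
    rw [Nat.cast_mul, ZMod.natCast_zmod_val, ZMod.natCast_zmod_val, mul_inv_cancel₀ ht0]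
  obtain ⟨n, hn, hnz, hnv⟩ := exists_normalizer_elt P h hAP hAc z₀ v₀ hz₀ hv₀ hgenZ hgenA
    t.val (t⁻¹).val hrs g hgz hgv
  have hact := torus_quotient_action h hAP hAc z₀ v₀ hz₀ hv₀ hv₀Z hgenZ t.val (t⁻¹).val hrs n hn
    hnz hnv
  refine ⟨⟨n, hn⟩, ?_, ?_⟩
  · -- eigenvector
    rw [rho_mulVec]
    have h1 : (P : Subgroup G).normalizerMonoidHom ⟨n, hn⟩ ⟨v₀, hv₀P⟩ =
        (⟨v₀, hv₀P⟩ : ↥(P : Subgroup G)) ^ (t⁻¹).val := by
      apply Subtype.ext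
      simp only [Subgroup.coe_pow]
      exact hnv
    rw [h1, QuotientGroup.mk_pow, toAdd_map_pow_val, ht]
    congr 1
    rw [Units.val_inv_eq_inv_val]
  · intro w
    obtain ⟨x, hx⟩ := QuotientGroup.mk_surjective (e.symm (Multiplicative.ofAdd w))
    have hw : w = Multiplicative.toAdd (e (QuotientGroup.mk x)) := by
      rw [hx, MulEquiv.apply_symm_apply, toAdd_ofAdd]
    obtain ⟨y, hyA, hy⟩ := hact x x.2
    obtain ⟨i, j, hij⟩ := hgenA y hyA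
    refine ⟨(j : ZMod p), ?_⟩
    rw [hw, rho_mulVec]
    have h1 : (P : Subgroup G).normalizerMonoidHom ⟨n, hn⟩ x =
        x ^ (t.val * t.val) * ((⟨z₀, hz₀P⟩ : ↥(P : Subgroup G)) ^ i * ⟨v₀, hv₀P⟩ ^ j) := by
      apply Subtype.ext
      simp only [Subgroup.coe_mul, Subgroup.coe_pow]
      rw [← hij]
      exact hy
    have hz1 : (QuotientGroup.mk (⟨z₀, hz₀P⟩ : ↥(P : Subgroup G)) :
        ↥(P : Subgroup G) ⧸ Subgroup.center ↥(P : Subgroup G)) = 1 := by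
      rw [QuotientGroup.eq_one_iff, mem_center_iff_coe_mem, ← hZ]
      exact hz₀
    rw [h1, QuotientGroup.mk_mul, QuotientGroup.mk_mul, QuotientGroup.mk_pow,
      QuotientGroup.mk_pow, QuotientGroup.mk_pow, hz1, one_pow, one_mul, map_mul, toAdd_mul,
      toAdd_map_pow_nat, toAdd_map_pow_nat]
    congr 2
    rw [Nat.cast_mul, ZMod.natCast_zmod_val, ht, Units.val_pow_eq_pow_val, pow_two]

theorem exists_torusAt [Finite G] (P : Sylow p G) {Z : Subgroup G}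
    (hZ : Z = (Subgroup.center ↥(P : Subgroup G)).map (P : Subgroup G).subtype)
    (h : ESyl p (P : Subgroup G) Z)
    (e : (↥(P : Subgroup G) ⧸ Subgroup.center ↥(P : Subgroup G)) ≃*
      Multiplicative (Fin 2 → ZMod p))
    {A : Subgroup G} (hAP : A ≤ (P : Subgroup G)) (hAc : Nat.card A = p ^ 2)
    (hSL : ∀ φ : MulAut ↥A, orderOf φ = p →
      ∃ g : G, ∀ a : ↥A, ((φ a : ↥A) : G) = g * a * g⁻¹)
    (a : (ZMod p)ˣ) :
    ∃ (n : ↥(Subgroup.normalizer ((P : Subgroup G) : Set G))) (v : G) (hv : v ∈ A), v ∉ Z ∧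
      TorusAt (((a⁻¹ : (ZMod p)ˣ)) : ZMod p) (((a ^ 2 : (ZMod p)ˣ)) : ZMod p)
        ((rho (P : Subgroup G) e n : GL (Fin 2) (ZMod p)) : Matrix (Fin 2) (Fin 2) (ZMod p))
        (Multiplicative.toAdd (e (QuotientGroup.mk ⟨v, hAP hv⟩))) := by
  obtain ⟨v₀, hv₀, hv₀Z⟩ := h.exists_not_mem hAP hAc
  obtain ⟨n, hn⟩ := exists_torusAt_of P hZ h e hAP hAc hSL a v₀ hv₀ hv₀Z
  exact ⟨n, v₀, hv₀, hv₀Z, hn⟩

end Cfsg.Agent.Helper15.ExtraGrp
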