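import Cfsg.Agent.Helper15.ExtraMat2

/-! Main matrix lemmas for the extraspecial-Sylow prime bounds. -/

set_option autoImplicit false

namespace Cfsg.Agent.Helper15.ExtraMat

open Matrix

set_option maxRecDepth 100000 in
theorem A4_orders : ∀ x : alternatingGroup (Fin 4), x ^ 2 = 1 ∨ x ^ 3 = 1 := by decide

set_option maxRecDepth 100000 in
theorem S4_orders : ∀ x : Equiv.Perm (Fin 4), x ^ 2 = 1 ∨ x ^ 3 = 1 ∨ x ^ 4 = 1 := by decide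

set_option maxRecDepth 100000 in
theorem A5_orders : ∀ x : alternatingGroup (Fin 5), x ^ 2 = 1 ∨ x ^ 3 = 1 ∨ x ^ 5 = 1 := by decide

set_option maxRecDepth 100000 in
theorem S4_card_order_four :
    (Finset.univ.filter (fun x : Equiv.Perm (Fin 4) => x ^ 4 = 1 ∧ x ^ 2 ≠ 1)).card = 6 := by decide

theorem pow_eq_one_of_equiv {A B : Type*} [Group A] [Group B] (ε : A ≃* B) (t : A) (k : ℕ)
    (h : ε t ^ k = 1) : t ^ k = 1 := by
  rw [← map_pow] at h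
  exact (MulEquiv.map_eq_one_iff ε).mp h

section main

variable {p : ℕ} [Fact p.Prime]

local notation "α" a => (((a⁻¹ : (ZMod p)ˣ)) : ZMod p)
local notation "δ" a => (((a ^ 2 : (ZMod p)ˣ)) : ZMod p)

theorem alpha_sq_ne (a : (ZMod p)ˣ) (ha6 : a ^ 6 ≠ 1) :
    (((a⁻¹ : (ZMod p)ˣ)) : ZMod p) ^ 2 ≠ (((a ^ 2 : (ZMod p)ˣ)) : ZMod p) ^ 2 := by
  intro h
  apply ha6
  have h1 : (a⁻¹ : (ZMod p)ˣ) ^ 2 = (a ^ 2) ^ 2 := by
    apply Units.ext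
    rw [Units.val_pow_eq_pow_val, Units.val_pow_eq_pow_val]
    exact h
  have h2 : a ^ 6 = a ^ 2 * (a ^ 2) ^ 2 := by rw [← pow_mul, ← pow_add]
  rw [h2, ← h1, inv_pow, mul_inv_cancel]

theorem alpha_ne (a : (ZMod p)ˣ) (ha6 : a ^ 6 ≠ 1) :
    (((a⁻¹ : (ZMod p)ˣ)) : ZMod p) ≠ (((a ^ 2 : (ZMod p)ˣ)) : ZMod p) := by
  intro h
  apply alpha_sq_ne a ha6
  rw [h]

/-- The Dickson case analysis: in the presence of three torus elements the image of `H` in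
`PSL₂(p²)` is `A₄`, `S₄` or `A₅`. -/
theorem dickson_cases (hp : p ≠ 2) (H : Subgroup (GL (Fin 2) (ZMod p))) (hH : ¬ p ∣ Nat.card H)
    (a : (ZMod p)ˣ) (ha6 : a ^ 6 ≠ 1)
    (T₁ T₂ T₃ : GL (Fin 2) (ZMod p)) (hT₁ : T₁ ∈ H) (hT₂ : T₂ ∈ H) (hT₃ : T₃ ∈ H)
    (u₁ u₂ u₃ : Fin 2 → ZMod p)
    (h₁ : TorusAt (((a⁻¹ : (ZMod p)ˣ)) : ZMod p) (((a ^ 2 : (ZMod p)ˣ)) : ZMod p)
      (T₁ : Matrix (Fin 2) (Fin 2) (ZMod p)) u₁)
    (h₂ : TorusAt (((a⁻¹ : (ZMod p)ˣ)) : ZMod p) (((a ^ 2 : (ZMod p)ˣ)) : ZMod p)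
      (T₂ : Matrix (Fin 2) (Fin 2) (ZMod p)) u₂)
    (h₃ : TorusAt (((a⁻¹ : (ZMod p)ˣ)) : ZMod p) (((a ^ 2 : (ZMod p)ˣ)) : ZMod p)
      (T₃ : Matrix (Fin 2) (Fin 2) (ZMod p)) u₃)
    (hd₁₂ : dt u₁ u₂ ≠ 0) (hd₁₃ : dt u₁ u₃ ≠ 0) (hd₂₃ : dt u₂ u₃ ≠ 0) :
    ∃ (F : Type) (_ : Field F)
      (φ : GL (Fin 2) (ZMod p) →* Matrix.ProjectiveSpecialLinearGroup (Fin 2) F),
      φ.ker = Subgroup.center (GL (Fin 2) (ZMod p)) ∧
      (Nonempty (↥(H.map φ) ≃* alternatingGroup (Fin 4)) ∨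
        Nonempty (↥(H.map φ) ≃* Equiv.Perm (Fin 4)) ∨
        Nonempty (↥(H.map φ) ≃* alternatingGroup (Fin 5))) := by
  obtain ⟨F, iF, iFt, iC, φ, hφ⟩ := exists_pgl_hom p hp
  refine ⟨F, iF, φ, hφ, ?_⟩
  have hH' : ¬ p ∣ Nat.card (H.map φ) := fun h => hH (h.trans (Subgroup.card_map_dvd H φ))
  have hu₁ := ne_zero_of_dt_ne_zero_left hd₁₂
  have hu₂ := ne_zero_of_dt_ne_zero_right hd₁₂
  have hu₃ := ne_zero_of_dt_ne_zero_right hd₁₃
  have hα0 : (((a⁻¹ : (ZMod p)ˣ)) : ZMod p) ≠ 0 := Units.ne_zero _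
  -- commuting images give a contradiction
  have key : φ T₁ * φ T₃ = φ T₃ * φ T₁ → φ T₂ * φ T₃ = φ T₃ * φ T₂ → False := by
    intro c13 c23
    obtain ⟨l13, hl13⟩ := smul_of_commute φ hφ c13
    obtain ⟨l23, hl23⟩ := smul_of_commute φ hφ c23
    exact TorusAt.three h₁ h₂ h₃ hd₁₂ hd₁₃ hd₂₃ hα0 (alpha_sq_ne a ha6) (det_ne_zero T₁)
      (det_ne_zero T₂) (det_ne_zero T₃) l13 l23 hl13 hl23
  have hord2 : ¬ orderOf (a ^ 3) ∣ 2 := by
    intro h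
    apply ha6
    have := (orderOf_dvd_iff_pow_eq_one).mp h
    rw [← pow_mul] at this
    exact this
  rcases Cfsg.Agent.Helper18.Dickson.pprime_dickson p hp (H.map φ) hH' with
    ⟨k, -, ⟨hcyc, -⟩ | hε⟩ | h
  · exfalso
    obtain ⟨g, hg⟩ := hcyc.exists_generator
    have comm : ∀ x y : ↥(H.map φ), x * y = y * x := by
      intro x y
      obtain ⟨i, rfl⟩ := Subgroup.mem_zpowers_iff.mp (hg x)
      obtain ⟨j, rfl⟩ := Subgroup.mem_zpowers_iff.mp (hg y)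
      rw [← _root_.zpow_add, ← _root_.zpow_add, add_comm]
    apply key
    · have := comm ⟨φ T₁, Subgroup.mem_map_of_mem φ hT₁⟩ ⟨φ T₃, Subgroup.mem_map_of_mem φ hT₃⟩
      exact congrArg Subtype.val this
    · have := comm ⟨φ T₂, Subgroup.mem_map_of_mem φ hT₂⟩ ⟨φ T₃, Subgroup.mem_map_of_mem φ hT₃⟩
      exact congrArg Subtype.val this
  · exfalso
    obtain ⟨ε⟩ := hε
    -- dihedral case: the torus images are rotations
    have hrot : ∀ (T : GL (Fin 2) (ZMod p)) (hT : T ∈ H) (u : Fin 2 → ZMod p), u ≠ 0 →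
        TorusAt (((a⁻¹ : (ZMod p)ˣ)) : ZMod p) (((a ^ 2 : (ZMod p)ˣ)) : ZMod p)
          (T : Matrix (Fin 2) (Fin 2) (ZMod p)) u →
        ∃ i : ZMod k, ε ⟨φ T, Subgroup.mem_map_of_mem φ hT⟩ = DihedralGroup.r i := by
      intro T hT u hu hTu
      rcases hx : ε ⟨φ T, Subgroup.mem_map_of_mem φ hT⟩ with i | i
      · exact ⟨i, rfl⟩
      · exfalso
        apply hord2
        apply orderOf_dvd_of_torus φ hφ a hu hTu 2
        have h1 : (ε ⟨φ T, Subgroup.mem_map_of_mem φ hT⟩) ^ 2 = 1 := by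
          rw [hx, ← DihedralGroup.orderOf_sr i]; exact pow_orderOf_eq_one _
        have h2 := pow_eq_one_of_equiv ε _ 2 h1
        exact congrArg Subtype.val h2
    obtain ⟨i1, hi1⟩ := hrot T₁ hT₁ u₁ hu₁ h₁
    obtain ⟨i2, hi2⟩ := hrot T₂ hT₂ u₂ hu₂ h₂
    obtain ⟨i3, hi3⟩ := hrot T₃ hT₃ u₃ hu₃ h₃
    have comm : ∀ (x y : ↥(H.map φ)) (i j : ZMod k), ε x = DihedralGroup.r i →
        ε y = DihedralGroup.r j → (x : Matrix.ProjectiveSpecialLinearGroup (Fin 2) F) * y = y * x := by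
      intro x y i j hx hy
      have : x * y = y * x := by
        apply ε.injective
        rw [map_mul, map_mul, hx, hy, DihedralGroup.r_mul_r, DihedralGroup.r_mul_r, add_comm]
      exact congrArg Subtype.val this
    apply key
    · exact comm ⟨φ T₁, Subgroup.mem_map_of_mem φ hT₁⟩ ⟨φ T₃, Subgroup.mem_map_of_mem φ hT₃⟩
        i1 i3 hi1 hi3
    · exact comm ⟨φ T₂, Subgroup.mem_map_of_mem φ hT₂⟩ ⟨φ T₃, Subgroup.mem_map_of_mem φ hT₃⟩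
        i2 i3 hi2 hi3
  · exact h

/-- **Lemma M.** Three torus elements in a `p′`-subgroup of `GL₂(p)` force `a³` to have
order at most `5`. -/
theorem torus_bound (hp : p ≠ 2) (H : Subgroup (GL (Fin 2) (ZMod p))) (hH : ¬ p ∣ Nat.card H)
    (a : (ZMod p)ˣ) (ha6 : a ^ 6 ≠ 1)
    (T₁ T₂ T₃ : GL (Fin 2) (ZMod p)) (hT₁ : T₁ ∈ H) (hT₂ : T₂ ∈ H) (hT₃ : T₃ ∈ H)
    (u₁ u₂ u₃ : Fin 2 → ZMod p)
    (h₁ : TorusAt (((a⁻¹ : (ZMod p)ˣ)) : ZMod p) (((a ^ 2 : (ZMod p)ˣ)) : ZMod p)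
      (T₁ : Matrix (Fin 2) (Fin 2) (ZMod p)) u₁)
    (h₂ : TorusAt (((a⁻¹ : (ZMod p)ˣ)) : ZMod p) (((a ^ 2 : (ZMod p)ˣ)) : ZMod p)
      (T₂ : Matrix (Fin 2) (Fin 2) (ZMod p)) u₂)
    (h₃ : TorusAt (((a⁻¹ : (ZMod p)ˣ)) : ZMod p) (((a ^ 2 : (ZMod p)ˣ)) : ZMod p)
      (T₃ : Matrix (Fin 2) (Fin 2) (ZMod p)) u₃)
    (hd₁₂ : dt u₁ u₂ ≠ 0) (hd₁₃ : dt u₁ u₃ ≠ 0) (hd₂₃ : dt u₂ u₃ ≠ 0) :
    orderOf (a ^ 3) ≤ 5 := by
  obtain ⟨F, iF, φ, hφ, hcases⟩ := dickson_cases hp H hH a ha6 T₁ T₂ T₃ hT₁ hT₂ hT₃ u₁ u₂ u₃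
    h₁ h₂ h₃ hd₁₂ hd₁₃ hd₂₃
  have hu₁ := ne_zero_of_dt_ne_zero_left hd₁₂
  have hdvd : ∀ k : ℕ, 0 < k → φ T₁ ^ k = 1 → orderOf (a ^ 3) ≤ k := fun k hk h =>
    Nat.le_of_dvd hk (orderOf_dvd_of_torus φ hφ a hu₁ h₁ k h)
  have hpow : ∀ {B : Type} [Group B] (ε : ↥(H.map φ) ≃* B) (k : ℕ),
      ε ⟨φ T₁, Subgroup.mem_map_of_mem φ hT₁⟩ ^ k = 1 → φ T₁ ^ k = 1 := by
    intro B _ ε k h
    exact congrArg Subtype.val (pow_eq_one_of_equiv ε _ k h)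
  rcases hcases with hε | hε | hε
  · obtain ⟨ε⟩ := hε
    rcases A4_orders (ε ⟨φ T₁, Subgroup.mem_map_of_mem φ hT₁⟩) with h | h
    · exact (hdvd 2 (by norm_num) (hpow ε 2 h)).trans (by norm_num)
    · exact (hdvd 3 (by norm_num) (hpow ε 3 h)).trans (by norm_num)
  · obtain ⟨ε⟩ := hε
    rcases S4_orders (ε ⟨φ T₁, Subgroup.mem_map_of_mem φ hT₁⟩) with h | h | h
    · exact (hdvd 2 (by norm_num) (hpow ε 2 h)).trans (by norm_num)
    · exact (hdvd 3 (by norm_num) (hpow ε 3 h)).trans (by norm_num)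
    · exact (hdvd 4 (by norm_num) (hpow ε 4 h)).trans (by norm_num)
  · obtain ⟨ε⟩ := hε
    rcases A5_orders (ε ⟨φ T₁, Subgroup.mem_map_of_mem φ hT₁⟩) with h | h | h
    · exact (hdvd 2 (by norm_num) (hpow ε 2 h)).trans (by norm_num)
    · exact (hdvd 3 (by norm_num) (hpow ε 3 h)).trans (by norm_num)
    · exact (hdvd 5 (by norm_num) (hpow ε 5 h)).trans (by norm_num)

/-- the vector `(1, c)` -/
def uc (c : ZMod p) : Fin 2 → ZMod p := ![1, c]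

theorem dt_uc (c c' : ZMod p) : dt (uc c) (uc c') = c' - c := by
  unfold dt uc; simp

theorem uc_ne_zero (c : ZMod p) : uc c ≠ 0 := by
  intro h
  have := congrFun h 0
  simp [uc] at this

/-- **Lemma M′.** If there is a torus element at every point then `a³` does not have order `4`
(for `p > 12`). -/
theorem torus_all (hp : p ≠ 2) (hp12 : 12 < p) (H : Subgroup (GL (Fin 2) (ZMod p)))
    (hH : ¬ p ∣ Nat.card H) (a : (ZMod p)ˣ) (ha6 : a ^ 6 ≠ 1)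
    (hall : ∀ u : Fin 2 → ZMod p, u ≠ 0 → ∃ T ∈ H,
      TorusAt (((a⁻¹ : (ZMod p)ˣ)) : ZMod p) (((a ^ 2 : (ZMod p)ˣ)) : ZMod p)
        (T : Matrix (Fin 2) (Fin 2) (ZMod p)) u) :
    orderOf (a ^ 3) ≠ 4 := by
  classical
  intro h4
  have : NeZero p := ⟨(Fact.out : p.Prime).ne_zero⟩
  choose T hTH hT using fun c : ZMod p => hall (uc c) (uc_ne_zero c)
  have h01 : dt (uc (0 : ZMod p)) (uc 1) ≠ 0 := by rw [dt_uc]; simp
  have h2ne : (2 : ZMod p) ≠ 0 := by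
    intro h
    have h' : ((2 : ℕ) : ZMod p) = 0 := by exact_mod_cast h
    rw [ZMod.natCast_eq_zero_iff] at h'
    exact hp ((Nat.prime_dvd_prime_iff_eq Fact.out Nat.prime_two).mp h')
  have h02 : dt (uc (0 : ZMod p)) (uc 2) ≠ 0 := by rw [dt_uc]; simpa using h2ne
  have h12 : dt (uc (1 : ZMod p)) (uc 2) ≠ 0 := by
    rw [dt_uc]
    have : (2 : ZMod p) - 1 = 1 := by ring
    rw [this]; exact one_ne_zero
  obtain ⟨F, iF, φ, hφ, hcases⟩ := dickson_cases hp H hH a ha6 (T 0) (T 1) (T 2) (hTH 0) (hTH 1)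
    (hTH 2) (uc 0) (uc 1) (uc 2) (hT 0) (hT 1) (hT 2) h01 h02 h12
  have hdvd : ∀ (c : ZMod p) (k : ℕ), φ (T c) ^ k = 1 → 4 ∣ k := fun c k h => by
    rw [← h4]; exact orderOf_dvd_of_torus φ hφ a (uc_ne_zero c) (hT c) k h
  have hpow : ∀ {B : Type} [Group B] (ε : ↥(H.map φ) ≃* B) (c : ZMod p) (k : ℕ),
      ε ⟨φ (T c), Subgroup.mem_map_of_mem φ (hTH c)⟩ ^ k = 1 → 4 ∣ k := by
    intro B _ ε c k h
    exact hdvd c k (congrArg Subtype.val (pow_eq_one_of_equiv ε _ k h))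
  rcases hcases with hε | hε | hε
  · obtain ⟨ε⟩ := hε
    rcases A4_orders (ε ⟨φ (T 0), Subgroup.mem_map_of_mem φ (hTH 0)⟩) with h | h
    · have := hpow ε 0 2 h; omega
    · have := hpow ε 0 3 h; omega
  · obtain ⟨ε⟩ := hε
    let f : ZMod p → Equiv.Perm (Fin 4) := fun c =>
      ε ⟨φ (T c), Subgroup.mem_map_of_mem φ (hTH c)⟩
    have hf : ∀ c ∈ (Finset.univ : Finset (ZMod p)), f c ∈
        (Finset.univ.filter (fun x : Equiv.Perm (Fin 4) => x ^ 4 = 1 ∧ x ^ 2 ≠ 1)) := by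
      intro c _
      rw [Finset.mem_filter]
      refine ⟨Finset.mem_univ _, ?_, ?_⟩
      · rcases S4_orders (f c) with h | h | h
        · have := hpow ε c 2 h; omega
        · have := hpow ε c 3 h; omega
        · exact h
      · intro h
        have := hpow ε c 2 h; omega
    have hcard : (Finset.univ.filter (fun x : Equiv.Perm (Fin 4) => x ^ 4 = 1 ∧ x ^ 2 ≠ 1)).card * 2
        < (Finset.univ : Finset (ZMod p)).card := by
      rw [S4_card_order_four, Finset.card_univ, ZMod.card]; omega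
    obtain ⟨y, -, hy⟩ := Finset.exists_lt_card_fiber_of_mul_lt_card_of_maps_to hf hcard
    rw [Finset.two_lt_card] at hy
    obtain ⟨c₁, hc₁, c₂, hc₂, c₃, hc₃, n12, n13, n23⟩ := hy
    rw [Finset.mem_filter] at hc₁ hc₂ hc₃
    have heq : ∀ c c' : ZMod p, f c = y → f c' = y → ∃ μ : ZMod p,
        (T c : Matrix (Fin 2) (Fin 2) (ZMod p)) *ᵥ uc c' = μ • uc c' := by
      intro c c' hc hc'
      have h1 : φ (T c) = φ (T c') := by
        have : (⟨φ (T c), Subgroup.mem_map_of_mem φ (hTH c)⟩ : ↥(H.map φ)) =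
            ⟨φ (T c'), Subgroup.mem_map_of_mem φ (hTH c')⟩ := ε.injective (hc.trans hc'.symm)
        exact congrArg Subtype.val this
      have h2 : φ ((T c)⁻¹ * T c') = 1 := by rw [map_mul, map_inv, h1, inv_mul_cancel]
      obtain ⟨μ, hμ⟩ := scalar_of_map_eq_one φ hφ h2
      have h3 : (T c' : Matrix (Fin 2) (Fin 2) (ZMod p)) =
          μ • (T c : Matrix (Fin 2) (Fin 2) (ZMod p)) := by
        have e : T c' = T c * ((T c)⁻¹ * T c') := by group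
        have e2 := congrArg (fun g : GL (Fin 2) (ZMod p) =>
          (g : Matrix (Fin 2) (Fin 2) (ZMod p))) e
        simp only [Units.val_mul] at e2
        have hμ' : (((T c)⁻¹ : GL (Fin 2) (ZMod p)) : Matrix (Fin 2) (Fin 2) (ZMod p)) *
            (T c' : Matrix (Fin 2) (Fin 2) (ZMod p)) = μ • 1 := by
          rw [← Units.val_mul]; exact hμ
        rw [e2, hμ', Matrix.mul_smul, Matrix.mul_one]
      have h4 := (hT c').1
      rw [h3, Matrix.smul_mulVec] at h4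
      have hμ0 : μ ≠ 0 := by
        intro h0
        rw [h0, zero_smul] at h4
        have hα0 : (((a⁻¹ : (ZMod p)ˣ)) : ZMod p) ≠ 0 := Units.ne_zero _
        rcases smul_eq_zero.mp h4.symm with h5 | h5
        · exact hα0 h5
        · exact uc_ne_zero c' h5
      refine ⟨μ⁻¹ * (((a⁻¹ : (ZMod p)ˣ)) : ZMod p), ?_⟩
      rw [← smul_smul, ← h4, smul_smul, inv_mul_cancel₀ hμ0, one_smul]
    obtain ⟨μ₂, e₂⟩ := heq c₁ c₂ hc₁.2 hc₂.2
    obtain ⟨μ₃, e₃⟩ := heq c₁ c₃ hc₁.2 hc₃.2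
    refine TorusAt.three_eigen (hT c₁) (u₂ := uc c₂) (u₃ := uc c₃) ?_ ?_ ?_ (alpha_ne a ha6)
      μ₂ μ₃ e₂ e₃
    · rw [dt_uc]; exact sub_ne_zero.mpr (Ne.symm n12)
    · rw [dt_uc]; exact sub_ne_zero.mpr (Ne.symm n13)
    · rw [dt_uc]; exact sub_ne_zero.mpr (Ne.symm n23)
  · obtain ⟨ε⟩ := hε
    rcases A5_orders (ε ⟨φ (T 0), Subgroup.mem_map_of_mem φ (hTH 0)⟩) with h | h | h
    · have := hpow ε 0 2 h; omega
    · have := hpow ε 0 3 h; omega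
    · have := hpow ε 0 5 h; omega

end main

end Cfsg.Agent.Helper15.ExtraMat
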