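import Cfsg.Agent.Helper15.ExtraGrp7
import Cfsg.Agent.Helper15.ExtraMat3

/-! Assembly: the prime bound `p ≤ 13` for three `SL₂`-subgroups. -/

set_option autoImplicit false

namespace Cfsg.Agent.Helper15.ExtraGrp

open Matrix
open scoped commutatorElement
open Cfsg.Agent.Helper15.ExtraMat (TorusAt dt)

variable {G : Type*} [Group G] {p : ℕ} [Fact p.Prime]

omit [Fact p.Prime] in
theorem comm_mem_center (P : Subgroup G) (hE : Cfsg.IsExtraspecial p ↥P) (x y : ↥P) :
    x * y * x⁻¹ * y⁻¹ ∈ Subgroup.center ↥P := by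
  obtain ⟨⟨-, -, hcomm⟩, -⟩ := hE
  rw [← hcomm, commutator_def]
  exact Subgroup.commutator_mem_commutator (Subgroup.mem_top x) (Subgroup.mem_top y)

/-- coordinates on `P / Z(P)` -/
theorem exists_coordW (P : Subgroup G) (hE : Cfsg.IsExtraspecial p ↥P)
    (hcard : Nat.card P = p ^ 3) (hexp : Monoid.exponent ↥P = p) :
    Nonempty ((↥P ⧸ Subgroup.center ↥P) ≃* Multiplicative (Fin 2 → ZMod p)) := by
  have hp : p.Prime := Fact.out
  have hfin : Finite ↥P := by
    apply Nat.finite_of_card_ne_zero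
    rw [hcard]; exact pow_ne_zero _ hp.ne_zero
  have hcW : Nat.card (↥P ⧸ Subgroup.center ↥P) = p ^ 2 := by
    have h1 := Subgroup.card_eq_card_quotient_mul_card_subgroup (Subgroup.center ↥P)
    rw [hcard, hE.2] at h1
    have h2 : p ^ 2 * p = Nat.card (↥P ⧸ Subgroup.center ↥P) * p := by
      rw [← h1]; ring
    exact (Nat.eq_of_mul_eq_mul_right hp.pos h2).symm
  have hexpW : ∀ w : ↥P ⧸ Subgroup.center ↥P, w ^ p = 1 := by
    intro w
    induction w using QuotientGroup.induction_on with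
    | H x =>
      rw [← QuotientGroup.mk_pow]
      have := Monoid.pow_exponent_eq_one x
      rw [hexp] at this
      rw [this, QuotientGroup.mk_one]
  have hcommW : ∀ w w' : ↥P ⧸ Subgroup.center ↥P, Commute w w' := by
    intro w w'
    induction w using QuotientGroup.induction_on with
    | H x =>
      induction w' using QuotientGroup.induction_on with
      | H y =>
        show (QuotientGroup.mk x : ↥P ⧸ Subgroup.center ↥P) * QuotientGroup.mk y =
          QuotientGroup.mk y * QuotientGroup.mk x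
        rw [← QuotientGroup.mk_mul, ← QuotientGroup.mk_mul, QuotientGroup.eq]
        have := comm_mem_center P hE y⁻¹ x⁻¹
        have e1 : (x * y)⁻¹ * (y * x) = y⁻¹ * x⁻¹ * y⁻¹⁻¹ * x⁻¹⁻¹ := by group
        rw [e1]; exact this
  have hnt : Nontrivial (↥P ⧸ Subgroup.center ↥P) := by
    have hfinW : Finite (↥P ⧸ Subgroup.center ↥P) := inferInstance
    rw [← Finite.one_lt_card_iff_nontrivial, hcW]
    exact Nat.one_lt_pow (by norm_num) hp.one_lt
  obtain ⟨w₁, hw₁⟩ := exists_ne (1 : ↥P ⧸ Subgroup.center ↥P)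
  have hex : ∃ w₂ : ↥P ⧸ Subgroup.center ↥P, w₂ ∉ Subgroup.zpowers w₁ := by
    by_contra hcon
    push Not at hcon
    have htop : Subgroup.zpowers w₁ = ⊤ := by
      rw [eq_top_iff]; intro w _; exact hcon w
    have h1 : Nat.card (Subgroup.zpowers w₁) = p ^ 2 := by
      rw [htop, Subgroup.card_top, hcW]
    rw [Nat.card_zpowers] at h1
    have h2 : orderOf w₁ ∣ p := orderOf_dvd_of_pow_eq_one (hexpW w₁)
    rw [h1] at h2
    have h3 := Nat.le_of_dvd hp.pos h2
    have : p ^ 1 < p ^ 2 := Nat.pow_lt_pow_right hp.one_lt (by norm_num)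
    rw [pow_one] at this
    omega
  obtain ⟨w₂, hw₂⟩ := hex
  obtain ⟨e, -⟩ := exists_coord (p := p) w₁ w₂ (hcommW w₁ w₂) (hexpW w₁) (hexpW w₂) hw₁ hw₂ hcW
  exact ⟨e⟩

/-- the image of `N_G(P)` in `GL₂(p)` has order prime to `p` -/
theorem not_dvd_card_range [Finite G] (P : Sylow p G) (hE : Cfsg.IsExtraspecial p ↥(P : Subgroup G))
    (e : (↥(P : Subgroup G) ⧸ Subgroup.center ↥(P : Subgroup G)) ≃*
      Multiplicative (Fin 2 → ZMod p)) :
    ¬ p ∣ Nat.card (rho (P : Subgroup G) e).range := by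
  have hle : (P : Subgroup G).subgroupOf (Subgroup.normalizer ((P : Subgroup G) : Set G)) ≤
      (rho (P : Subgroup G) e).ker := by
    intro x hx
    rw [Subgroup.mem_subgroupOf] at hx
    rw [MonoidHom.mem_ker]
    unfold rho
    rw [MonoidHom.comp_apply, MonoidHom.comp_apply]
    have h1 : quotAut ↥(P : Subgroup G) ((P : Subgroup G).normalizerMonoidHom x) = 1 := by
      ext w
      induction w using QuotientGroup.induction_on with
      | H y =>
        rw [quotAut_mk, MulAut.one_apply, QuotientGroup.eq]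
        have := comm_mem_center (P : Subgroup G) hE ⟨x, hx⟩ y⁻¹
        have e1 : ((P : Subgroup G).normalizerMonoidHom x y)⁻¹ * y =
            (⟨x, hx⟩ : ↥(P : Subgroup G)) * y⁻¹ * (⟨x, hx⟩ : ↥(P : Subgroup G))⁻¹ * y⁻¹⁻¹ := by
          apply Subtype.ext
          simp only [Subgroup.coe_mul, Subgroup.coe_inv]
          show ((x : G) * y * (x : G)⁻¹)⁻¹ * y = _
          group
        rw [e1]; exact this
    rw [h1, map_one]
  intro hd
  apply P.not_dvd_index
  rw [← Subgroup.index_ker] at hd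
  have h2 := Subgroup.index_dvd_of_le hle
  have h3 : ((P : Subgroup G).subgroupOf (Subgroup.normalizer ((P : Subgroup G) : Set G))).index ∣
      (P : Subgroup G).index := Subgroup.relIndex_dvd_index_of_le Subgroup.le_normalizer
  exact hd.trans (h2.trans h3)

/-- independence of the vectors attached to two different subgroups of order `p²` -/
theorem dt_ne_zero_of_ne {P Z : Subgroup G}
    (hZ : Z = (Subgroup.center ↥P).map P.subtype) (h : ESyl p P Z)
    (e : (↥P ⧸ Subgroup.center ↥P) ≃* Multiplicative (Fin 2 → ZMod p))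
    {A B : Subgroup G} (hAP : A ≤ P) (hAc : Nat.card A = p ^ 2) (hBP : B ≤ P)
    (hBc : Nat.card B = p ^ 2) (hAB : A ≠ B) {v w : G} (hv : v ∈ A) (hvZ : v ∉ Z)
    (hw : w ∈ B) (hwZ : w ∉ Z) :
    dt (Multiplicative.toAdd (e (QuotientGroup.mk ⟨v, hAP hv⟩)))
      (Multiplicative.toAdd (e (QuotientGroup.mk ⟨w, hBP hw⟩))) ≠ 0 := by
  intro h0
  have hu : Multiplicative.toAdd (e (QuotientGroup.mk (⟨v, hAP hv⟩ : ↥P))) ≠ 0 := by
    intro h1
    apply hvZ
    have h2 : e (QuotientGroup.mk (⟨v, hAP hv⟩ : ↥P)) = 1 := h1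
    rw [MulEquiv.map_eq_one_iff, QuotientGroup.eq_one_iff, mem_center_iff_coe_mem, ← hZ] at h2
    exact h2
  obtain ⟨c, hc⟩ := Cfsg.Agent.Helper15.ExtraMat.exists_smul_of_dt_eq_zero hu h0
  rw [← toAdd_map_pow_val] at hc
  have h1 : e (QuotientGroup.mk (⟨w, hBP hw⟩ : ↥P)) =
      e ((QuotientGroup.mk (⟨v, hAP hv⟩ : ↥P)) ^ c.val) := by
    have := congrArg Multiplicative.ofAdd hc
    rwa [ofAdd_toAdd, ofAdd_toAdd] at this
  have h2 := e.injective h1
  rw [← QuotientGroup.mk_pow, eq_comm, QuotientGroup.eq, mem_center_iff_coe_mem, ← hZ] at h2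
  simp only [Subgroup.coe_mul, Subgroup.coe_inv, Subgroup.coe_pow] at h2
  have hwA : w ∈ A := by
    have h3 : w = v ^ c.val * ((v ^ c.val)⁻¹ * w) := by group
    rw [h3]
    exact A.mul_mem (A.pow_mem hv _) (h.Z_le_A hAP hAc h2)
  apply hAB
  apply le_antisymm
  · intro a ha
    exact h.mem_A_of_commute hBP hBc hw hwZ (hAP ha) (ESyl.A_comm hAc a ha w hwA)
  · intro b hb
    exact h.mem_A_of_commute hAP hAc hwA hwZ (hBP hb) (ESyl.A_comm hBc b hb w hw)

/-- **Main theorem for three subgroups.** -/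
theorem main_three [Finite G] (hp2 : p ≠ 2) (P : Sylow p G)
    (hE : Cfsg.IsExtraspecial p ↥(P : Subgroup G))
    (hcard : Nat.card (P : Subgroup G) = p ^ 3) (hexp : Monoid.exponent ↥(P : Subgroup G) = p)
    (A : Fin 3 → Subgroup G) (hA : Function.Injective A) (hAP : ∀ i, A i ≤ (P : Subgroup G))
    (hAcard : ∀ i, Nat.card ↥(A i) = p ^ 2)
    (hSL : ∀ i, ∀ φ : MulAut ↥(A i), orderOf φ = p →
      ∃ g : G, ∀ a : ↥(A i), ((φ a : ↥(A i)) : G) = g * (a : G) * g⁻¹) :
    p ≤ 13 := by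
  have hp : p.Prime := Fact.out
  obtain ⟨Z, hZ⟩ : ∃ Z, Z = (Subgroup.center ↥(P : Subgroup G)).map (P : Subgroup G).subtype :=
    ⟨_, rfl⟩
  have h : ESyl p (P : Subgroup G) Z := hZ ▸ esyl_of_extraspecial (P : Subgroup G) hE hcard hexp
  obtain ⟨e⟩ := exists_coordW (P : Subgroup G) hE hcard hexp
  obtain ⟨a, ha⟩ := IsCyclic.exists_generator (α := (ZMod p)ˣ)
  have hord : orderOf a = p - 1 := by
    rw [orderOf_eq_card_of_forall_mem_zpowers ha, Nat.card_eq_fintype_card, ZMod.card_units_eq_totient,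
      Nat.totient_prime hp]
  by_cases ha6 : a ^ 6 = 1
  · have h1 := orderOf_dvd_of_pow_eq_one ha6
    rw [hord] at h1
    have := Nat.le_of_dvd (by norm_num) h1
    omega
  · obtain ⟨n₀, v₀, hv₀, hv₀Z, ht₀⟩ := exists_torusAt P hZ h e (hAP 0) (hAcard 0) (hSL 0) a
    obtain ⟨n₁, v₁, hv₁, hv₁Z, ht₁⟩ := exists_torusAt P hZ h e (hAP 1) (hAcard 1) (hSL 1) a
    obtain ⟨n₂, v₂, hv₂, hv₂Z, ht₂⟩ := exists_torusAt P hZ h e (hAP 2) (hAcard 2) (hSL 2) a
    have hne01 : A 0 ≠ A 1 := fun hh => by have := hA hh; exact absurd this (by decide)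
    have hne02 : A 0 ≠ A 2 := fun hh => by have := hA hh; exact absurd this (by decide)
    have hne12 : A 1 ≠ A 2 := fun hh => by have := hA hh; exact absurd this (by decide)
    have hb := Cfsg.Agent.Helper15.ExtraMat.torus_bound hp2 (rho (P : Subgroup G) e).range
      (not_dvd_card_range P hE e) a ha6 _ _ _ ⟨n₀, rfl⟩ ⟨n₁, rfl⟩ ⟨n₂, rfl⟩ _ _ _ ht₀ ht₁ ht₂
      (dt_ne_zero_of_ne hZ h e (hAP 0) (hAcard 0) (hAP 1) (hAcard 1) hne01 hv₀ hv₀Z hv₁ hv₁Z)
      (dt_ne_zero_of_ne hZ h e (hAP 0) (hAcard 0) (hAP 2) (hAcard 2) hne02 hv₀ hv₀Z hv₂ hv₂Z)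
      (dt_ne_zero_of_ne hZ h e (hAP 1) (hAcard 1) (hAP 2) (hAcard 2) hne12 hv₁ hv₁Z hv₂ hv₂Z)
    have hk : (a ^ 3) ^ orderOf (a ^ 3) = 1 := pow_orderOf_eq_one _
    rw [← pow_mul] at hk
    have h1 := orderOf_dvd_of_pow_eq_one hk
    rw [hord] at h1
    have hpos : 0 < orderOf (a ^ 3) := orderOf_pos _
    have h2 := Nat.le_of_dvd (by positivity) h1
    have h16 : p ≤ 16 := by
      have : 3 * orderOf (a ^ 3) ≤ 15 := by omega
      omega
    by_contra hcon
    push Not at hcon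
    have h3 : p = 14 ∨ p = 15 ∨ p = 16 := by omega
    rcases h3 with h3 | h3 | h3 <;> rw [h3] at hp <;> norm_num at hp

end Cfsg.Agent.Helper15.ExtraGrp
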