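import Cfsg.Agent.Helper15.ExtraGrp8
import Cfsg.Agent.Helper25.TwoSylowSL2

/-! From a `p`-element of `N_G(A)` moving the centre to the `SL₂`-hypothesis on `A`. -/

set_option autoImplicit false

namespace Cfsg.Agent.Helper15.ExtraGrp

open Matrix

variable {G : Type*} [Group G] {p : ℕ} [Fact p.Prime]

/-- coordinates on a subgroup of order `p²` of `P` -/
theorem exists_coordA [Finite G] {P Z A : Subgroup G} (h : ESyl p P Z) (hAP : A ≤ P)
    (hAc : Nat.card A = p ^ 2) : Nonempty (↥A ≃* Multiplicative (Fin 2 → ZMod p)) := by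
  have hZA : Z ≤ A := h.Z_le_A hAP hAc
  obtain ⟨z₀, hz₀, hz₀1, hgen⟩ := h.exists_gen
  obtain ⟨v₀, hv₀, hv₀Z⟩ := h.exists_not_mem hAP hAc
  have hz₀A : z₀ ∈ A := hZA hz₀
  have hAcomm := ESyl.A_comm (A := A) hAc
  obtain ⟨eA, -⟩ := exists_coord (p := p) (E := ↥A) ⟨z₀, hz₀A⟩ ⟨v₀, hv₀⟩
    (Subtype.ext (hAcomm z₀ hz₀A v₀ hv₀))
    (Subtype.ext (by simpa using h.exp z₀ (h.ZP hz₀)))
    (Subtype.ext (by simpa using h.exp v₀ (hAP hv₀)))
    (fun hh => hz₀1 (congrArg Subtype.val hh))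
    (by
      intro hmem
      apply hv₀Z
      obtain ⟨k, hk⟩ := Subgroup.mem_zpowers_iff.mp hmem
      have := congrArg Subtype.val hk
      simp only [Subgroup.coe_zpow] at this
      rw [← this]
      exact Subgroup.zpow_mem _ hz₀ k)
    hAc
  exact ⟨eA⟩

theorem normalizerMonoidHom_mem_inducedAut (A : Subgroup G)
    (n : ↥(Subgroup.normalizer (A : Set G))) : A.normalizerMonoidHom n ∈ inducedAut A :=
  ⟨n, fun _ => rfl⟩

theorem hSL_of_bad [Finite G] {P Z A : Subgroup G} (h : ESyl p P Z) (hAP : A ≤ P)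
    (hAc : Nat.card A = p ^ 2)
    (u : G) (hu : u ∈ Subgroup.normalizer (A : Set G)) (z : G) (hz : z ∈ Z)
    (huz : u * z * u⁻¹ ∉ Z) :
    ∀ φ : MulAut ↥A, orderOf φ = p → ∃ g : G, ∀ a : ↥A, ((φ a : ↥A) : G) = g * a * g⁻¹ := by
  have hp : p.Prime := Fact.out
  have hZA : Z ≤ A := h.Z_le_A hAP hAc
  obtain ⟨eA⟩ := exists_coordA h hAP hAc
  have hAcomm := ESyl.A_comm (A := A) hAc
  have hPN : P ≤ Subgroup.normalizer (A : Set G) := by
    intro y hy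
    apply Subgroup.mem_normalizer_fintype
    intro a ha
    exact h.conj_mem_A hAP hAc hy ha
  -- an element of `P` outside `A`
  obtain ⟨w, hwP, hwA⟩ : ∃ w ∈ P, w ∉ A := by
    by_contra hcon
    push Not at hcon
    have hPA : P ≤ A := hcon
    have := h.finiteP
    have hAfin : Finite ↥A := Finite.of_injective _ (Subgroup.inclusion_injective hAP)
    have h1 := Subgroup.card_le_of_le hPA
    rw [h.cardP, hAc] at h1
    have : p ^ 2 < p ^ 3 := Nat.pow_lt_pow_right hp.one_lt (by norm_num)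
    omega
  obtain ⟨v₀, hv₀, hv₀Z⟩ := h.exists_not_mem hAP hAc
  -- restriction of conjugation
  let σ : ↥P →* MulAut ↥A := A.normalizerMonoidHom.comp (Subgroup.inclusion hPN)
  have hσ_apply : ∀ (y : ↥P) (a : ↥A), ((σ y a : ↥A) : G) = y * a * (y : G)⁻¹ := fun y a => rfl
  have hσ_ne : ∀ y : ↥P, (y : G) ∉ A → σ y ≠ 1 := by
    intro y hy hone
    apply hy
    apply h.mem_A_of_commute hAP hAc hv₀ hv₀Z y.2
    have := hσ_apply y ⟨v₀, hv₀⟩
    rw [hone, MulAut.one_apply] at this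
    simp only at this
    calc (y : G) * v₀ = ((y : G) * v₀ * (y : G)⁻¹) * y := by group
      _ = v₀ * y := by rw [← this]
  have hσ_pow : ∀ y : ↥P, σ y ^ p = 1 := by
    intro y
    rw [← map_pow]
    have : y ^ p = 1 := Subtype.ext (by simpa using h.exp y y.2)
    rw [this, map_one]
  obtain ⟨σ₁, hσ₁⟩ : ∃ σ₁, σ₁ = σ ⟨w, hwP⟩ := ⟨_, rfl⟩
  obtain ⟨c, hc⟩ : ∃ c, c = A.normalizerMonoidHom ⟨u, hu⟩ := ⟨_, rfl⟩
  have hc_apply : ∀ a : ↥A, ((c a : ↥A) : G) = u * a * u⁻¹ := fun a => by rw [hc]; rfl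
  obtain ⟨σ₂, hσ₂⟩ : ∃ σ₂, σ₂ = c * σ₁ * c⁻¹ := ⟨_, rfl⟩
  have hσ₁1 : σ₁ ≠ 1 := hσ₁ ▸ hσ_ne ⟨w, hwP⟩ hwA
  have hσ₁p : σ₁ ^ p = 1 := hσ₁ ▸ hσ_pow ⟨w, hwP⟩
  have hσ₂1 : σ₂ ≠ 1 := by
    intro h1
    apply hσ₁1
    rw [hσ₂] at h1
    have : σ₁ = c⁻¹ * (c * σ₁ * c⁻¹) * c := by group
    rw [this, h1]; group
  have hσ₂p : σ₂ ^ p = 1 := by
    rw [hσ₂, conj_pow, hσ₁p]; group
  have hX₁ : σ₁ ∈ inducedAut A := hσ₁ ▸ normalizerMonoidHom_mem_inducedAut A _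
  have hXc : c ∈ inducedAut A := hc ▸ normalizerMonoidHom_mem_inducedAut A _
  have hX₂ : σ₂ ∈ inducedAut A := by
    rw [hσ₂]
    exact Subgroup.mul_mem _ (Subgroup.mul_mem _ hXc hX₁) (Subgroup.inv_mem _ hXc)
  -- matrices
  have hinj := autMat_injective eA
  obtain ⟨M₁, hM₁⟩ : ∃ M₁, M₁ = autMat eA σ₁ := ⟨_, rfl⟩
  obtain ⟨M₂, hM₂⟩ : ∃ M₂, M₂ = autMat eA σ₂ := ⟨_, rfl⟩
  have hsyl : ∀ (τ : MulAut ↥A), τ ≠ 1 → τ ^ p = 1 →
      ∃ R : Sylow p (GL (Fin 2) (ZMod p)),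
        (R : Subgroup (GL (Fin 2) (ZMod p))) = Subgroup.zpowers (autMat eA τ) := by
    intro τ h1 hpw
    have hord : orderOf (autMat eA τ) = p := by
      apply orderOf_eq_prime
      · rw [← map_pow, hpw, map_one]
      · intro hh
        apply h1
        apply hinj
        rw [hh, map_one]
    have hcz : Nat.card (Subgroup.zpowers (autMat eA τ)) = p := by
      rw [Nat.card_zpowers, hord]
    have hpg : IsPGroup p (Subgroup.zpowers (autMat eA τ)) := IsPGroup.of_card (n := 1) (by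
      rw [hcz, pow_one])
    obtain ⟨R, hR⟩ := hpg.exists_le_sylow
    refine ⟨R, ?_⟩
    have hcard := Cfsg.Agent.Helper25.TwoSylow.card_sylow_GL2' p R
    exact (Subgroup.eq_of_le_of_card_ge hR (by rw [hcard, hcz])).symm
  obtain ⟨R₁, hR₁⟩ := hsyl σ₁ hσ₁1 hσ₁p
  obtain ⟨R₂, hR₂⟩ := hsyl σ₂ hσ₂1 hσ₂p
  have hRne : R₁ ≠ R₂ := by
    intro heq
    have h1 : autMat eA σ₂ ∈ Subgroup.zpowers (autMat eA σ₁) := by
      rw [← hR₁, heq, hR₂]; exact Subgroup.mem_zpowers _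
    obtain ⟨k, hk⟩ := Subgroup.mem_zpowers_iff.mp h1
    rw [← map_zpow] at hk
    have h2 : σ₂ = σ₁ ^ k := (hinj hk).symm
    -- `σ₂` is conjugation by `y = w ^ k`
    have h3 : σ₂ = σ (⟨w, hwP⟩ ^ k) := by rw [h2, hσ₁, map_zpow]
    have hyA : ((⟨w, hwP⟩ ^ k : ↥P) : G) ∉ A := by
      intro hy
      apply hσ₂1
      rw [h3]
      ext a
      rw [hσ_apply, MulAut.one_apply]
      have := hAcomm _ hy a a.2
      rw [this]; group
    -- `u z u⁻¹` is fixed by `σ₂`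
    have huzA : u * z * u⁻¹ ∈ A := (Subgroup.mem_normalizer_iff.mp hu z).mp (hZA hz)
    have hfix : σ₂ ⟨u * z * u⁻¹, huzA⟩ = ⟨u * z * u⁻¹, huzA⟩ := by
      rw [hσ₂]
      have e1 : c⁻¹ ⟨u * z * u⁻¹, huzA⟩ = ⟨z, hZA hz⟩ := by
        rw [MulAut.inv_apply, MulEquiv.symm_apply_eq]
        apply Subtype.ext
        rw [hc_apply]
      have e2 : σ₁ ⟨z, hZA hz⟩ = ⟨z, hZA hz⟩ := by
        apply Subtype.ext
        rw [hσ₁, hσ_apply]
        simp only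
        rw [← h.central z hz w hwP]; group
      rw [MulAut.mul_apply, MulAut.mul_apply, e1, e2]
      apply Subtype.ext
      rw [hc_apply]
    apply huz
    by_contra hnZ
    apply hyA
    apply h.mem_A_of_commute hAP hAc huzA hnZ (⟨w, hwP⟩ ^ k : ↥P).2
    have := congrArg Subtype.val hfix
    rw [h3, hσ_apply] at this
    simp only at this
    calc ((⟨w, hwP⟩ ^ k : ↥P) : G) * (u * z * u⁻¹)
        = (((⟨w, hwP⟩ ^ k : ↥P) : G) * (u * z * u⁻¹) * ((⟨w, hwP⟩ ^ k : ↥P) : G)⁻¹) *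
          ((⟨w, hwP⟩ ^ k : ↥P) : G) := by group
      _ = _ := by rw [this]
  have hsup := Cfsg.Agent.Helper25.TwoSylow.sylow_sup_sylow p R₁ R₂ hRne
  have hle : Cfsg.Agent.Helper25.TwoSylow.slRange p ≤ (inducedAut A).map (autMat eA) := by
    rw [← hsup, hR₁, hR₂]
    apply sup_le
    · rw [Subgroup.zpowers_le]
      exact ⟨σ₁, hX₁, rfl⟩
    · rw [Subgroup.zpowers_le]
      exact ⟨σ₂, hX₂, rfl⟩
  intro φ hφ
  have hφp : φ ^ p = 1 := by
    have := pow_orderOf_eq_one φ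
    rw [hφ] at this
    exact this
  have h1 : (autMat eA φ) ^ (p ^ 1) = 1 := by
    rw [pow_one, ← map_pow, hφp, map_one]
  have h2 := Cfsg.Agent.Helper25.TwoSylow.mem_slRange_of_det p
    (Cfsg.Agent.Helper25.TwoSylow.det_eq_one_of_pow p h1)
  obtain ⟨ψ, hψ, hψφ⟩ := hle h2
  have : ψ = φ := hinj hψφ
  rw [← this]
  exact hψ

end Cfsg.Agent.Helper15.ExtraGrp
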