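import Cfsg.Agent.Helper15.ExtraMat1
import Cfsg.Agent.Helper18.DicksonK2
import Cfsg.Agent.Helper18.Dickson23

/-! `p′`-subgroups of `GL₂(p)` containing torus elements at several points. -/

set_option autoImplicit false

namespace Cfsg.Agent.Helper15.ExtraMat

open Matrix

section core

variable (p : ℕ) [Fact p.Prime]

/-- A homomorphism `GL₂(𝔽_p) → PSL₂(F)` (`F` of order `p²`) with kernel the centre. -/
theorem exists_pgl_hom (hp : p ≠ 2) :
    ∃ (F : Type) (_ : Field F) (_ : Fintype F) (_ : CharP F p)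
      (φ : GL (Fin 2) (ZMod p) →* Matrix.ProjectiveSpecialLinearGroup (Fin 2) F),
      φ.ker = Subgroup.center (GL (Fin 2) (ZMod p)) := by
  classical
  let F := GaloisField p 2
  let _ : Fintype F := Fintype.ofFinite F
  have hF : Fintype.card F = p ^ 2 := by
    rw [← Nat.card_eq_fintype_card]; exact GaloisField.card p 2 (by norm_num)
  have h2 : (2 : F) ≠ 0 := Cfsg.Agent.Helper18.Dickson.two_ne_zero_of_char p hp
  let j : ZMod p →+* F := algebraMap (ZMod p) F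
  let K₀ : Subfield F := j.fieldRange
  have hj : ∀ x : F, x ∈ K₀ ↔ ∃ y : ZMod p, j y = x := fun x => RingHom.mem_fieldRange
  have hK₀ : Nat.card K₀ = p := by
    have e : ZMod p ≃ K₀ := (Equiv.ofInjective j j.injective).trans
      (Equiv.setCongr (by ext x; simp [K₀]))
    rw [← Nat.card_congr e, Nat.card_zmod]
  have hcard : Fintype.card F = Nat.card K₀ ^ 2 := by rw [hK₀, hF]
  exact ⟨F, inferInstance, inferInstance, inferInstance,
    Cfsg.Agent.Helper18.Dickson.pglHom h2 K₀ hcard j hj,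
    Cfsg.Agent.Helper18.Dickson.pglHom_ker h2 K₀ hcard j hj⟩

end core

section phi

variable {p : ℕ} [Fact p.Prime] {F : Type} [Field F]
  (φ : GL (Fin 2) (ZMod p) →* Matrix.ProjectiveSpecialLinearGroup (Fin 2) F)
  (hφ : φ.ker = Subgroup.center (GL (Fin 2) (ZMod p)))

include hφ in
theorem scalar_of_map_eq_one {g : GL (Fin 2) (ZMod p)} (h : φ g = 1) :
    ∃ μ : ZMod p, (g : Matrix (Fin 2) (Fin 2) (ZMod p)) = μ • (1 : Matrix (Fin 2) (Fin 2) (ZMod p)) := by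
  have h1 : g ∈ φ.ker := h
  rw [hφ, Matrix.GeneralLinearGroup.mem_center_iff_val_mem_range_scalar] at h1
  obtain ⟨μ, hμ⟩ := h1
  refine ⟨μ, ?_⟩
  rw [← hμ]
  ext i j
  simp [Matrix.scalar_apply, Matrix.diagonal_apply, Matrix.one_apply]

theorem det_ne_zero (T : GL (Fin 2) (ZMod p)) :
    (T : Matrix (Fin 2) (Fin 2) (ZMod p)).det ≠ 0 :=
  ((Matrix.isUnit_iff_isUnit_det _).mp T.isUnit).ne_zero

include hφ in
theorem orderOf_dvd_of_torus (a : (ZMod p)ˣ) {T : GL (Fin 2) (ZMod p)} {u : Fin 2 → ZMod p}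
    (hu : u ≠ 0)
    (hT : TorusAt ((a⁻¹ : (ZMod p)ˣ) : ZMod p) ((a ^ 2 : (ZMod p)ˣ) : ZMod p)
      (T : Matrix (Fin 2) (Fin 2) (ZMod p)) u) (k : ℕ) (hk : φ T ^ k = 1) :
    orderOf (a ^ 3) ∣ k := by
  rw [← map_pow] at hk
  obtain ⟨μ, hμ⟩ := scalar_of_map_eq_one φ hφ hk
  have h1 := hT.pow k
  rw [Units.val_pow_eq_pow_val] at hμ
  have h2 := h1.not_scalar hu μ hμ
  have h3 : (a⁻¹ : (ZMod p)ˣ) ^ k = (a ^ 2) ^ k := by
    apply Units.ext
    rw [Units.val_pow_eq_pow_val, Units.val_pow_eq_pow_val]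
    exact h2
  apply orderOf_dvd_of_pow_eq_one
  have h4 : (a ^ 3) ^ k = a ^ k * (a ^ 2) ^ k := by
    rw [← mul_pow]; congr 1; rw [pow_succ' a 2]
  rw [h4, ← h3, ← mul_pow, mul_inv_cancel, one_pow]

include hφ in
theorem smul_of_commute {T₁ T₂ : GL (Fin 2) (ZMod p)} (h : φ T₁ * φ T₂ = φ T₂ * φ T₁) :
    ∃ lam : ZMod p, (T₁ : Matrix (Fin 2) (Fin 2) (ZMod p)) * (T₂ : Matrix (Fin 2) (Fin 2) (ZMod p))
      = lam • ((T₂ : Matrix (Fin 2) (Fin 2) (ZMod p)) * (T₁ : Matrix (Fin 2) (Fin 2) (ZMod p))) := by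
  have h1 : φ (T₁ * T₂ * (T₂ * T₁)⁻¹) = 1 := by
    rw [map_mul, map_inv, map_mul, map_mul, h, mul_inv_cancel]
  obtain ⟨lam, hlam⟩ := scalar_of_map_eq_one φ hφ h1
  refine ⟨lam, ?_⟩
  have h2 : (T₁ * T₂ : GL (Fin 2) (ZMod p)) = (T₁ * T₂ * (T₂ * T₁)⁻¹) * (T₂ * T₁) := by group
  have h3 := congrArg (fun g : GL (Fin 2) (ZMod p) => (g : Matrix (Fin 2) (Fin 2) (ZMod p))) h2
  simp only [Units.val_mul] at h3
  rw [h3]
  have h4 : ((T₁ * T₂ * (T₂ * T₁)⁻¹ : GL (Fin 2) (ZMod p)) : Matrix (Fin 2) (Fin 2) (ZMod p))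
      = lam • 1 := hlam
  simp only [Units.val_mul] at h4
  rw [h4, Matrix.smul_mul, Matrix.one_mul]

end phi

end Cfsg.Agent.Helper15.ExtraMat
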