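import Mathlib
import Cfsg.Agent.Helper16.F3Basic

set_option autoImplicit false

/-! Fischer rank-3 package, piece FACT0 (helper15). -/

namespace Cfsg.Agent.Helper16.F3

open Equiv

variable {G : Type*} [Group G] [Finite G] {D : Set G}

/-- FACT0 -/
theorem fact0 (hD : Cfsg.IsThreeTranspositionGroup D) {d x y : G} (hd : d ∈ D) (hx : x ∈ D)
    (hy : y ∈ D) (hxd : ¬ Commute d x) (hyd : ¬ Commute d y)
    (hne : ∀ g : G, Commute g d → g * x * g⁻¹ ≠ y) :
    ¬ Commute x y ∧ ¬ Commute d (y * x * y) := by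
  have hxy : ¬ Commute x y := by
    intro hc
    have hne' : x ≠ y := by
      intro h
      apply hne 1 (Commute.one_left d)
      rw [one_mul, inv_one, mul_one]; exact h
    obtain ⟨φ, -, e1, e2, e3, -⟩ := Cfsg.Agent.Helper4.ThreeTransS4.string_hom hD.1 hD.2.1 hx hd hy
      hne' hc (fun h => hxd h.symm) hyd
    apply hne (φ (swap 1 2 * swap 0 3))
    · show φ (swap 1 2 * swap 0 3) * d = d * φ (swap 1 2 * swap 0 3)
      rw [← e2, ← map_mul, ← map_mul]
      congr 1; decide
    · rw [← e1, ← e3, ← map_inv, ← map_mul, ← map_mul]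
      congr 1; decide
  refine ⟨hxy, ?_⟩
  intro hc
  obtain ⟨_, h2, _, _⟩ := third hD hx hy hxy
  exact hne (y * x * y) hc.symm h2

end Cfsg.Agent.Helper16.F3
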