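import Mathlib
import Cfsg.Agent.Helper16.F3Basic
import Cfsg.Agent.Helper15.F3FACT0

set_option autoImplicit false

/-! Fischer rank-3 package, piece LEMA (helper15). -/

namespace Cfsg.Agent.Helper16.F3

variable {G : Type*} [Group G] [Finite G] {D : Set G}

namespace LEMA

/-- Claim A1 -/
theorem claim (hD : Cfsg.IsThreeTranspositionGroup D) {d a b e : G} (hd : d ∈ D) (ha : a ∈ D)
    (hb : b ∈ D) (he : e ∈ D) (had : ¬ Commute d a) (hbd : ¬ Commute d b)
    (hne : ∀ g : G, Commute g d → g * a * g⁻¹ ≠ b) (hed : Commute e d) (hea : Commute e a)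
    (heb : ¬ Commute e b) : ∃ g : G, Commute g d ∧ g * (b * a * b) * g⁻¹ = b := by
  have he2 : e * e = 1 := sq hD he
  have einv : e⁻¹ = e := inv_eq hD he
  have hb2 : b * b = 1 := sq hD hb
  have hb1 : e * b * e ∈ D := conj_mem' hD he hb
  have hb_eq : b = e * (e * b * e) * e := by
    calc b = (e * e) * b * (e * e) := by rw [he2, one_mul, mul_one]
      _ = e * (e * b * e) * e := by group
  have hb1d : ¬ Commute d (e * b * e) := by
    intro h
    apply hbd
    rw [hb_eq]
    exact (hed.symm.mul_right h).mul_right hed.symm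
  have hne1 : ∀ g : G, Commute g d → g * a * g⁻¹ ≠ e * b * e := by
    intro g hg h
    apply hne (e * g) (hed.mul_left hg)
    calc (e * g) * a * (e * g)⁻¹ = e * (g * a * g⁻¹) * e⁻¹ := by group
      _ = e * (e * b * e) * e := by rw [h, einv]
      _ = b := hb_eq.symm
  obtain ⟨hab1, hdf⟩ := fact0 hD hd ha hb1 had hb1d hne1
  have hf : (e * b * e) * a * (e * b * e) ∈ D := conj_mem' hD hb1 ha
  have eae : e * a * e = a := by
    rw [hea.eq, mul_assoc, he2, mul_one]
  have hf_eq : (e * b * e) * a * (e * b * e) = e * (b * a * b) * e := by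
    calc (e * b * e) * a * (e * b * e) = e * b * (e * a * e) * b * e := by group
      _ = e * b * a * b * e := by rw [eae]
      _ = e * (b * a * b) * e := by group
  have hbe : e * b * e = b * e * b := braid hD hb he (fun h => heb h.symm)
  have hbfb : b * ((e * b * e) * a * (e * b * e)) * b = (e * b * e) * a * (e * b * e) := by
    calc b * ((e * b * e) * a * (e * b * e)) * b
        = b * ((b * e * b) * a * (b * e * b)) * b := by rw [hbe]
      _ = (b * b) * e * (b * a * b) * e * (b * b) := by group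
      _ = e * (b * a * b) * e := by rw [hb2, one_mul, mul_one]
      _ = (e * b * e) * a * (e * b * e) := hf_eq.symm
  have hbf : Commute b ((e * b * e) * a * (e * b * e)) := by
    show b * ((e * b * e) * a * (e * b * e)) = ((e * b * e) * a * (e * b * e)) * b
    calc b * ((e * b * e) * a * (e * b * e))
        = (b * ((e * b * e) * a * (e * b * e)) * b) * b := by
          rw [mul_assoc (b * ((e * b * e) * a * (e * b * e))), hb2, mul_one]
      _ = ((e * b * e) * a * (e * b * e)) * b := by rw [hbfb]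
  have hex : ∃ g : G, Commute g d ∧ g * ((e * b * e) * a * (e * b * e)) * g⁻¹ = b := by
    by_contra hcon
    have hcon' : ∀ g : G, Commute g d → g * ((e * b * e) * a * (e * b * e)) * g⁻¹ ≠ b :=
      fun g hg h => hcon ⟨g, hg, h⟩
    obtain ⟨h, _⟩ := fact0 hD hd hf hb hdf hbd hcon'
    exact h hbf.symm
  obtain ⟨g, hg, hgf⟩ := hex
  refine ⟨g * e, hg.mul_left hed, ?_⟩
  calc (g * e) * (b * a * b) * (g * e)⁻¹ = g * (e * (b * a * b) * e⁻¹) * g⁻¹ := by group
    _ = g * ((e * b * e) * a * (e * b * e)) * g⁻¹ := by rw [einv, hf_eq]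
    _ = b := hgf

end LEMA

/-- LEMA -/
theorem lemA (hD : Cfsg.IsThreeTranspositionGroup D) {d a b e : G} (hd : d ∈ D) (ha : a ∈ D)
    (hb : b ∈ D) (he : e ∈ D) (had : ¬ Commute d a) (hbd : ¬ Commute d b)
    (hne : ∀ g : G, Commute g d → g * a * g⁻¹ ≠ b) (hed : Commute e d) (hea : Commute e a)
    (heb : ¬ Commute e b) : ∀ k ∈ D, Commute k d → Commute k b → Commute k a := by
  intro k hk hkd hkb
  by_contra hka
  have hne' : ∀ g : G, Commute g d → g * b * g⁻¹ ≠ a := by
    intro g hg h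
    apply hne g⁻¹ hg.inv_left
    rw [← h]; group
  obtain ⟨g₁, hg₁, h1⟩ := LEMA.claim hD hd hb ha hk hbd had hne' hkd hkb hka
  obtain ⟨g₂, hg₂, h2⟩ := LEMA.claim hD hd ha hb he had hbd hne hed hea heb
  obtain ⟨hab, _⟩ := fact0 hD hd ha hb had hbd hne
  have hbr : b * a * b = a * b * a := braid hD ha hb hab
  have h1' : g₁⁻¹ * a * g₁ = a * b * a := by
    calc g₁⁻¹ * a * g₁ = g₁⁻¹ * (g₁ * (a * b * a) * g₁⁻¹) * g₁ := by rw [h1]
      _ = a * b * a := by group
  apply hne (g₂ * g₁⁻¹) (hg₂.mul_left hg₁.inv_left)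
  calc (g₂ * g₁⁻¹) * a * (g₂ * g₁⁻¹)⁻¹ = g₂ * (g₁⁻¹ * a * g₁) * g₂⁻¹ := by group
    _ = g₂ * (a * b * a) * g₂⁻¹ := by rw [h1']
    _ = g₂ * (b * a * b) * g₂⁻¹ := by rw [hbr]
    _ = b := h2

end Cfsg.Agent.Helper16.F3
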