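import Mathlib
import Cfsg.Agent.Helper16.F3Basic

set_option autoImplicit false

/-! Fischer rank-3 package, piece LEMC (helper15). -/

namespace Cfsg.Agent.Helper16.F3

open Equiv

variable {G : Type*} [Group G] [Finite G] {D : Set G}

namespace LEMC

/-- the element of `S₄ = ⟨d, a, e⟩` (`d ⊥ e`, `a ~ d`, `a ~ e`) swapping `d` and `e` -/
theorem swap_elt (hD : Cfsg.IsThreeTranspositionGroup D) {d a e : G} (hd : d ∈ D) (ha : a ∈ D)
    (he : e ∈ D) (hne : d ≠ e) (hc : Commute d e) (h1 : ¬ Commute d a) (h2 : ¬ Commute a e) :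
    (a * (d * e * a * e * d)) * d * (a * (d * e * a * e * d))⁻¹ = e ∧
      (a * (d * e * a * e * d)) * e * (a * (d * e * a * e * d))⁻¹ = d := by
  obtain ⟨φ, -, e1, e2, e3, -⟩ := Cfsg.Agent.Helper4.ThreeTransS4.string_hom hD.1 hD.2.1 hd ha he
    hne hc h1 h2
  have hg : a * (d * e * a * e * d) =
      φ (swap 1 2 * (swap 0 1 * swap 2 3 * swap 1 2 * swap 2 3 * swap 0 1)) := by
    simp only [map_mul, e1, e2, e3]
  rw [hg]
  constructor
  · rw [← e1, ← e3, ← map_inv, ← map_mul, ← map_mul]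
    refine congrArg φ ?_
    ext i; fin_cases i <;> rfl
  · rw [← e1, ← e3, ← map_inv, ← map_mul, ← map_mul]
    refine congrArg φ ?_
    ext i; fin_cases i <;> rfl

end LEMC

/-- LEMC -/
theorem lemC (hD : Cfsg.IsThreeTranspositionGroup D) {d e₁ e₂ a a' : G} (hd : d ∈ D)
    (he₁ : e₁ ∈ D) (he₂ : e₂ ∈ D) (ha : a ∈ D) (ha' : a' ∈ D) (h1 : e₁ ≠ d) (h2 : e₂ ≠ d)
    (hc1 : Commute d e₁) (hc2 : Commute d e₂)
    (hne : ∀ g : G, Commute g d → g * e₁ * g⁻¹ ≠ e₂)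
    (had : ¬ Commute a d) (hae1 : Commute a e₁) (hae2 : ¬ Commute a e₂)
    (ha'd : ¬ Commute a' d) (ha'e2 : Commute a' e₂) (ha'e1 : ¬ Commute a' e₁) : False := by
  -- step 1: `e₁ ⊥ e₂`
  have h12 : Commute e₁ e₂ := by
    by_contra hnc
    obtain ⟨_, hz, _, _⟩ := third hD he₁ he₂ hnc
    apply hne (e₂ * e₁ * e₂) _ hz
    exact ((hc2.symm.mul_left hc1.symm).mul_left hc2.symm)
  -- step 2
  obtain ⟨hg1, hg2⟩ := LEMC.swap_elt hD hd ha he₂ (Ne.symm h2) hc2 (fun h => had h.symm) hae2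
  obtain ⟨hg1', hg2'⟩ := LEMC.swap_elt hD hd ha' he₁ (Ne.symm h1) hc1 (fun h => ha'd h.symm) ha'e1
  set g := a * (d * e₂ * a * e₂ * d) with hgdef
  set g' := a' * (d * e₁ * a' * e₁ * d) with hg'def
  have hge1 : Commute g e₁ := by
    rw [hgdef]
    exact hae1.mul_left
      (((((hc1.mul_left h12.symm).mul_left hae1).mul_left h12.symm).mul_left hc1))
  have hg'e2 : Commute g' e₂ := by
    rw [hg'def]
    exact ha'e2.mul_left
      (((((hc2.mul_left h12).mul_left ha'e2).mul_left h12).mul_left hc2))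
  have hge1' : g * e₁ * g⁻¹ = e₁ := by
    rw [hge1.eq, mul_inv_cancel_right]
  have hg'e2' : g' * e₂ * g'⁻¹ = e₂ := by
    rw [hg'e2.eq, mul_inv_cancel_right]
  have hinv_d : g'⁻¹ * d * g' = e₁ := by
    rw [← hg2']; group
  have hinv_e1 : g'⁻¹ * e₁ * g' = d := by
    rw [← hg1']; group
  have hkd : (g' * g * g'⁻¹) * d * (g' * g * g'⁻¹)⁻¹ = d := by
    calc (g' * g * g'⁻¹) * d * (g' * g * g'⁻¹)⁻¹
        = g' * (g * (g'⁻¹ * d * g') * g⁻¹) * g'⁻¹ := by group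
      _ = g' * (g * e₁ * g⁻¹) * g'⁻¹ := by rw [hinv_d]
      _ = g' * e₁ * g'⁻¹ := by rw [hge1']
      _ = d := hg2'
  have hke : (g' * g * g'⁻¹) * e₁ * (g' * g * g'⁻¹)⁻¹ = e₂ := by
    calc (g' * g * g'⁻¹) * e₁ * (g' * g * g'⁻¹)⁻¹
        = g' * (g * (g'⁻¹ * e₁ * g') * g⁻¹) * g'⁻¹ := by group
      _ = g' * (g * d * g⁻¹) * g'⁻¹ := by rw [hinv_e1]
      _ = g' * e₂ * g'⁻¹ := by rw [hg1]
      _ = e₂ := hg'e2'
  apply hne (g' * g * g'⁻¹) _ hke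
  show (g' * g * g'⁻¹) * d = d * (g' * g * g'⁻¹)
  calc (g' * g * g'⁻¹) * d = ((g' * g * g'⁻¹) * d * (g' * g * g'⁻¹)⁻¹) * (g' * g * g'⁻¹) := by
        group
    _ = d * (g' * g * g'⁻¹) := by rw [hkd]

end Cfsg.Agent.Helper16.F3
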