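import Mathlib
import Cfsg.Agent.Helper26.GlaubermanRepl

set_option autoImplicit false

/-! Rank inequality `|Ω₁(A)| ≤ |Ω₁(A*)|` in Glauberman's replacement theorem (for S3078). -/

namespace Cfsg.Agent.Helper15

open Subgroup Cfsg Cfsg.Agent.Helper26
open scoped commutatorElement

variable {S : Type*} [Group S]

/-- the `p`-torsion subgroup of a commuting subgroup -/
def torsSub (K : Subgroup S) (hK : ∀ x ∈ K, ∀ y ∈ K, x * y = y * x) (p : ℕ) : Subgroup S where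
  carrier := {x | x ∈ K ∧ x ^ p = 1}
  mul_mem' := by
    rintro x y ⟨hx, hx1⟩ ⟨hy, hy1⟩
    refine ⟨K.mul_mem hx hy, ?_⟩
    rw [(show Commute x y from hK x hx y hy).mul_pow, hx1, hy1, one_mul]
  one_mem' := ⟨K.one_mem, one_pow p⟩
  inv_mem' := by
    rintro x ⟨hx, hx1⟩
    exact ⟨K.inv_mem hx, by rw [inv_pow, hx1, inv_one]⟩

theorem mem_torsSub {K : Subgroup S} {hK : ∀ x ∈ K, ∀ y ∈ K, x * y = y * x} {p : ℕ} {x : S} :
    x ∈ torsSub K hK p ↔ x ∈ K ∧ x ^ p = 1 := Iff.rfl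

theorem omegaOne_eq_torsSub (K : Subgroup S) (hK : ∀ x ∈ K, ∀ y ∈ K, x * y = y * x) (p : ℕ) :
    omegaOne p K = torsSub K hK p := by
  unfold omegaOne
  have : {x : S | x ∈ K ∧ x ^ p = 1} = ((torsSub K hK p : Subgroup S) : Set S) := rfl
  rw [this, closure_eq]

/-- if `y a = a y c` with `c` commuting with `a`, `y`, and `a ^ n = 1`, then `c ^ n = 1` -/
theorem pow_eq_one_of_central_comm (a y c : S) (hc : y * a = a * y * c)
    (hca : Commute c a) (hcy : Commute c y) (n : ℕ) (han : a ^ n = 1) : c ^ n = 1 := by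
  have key : ∀ k : ℕ, y * a ^ k = a ^ k * y * c ^ k := by
    intro k
    induction k with
    | zero => simp
    | succ k ih =>
      rw [pow_succ, ← mul_assoc, ih]
      calc a ^ k * y * c ^ k * a = a ^ k * y * (c ^ k * a) := by group
        _ = a ^ k * y * (a * c ^ k) := by rw [(hca.pow_left k).eq]
        _ = a ^ k * (y * a) * c ^ k := by group
        _ = a ^ k * (a * y * c) * c ^ k := by rw [hc]
        _ = a ^ k * a * y * (c * c ^ k) := by group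
        _ = a ^ k * a * y * c ^ (k + 1) := by rw [← pow_succ']
  have := key n
  rw [han, mul_one, one_mul] at this
  exact (mul_eq_left.mp this.symm)

variable {A B : Subgroup S} {b : S}

/-- the generator `[a, b⁻¹]` has order dividing `p` if `a` does (`p` odd) -/
theorem gen_pow_eq_one (h : ReplHyp A B b) {p : ℕ} (hodd : Odd p) {a : S} (ha : a ∈ A)
    (hap : a ^ p = 1) : (a * b⁻¹ * a⁻¹ * b) ^ p = 1 := by
  rw [replX_gen_eq]
  have hy : b⁻¹ * a⁻¹ * b ∈ conjSub A b := mem_conjSub.mpr ⟨a⁻¹, A.inv_mem ha, rfl⟩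
  have hyn : (b⁻¹ * a⁻¹ * b) ^ p = 1 := by
    have : (b⁻¹ * a⁻¹ * b) ^ p = b⁻¹ * (a⁻¹) ^ p * b := by
      have := conj_pow (a := b⁻¹) (b := a⁻¹) (i := p)
      simpa using this
    rw [this, inv_pow, hap]
    group
  have hcZ : ⁅(b⁻¹ * a⁻¹ * b)⁻¹, a⁻¹⁆ ∈ replZ A b := by
    have h1 := h.comm_mem_replZ (A.inv_mem ha) ((conjSub A b).inv_mem hy)
    have e2 : ⁅(b⁻¹ * a⁻¹ * b)⁻¹, a⁻¹⁆ = (⁅a⁻¹, (b⁻¹ * a⁻¹ * b)⁻¹⁆)⁻¹ := by
      rw [commutatorElement_inv]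
    rw [e2]
    exact (replZ A b).inv_mem h1
  have hc1 : (b⁻¹ * a⁻¹ * b) * a = a * (b⁻¹ * a⁻¹ * b) * ⁅(b⁻¹ * a⁻¹ * b)⁻¹, a⁻¹⁆ := by
    rw [commutatorElement_def]; group
  have hc2 : Commute ⁅(b⁻¹ * a⁻¹ * b)⁻¹, a⁻¹⁆ a := h.replZ_comm_A hcZ ha
  have hc3 : Commute ⁅(b⁻¹ * a⁻¹ * b)⁻¹, a⁻¹⁆ (b⁻¹ * a⁻¹ * b) := h.replZ_comm_conjSub hcZ hy
  have hcp : ⁅(b⁻¹ * a⁻¹ * b)⁻¹, a⁻¹⁆ ^ p = 1 :=
    pow_eq_one_of_central_comm a (b⁻¹ * a⁻¹ * b) _ hc1 hc2 hc3 p hap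
  rw [Cfsg.Agent.Helper23.mul_pow_of_central_comm a (b⁻¹ * a⁻¹ * b) _ hc1 hc2 hc3 p,
    hap, hyn, one_mul, one_mul]
  obtain ⟨k, hk⟩ := hodd
  have e3 : p * (p - 1) / 2 = p * k := by
    rw [hk]
    have : (2 * k + 1) * (2 * k + 1 - 1) = 2 * ((2 * k + 1) * k) := by
      rw [Nat.add_sub_cancel]; ring
    rw [this, Nat.mul_div_cancel_left _ (by norm_num : 0 < 2)]
  rw [e3, pow_mul, hcp, one_pow]

/-- the rank inequality `|Ω₁(A)| ≤ |Ω₁(A*)|` -/
theorem card_torsSub_le [Finite S] (h : ReplHyp A B b)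
    (hXc : ∀ x ∈ replX A b, ∀ y ∈ replX A b, x * y = y * x) {p : ℕ} (hodd : Odd p) :
    Nat.card (torsSub A h.comm p) ≤ Nat.card (torsSub (replStar A b) (h.replStar_comm hXc) p) := by
  classical
  have hcomm := h.replStar_comm hXc
  set TA := torsSub A h.comm p with hTA
  set TS := torsSub (replStar A b) hcomm p with hTS
  -- the common part
  set TZ : Subgroup S := TS ⊓ replZ A b with hTZ
  let N : Subgroup TS := TZ.subgroupOf TS
  have hN : N.Normal := ⟨fun n hn g => by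
    have : g * n * g⁻¹ = n := by
      apply Subtype.ext
      have := hcomm g g.2.1 n n.2.1
      simp only [Subgroup.coe_mul, InvMemClass.coe_inv]
      rw [this, mul_inv_cancel_right]
    rw [this]; exact hn⟩
  have hgen : ∀ a ∈ TA, a * b⁻¹ * a⁻¹ * b ∈ TS := fun a ha =>
    ⟨mem_sup_right (subset_closure ⟨a, ha.1, rfl⟩), gen_pow_eq_one h hodd ha.1 ha.2⟩
  let θ : TA →* TS ⧸ N := MonoidHom.mk'
    (fun a => QuotientGroup.mk ⟨a.1 * b⁻¹ * a.1⁻¹ * b, hgen a.1 a.2⟩) (by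
      intro a a'
      obtain ⟨k, hk, hke⟩ := h.gen_mul a.2.1 a'.2.1
      have hkS : k ∈ TS := by
        have e : k = ((a * a' : TA).1 * b⁻¹ * (a * a' : TA).1⁻¹ * b) *
            ((a.1 * b⁻¹ * a.1⁻¹ * b) * (a'.1 * b⁻¹ * a'.1⁻¹ * b))⁻¹ := by
          simp only [Subgroup.coe_mul]
          rw [hke]; group
        rw [e]
        exact TS.mul_mem (hgen _ (a * a').2) (TS.inv_mem (TS.mul_mem (hgen _ a.2) (hgen _ a'.2)))
      have e : (⟨(a * a' : TA).1 * b⁻¹ * (a * a' : TA).1⁻¹ * b, hgen _ (a * a').2⟩ : TS) =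
          ⟨k, hkS⟩ * (⟨a.1 * b⁻¹ * a.1⁻¹ * b, hgen a.1 a.2⟩ *
            ⟨a'.1 * b⁻¹ * a'.1⁻¹ * b, hgen a'.1 a'.2⟩) := by
        apply Subtype.ext
        simp only [Subgroup.coe_mul]
        exact hke
      rw [e, QuotientGroup.mk_mul, QuotientGroup.mk_mul]
      have : (QuotientGroup.mk (⟨k, hkS⟩ : TS) : TS ⧸ N) = 1 := by
        rw [QuotientGroup.eq_one_iff]
        exact mem_subgroupOf.mpr ⟨hkS, hk⟩
      rw [this, one_mul])
  have hθ : ∀ a : TA, θ a = QuotientGroup.mk ⟨a.1 * b⁻¹ * a.1⁻¹ * b, hgen a.1 a.2⟩ := fun a => rfl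
  have hker : θ.ker ≤ TZ.subgroupOf TA := by
    intro a ha
    rw [MonoidHom.mem_ker, hθ, QuotientGroup.eq_one_iff] at ha
    have hm : a.1 * b⁻¹ * a.1⁻¹ * b ∈ TZ := mem_subgroupOf.mp ha
    have haZ : a.1 ∈ replZ A b := h.mem_replZ_of_gen_mem a.2.1 hm.2
    rw [mem_subgroupOf]
    exact ⟨⟨mem_sup_left haZ, a.2.2⟩, haZ⟩
  have c1 : Nat.card TA = Nat.card (TA ⧸ θ.ker) * Nat.card θ.ker :=
    Subgroup.card_eq_card_quotient_mul_card_subgroup _
  have c2 : Nat.card TS = Nat.card (TS ⧸ N) * Nat.card N :=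
    Subgroup.card_eq_card_quotient_mul_card_subgroup _
  have c3 : Nat.card θ.ker ≤ Nat.card TZ := by
    calc Nat.card θ.ker ≤ Nat.card (TZ.subgroupOf TA) := Subgroup.card_le_of_le hker
      _ ≤ Nat.card TZ := by
        apply Nat.card_le_card_of_injective (fun x => (⟨x.1.1, mem_subgroupOf.mp x.2⟩ : TZ))
        intro x y hxy
        apply Subtype.ext; apply Subtype.ext
        exact congrArg (fun z : TZ => (z : S)) hxy
  have c4 : Nat.card N = Nat.card TZ :=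
    Nat.card_congr (subgroupOfEquivOfLe (inf_le_left : TZ ≤ TS)).toEquiv
  have c5 : Nat.card (TA ⧸ θ.ker) ≤ Nat.card (TS ⧸ N) := by
    rw [Nat.card_congr (QuotientGroup.quotientKerEquivRange θ).toEquiv]
    exact Nat.card_le_card_of_injective _ Subtype.val_injective
  rw [c1, c2, c4]
  exact Nat.mul_le_mul c5 c3

end Cfsg.Agent.Helper15
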