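import Mathlib
import Cfsg.Prelude.Def_Transfer
import Cfsg.Prelude.Def_KGroupFacts
import Cfsg.Agent.Helper1.PGroup

set_option autoImplicit false

/-!
# Extraspecial 2-groups: reflections as explicit automorphisms (towards Griess' non-splitting theorem)

`ES z` records what we use of an extraspecial 2-group `Q` with centre `{1, z}`.
For `u` with `u * u = z` the map `y ↦ y` (if `y` commutes with `u`) / `y ↦ y * u` (otherwise) is an
automorphism `refl u` of `Q` (it induces the orthogonal reflection in `ū` on `Q/Z`).
-/

namespace Cfsg.Agent.Helper15.Griess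

open scoped commutatorElement

variable {Q : Type*} [Group Q]

/-- Extraspecial-2 data around a central involution `z`. -/
structure ES (z : Q) : Prop where
  z_ne : z ≠ 1
  z_sq : z * z = 1
  z_comm : ∀ x : Q, x * z = z * x
  center : ∀ c : Q, (∀ x : Q, x * c = c * x) → c = 1 ∨ c = z
  comm : ∀ x y : Q, x * y = y * x ∨ x * y = z * (y * x)
  sq : ∀ x : Q, x * x = 1 ∨ x * x = z
  z_mem : z ∈ commutator Q

theorem exists_ES [Finite Q] (hQ : Cfsg.IsExtraspecial 2 Q) : ∃ z : Q, ES z := by
  obtain ⟨⟨hp, hfr, hcm⟩, hcard⟩ := hQ
  have : Fact (Nat.Prime 2) := ⟨Nat.prime_two⟩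
  obtain ⟨⟨z, hzc⟩, hz1, huniq⟩ := (Nat.card_eq_two_iff' (1 : Subgroup.center Q)).mp hcard
  have hz_ne : z ≠ 1 := fun h => hz1 (Subtype.ext h)
  have key : ∀ c ∈ Subgroup.center Q, c = 1 ∨ c = z := by
    intro c hc
    by_cases h : c = 1
    · exact Or.inl h
    · right
      have := huniq ⟨c, hc⟩ (fun h' => h (congrArg Subtype.val h'))
      exact congrArg Subtype.val this
  have hzz : z * z = 1 := by
    rcases key (z * z) (Subgroup.mul_mem _ hzc hzc) with h | h
    · exact h
    · exfalso; apply hz_ne
      have : z * z = z * 1 := by rw [h, mul_one]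
      exact mul_left_cancel this
  refine ⟨z, hz_ne, hzz, fun x => (Subgroup.mem_center_iff.mp hzc x), ?_, ?_, ?_, by rw [hcm]; exact hzc⟩
  · intro c hc
    exact key c (Subgroup.mem_center_iff.mpr hc)
  · intro x y
    have h1 : ⁅x, y⁆ ∈ commutator Q := by
      rw [commutator_def]
      exact Subgroup.commutator_mem_commutator (Subgroup.mem_top _) (Subgroup.mem_top _)
    rw [hcm] at h1
    have h2 : x * y = ⁅x, y⁆ * (y * x) := by
      rw [commutatorElement_def]; group
    rcases key _ h1 with h | h
    · left; rw [h2, h, one_mul]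
    · right; rw [h2, h]
  · intro x
    have h1 : x ^ 2 ∈ frattini Q := Cfsg.Agent.Helper1.IsPGroup.pow_mem_frattini hp x
    rw [hfr, pow_two] at h1
    exact key _ h1

namespace ES

variable {z : Q} (h : ES z)
include h

theorem z_inv : z⁻¹ = z := inv_eq_of_mul_eq_one_left h.z_sq

theorem z_mul_z_mul (x : Q) : z * (z * x) = x := by
  rw [← mul_assoc, h.z_sq, one_mul]

theorem not_commute_iff {x y : Q} : ¬ Commute x y ↔ x * y = z * (y * x) := by
  constructor
  · intro hn
    rcases h.comm x y with hc | hc
    · exact absurd hc hn
    · exact hc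
  · intro ha hc
    have : x * y = y * x := hc
    rw [this] at ha
    apply h.z_ne
    have h2 : 1 * (y * x) = z * (y * x) := by rw [one_mul]; exact ha
    exact (mul_right_cancel h2).symm

/-- two elements not commuting with `e`: their product commutes with `e`. -/
theorem commute_mul_of_not_not {a b e : Q} (ha : ¬ Commute a e) (hb : ¬ Commute b e) :
    Commute (a * b) e := by
  have ha' := h.not_commute_iff.mp ha
  have hb' := h.not_commute_iff.mp hb
  show a * b * e = e * (a * b)
  calc a * b * e = a * (b * e) := by rw [mul_assoc]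
    _ = a * (z * (e * b)) := by rw [hb']
    _ = z * (a * e) * b := by
        rw [← mul_assoc a z, h.z_comm a, mul_assoc z a, ← mul_assoc a e b, mul_assoc z]
    _ = z * (z * (e * a)) * b := by rw [ha']
    _ = e * (a * b) := by rw [h.z_mul_z_mul, mul_assoc]

omit h in
theorem not_commute_mul_left {a b e : Q} (ha : ¬ Commute a e) (hb : Commute b e) :
    ¬ Commute (a * b) e := by
  intro hc
  apply ha
  have := hc.mul_left hb.inv_left
  simpa using this

omit h in
theorem not_commute_mul_right {a b e : Q} (ha : Commute a e) (hb : ¬ Commute b e) :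
    ¬ Commute (a * b) e := by
  intro hc
  apply hb
  have := ha.inv_left.mul_left hc
  simpa using this

omit h in
theorem commute_mul_iff_of_commute {y v u : Q} (hv : Commute v u) :
    Commute (y * v) u ↔ Commute y u := by
  constructor
  · intro hc
    have := hc.mul_left hv.inv_left
    simpa using this
  · intro hc
    exact hc.mul_left hv

/-- central elements are `1` or `z`. -/
theorem central_iff {c : Q} : (∀ x : Q, Commute x c) ↔ (c = 1 ∨ c = z) := by
  constructor
  · intro hc
    exact h.center c hc
  · rintro (rfl | rfl) x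
    · exact Commute.one_right x
    · exact h.z_comm x

theorem exists_not_commute {c : Q} (h1 : c ≠ 1) (hz : c ≠ z) : ∃ x : Q, ¬ Commute x c := by
  by_contra hcon
  push Not at hcon
  rcases h.central_iff.mp hcon with h' | h'
  · exact h1 h'
  · exact hz h'

/-- elements with square `z` are not central. -/
theorem ne_of_sq {x : Q} (hx : x * x = z) : x ≠ 1 ∧ x ≠ z := by
  constructor
  · rintro rfl
    rw [one_mul] at hx
    exact h.z_ne hx.symm
  · rintro rfl
    rw [h.z_sq] at hx
    exact h.z_ne hx.symm

/-- the image of `z` in the abelianization is trivial. -/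
theorem of_z : Abelianization.of z = 1 := by
  have : z ∈ (Abelianization.of : Q →* Abelianization Q).ker := by
    rw [Abelianization.ker_of]; exact h.z_mem
  exact this

theorem of_eq_one_of_central {x : Q} (hx : x = 1 ∨ x = z) : Abelianization.of x = 1 := by
  rcases hx with rfl | rfl
  · exact map_one _
  · exact h.of_z

theorem commutatorElement_cases (x y : Q) : ⁅x, y⁆ = 1 ∨ ⁅x, y⁆ = z := by
  rcases h.comm x y with hc | hc
  · left
    rw [commutatorElement_def, hc]; group
  · right
    rw [commutatorElement_def, hc]; group

/-- the subgroup `{1, z}`. -/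
def Zsub : Subgroup Q where
  carrier := {x | x = 1 ∨ x = z}
  one_mem' := Or.inl rfl
  mul_mem' := by
    rintro a b (rfl | rfl) (rfl | rfl)
    · left; rw [one_mul]
    · right; rw [one_mul]
    · right; rw [mul_one]
    · left; exact h.z_sq
  inv_mem' := by
    rintro a (rfl | rfl)
    · left; exact inv_one
    · right; exact h.z_inv

theorem central_of_of_eq_one {x : Q} (hx : Abelianization.of x = 1) : x = 1 ∨ x = z := by
  have h1 : x ∈ (Abelianization.of : Q →* Abelianization Q).ker := hx
  rw [Abelianization.ker_of, commutator_def] at h1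
  have h2 : ⁅(⊤ : Subgroup Q), ⊤⁆ ≤ h.Zsub := by
    rw [Subgroup.commutator_le]
    intro a _ b _
    exact h.commutatorElement_cases a b
  exact h2 h1

theorem of_mul_self (x : Q) : (Abelianization.of x) * (Abelianization.of x) = 1 := by
  rw [← map_mul]
  exact h.of_eq_one_of_central (h.sq x)

theorem ab_mul_self (a : Abelianization Q) : a * a = 1 := by
  obtain ⟨x, rfl⟩ := QuotientGroup.mk_surjective a
  exact h.of_mul_self x

end ES

section refl

open Classical in
/-- `eps u y` is `1` if `y` commutes with `u`, and `u` otherwise. -/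
noncomputable def eps (u y : Q) : Q := if Commute y u then 1 else u

theorem eps_of_commute {u y : Q} (hc : Commute y u) : eps u y = 1 := by
  unfold eps; rw [if_pos hc]

theorem eps_of_not_commute {u y : Q} (hc : ¬ Commute y u) : eps u y = u := by
  unfold eps; rw [if_neg hc]

theorem eps_cases (u y : Q) : eps u y = 1 ∨ eps u y = u := by
  by_cases hc : Commute y u
  · exact Or.inl (eps_of_commute hc)
  · exact Or.inr (eps_of_not_commute hc)

theorem commute_eps {u v y : Q} (hv : Commute u v) : Commute (eps u y) v := by
  rcases eps_cases u y with h | h <;> rw [h]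
  · exact Commute.one_left v
  · exact hv

theorem eps_mul_of_commute {u v y : Q} (hv : Commute v u) : eps u (y * v) = eps u y := by
  unfold eps
  rw [ES.commute_mul_iff_of_commute hv]

variable {z : Q} (h : ES z)
include h

theorem ES.eps_mul (u : Q) (x y : Q) (hu : u * u = z) :
    x * y * eps u (x * y) = x * eps u x * (y * eps u y) := by
  by_cases hx : Commute x u <;> by_cases hy : Commute y u
  · rw [eps_of_commute hx, eps_of_commute hy, eps_of_commute (hx.mul_left hy)]
    simp
  · rw [eps_of_commute hx, eps_of_not_commute hy,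
      eps_of_not_commute (ES.not_commute_mul_right hx hy)]
    simp [mul_assoc]
  · rw [eps_of_not_commute hx, eps_of_commute hy,
      eps_of_not_commute (ES.not_commute_mul_left hx hy)]
    have : y * u = u * y := hy
    simp only [mul_one, mul_assoc, this]
  · rw [eps_of_not_commute hx, eps_of_not_commute hy,
      eps_of_commute (h.commute_mul_of_not_not hx hy)]
    have hy' := h.not_commute_iff.mp hy
    have e1 : u * y = z * (y * u) := by
      rw [hy', h.z_mul_z_mul]
    rw [mul_one]
    symm
    calc x * u * (y * u) = x * ((u * y) * u) := by simp only [mul_assoc]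
      _ = x * ((z * (y * u)) * u) := by rw [e1]
      _ = x * (z * (y * (u * u))) := by simp only [mul_assoc]
      _ = x * (z * (z * y)) := by rw [hu, h.z_comm y]
      _ = x * y := by rw [h.z_mul_z_mul]

/-- the reflection automorphism attached to `u` with `u * u = z`:
`y ↦ y` if `y` commutes with `u`, `y ↦ y * u` otherwise. -/
noncomputable def ES.refl (u : Q) (hu : u * u = z) : MulAut Q where
  toFun y := y * eps u y
  invFun y := y * (eps u y)⁻¹
  left_inv y := by
    have hc : Commute (eps u y) u := commute_eps (Commute.refl u)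
    show y * eps u y * (eps u (y * eps u y))⁻¹ = y
    rw [eps_mul_of_commute hc, mul_assoc, mul_inv_cancel, mul_one]
  right_inv y := by
    have hc : Commute (eps u y)⁻¹ u := (commute_eps (Commute.refl u)).inv_left
    show y * (eps u y)⁻¹ * eps u (y * (eps u y)⁻¹) = y
    rw [eps_mul_of_commute hc, mul_assoc, inv_mul_cancel, mul_one]
  map_mul' x y := h.eps_mul u x y hu

theorem ES.refl_apply (u : Q) (hu : u * u = z) (y : Q) : h.refl u hu y = y * eps u y := rfl

theorem ES.refl_apply_of_commute {u : Q} (hu : u * u = z) {y : Q} (hc : Commute y u) :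
    h.refl u hu y = y := by
  rw [h.refl_apply, eps_of_commute hc, mul_one]

theorem ES.refl_mul_self (u : Q) (hu : u * u = z) : h.refl u hu * h.refl u hu = MulAut.conj u := by
  ext y
  rw [MulAut.mul_apply, MulAut.conj_apply, h.refl_apply, h.refl_apply,
    eps_mul_of_commute (commute_eps (Commute.refl u))]
  by_cases hc : Commute y u
  · rw [eps_of_commute hc, mul_one, mul_one]
    have : u * y = y * u := hc.symm
    rw [this, mul_assoc, mul_inv_cancel, mul_one]
  · rw [eps_of_not_commute hc]
    have hy' := h.not_commute_iff.mp hc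
    have e1 : u * y = z * (y * u) := by rw [hy', h.z_mul_z_mul]
    rw [e1, mul_assoc, mul_assoc, mul_assoc, mul_inv_cancel, mul_one, hu, h.z_comm]

theorem ES.refl_comm {u v : Q} (hu : u * u = z) (hv : v * v = z) (huv : Commute u v) :
    h.refl u hu * h.refl v hv = h.refl v hv * h.refl u hu := by
  ext y
  rw [MulAut.mul_apply, MulAut.mul_apply, h.refl_apply, h.refl_apply, h.refl_apply, h.refl_apply,
    eps_mul_of_commute (commute_eps huv.symm), eps_mul_of_commute (commute_eps huv)]
  have hc : Commute (eps u y) (eps v y) := commute_eps (commute_eps huv.symm).symm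
  rw [mul_assoc, mul_assoc, hc.eq]

end refl

end Cfsg.Agent.Helper15.Griess
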