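import Mathlib
import Cfsg.Agent.Helper15.Griess1

set_option autoImplicit false

/-!
# Griess: `Aut(2^{1+2n}_+)` does not split over `Inn` (n ≥ 3) — the four-group obstruction
-/

namespace Cfsg.Agent.Helper15.Griess

variable {Q : Type*} [Group Q]

theorem mul_conj (φ : MulAut Q) (g : Q) : φ * MulAut.conj g = MulAut.conj (φ g) * φ := by
  ext y
  simp [MulAut.mul_apply, MulAut.conj_apply, map_mul, map_inv]

theorem commute_of_conj_eq_one {x : Q} (hx : MulAut.conj x = 1) (y : Q) : Commute y x := by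
  have h1 : MulAut.conj x y = y := by rw [hx]; rfl
  rw [MulAut.conj_apply] at h1
  show y * x = x * y
  calc y * x = x * y * x⁻¹ * x := by rw [h1]
    _ = x * y := by group

/-- in a commutative group of exponent two: the independence statement in `if` form. -/
theorem indep_ite {V : Type*} [CommGroup V] (U1 U2 U3 : V)
    (n1 : U1 ≠ 1) (n2 : U2 ≠ 1) (n3 : U3 ≠ 1) (n12 : U1 * U2 ≠ 1) (n13 : U1 * U3 ≠ 1)
    (n23 : U2 * U3 ≠ 1) (n123 : U1 * U2 * U3 ≠ 1)
    (p q r : Prop) [Decidable p] [Decidable q] [Decidable r]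
    (hh : (if p then U1 else 1) * (if q then U2 else 1) * (if r then U3 else 1) = 1) :
    ¬ p ∧ ¬ q ∧ ¬ r := by
  by_cases hp : p <;> by_cases hq : q <;> by_cases hr : r <;>
    simp only [hp, hq, hr, if_true, if_false, mul_one, one_mul] at hh <;>
    first
      | exact ⟨hp, hq, hr⟩
      | exact absurd hh n1
      | exact absurd hh n2
      | exact absurd hh n3
      | exact absurd hh n12
      | exact absurd hh n13
      | exact absurd hh n23
      | exact absurd hh n123

/-- algebra in a commutative group of exponent two, I. -/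
theorem alg1 {W : Type*} [CommGroup W] (hs : ∀ a : W, a * a = 1) (B E1 E2 E3 U1 U2 U3 : W)
    (hC : B * (B * E3 * E2 * E1) * (U1 * U2 * U3) = 1) :
    (E1 * U1) * (E2 * U2) * (E3 * U3) = 1 := by
  have e : B * (B * E3 * E2 * E1) * (U1 * U2 * U3) =
      (B * B) * ((E1 * U1) * (E2 * U2) * (E3 * U3)) := by ac_rfl
  rw [e, hs, one_mul] at hC
  exact hC

/-- algebra in a commutative group of exponent two, II. -/
theorem alg2 {W : Type*} [CommGroup W] (hs : ∀ a : W, a * a = 1) (B E3 E4 U1 U2 U3 : W)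
    (hC : B * (B * E4 * E3) * (U3 * (U1 * U2 * U3)) = 1) :
    E4 * E3 * (U1 * U2) = 1 := by
  have e : B * (B * E4 * E3) * (U3 * (U1 * U2 * U3)) =
      (B * B) * (U3 * U3) * (E4 * E3 * (U1 * U2)) := by ac_rfl
  rw [e, hs, hs, one_mul, one_mul] at hC
  exact hC

/-- algebra in a commutative group of exponent two, III. -/
theorem alg3 {W : Type*} [CommGroup W] (hs : ∀ a : W, a * a = 1) (B1 B2 E1 E2 U1 U2 U3 : W)
    (hC : B1 * (B2 * U3 * E2 * E1) = B2 * (B1 * (U1 * U2 * U3) * U3)) :
    (E1 * U1) * (E2 * U2) * U3 = 1 := by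
  have e1 : B1 * (B2 * U3 * E2 * E1) = (B1 * B2) * (E1 * E2 * U3) := by ac_rfl
  have e2 : B2 * (B1 * (U1 * U2 * U3) * U3) = (B1 * B2) * (U1 * U2 * (U3 * U3)) := by ac_rfl
  rw [e1, e2, hs, mul_one] at hC
  have h3 : E1 * E2 * U3 = U1 * U2 := mul_left_cancel hC
  have e3 : (E1 * U1) * (E2 * U2) * U3 = (E1 * E2 * U3) * (U1 * U2) := by ac_rfl
  rw [e3, h3, hs]

theorem of_eps_mul {z : Q} (h : ES z) (u : Q) (b : Q) :
    Abelianization.of (eps u b) * Abelianization.of u =
      (@ite _ (Commute b u) (Classical.propDecidable _) (Abelianization.of u) 1) := by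
  by_cases hc : Commute b u
  · rw [eps_of_commute hc, map_one, one_mul, if_pos hc]
  · rw [eps_of_not_commute hc, if_neg hc, h.of_mul_self]

theorem mul_mul_self_of_commute {M : Type*} [Monoid M] {a b c : M} (hab : Commute a b)
    (hac : Commute a c) (hbc : Commute b c) :
    (a * b * c) * (a * b * c) = (a * a) * (b * b) * (c * c) := by
  have h1 : Commute c (a * b) := (hac.symm.mul_right hbc.symm)
  rw [h1.mul_mul_mul_comm, hab.symm.mul_mul_mul_comm]

/-- **Griess' obstruction.** Three pairwise commuting, independent elements of order four with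
square `z` in an extraspecial 2-group: `Inn Q` has no complement in `Aut Q`. -/
theorem no_complement {z : Q} (h : ES z) (u1 u2 u3 : Q)
    (h1 : u1 * u1 = z) (h2 : u2 * u2 = z) (h3 : u3 * u3 = z)
    (c12 : Commute u1 u2) (c13 : Commute u1 u3) (c23 : Commute u2 u3)
    (n12 : ¬ (u1 * u2 = 1 ∨ u1 * u2 = z)) (n13 : ¬ (u1 * u3 = 1 ∨ u1 * u3 = z))
    (n23 : ¬ (u2 * u3 = 1 ∨ u2 * u3 = z)) (n123 : ¬ (u1 * u2 * u3 = 1 ∨ u1 * u2 * u3 = z))
    (L : Subgroup (MulAut Q)) : ¬ (Cfsg.Inn Q).IsComplement' L := by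
  intro hL
  classical
  -- the fourth vector
  have c14 : Commute u1 (u1 * u2 * u3) := ((Commute.refl u1).mul_right c12).mul_right c13
  have c24 : Commute u2 (u1 * u2 * u3) := (c12.symm.mul_right (Commute.refl u2)).mul_right c23
  have c34 : Commute u3 (u1 * u2 * u3) := (c13.symm.mul_right c23.symm).mul_right (Commute.refl u3)
  have h4 : (u1 * u2 * u3) * (u1 * u2 * u3) = z := by
    rw [mul_mul_self_of_commute c12 c13 c23, h1, h2, h3, h.z_sq, one_mul]
  -- the reflections
  obtain ⟨r1, hr1⟩ : ∃ r, r = h.refl u1 h1 := ⟨_, rfl⟩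
  obtain ⟨r2, hr2⟩ : ∃ r, r = h.refl u2 h2 := ⟨_, rfl⟩
  obtain ⟨r3, hr3⟩ : ∃ r, r = h.refl u3 h3 := ⟨_, rfl⟩
  obtain ⟨r4, hr4⟩ : ∃ r, r = h.refl (u1 * u2 * u3) h4 := ⟨_, rfl⟩
  have k12 : Commute r1 r2 := by rw [hr1, hr2]; exact h.refl_comm h1 h2 c12
  have k13 : Commute r1 r3 := by rw [hr1, hr3]; exact h.refl_comm h1 h3 c13
  have k23 : Commute r2 r3 := by rw [hr2, hr3]; exact h.refl_comm h2 h3 c23
  have k14 : Commute r1 r4 := by rw [hr1, hr4]; exact h.refl_comm h1 h4 c14
  have k24 : Commute r2 r4 := by rw [hr2, hr4]; exact h.refl_comm h2 h4 c24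
  have k34 : Commute r3 r4 := by rw [hr3, hr4]; exact h.refl_comm h3 h4 c34
  obtain ⟨σ, hσ⟩ : ∃ s : MulAut Q, s = r1 * r2 * r3 := ⟨_, rfl⟩
  obtain ⟨τ, hτ⟩ : ∃ s : MulAut Q, s = r3 * r4 := ⟨_, rfl⟩
  have hσσ : σ * σ = MulAut.conj (u1 * u2 * u3) := by
    rw [hσ, mul_mul_self_of_commute k12 k13 k23, hr1, hr2, hr3, h.refl_mul_self, h.refl_mul_self,
      h.refl_mul_self, map_mul, map_mul]
  have hττ : τ * τ = MulAut.conj (u3 * (u1 * u2 * u3)) := by
    rw [hτ, k34.symm.mul_mul_mul_comm, hr3, hr4, h.refl_mul_self, h.refl_mul_self, ← map_mul]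
  have hστ : σ * τ = τ * σ := by
    have : Commute σ τ := by
      rw [hσ, hτ]
      exact ((k13.mul_right k14).mul_left (k23.mul_right k24)).mul_left
        ((Commute.refl r3).mul_right k34)
    exact this
  have σ_apply : ∀ b : Q, σ b = b * eps u3 b * eps u2 b * eps u1 b := by
    intro b
    rw [hσ, MulAut.mul_apply, MulAut.mul_apply, hr3, h.refl_apply, hr2, h.refl_apply, hr1,
      h.refl_apply, eps_mul_of_commute (commute_eps c23.symm),
      eps_mul_of_commute (commute_eps c12.symm), eps_mul_of_commute (commute_eps c13.symm)]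
  have τ_apply : ∀ b : Q, τ b = b * eps (u1 * u2 * u3) b * eps u3 b := by
    intro b
    rw [hτ, MulAut.mul_apply, hr4, h.refl_apply, hr3, h.refl_apply,
      eps_mul_of_commute (commute_eps c34.symm)]
  -- decomposition with respect to the complement
  have decomp : ∀ φ : MulAut Q, ∃ b : Q, MulAut.conj b * φ ∈ L := by
    intro φ
    obtain ⟨⟨⟨ι, hι⟩, ⟨l, hl⟩⟩, hx, -⟩ := (Subgroup.isComplement'_def.mp hL).existsUnique φ
    obtain ⟨a, rfl⟩ := hι
    refine ⟨a⁻¹, ?_⟩
    have hx' : MulAut.conj a * l = φ := hx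
    rw [← hx', map_inv, inv_mul_cancel_left]
    exact hl
  have hdisj : ∀ ψ : MulAut Q, ψ ∈ Cfsg.Inn Q → ψ ∈ L → ψ = 1 := fun ψ h1 h2 =>
    Subgroup.disjoint_def.mp hL.disjoint h1 h2
  obtain ⟨b1, hb1⟩ := decomp σ
  obtain ⟨b2, hb2⟩ := decomp τ
  -- first relation
  have A1 : (MulAut.conj b1 * σ) * (MulAut.conj b1 * σ) =
      MulAut.conj (b1 * σ b1 * (u1 * u2 * u3)) := by
    rw [map_mul, map_mul, ← hσσ, mul_assoc (MulAut.conj b1) σ, ← mul_assoc σ (MulAut.conj b1) σ,
      mul_conj σ b1]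
    simp only [mul_assoc]
  have A2 : (MulAut.conj b2 * τ) * (MulAut.conj b2 * τ) =
      MulAut.conj (b2 * τ b2 * (u3 * (u1 * u2 * u3))) := by
    rw [map_mul, map_mul, ← hττ, mul_assoc (MulAut.conj b2) τ, ← mul_assoc τ (MulAut.conj b2) τ,
      mul_conj τ b2]
    simp only [mul_assoc]
  have A3 : (MulAut.conj b1 * σ) * (MulAut.conj b2 * τ) * ((MulAut.conj b2 * τ) * (MulAut.conj b1 * σ))⁻¹ =
      MulAut.conj (b1 * σ b2 * (b2 * τ b1)⁻¹) := by
    have e1 : (MulAut.conj b1 * σ) * (MulAut.conj b2 * τ) = MulAut.conj (b1 * σ b2) * (σ * τ) := by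
      rw [map_mul, mul_assoc (MulAut.conj b1) σ, ← mul_assoc σ (MulAut.conj b2) τ, mul_conj σ b2]
      simp only [mul_assoc]
    have e2 : (MulAut.conj b2 * τ) * (MulAut.conj b1 * σ) = MulAut.conj (b2 * τ b1) * (σ * τ) := by
      rw [hστ, map_mul, mul_assoc (MulAut.conj b2) τ, ← mul_assoc τ (MulAut.conj b1) σ,
        mul_conj τ b1]
      simp only [mul_assoc]
    have e3 : MulAut.conj (b1 * σ b2 * (b2 * τ b1)⁻¹) =
        MulAut.conj (b1 * σ b2) * (MulAut.conj (b2 * τ b1))⁻¹ := by rw [map_mul, map_inv]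
    rw [e1, e2, e3]
    group
  have Z1 := hdisj _ ⟨_, A1.symm⟩ (L.mul_mem hb1 hb1)
  have Z2 := hdisj _ ⟨_, A2.symm⟩ (L.mul_mem hb2 hb2)
  have Z3 := hdisj _ ⟨_, A3.symm⟩ (L.mul_mem (L.mul_mem hb1 hb2) (L.inv_mem (L.mul_mem hb2 hb1)))
  rw [A1] at Z1
  rw [A2] at Z2
  rw [A3] at Z3
  have C1 := h.of_eq_one_of_central (h.center _ (fun x => (commute_of_conj_eq_one Z1 x).eq))
  have C2 := h.of_eq_one_of_central (h.center _ (fun x => (commute_of_conj_eq_one Z2 x).eq))
  have C3 := h.of_eq_one_of_central (h.center _ (fun x => (commute_of_conj_eq_one Z3 x).eq))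
  -- independence in the abelianization
  have m1 : Abelianization.of u1 ≠ 1 := fun hh =>
    absurd (h.central_of_of_eq_one hh) (by have := h.ne_of_sq h1; tauto)
  have m2 : Abelianization.of u2 ≠ 1 := fun hh =>
    absurd (h.central_of_of_eq_one hh) (by have := h.ne_of_sq h2; tauto)
  have m3 : Abelianization.of u3 ≠ 1 := fun hh =>
    absurd (h.central_of_of_eq_one hh) (by have := h.ne_of_sq h3; tauto)
  have m12 : Abelianization.of u1 * Abelianization.of u2 ≠ 1 := fun hh =>
    n12 (h.central_of_of_eq_one (by rw [map_mul]; exact hh))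
  have m13 : Abelianization.of u1 * Abelianization.of u3 ≠ 1 := fun hh =>
    n13 (h.central_of_of_eq_one (by rw [map_mul]; exact hh))
  have m23 : Abelianization.of u2 * Abelianization.of u3 ≠ 1 := fun hh =>
    n23 (h.central_of_of_eq_one (by rw [map_mul]; exact hh))
  have m123 : Abelianization.of u1 * Abelianization.of u2 * Abelianization.of u3 ≠ 1 := fun hh =>
    n123 (h.central_of_of_eq_one (by rw [map_mul, map_mul]; exact hh))
  have ind := indep_ite (Abelianization.of u1) (Abelianization.of u2) (Abelianization.of u3)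
    m1 m2 m3 m12 m13 m23 m123
  -- first condition
  rw [σ_apply] at C1
  simp only [map_mul] at C1
  have D1 := alg1 h.ab_mul_self _ _ _ _ _ _ _ C1
  rw [of_eps_mul h, of_eps_mul h, of_eps_mul h] at D1
  obtain ⟨na1, na2, na3⟩ := ind _ _ _ D1
  -- second condition
  rw [τ_apply] at C2
  simp only [map_mul] at C2
  have D2 := alg2 h.ab_mul_self _ _ _ _ _ _ C2
  have nb3 : ¬ Commute b2 u3 := by
    by_cases c4 : Commute b2 (u1 * u2 * u3)
    · exfalso
      rw [eps_of_commute c4, map_one, one_mul] at D2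
      by_cases c3 : Commute b2 u3
      · rw [eps_of_commute c3, map_one, one_mul] at D2
        exact m12 D2
      · rw [eps_of_not_commute c3] at D2
        apply m123
        rw [← D2]; ac_rfl
    · rw [eps_of_not_commute c4] at D2
      simp only [map_mul] at D2
      intro c3
      rw [eps_of_commute c3, map_one, mul_one] at D2
      apply m3
      have e : Abelianization.of u1 * Abelianization.of u2 * Abelianization.of u3 *
          (Abelianization.of u1 * Abelianization.of u2) =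
          (Abelianization.of u1 * Abelianization.of u1) * (Abelianization.of u2 * Abelianization.of u2) *
            Abelianization.of u3 := by ac_rfl
      rw [e, h.of_mul_self, h.of_mul_self, one_mul, one_mul] at D2
      exact D2
  -- third condition
  have na4 : ¬ Commute b1 (u1 * u2 * u3) := by
    have s1 : ¬ Commute u1 b1 := fun hc => na1 hc.symm
    have s2 : ¬ Commute u2 b1 := fun hc => na2 hc.symm
    have s3 : ¬ Commute u3 b1 := fun hc => na3 hc.symm
    have t12 : Commute (u1 * u2) b1 := h.commute_mul_of_not_not s1 s2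
    intro hc
    exact ES.not_commute_mul_right t12 s3 hc.symm
  have C3' : Abelianization.of (b1 * σ b2) = Abelianization.of (b2 * τ b1) := by
    rw [map_mul _ (b1 * σ b2), map_inv] at C3
    exact mul_inv_eq_one.mp C3
  rw [σ_apply, τ_apply, eps_of_not_commute nb3, eps_of_not_commute na4, eps_of_not_commute na3] at C3'
  simp only [map_mul] at C3'
  have D3 := alg3 h.ab_mul_self _ _ _ _ _ _ _ C3'
  rw [of_eps_mul h, of_eps_mul h] at D3
  have D3' : (if Commute b2 u1 then Abelianization.of u1 else 1) *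
      (if Commute b2 u2 then Abelianization.of u2 else 1) *
      (if True then Abelianization.of u3 else 1) = 1 := by
    rw [if_pos trivial]
    convert D3
  exact (ind _ _ _ D3').2.2 trivial

end Cfsg.Agent.Helper15.Griess
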