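import Mathlib
import Cfsg.Agent.Helper15.Griess2

set_option autoImplicit false

/-!
# Griess: existence of the obstruction triple in `2^{1+2n}_+`, `n ≥ 3`, and the main theorem (S3085)
-/

namespace Cfsg.Agent.Helper15.Griess

variable {Q : Type*} [Group Q]

/-- a subgroup with more elements than a finset has an element outside it -/
theorem exists_mem_notMem [Finite Q] [DecidableEq Q]
    (U : Subgroup Q) (F : Finset Q) (hF : F.card < Nat.card ↥U) : ∃ g ∈ U, g ∉ F := by
  by_contra hcon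
  push Not at hcon
  have hsub : (U : Set Q) ⊆ ↑F := fun g hg => hcon g hg
  have h1 := Set.ncard_le_ncard hsub
  rw [Set.ncard_coe_finset] at h1
  have h2 : (U : Set Q).ncard = Nat.card ↥U := (Nat.card_coe_set_eq _).symm
  omega

variable {z : Q} (h : ES z)
include h

/-- two independent (mod centre) elements are separated by commutation. -/
theorem ES.exists_commute_not_commute {e f : Q} (hf : ¬ (f = 1 ∨ f = z))
    (hef : ¬ (e * f = 1 ∨ e * f = z)) : ∃ c : Q, Commute c e ∧ ¬ Commute c f := by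
  obtain ⟨d, hd⟩ := h.exists_not_commute (fun h' => hf (Or.inl h')) (fun h' => hf (Or.inr h'))
  by_cases hde : Commute d e
  · exact ⟨d, hde, hd⟩
  obtain ⟨d', hd'⟩ := h.exists_not_commute (fun h' => hef (Or.inl h')) (fun h' => hef (Or.inr h'))
  by_cases hd'e : Commute d' e
  · refine ⟨d', hd'e, fun hc => hd' (hd'e.mul_right hc)⟩
  · have hd'f : Commute d' f := by
      by_contra hn
      have s1 : ¬ Commute e d' := fun hc => hd'e hc.symm
      have s2 : ¬ Commute f d' := fun hc => hn hc.symm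
      exact hd' (h.commute_mul_of_not_not s1 s2).symm
    exact ⟨d * d', h.commute_mul_of_not_not hde hd'e, ES.not_commute_mul_left hd hd'f⟩

/-- the triple built from `x` of order four and two commuting involutions. -/
theorem ES.triple_of {x e f : Q} (hx : x * x = z) (he : e * e = 1) (hf : f * f = 1)
    (cxe : Commute x e) (cxf : Commute x f) (cef : Commute e f)
    (ne : ¬ (e = 1 ∨ e = z)) (nf : ¬ (f = 1 ∨ f = z)) (nef : ¬ (e * f = 1 ∨ e * f = z)) :
    ∃ u1 u2 u3 : Q, u1 * u1 = z ∧ u2 * u2 = z ∧ u3 * u3 = z ∧ Commute u1 u2 ∧ Commute u1 u3 ∧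
      Commute u2 u3 ∧ ¬ (u1 * u2 = 1 ∨ u1 * u2 = z) ∧ ¬ (u1 * u3 = 1 ∨ u1 * u3 = z) ∧
      ¬ (u2 * u3 = 1 ∨ u2 * u3 = z) ∧ ¬ (u1 * u2 * u3 = 1 ∨ u1 * u2 * u3 = z) := by
  have h2 : (x * e) * (x * e) = z := by
    rw [cxe.symm.mul_mul_mul_comm, hx, he, mul_one]
  have h3 : (x * f) * (x * f) = z := by
    rw [cxf.symm.mul_mul_mul_comm, hx, hf, mul_one]
  have c12 : Commute x (x * e) := (Commute.refl x).mul_right cxe
  have c13 : Commute x (x * f) := (Commute.refl x).mul_right cxf
  have c23 : Commute (x * e) (x * f) :=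
    (c13).mul_left ((cxe.symm).mul_right cef)
  have e12 : x * (x * e) = z * e := by rw [← mul_assoc, hx]
  have e13 : x * (x * f) = z * f := by rw [← mul_assoc, hx]
  have e23 : (x * e) * (x * f) = z * (e * f) := by
    rw [cxe.symm.mul_mul_mul_comm, hx]
  refine ⟨x, x * e, x * f, hx, h2, h3, c12, c13, c23, ?_, ?_, ?_, ?_⟩
  · rw [e12]
    rintro (h' | h')
    · apply ne; right
      have : z * (z * e) = z * 1 := by rw [h']
      rw [h.z_mul_z_mul, mul_one] at this
      exact this
    · apply ne; left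
      have : z * e = z * 1 := by rw [h', mul_one]
      exact mul_left_cancel this
  · rw [e13]
    rintro (h' | h')
    · apply nf; right
      have : z * (z * f) = z * 1 := by rw [h']
      rw [h.z_mul_z_mul, mul_one] at this
      exact this
    · apply nf; left
      have : z * f = z * 1 := by rw [h', mul_one]
      exact mul_left_cancel this
  · rw [e23]
    rintro (h' | h')
    · apply nef; right
      have : z * (z * (e * f)) = z * 1 := by rw [h']
      rw [h.z_mul_z_mul, mul_one] at this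
      exact this
    · apply nef; left
      have : z * (e * f) = z * 1 := by rw [h', mul_one]
      exact mul_left_cancel this
  · have hw : (x * (x * e) * (x * f)) * (x * (x * e) * (x * f)) = z := by
      rw [mul_mul_self_of_commute c12 c13 c23, hx, h2, h3, h.z_sq, one_mul]
    rintro (h' | h')
    · rw [h', one_mul] at hw
      exact h.z_ne hw.symm
    · rw [h', h.z_sq] at hw
      exact h.z_ne hw.symm

theorem ES.exists_triple [Finite Q] (E : Subgroup Q) (hE : Cfsg.IsElementaryAbelian 2 E)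
    (hcard : 16 ≤ Nat.card ↥E) :
    ∃ u1 u2 u3 : Q, u1 * u1 = z ∧ u2 * u2 = z ∧ u3 * u3 = z ∧ Commute u1 u2 ∧ Commute u1 u3 ∧
      Commute u2 u3 ∧ ¬ (u1 * u2 = 1 ∨ u1 * u2 = z) ∧ ¬ (u1 * u3 = 1 ∨ u1 * u3 = z) ∧
      ¬ (u2 * u3 = 1 ∨ u2 * u3 = z) ∧ ¬ (u1 * u2 * u3 = 1 ∨ u1 * u2 * u3 = z) := by
  classical
  obtain ⟨hEc, hE2⟩ := hE
  have comm : ∀ a ∈ E, ∀ b ∈ E, Commute a b := by
    intro a ha b hb
    have h1 := hEc.is_comm.comm (⟨a, ha⟩ : ↥E) ⟨b, hb⟩
    have h2 := congrArg Subtype.val h1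
    show a * b = b * a
    simpa using h2
  have sq : ∀ a ∈ E, a * a = 1 := by
    intro a ha
    have := hE2 a ha
    rwa [pow_two] at this
  have inv_eq : ∀ a ∈ E, a⁻¹ = a := fun a ha => inv_eq_of_mul_eq_one_left (sq a ha)
  -- choose e1, e2, e3
  obtain ⟨e1, he1E, he1⟩ := exists_mem_notMem E ([1, z] : List Q).toFinset
    (lt_of_le_of_lt (List.toFinset_card_le _) (by simp only [List.length_cons, List.length_nil]; omega))
  obtain ⟨e2, he2E, he2⟩ := exists_mem_notMem E ([1, z, e1, e1 * z] : List Q).toFinset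
    (lt_of_le_of_lt (List.toFinset_card_le _) (by simp only [List.length_cons, List.length_nil]; omega))
  obtain ⟨e3, he3E, he3⟩ := exists_mem_notMem E
    ([1, z, e1, e1 * z, e2, e2 * z, e1 * e2, e1 * e2 * z] : List Q).toFinset
    (lt_of_le_of_lt (List.toFinset_card_le _) (by simp only [List.length_cons, List.length_nil]; omega))
  simp only [List.mem_toFinset, List.mem_cons, List.not_mem_nil, or_false, not_or] at he1 he2 he3
  obtain ⟨a1, a2⟩ := he1
  obtain ⟨b1, b2, b3, b4⟩ := he2
  obtain ⟨d1, d2, d3, d4, d5, d6, d7, d8⟩ := he3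
  -- helper: x * y central → y = x or y = x * z, for x ∈ E
  have key : ∀ x ∈ E, ∀ y : Q, (x * y = 1 ∨ x * y = z) → (y = x ∨ y = x * z) := by
    intro x hx y hy
    rcases hy with hy | hy
    · left
      have : y = x⁻¹ := eq_inv_of_mul_eq_one_right hy
      rw [this, inv_eq x hx]
    · right
      have : y = x⁻¹ * z := by rw [← hy, inv_mul_cancel_left]
      rw [this, inv_eq x hx]
  have n2 : ¬ (e2 = 1 ∨ e2 = z) := by rintro (h' | h'); exact b1 h'; exact b2 h'
  have n12 : ¬ (e1 * e2 = 1 ∨ e1 * e2 = z) := by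
    intro h'
    rcases key e1 he1E e2 h' with h'' | h''
    · exact b3 h''
    · exact b4 h''
  obtain ⟨c, hce1, hce2⟩ := h.exists_commute_not_commute n2 n12
  -- the element of order four
  have c12 : Commute e1 e2 := comm e1 he1E e2 he2E
  obtain ⟨x, hxx, hxe1, hxe2⟩ : ∃ x : Q, x * x = z ∧ Commute x e1 ∧ ¬ Commute x e2 := by
    rcases h.sq c with hc | hc
    · refine ⟨c * e2, ?_, hce1.mul_left c12.symm, ES.not_commute_mul_left hce2 (Commute.refl e2)⟩
      have ha := h.not_commute_iff.mp hce2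
      have e1' : e2 * c = z * (c * e2) := by rw [ha, h.z_mul_z_mul]
      calc c * e2 * (c * e2) = c * ((e2 * c) * e2) := by simp only [mul_assoc]
        _ = c * ((z * (c * e2)) * e2) := by rw [e1']
        _ = c * (z * (c * (e2 * e2))) := by simp only [mul_assoc]
        _ = c * (z * c) := by rw [sq e2 he2E, mul_one]
        _ = z * (c * c) := by rw [← mul_assoc, h.z_comm c, mul_assoc]
        _ = z := by rw [hc, mul_one]
    · exact ⟨c, hc, hce1, hce2⟩
  -- the third involution
  obtain ⟨f, hff, hxf, he1f, nf, ne1f⟩ : ∃ f : Q, f * f = 1 ∧ Commute x f ∧ Commute e1 f ∧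
      ¬ (f = 1 ∨ f = z) ∧ ¬ (e1 * f = 1 ∨ e1 * f = z) := by
    by_cases hx3 : Commute x e3
    · refine ⟨e3, sq e3 he3E, hx3, comm e1 he1E e3 he3E, ?_, ?_⟩
      · rintro (h' | h'); exact d1 h'; exact d2 h'
      · intro h'
        rcases key e1 he1E e3 h' with h'' | h''
        · exact d3 h''
        · exact d4 h''
    · have h32E : e3 * e2 ∈ E := E.mul_mem he3E he2E
      have c32 : e3 * e2 = e2 * e3 := (comm e3 he3E e2 he2E).eq
      refine ⟨e3 * e2, sq _ h32E, ?_, comm e1 he1E _ h32E, ?_, ?_⟩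
      · have s1 : ¬ Commute e3 x := fun hc => hx3 hc.symm
        have s2 : ¬ Commute e2 x := fun hc => hxe2 hc.symm
        exact (h.commute_mul_of_not_not s1 s2).symm
      · rw [c32]
        intro h'
        rcases key e2 he2E e3 h' with h'' | h''
        · exact d5 h''
        · exact d6 h''
      · rw [c32, ← mul_assoc]
        intro h'
        rcases key (e1 * e2) (E.mul_mem he1E he2E) e3 h' with h'' | h''
        · exact d7 h''
        · exact d8 h''
  have ne1 : ¬ (e1 = 1 ∨ e1 = z) := by rintro (h' | h'); exact a1 h'; exact a2 h'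
  exact h.triple_of hxx (sq e1 he1E) hff hxe1 hxf he1f ne1 nf ne1f

omit h in
/-- **S3085** (Griess): for `n ≥ 3`, `Inn Q` has no complement in `Aut Q`, `Q = 2^{1+2n}_+`. -/
theorem main [Finite Q] (n : ℕ) (hn : 3 ≤ n) (hQ : Cfsg.IsExtraspecial 2 Q)
    (hplus : ∃ E : Subgroup Q, Cfsg.IsElementaryAbelian 2 E ∧ Nat.card ↥E = 2 ^ (n + 1))
    (L : Subgroup (MulAut Q)) : ¬ (Cfsg.Inn Q).IsComplement' L := by
  obtain ⟨z, hz⟩ := exists_ES hQ
  obtain ⟨E, hE, hcard⟩ := hplus
  have h16 : 16 ≤ Nat.card ↥E := by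
    rw [hcard]
    calc 16 = 2 ^ 4 := by norm_num
      _ ≤ 2 ^ (n + 1) := Nat.pow_le_pow_right (by norm_num) (by omega)
  obtain ⟨u1, u2, u3, h1, h2, h3, c12, c13, c23, n12, n13, n23, n123⟩ := hz.exists_triple E hE h16
  exact no_complement hz u1 u2 u3 h1 h2 h3 c12 c13 c23 n12 n13 n23 n123 L

end Cfsg.Agent.Helper15.Griess
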