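import Mathlib
import Cfsg.Agent.Helper14.Conj
import Cfsg.Agent.Helper29.Schmidt

set_option autoImplicit false
set_option linter.unusedSectionVars false
set_option linter.style.haveILetI false

/-! `ℋ`-subgroups (`E^g ∩ N_G(E) ≤ E` for all `g`): basic properties.  For S3031. -/

namespace Cfsg.Agent.Helper15.HSub

open Subgroup Cfsg.Agent.Helper14

variable {G : Type*} [Group G]

/-- the `ℋ`-property of a subgroup -/
def IsH (E : Subgroup G) : Prop :=
  ∀ g : G, E.map (MulAut.conj g).toMonoidHom ⊓ normalizer (E : Set G) ≤ E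

theorem mem_normalizer_of_conj_mem [Finite G] (K : Subgroup G) (g : G)
    (h : ∀ x ∈ K, g * x * g⁻¹ ∈ K) : g ∈ normalizer (K : Set G) := by
  rw [mem_normalizer_iff_map_cj]
  have hle : K.map (cj g) ≤ K := by
    rintro _ ⟨x, hx, rfl⟩
    exact h x hx
  apply Subgroup.eq_of_le_of_card_ge hle
  rw [Subgroup.card_map_of_injective (cj_injective g)]

theorem conj_inv_mem_of_mem_normalizer {K : Subgroup G} {g : G}
    (hg : g ∈ normalizer (K : Set G)) {x : G} (hx : x ∈ K) : g⁻¹ * x * g ∈ K := by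
  have := (mem_normalizer_iff.mp (inv_mem hg) x).mp hx
  rwa [inv_inv] at this

theorem conj_mem_of_mem_normalizer {K : Subgroup G} {g : G}
    (hg : g ∈ normalizer (K : Set G)) {x : G} (hx : x ∈ K) : g * x * g⁻¹ ∈ K :=
  (mem_normalizer_iff.mp hg x).mp hx

/-- an `ℋ`-subgroup of a `p`-group `P` is normal in `P` -/
theorem le_normalizer_of_isH [Finite G] {p : ℕ} [Fact p.Prime] (P E : Subgroup G)
    (hP : IsPGroup p P) (hEP : E ≤ P) (hE : IsH E) : P ≤ normalizer (E : Set G) := by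
  by_contra hcon
  have hlt : P ⊓ normalizer (E : Set G) < P := by
    refine lt_of_le_of_ne inf_le_left ?_
    intro h
    exact hcon (h ▸ inf_le_right)
  haveI : Group.IsNilpotent P := hP.isNilpotent
  obtain ⟨g, hgP, hgN, hgn⟩ := Cfsg.Agent.Helper29.exists_mem_normalizer_not_mem
    (inferInstance : Group.IsNilpotent P) hlt
  apply hgn
  refine mem_inf.mpr ⟨hgP, ?_⟩
  apply mem_normalizer_of_conj_mem
  intro x hx
  have hx1 : x ∈ P ⊓ normalizer (E : Set G) := mem_inf.mpr ⟨hEP hx, le_normalizer hx⟩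
  have hx2 : g * x * g⁻¹ ∈ P ⊓ normalizer (E : Set G) := conj_mem_of_mem_normalizer hgN hx1
  apply hE g
  refine mem_inf.mpr ⟨⟨x, hx, rfl⟩, (mem_inf.mp hx2).2⟩

/-- an `ℋ`-subgroup normal in `P` is strongly closed in `P` -/
theorem conj_mem_of_isH {P E : Subgroup G} (hPE : P ≤ normalizer (E : Set G)) (hE : IsH E)
    {x g : G} (hx : x ∈ E) (hg : g * x * g⁻¹ ∈ P) : g * x * g⁻¹ ∈ E := by
  apply hE g
  exact mem_inf.mpr ⟨⟨x, hx, rfl⟩, hPE hg⟩

/-- `IsH` is inherited by conjugates -/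
theorem IsH.map_cj {E : Subgroup G} (hE : IsH E) (a : G) : IsH (E.map (cj a)) := by
  intro g x hx
  obtain ⟨hx1, hx2⟩ := mem_inf.mp hx
  rw [mem_map_cj]
  apply hE (a⁻¹ * g * a)
  refine mem_inf.mpr ⟨?_, ?_⟩
  · change a⁻¹ * x * a ∈ E.map (cj (a⁻¹ * g * a))
    rw [mem_map_cj]
    change x ∈ (E.map (cj a)).map (cj g) at hx1
    rw [mem_map_cj, mem_map_cj] at hx1
    have e : (a⁻¹ * g * a)⁻¹ * (a⁻¹ * x * a) * (a⁻¹ * g * a) = a⁻¹ * (g⁻¹ * x * g) * a := by group
    rw [e]; exact hx1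
  · rw [← map_cj_normalizer, mem_map_cj] at hx2
    exact hx2

end Cfsg.Agent.Helper15.HSub
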