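import Mathlib
import Cfsg.Agent.Helper15.HSub1
import Cfsg.Agent.Helper1.PGroup

set_option autoImplicit false
set_option linter.unusedSectionVars false
set_option linter.style.haveILetI false

/-! Elementary lemmas for S3031: subgroups of prescribed order, congruences modulo a subgroup,
automorphisms of cyclic `p`-groups, maximal subgroups of `p`-groups in ambient form. -/

namespace Cfsg.Agent.Helper15.HSub

open Subgroup Cfsg.Agent.Helper14

variable {G : Type*} [Group G]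

/-- subgroups of every intermediate order -/
theorem exists_between [Finite G] {p : ℕ} [Fact p.Prime] (B M : Subgroup G) (hM : IsPGroup p M)
    (hBM : B ≤ M) (d : ℕ) (h1 : Nat.card B ≤ p ^ d) (h2 : p ^ d ≤ Nat.card M) :
    ∃ E : Subgroup G, B ≤ E ∧ E ≤ M ∧ Nat.card E = p ^ d := by
  have hp := (Fact.out : p.Prime)
  obtain ⟨m, hm⟩ := IsPGroup.iff_card.mp hM
  have hB : IsPGroup p B := hM.to_le hBM
  obtain ⟨b, hb⟩ := IsPGroup.iff_card.mp hB
  have hdm : d ≤ m := by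
    rw [hm] at h2
    exact (Nat.pow_le_pow_iff_right hp.one_lt).mp h2
  have hbd : b ≤ d := by
    rw [hb] at h1
    exact (Nat.pow_le_pow_iff_right hp.one_lt).mp h1
  have hdvd : p ^ d ∣ Nat.card M := by
    rw [hm]; exact pow_dvd_pow p hdm
  have hH : Nat.card (B.subgroupOf M) = p ^ b := by
    rw [← hb]
    exact Nat.card_congr (Subgroup.subgroupOfEquivOfLe hBM).toEquiv
  obtain ⟨K, hK, hBK⟩ := Sylow.exists_subgroup_card_pow_prime_le p hdvd (B.subgroupOf M) hH hbd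
  refine ⟨K.map M.subtype, ?_, map_subtype_le K, ?_⟩
  · intro x hx
    exact ⟨⟨x, hBM hx⟩, hBK (mem_subgroupOf.mpr hx), rfl⟩
  · rw [Subgroup.card_map_of_injective M.subtype_injective, hK]

theorem eq_one_of_pow_eq_one_of_coprime {M : Type*} [Monoid M] (u : M) (a b : ℕ)
    (ha : u ^ a = 1) (hb : u ^ b = 1) (hab : Nat.Coprime a b) : u = 1 := by
  rw [← orderOf_eq_one_iff]
  exact Nat.eq_one_of_dvd_coprimes hab (orderOf_dvd_of_pow_eq_one ha) (orderOf_dvd_of_pow_eq_one hb)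

/-- powers are congruent modulo a subgroup normalized by `R` -/
theorem pow_congr (R K : Subgroup G) (hnorm : ∀ a ∈ R, ∀ z ∈ K, a * z * a⁻¹ ∈ K) {a b : G}
    (ha : a ∈ R) (hab : a⁻¹ * b ∈ K) : ∀ e : ℕ, (a ^ e)⁻¹ * b ^ e ∈ K := by
  intro e
  induction e with
  | zero => simp
  | succ e ih =>
    have h1 := hnorm a⁻¹ (R.inv_mem ha) _ ih
    rw [inv_inv] at h1
    have h2 := K.mul_mem h1 hab
    have e1 : (a ^ (e + 1))⁻¹ * b ^ (e + 1) = a⁻¹ * ((a ^ e)⁻¹ * b ^ e) * a * (a⁻¹ * b) := by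
      rw [pow_succ, pow_succ]; group
    rw [e1]; exact h2

theorem conj_pow_mem (R K : Subgroup G) (y : G) (hR : ∀ a ∈ R, y * a * y⁻¹ ∈ R)
    (hK : ∀ a ∈ R, a ∈ K → y * a * y⁻¹ ∈ K) :
    ∀ (j : ℕ) (a : G), a ∈ R → (y ^ j * a * (y ^ j)⁻¹ ∈ R ∧ (a ∈ K → y ^ j * a * (y ^ j)⁻¹ ∈ K)) := by
  intro j
  induction j with
  | zero => intro a ha; simpa using ha
  | succ j ih =>
    intro a ha
    obtain ⟨h1, h2⟩ := ih a ha
    have e : y ^ (j + 1) * a * (y ^ (j + 1))⁻¹ = y * (y ^ j * a * (y ^ j)⁻¹) * y⁻¹ := by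
      rw [pow_succ']; group
    rw [e]
    exact ⟨hR _ h1, fun haK => hK _ h1 (h2 haK)⟩

/-- the key congruence lemma: an element of order prime to `p - 1` which maps `x` into `⟨x⟩K`,
where `x ^ p ∈ K`, fixes `x` modulo `K` -/
theorem inv_mul_conj_mem {p : ℕ} [Fact p.Prime] (R K : Subgroup G) (y x : G) (hx : x ∈ R)
    (hR : ∀ a ∈ R, y * a * y⁻¹ ∈ R) (hK : ∀ a ∈ R, a ∈ K → y * a * y⁻¹ ∈ K)
    (hnorm : ∀ a ∈ R, ∀ z ∈ K, a * z * a⁻¹ ∈ K) (hxp : x ^ p ∈ K)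
    (hk : ∃ k : ℕ, (x ^ k)⁻¹ * (y * x * y⁻¹) ∈ K) (hy0 : 0 < orderOf y)
    (hcop : Nat.Coprime (orderOf y) (p - 1)) : x⁻¹ * (y * x * y⁻¹) ∈ K := by
  have hp := (Fact.out : p.Prime)
  obtain ⟨k, hk⟩ := hk
  set m := orderOf y with hm
  have hpow := conj_pow_mem R K y hR hK
  by_cases hxK : x ∈ K
  · exact K.mul_mem (K.inv_mem hxK) (hK x hx hxK)
  -- the conjugate of `x` is not in `K`
  have hback : ∀ a ∈ R, y * a * y⁻¹ ∈ K → a ∈ K := by
    intro a ha haK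
    have h1 := (hpow (m - 1) (y * a * y⁻¹) (hR a ha)).2 haK
    have e : y ^ (m - 1) * (y * a * y⁻¹) * (y ^ (m - 1))⁻¹ = y ^ (m - 1 + 1) * a * (y ^ (m - 1 + 1))⁻¹ := by
      rw [pow_succ]; group
    rw [e, Nat.sub_add_cancel hy0, hm, pow_orderOf_eq_one] at h1
    simpa using h1
  -- iterate
  have hiter : ∀ j : ℕ, (x ^ (k ^ j))⁻¹ * (y ^ j * x * (y ^ j)⁻¹) ∈ K := by
    intro j
    induction j with
    | zero => simp
    | succ j ih =>
      have hcj : y ^ j * x * (y ^ j)⁻¹ ∈ R := (hpow j x hx).1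
      have hzR : (x ^ (k ^ j))⁻¹ * (y ^ j * x * (y ^ j)⁻¹) ∈ R :=
        R.mul_mem (R.inv_mem (R.pow_mem hx _)) hcj
      have h1 := hK _ hzR ih
      have h2 := pow_congr R K hnorm (R.pow_mem hx k) hk (k ^ j)
      have h3 := K.mul_mem h2 h1
      have e : (x ^ (k ^ (j + 1)))⁻¹ * (y ^ (j + 1) * x * (y ^ (j + 1))⁻¹) =
          ((x ^ k) ^ (k ^ j))⁻¹ * (y * x * y⁻¹) ^ (k ^ j) *
            (y * ((x ^ (k ^ j))⁻¹ * (y ^ j * x * (y ^ j)⁻¹)) * y⁻¹) := by
        have e1 : (y * x * y⁻¹) ^ (k ^ j) = y * x ^ (k ^ j) * y⁻¹ := by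
          rw [conj_pow]
        rw [e1, ← pow_mul, ← pow_succ', pow_succ' y j]
        group
      rw [e]; exact h3
  have hm1 := hiter m
  rw [hm, pow_orderOf_eq_one, one_mul, inv_one, mul_one, ← hm] at hm1
  -- `p ∣ k ^ m - 1`
  have hkpos : 0 < k := by
    rcases Nat.eq_zero_or_pos k with h0 | h0
    · exfalso
      rw [h0, pow_zero, inv_one, one_mul] at hk
      exact hxK (hback x hx hk)
    · exact h0
  have hkm : 1 ≤ k ^ m := Nat.one_le_pow _ _ hkpos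
  have hx1 : x ^ (k ^ m - 1) ∈ K := by
    have h1 := K.inv_mem hm1
    have e : ((x ^ (k ^ m))⁻¹ * x)⁻¹ = x ^ (k ^ m - 1) := by
      conv_lhs => rw [← Nat.sub_add_cancel hkm, pow_succ]
      group
    rwa [e] at h1
  have hdvd : p ∣ k ^ m - 1 := by
    by_contra hnd
    have hc : Nat.Coprime (k ^ m - 1) p := ((Nat.Prime.coprime_iff_not_dvd hp).mpr hnd).symm
    obtain ⟨a, -, ha⟩ := Nat.exists_mul_mod_eq_one_of_coprime hc hp.one_lt
    apply hxK
    have h1 : x ^ ((k ^ m - 1) * a) ∈ K := by rw [pow_mul]; exact K.pow_mem hx1 a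
    have h2 : (k ^ m - 1) * a = p * ((k ^ m - 1) * a / p) + 1 := by
      have := Nat.div_add_mod ((k ^ m - 1) * a) p
      rw [ha] at this
      exact this.symm
    rw [h2, pow_succ, pow_mul] at h1
    have h3 : (x ^ p) ^ ((k ^ m - 1) * a / p) ∈ K := K.pow_mem hxp _
    have := K.mul_mem (K.inv_mem h3) h1
    simpa using this
  -- `k ≡ 1 mod p`
  have hu : ((k : ZMod p)) ^ m = 1 := by
    have h1 : ((k ^ m - 1 : ℕ) : ZMod p) = 0 := (ZMod.natCast_eq_zero_iff _ _).mpr hdvd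
    rw [Nat.cast_sub hkm, Nat.cast_pow, Nat.cast_one, sub_eq_zero] at h1
    exact h1
  have hk0 : (k : ZMod p) ≠ 0 := by
    intro h0
    rw [h0, zero_pow (Nat.pos_iff_ne_zero.mp hy0)] at hu
    exact zero_ne_one hu
  have hu2 : ((k : ZMod p)) ^ (p - 1) = 1 := ZMod.pow_card_sub_one_eq_one hk0
  have hk1 : (k : ZMod p) = 1 := eq_one_of_pow_eq_one_of_coprime _ m (p - 1) hu hu2 hcop
  have hk1' : ((k - 1 : ℕ) : ZMod p) = 0 := by
    rw [Nat.cast_sub hkpos, hk1, Nat.cast_one, sub_self]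
  obtain ⟨t, ht⟩ := (ZMod.natCast_eq_zero_iff _ _).mp hk1'
  have hxk : x⁻¹ * x ^ k ∈ K := by
    have e : x⁻¹ * x ^ k = (x ^ p) ^ t := by
      rw [← pow_mul, ← ht]
      conv_lhs => rw [← Nat.sub_add_cancel hkpos, pow_succ]
      group
    rw [e]; exact K.pow_mem hxp t
  have := K.mul_mem hxk hk
  have e : x⁻¹ * x ^ k * ((x ^ k)⁻¹ * (y * x * y⁻¹)) = x⁻¹ * (y * x * y⁻¹) := by group
  rwa [e] at this

/-- an element of order prime to `p (p - 1)` normalizing a cyclic `p`-group centralizes it -/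
theorem conj_eq_of_cyclic {p : ℕ} [Fact p.Prime] (c y : G) (s : ℕ) (hc : orderOf c = p ^ s)
    (hy : y * c * y⁻¹ ∈ zpowers c) (hy0 : 0 < orderOf y) (hcop1 : Nat.Coprime (orderOf y) p)
    (hcop2 : Nat.Coprime (orderOf y) (p - 1)) : y * c * y⁻¹ = c := by
  have hp := (Fact.out : p.Prime)
  set N := orderOf c with hN
  have hNpos : 0 < N := by rw [hc]; exact pow_pos hp.pos s
  obtain ⟨k0, hk0⟩ := mem_zpowers_iff.mp hy
  obtain ⟨k, hk⟩ : ∃ k : ℕ, c ^ k = y * c * y⁻¹ := by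
    refine ⟨(k0 % (N : ℤ)).toNat, ?_⟩
    rw [← zpow_natCast, Int.toNat_of_nonneg (Int.emod_nonneg _ (by exact_mod_cast hNpos.ne')),
      hN, zpow_mod_orderOf]
    exact hk0
  set m := orderOf y with hm
  have hiter : ∀ j : ℕ, y ^ j * c * (y ^ j)⁻¹ = c ^ (k ^ j) := by
    intro j
    induction j with
    | zero => simp
    | succ j ih =>
      have e : y ^ (j + 1) * c * (y ^ (j + 1))⁻¹ = y * (y ^ j * c * (y ^ j)⁻¹) * y⁻¹ := by
        rw [pow_succ']; group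
      rw [e, ih, ← conj_pow, ← hk, ← pow_mul, ← pow_succ']
  have h1 := hiter m
  rw [hm, pow_orderOf_eq_one, one_mul, inv_one, mul_one, ← hm] at h1
  have h2 : c ^ 1 = c ^ (k ^ m) := by rw [pow_one]; exact h1
  rw [pow_eq_pow_iff_modEq, ← hN] at h2
  have hu : ((k : ZMod N)) ^ m = 1 := by
    have := (ZMod.natCast_eq_natCast_iff _ _ _).mpr h2
    rw [Nat.cast_one, Nat.cast_pow] at this
    exact this.symm
  have hunit : IsUnit (k : ZMod N) := IsUnit.of_pow_eq_one hu (Nat.pos_iff_ne_zero.mp hy0)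
  have hkN : Nat.Coprime k N := (ZMod.isUnit_iff_coprime k N).mp hunit
  have hu2 : ((k : ZMod N)) ^ (Nat.totient N) = 1 := by
    have := (ZMod.natCast_eq_natCast_iff _ _ _).mpr (Nat.ModEq.pow_totient hkN)
    rw [Nat.cast_one, Nat.cast_pow] at this
    exact this
  have hcop : Nat.Coprime m (Nat.totient N) := by
    rw [hc]
    rcases Nat.eq_zero_or_pos s with h0 | h0
    · rw [h0, pow_zero, Nat.totient_one]; exact Nat.coprime_one_right _
    · rw [Nat.totient_prime_pow hp h0]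
      exact Nat.Coprime.mul_right (Nat.Coprime.pow_right _ hcop1) hcop2
  have hk1 : (k : ZMod N) = 1 := eq_one_of_pow_eq_one_of_coprime _ m _ hu hu2 hcop
  have hk1' : k ≡ 1 [MOD N] := by
    rw [← ZMod.natCast_eq_natCast_iff, hk1, Nat.cast_one]
  rw [← hk]
  have : c ^ k = c ^ 1 := by
    rw [pow_eq_pow_iff_modEq, ← hN]; exact hk1'
  rw [this, pow_one]

end Cfsg.Agent.Helper15.HSub
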