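import Mathlib
import Cfsg.Agent.Helper15.HSub2
import Cfsg.Agent.Lead.CoprimeFrattini

set_option autoImplicit false
set_option linter.unusedSectionVars false
set_option linter.style.haveILetI false

/-! Frattini subgroup and maximal subgroups of a `p`-subgroup, in ambient form.  For S3031. -/

namespace Cfsg.Agent.Helper15.HSub

open Subgroup Cfsg.Agent.Helper14
open scoped commutatorElement

variable {G : Type*} [Group G]

/-- the Frattini subgroup of `P`, as a subgroup of `G` -/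
def phi (P : Subgroup G) : Subgroup G := (frattini ↥P).map P.subtype

/-- `M` is a maximal subgroup of `P` -/
def IsMax (M P : Subgroup G) : Prop := ∃ M' : Subgroup ↥P, IsCoatom M' ∧ M = M'.map P.subtype

theorem phi_le (P : Subgroup G) : phi P ≤ P := map_subtype_le _

theorem IsMax.le {M P : Subgroup G} (h : IsMax M P) : M ≤ P := by
  obtain ⟨M', -, rfl⟩ := h
  exact map_subtype_le _

theorem mem_map_subtype_iff {P : Subgroup G} (M' : Subgroup ↥P) {x : G} (hx : x ∈ P) :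
    x ∈ M'.map P.subtype ↔ (⟨x, hx⟩ : ↥P) ∈ M' := by
  constructor
  · rintro ⟨u, hu, hux⟩
    have : u = ⟨x, hx⟩ := Subtype.ext hux
    rwa [← this]
  · intro h
    exact ⟨⟨x, hx⟩, h, rfl⟩

theorem mem_phi_iff {P : Subgroup G} {x : G} (hx : x ∈ P) :
    x ∈ phi P ↔ ∀ M : Subgroup G, IsMax M P → x ∈ M := by
  unfold phi
  rw [mem_map_subtype_iff _ hx, Cfsg.Agent.Helper1.mem_frattini_iff]
  constructor
  · rintro h M ⟨M', hM', rfl⟩
    rw [mem_map_subtype_iff _ hx]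
    exact h M' hM'
  · intro h M' hM'
    have := h (M'.map P.subtype) ⟨M', hM', rfl⟩
    rwa [mem_map_subtype_iff _ hx] at this

theorem phi_le_max {M P : Subgroup G} (h : IsMax M P) : phi P ≤ M := by
  intro x hx
  exact (mem_phi_iff (phi_le P hx)).mp hx M h

variable [Finite G] {p : ℕ} [Fact p.Prime]

theorem IsMax.conj_mem {M P : Subgroup G} (hP : IsPGroup p P) (h : IsMax M P) {a z : G}
    (ha : a ∈ P) (hz : z ∈ M) : a * z * a⁻¹ ∈ M := by
  obtain ⟨M', hM', rfl⟩ := h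
  haveI := Cfsg.Agent.Helper1.IsPGroup.coatom_normal hP hM'
  have hzP : z ∈ P := map_subtype_le _ hz
  rw [mem_map_subtype_iff _ hzP] at hz
  rw [mem_map_subtype_iff _ (P.mul_mem (P.mul_mem ha hzP) (P.inv_mem ha))]
  have := (inferInstance : M'.Normal).conj_mem _ hz ⟨a, ha⟩
  exact this

theorem IsMax.pow_mem {M P : Subgroup G} (hP : IsPGroup p P) (h : IsMax M P) {x : G}
    (hx : x ∈ P) : x ^ p ∈ M := by
  obtain ⟨M', hM', rfl⟩ := h
  rw [mem_map_subtype_iff _ (P.pow_mem hx p)]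
  exact Cfsg.Agent.Helper1.IsPGroup.pow_mem_coatom hP hM' ⟨x, hx⟩

theorem IsMax.card {M P : Subgroup G} (hP : IsPGroup p P) (h : IsMax M P) :
    Nat.card M * p = Nat.card P := by
  obtain ⟨M', hM', rfl⟩ := h
  rw [Subgroup.card_map_of_injective P.subtype_injective,
    ← Cfsg.Agent.Helper1.IsPGroup.coatom_index hP hM']
  exact M'.card_mul_index

theorem IsMax.exists_pow {M P : Subgroup G} (hP : IsPGroup p P) (h : IsMax M P) {x w : G}
    (hx : x ∈ P) (hxM : x ∉ M) (hw : w ∈ P) : ∃ k : ℕ, (x ^ k)⁻¹ * w ∈ M := by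
  have hp := (Fact.out : p.Prime)
  obtain ⟨M', hM', rfl⟩ := h
  haveI := Cfsg.Agent.Helper1.IsPGroup.coatom_normal hP hM'
  have hcard := Cfsg.Agent.Helper1.IsPGroup.coatom_card_quotient hP hM'
  rw [mem_map_subtype_iff _ hx] at hxM
  have hx1 : ((⟨x, hx⟩ : ↥P) : ↥P ⧸ M') ≠ 1 := by
    intro h1
    exact hxM ((QuotientGroup.eq_one_iff _).mp h1)
  have htop := zpowers_eq_top_of_prime_card hcard hx1
  have hmem : ((⟨w, hw⟩ : ↥P) : ↥P ⧸ M') ∈ zpowers ((⟨x, hx⟩ : ↥P) : ↥P ⧸ M') := by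
    rw [htop]; trivial
  obtain ⟨k0, hk0⟩ := mem_zpowers_iff.mp hmem
  set xb : ↥P ⧸ M' := ((⟨x, hx⟩ : ↥P) : ↥P ⧸ M') with hxb
  have hNpos : 0 < orderOf xb := orderOf_pos xb
  refine ⟨(k0 % (orderOf xb : ℤ)).toNat, ?_⟩
  have hk : xb ^ (k0 % (orderOf xb : ℤ)).toNat = ((⟨w, hw⟩ : ↥P) : ↥P ⧸ M') := by
    rw [← zpow_natCast, Int.toNat_of_nonneg (Int.emod_nonneg _ (by exact_mod_cast hNpos.ne')),
      zpow_mod_orderOf]
    exact hk0
  have hmemP : (x ^ (k0 % (orderOf xb : ℤ)).toNat)⁻¹ * w ∈ P :=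
    P.mul_mem (P.inv_mem (P.pow_mem hx _)) hw
  rw [mem_map_subtype_iff _ hmemP]
  have e : (⟨(x ^ (k0 % (orderOf xb : ℤ)).toNat)⁻¹ * w, hmemP⟩ : ↥P) =
      ((⟨x, hx⟩ : ↥P) ^ (k0 % (orderOf xb : ℤ)).toNat)⁻¹ * ⟨w, hw⟩ := by
    apply Subtype.ext
    simp
  rw [e, ← QuotientGroup.eq, QuotientGroup.mk_pow]
  exact hk

theorem pow_mem_phi {P : Subgroup G} (hP : IsPGroup p P) {x : G} (hx : x ∈ P) :
    x ^ p ∈ phi P :=
  (mem_phi_iff (P.pow_mem hx p)).mpr fun _ hM => hM.pow_mem hP hx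

theorem phi_conj_mem {P : Subgroup G} (hP : IsPGroup p P) {a z : G} (ha : a ∈ P)
    (hz : z ∈ phi P) : a * z * a⁻¹ ∈ phi P := by
  have hzP := phi_le P hz
  rw [mem_phi_iff (P.mul_mem (P.mul_mem ha hzP) (P.inv_mem ha))]
  intro M hM
  exact hM.conj_mem hP ha (phi_le_max hM hz)

theorem inv_mul_conj_mem_phi {P : Subgroup G} (hP : IsPGroup p P) {a x : G} (ha : a ∈ P)
    (hx : x ∈ P) : x⁻¹ * (a * x * a⁻¹) ∈ phi P := by
  have hmem : x⁻¹ * (a * x * a⁻¹) ∈ P :=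
    P.mul_mem (P.inv_mem hx) (P.mul_mem (P.mul_mem ha hx) (P.inv_mem ha))
  rw [mem_phi_iff hmem]
  rintro M ⟨M', hM', rfl⟩
  rw [mem_map_subtype_iff _ hmem]
  have h1 := Cfsg.Agent.Helper1.IsPGroup.commutator_le_coatom hP hM'
  apply h1
  have e : (⟨x⁻¹ * (a * x * a⁻¹), hmem⟩ : ↥P) = ⁅(⟨x, hx⟩ : ↥P)⁻¹, ⟨a, ha⟩⁆ := by
    apply Subtype.ext
    rw [commutatorElement_def]
    simp
    group
  rw [e]
  exact Subgroup.commutator_mem_commutator (Subgroup.mem_top _) (Subgroup.mem_top _)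

theorem conj_mem_phi_of_mem_normalizer {P : Subgroup G} {y z : G}
    (hy : y ∈ normalizer (P : Set G)) (hz : z ∈ phi P) : y * z * y⁻¹ ∈ phi P := by
  have h := Cfsg.Agent.Lead.normalizer_le_normalizer_map_of_characteristic P (frattini ↥P) hy
  exact conj_mem_of_mem_normalizer h hz

end Cfsg.Agent.Helper15.HSub
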