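import Mathlib
import Cfsg.Agent.Helper15.HSub3
import Cfsg.Agent.Helper15.OmegaFus

set_option autoImplicit false
set_option linter.unusedSectionVars false
set_option linter.style.haveILetI false

/-! The key lemma for S3031: a `p'`-element (order prime to `p (p - 1)`) normalizing a `p`-group
`R` all of whose subgroups of a fixed intermediate order are invariant centralizes `R`. -/

namespace Cfsg.Agent.Helper15.HSub

open Subgroup Cfsg.Agent.Helper14

variable {G : Type*} [Group G]

/-- the members of the family: order `p ^ d`, or `4` if `p ^ d = 2` -/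
def Fam (p d : ℕ) (E : Subgroup G) : Prop :=
  Nat.card E = p ^ d ∨ (p ^ d = 2 ∧ Nat.card E = 4)

/-- `y` leaves invariant all members of the family inside `R` -/
def Inv (p d : ℕ) (y : G) (R : Subgroup G) : Prop :=
  ∀ E : Subgroup G, E ≤ R → Fam p d E → ∀ x ∈ E, y * x * y⁻¹ ∈ E

/-- elements lying in a member of the family -/
def Small (p d : ℕ) (x : G) : Prop :=
  orderOf x ≤ p ^ d ∨ (p ^ d = 2 ∧ orderOf x = 4)

variable [Finite G] {p : ℕ} [Fact p.Prime]

theorem card_lt_of_lt'' {H K : Subgroup G} (h : H < K) : Nat.card H < Nat.card K := by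
  by_contra hcon
  push Not at hcon
  exact h.ne (Subgroup.eq_of_le_of_card_ge h.le hcon)

theorem orderOf_le_card {R : Subgroup G} {x : G} (hx : x ∈ R) : orderOf x ≤ Nat.card R := by
  rw [← Nat.card_zpowers]
  exact Subgroup.card_le_of_le (zpowers_le.mpr hx)

/-- small elements of a large enough `M ≤ R` are mapped into `M` -/
theorem Inv.conj_mem {d : ℕ} {y : G} {R : Subgroup G} (hinv : Inv p d y R) (hR : IsPGroup p R)
    {M : Subgroup G} (hMR : M ≤ R) (hM : p ^ d ≤ Nat.card M) {x : G} (hx : x ∈ M)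
    (hs : Small p d x) : y * x * y⁻¹ ∈ M := by
  rcases hs with hs | ⟨h2, h4⟩
  · obtain ⟨E, hBE, hEM, hE⟩ := exists_between (zpowers x) M (hR.to_le hMR) (zpowers_le.mpr hx) d
      (by rw [Nat.card_zpowers]; exact hs) hM
    exact hEM (hinv E (hEM.trans hMR) (Or.inl hE) x (hBE (mem_zpowers x)))
  · have := hinv (zpowers x) (zpowers_le.mpr (hMR hx)) (Or.inr ⟨h2, by rw [Nat.card_zpowers]; exact h4⟩)
      x (mem_zpowers x)
    exact (zpowers_le.mpr hx) this

/-- a maximal subgroup of a `p`-group of order `> p ^ d` has order `≥ p ^ d` -/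
theorem IsMax.le_card {M P : Subgroup G} (hP : IsPGroup p P) (h : IsMax M P) {d : ℕ}
    (hd : p ^ d < Nat.card P) : p ^ d ≤ Nat.card M := by
  have hp := (Fact.out : p.Prime)
  obtain ⟨j, hj⟩ := IsPGroup.iff_card.mp (hP.to_le h.le)
  have hc := h.card hP
  rw [hj, ← pow_succ] at hc
  rw [← hc] at hd
  have := (Nat.pow_lt_pow_iff_right hp.one_lt).mp hd
  rw [hj]
  exact Nat.pow_le_pow_right hp.pos (by omega)

/-- trivial action on the Frattini quotient implies trivial action -/
theorem centralizes_of_triv_phi {R : Subgroup G} (hR : IsPGroup p R) {y : G}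
    (hyR : y ∈ normalizer (R : Set G)) (hy1 : Nat.Coprime (orderOf y) p)
    (h : ∀ x ∈ R, x⁻¹ * (y * x * y⁻¹) ∈ phi R) : y ∈ centralizer (R : Set G) := by
  have hp := (Fact.out : p.Prime)
  -- the subgroup of elements acting trivially modulo `phi R`
  let T : Subgroup G :=
    { carrier := {a | a ∈ normalizer (R : Set G) ∧ ∀ x ∈ R, x⁻¹ * (a * x * a⁻¹) ∈ phi R}
      one_mem' := ⟨one_mem _, fun x _ => by simp⟩
      mul_mem' := by
        rintro a b ⟨haN, ha⟩ ⟨hbN, hb⟩
        refine ⟨mul_mem haN hbN, fun x hx => ?_⟩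
        have hbx : b * x * b⁻¹ ∈ R := conj_mem_of_mem_normalizer hbN hx
        have := (phi R).mul_mem (hb x hx) (ha _ hbx)
        have e : x⁻¹ * (b * x * b⁻¹) * ((b * x * b⁻¹)⁻¹ * (a * (b * x * b⁻¹) * a⁻¹)) =
            x⁻¹ * (a * b * x * (a * b)⁻¹) := by group
        rwa [e] at this
      inv_mem' := by
        rintro a ⟨haN, ha⟩
        refine ⟨inv_mem haN, fun x hx => ?_⟩
        have hax : a⁻¹ * x * a ∈ R := conj_inv_mem_of_mem_normalizer haN hx
        have := (phi R).inv_mem (ha _ hax)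
        have e : ((a⁻¹ * x * a)⁻¹ * (a * (a⁻¹ * x * a) * a⁻¹))⁻¹ = x⁻¹ * (a⁻¹ * x * a⁻¹⁻¹) := by
          group
        rwa [e] at this }
  have hyT : y ∈ T := ⟨hyR, h⟩
  have hzT : zpowers y ≤ T := zpowers_le.mpr hyT
  have hcen := Cfsg.Agent.Lead.centralizes_of_trivial_on_frattini_quotient (zpowers y) R
    (fun a ha => (hzT ha).1) ?_ ?_
  · exact hcen (mem_zpowers y)
  · rw [Nat.card_zpowers]
    obtain ⟨k, hk⟩ := IsPGroup.iff_card.mp (hR.to_subgroup (frattini ↥R))
    rw [hk]
    exact Nat.Coprime.pow_right k hy1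
  · intro a ha x hx
    have h1 := (hzT ha).2 x hx
    have h2 := phi_conj_mem hR hx h1
    have e : x * (x⁻¹ * (a * x * a⁻¹)) * x⁻¹ = a * x * a⁻¹ * x⁻¹ := by group
    rw [e] at h2
    exact h2

theorem orderOf_eq_pow_of_mem {R : Subgroup G} (hR : IsPGroup p R) {x : G} (hx : x ∈ R) :
    ∃ k : ℕ, orderOf x = p ^ k := by
  obtain ⟨k, hk⟩ := (IsPGroup.iff_orderOf.mp hR) ⟨x, hx⟩
  exact ⟨k, by rw [← hk, Subgroup.orderOf_mk]⟩

/-- elements of exponent `p` (or `4`) are small -/
theorem small_of_exp {d : ℕ} (hd : 1 ≤ d) {x : G} (h : x ^ p = 1 ∨ (p = 2 ∧ x ^ 4 = 1)) :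
    Small p d x := by
  have hp := (Fact.out : p.Prime)
  have hpd : p ≤ p ^ d := by
    calc p = p ^ 1 := (pow_one p).symm
      _ ≤ p ^ d := Nat.pow_le_pow_right hp.pos hd
  rcases h with h | ⟨h2, h4⟩
  · left
    exact (Nat.le_of_dvd hp.pos (orderOf_dvd_of_pow_eq_one h)).trans hpd
  · have hdvd : orderOf x ∣ 2 ^ 2 := orderOf_dvd_of_pow_eq_one (by norm_num; exact h4)
    obtain ⟨j, hj, hoj⟩ := (Nat.dvd_prime_pow Nat.prime_two).mp hdvd
    by_cases h4d : 4 ≤ p ^ d
    · left
      refine le_trans ?_ h4d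
      rw [hoj]
      calc 2 ^ j ≤ 2 ^ 2 := Nat.pow_le_pow_right (by norm_num) hj
        _ = 4 := by norm_num
    · push Not at h4d
      have hd1 : d = 1 := by
        by_contra hne
        have h2d : 2 ≤ d := by omega
        have : 2 ^ 2 ≤ p ^ d := by rw [h2]; exact Nat.pow_le_pow_right (by norm_num) h2d
        omega
      have hpd2 : p ^ d = 2 := by rw [hd1, h2]; norm_num
      interval_cases j
      · left; rw [hoj]; omega
      · left; rw [hoj, hpd2]; norm_num
      · right; exact ⟨hpd2, by rw [hoj]; norm_num⟩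

/-- **The key lemma.** -/
theorem star (d : ℕ) (hd : 1 ≤ d) (y : G) (hy1 : Nat.Coprime (orderOf y) p)
    (hy2 : Nat.Coprime (orderOf y) (p - 1)) :
    ∀ (n : ℕ) (R : Subgroup G), Nat.card R = n → IsPGroup p R → y ∈ normalizer (R : Set G) →
      p ^ d < Nat.card R → Inv p d y R → y ∈ centralizer (R : Set G) := by
  have hp := (Fact.out : p.Prime)
  have hy0 : 0 < orderOf y := orderOf_pos y
  intro n
  induction n using Nat.strong_induction_on with
  | _ n ih =>
  intro R hn hR hyR hlt hinv
  by_contra hna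
  have hRy : ∀ a ∈ R, y * a * y⁻¹ ∈ R := fun a ha => conj_mem_of_mem_normalizer hyR ha
  have hyF : ∀ z ∈ phi R, y * z * y⁻¹ ∈ phi R := fun z hz => conj_mem_phi_of_mem_normalizer hyR hz
  by_cases hcase : ∀ x ∈ R, orderOf x ≤ p ^ d
  · -- all elements small: all maximal subgroups are invariant
    apply hna
    apply centralizes_of_triv_phi hR hyR hy1
    intro x hx
    have hmem : x⁻¹ * (y * x * y⁻¹) ∈ R := R.mul_mem (R.inv_mem hx) (hRy x hx)
    rw [mem_phi_iff hmem]
    intro M hM
    have hMc : p ^ d ≤ Nat.card M := hM.le_card hR hlt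
    have hK : ∀ a ∈ R, a ∈ M → y * a * y⁻¹ ∈ M := fun a ha haM =>
      hinv.conj_mem hR hM.le hMc haM (Or.inl (hcase a ha))
    apply inv_mul_conj_mem (p := p) R M y x hx hRy hK (fun a ha z hz => hM.conj_mem hR ha hz)
      (hM.pow_mem hR hx) ?_ hy0 hy2
    by_cases hxM : x ∈ M
    · exact ⟨0, by simpa using hK x hx hxM⟩
    · exact hM.exists_pow hR hx hxM (hRy x hx)
  · push Not at hcase
    obtain ⟨x₀, hx₀, hx₀d⟩ := hcase
    -- `phi R` is large
    obtain ⟨j, hj⟩ := orderOf_eq_pow_of_mem hR hx₀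
    have hjd : d < j := by
      rw [hj] at hx₀d
      exact (Nat.pow_lt_pow_iff_right hp.one_lt).mp hx₀d
    have hx₀p : x₀ ^ p ∈ phi R := pow_mem_phi hR hx₀
    have hox₀p : orderOf (x₀ ^ p) = p ^ (j - 1) := by
      rw [orderOf_pow' x₀ hp.ne_zero, hj, Nat.gcd_eq_right (dvd_pow_self p (by omega))]
      conv_lhs => rw [← Nat.sub_add_cancel (show 1 ≤ j by omega), pow_succ]
      exact Nat.mul_div_cancel _ hp.pos
    have hox₀p' : p ^ d ≤ orderOf (x₀ ^ p) := by
      rw [hox₀p]; exact Nat.pow_le_pow_right hp.pos (by omega)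
    have hFc : p ^ d ≤ Nat.card (phi R) := hox₀p'.trans (orderOf_le_card hx₀p)
    -- small elements are fixed modulo `phi R`
    have hclaim : ∀ x ∈ R, Small p d x → x⁻¹ * (y * x * y⁻¹) ∈ phi R := by
      intro x hx hs
      by_cases hxF : x ∈ phi R
      · exact (phi R).mul_mem ((phi R).inv_mem hxF) (hyF x hxF)
      let B : Subgroup G :=
        { carrier := {w | w ∈ R ∧ ∃ k : ℤ, (x ^ k)⁻¹ * w ∈ phi R}
          one_mem' := ⟨one_mem _, 0, by simp⟩
          mul_mem' := by
            rintro w1 w2 ⟨hw1, a, ha⟩ ⟨hw2, b, hb⟩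
            refine ⟨mul_mem hw1 hw2, a + b, ?_⟩
            have h1 := phi_conj_mem hR (R.inv_mem (R.zpow_mem hx b)) ha
            have := (phi R).mul_mem h1 hb
            have e : (x ^ b)⁻¹ * ((x ^ a)⁻¹ * w1) * (x ^ b)⁻¹⁻¹ * ((x ^ b)⁻¹ * w2) =
                (x ^ (a + b))⁻¹ * (w1 * w2) := by
              rw [zpow_add]; group
            rwa [e] at this
          inv_mem' := by
            rintro w ⟨hw, a, ha⟩
            refine ⟨inv_mem hw, -a, ?_⟩
            have h1 := phi_conj_mem hR hw ((phi R).inv_mem ha)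
            have e : w * ((x ^ a)⁻¹ * w)⁻¹ * w⁻¹ = (x ^ (-a))⁻¹ * w⁻¹ := by
              rw [zpow_neg]; group
            rwa [e] at h1 }
      have hBR : B ≤ R := fun w hw => hw.1
      have hFB : phi R ≤ B := fun w hw => ⟨phi_le R hw, 0, by simpa using hw⟩
      have hxB : x ∈ B := ⟨hx, 1, by simp⟩
      have hBc : p ^ d ≤ Nat.card B := hFc.trans (Subgroup.card_le_of_le hFB)
      obtain ⟨-, k0, hk0⟩ := hinv.conj_mem hR hBR hBc hxB hs
      apply inv_mul_conj_mem (p := p) R (phi R) y x hx hRy (fun a _ haF => hyF a haF)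
        (fun a ha z hz => phi_conj_mem hR ha hz) (pow_mem_phi hR hx) ?_ hy0 hy2
      have hNpos : 0 < orderOf x := orderOf_pos x
      refine ⟨(k0 % (orderOf x : ℤ)).toNat, ?_⟩
      rw [← zpow_natCast, Int.toNat_of_nonneg (Int.emod_nonneg _ (by exact_mod_cast hNpos.ne')),
        zpow_mod_orderOf]
      exact hk0
    -- the subgroup of elements fixed modulo `phi R`
    let A : Subgroup G :=
      { carrier := {x | x ∈ R ∧ x⁻¹ * (y * x * y⁻¹) ∈ phi R}
        one_mem' := ⟨one_mem _, by simp⟩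
        mul_mem' := by
          rintro a b ⟨haR, ha⟩ ⟨hbR, hb⟩
          refine ⟨mul_mem haR hbR, ?_⟩
          have h1 := phi_conj_mem hR (R.inv_mem hbR) ha
          have := (phi R).mul_mem h1 hb
          have e : b⁻¹ * (a⁻¹ * (y * a * y⁻¹)) * b⁻¹⁻¹ * (b⁻¹ * (y * b * y⁻¹)) =
              (a * b)⁻¹ * (y * (a * b) * y⁻¹) := by group
          rwa [e] at this
        inv_mem' := by
          rintro a ⟨haR, ha⟩
          refine ⟨inv_mem haR, ?_⟩
          have h1 := phi_conj_mem hR haR ((phi R).inv_mem ha)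
          have e : a * (a⁻¹ * (y * a * y⁻¹))⁻¹ * a⁻¹ = a⁻¹⁻¹ * (y * a⁻¹ * y⁻¹) := by group
          rwa [e] at h1 }
    have hAR : A ≤ R := fun w hw => hw.1
    have hFA : phi R ≤ A := fun w hw =>
      ⟨phi_le R hw, (phi R).mul_mem ((phi R).inv_mem hw) (hyF w hw)⟩
    have hyA : y ∈ normalizer (A : Set G) := by
      apply mem_normalizer_of_conj_mem
      rintro a ⟨haR, ha⟩
      refine ⟨hRy a haR, ?_⟩
      have := hyF _ ha
      have e : y * (a⁻¹ * (y * a * y⁻¹)) * y⁻¹ = (y * a * y⁻¹)⁻¹ * (y * (y * a * y⁻¹) * y⁻¹) := by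
        group
      rwa [e] at this
    -- a minimal subgroup not centralized by `y`
    have hex : ∃ m : ℕ, ∃ Q : Subgroup G, Q ≤ R ∧ y ∈ normalizer (Q : Set G) ∧
        y ∉ centralizer (Q : Set G) ∧ Nat.card Q = m := ⟨_, R, le_rfl, hyR, hna, rfl⟩
    classical
    obtain ⟨Q, hQR, hyQ, hnaQ, hQm⟩ := Nat.find_spec hex
    have hQmin : ∀ H : Subgroup G, H < Q → y ∈ normalizer (H : Set G) →
        y ∈ centralizer (H : Set G) := by
      intro H hH hyH
      by_contra hnaH
      have hlt' : Nat.card H < Nat.find hex := by rw [← hQm]; exact card_lt_of_lt'' hH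
      exact Nat.find_min hex hlt' ⟨H, hH.le.trans hQR, hyH, hnaH, rfl⟩
    have hQp : IsPGroup p Q := hR.to_le hQR
    have hexp := Cfsg.Agent.Helper15.exponent_of_minimal_noncentralized Q hQp y hyQ hy1 hQmin hnaQ
    have hsmallQ : ∀ x ∈ Q, Small p d x := fun x hx => small_of_exp hd (hexp x hx)
    by_cases hQeq : Q = R
    · -- every element lies in a proper invariant subgroup
      apply hnaQ
      rw [mem_centralizer_iff]
      intro x hx
      have hxR : x ∈ R := hQR hx
      rcases hsmallQ x hx with hs | ⟨h2, h4⟩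
      · obtain ⟨E, hBE, hER, hE⟩ := exists_between (zpowers x) R hR (zpowers_le.mpr hxR) d
          (by rw [Nat.card_zpowers]; exact hs) hlt.le
        have hEQ : E < Q := by
          rw [hQeq]
          refine lt_of_le_of_ne hER ?_
          intro h
          rw [h] at hE
          omega
        have hyE : y ∈ normalizer (E : Set G) :=
          mem_normalizer_of_conj_mem E y (hinv E hER (Or.inl hE))
        have := hQmin E hEQ hyE
        exact mem_centralizer_iff.mp this x (hBE (mem_zpowers x))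
      · have h1 := hinv (zpowers x) (zpowers_le.mpr hxR)
          (Or.inr ⟨h2, by rw [Nat.card_zpowers]; exact h4⟩) x (mem_zpowers x)
        have hp2 : p = 2 := by
          have : p ∣ 2 := by
            rw [← h2]; exact dvd_pow_self p (by omega)
          exact (Nat.prime_dvd_prime_iff_eq hp Nat.prime_two).mp this
        have := conj_eq_of_cyclic (p := p) x y 2 (by rw [h4, hp2]; norm_num) h1 hy0 hy1 hy2
        calc x * y = (y * x * y⁻¹) * y := by rw [this]
          _ = y * x := by group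
    by_cases hQbig : p ^ d < Nat.card Q
    · -- induction
      apply hnaQ
      have hQlt : Nat.card Q < n := by
        rw [← hn]
        exact card_lt_of_lt'' (lt_of_le_of_ne hQR hQeq)
      exact ih _ hQlt Q rfl hQp hyQ hQbig (fun E hEQ hE => hinv E (hEQ.trans hQR) hE)
    · push Not at hQbig
      have hQA : Q ≤ A := fun x hx => ⟨hQR hx, hclaim x (hQR hx) (hsmallQ x hx)⟩
      by_cases hAeq : A = R
      · apply hna
        apply centralizes_of_triv_phi hR hyR hy1
        intro x hx
        have : x ∈ A := by rw [hAeq]; exact hx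
        exact this.2
      have hAlt : Nat.card A < n := by
        rw [← hn]
        exact card_lt_of_lt'' (lt_of_le_of_ne hAR hAeq)
      by_cases hAbig : p ^ d < Nat.card A
      · apply hnaQ
        have := ih _ hAlt A rfl (hR.to_le hAR) hyA hAbig (fun E hEA hE => hinv E (hEA.trans hAR) hE)
        exact centralizer_le (show (Q : Set G) ⊆ A from hQA) this
      · push Not at hAbig
        -- `A = phi R` is cyclic
        have hFA' : phi R = A :=
          Subgroup.eq_of_le_of_card_ge hFA (hAbig.trans hFc)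
        have hZF : zpowers (x₀ ^ p) = phi R := by
          apply Subgroup.eq_of_le_of_card_ge (zpowers_le.mpr hx₀p)
          rw [Nat.card_zpowers, hFA']
          exact hAbig.trans hox₀p'
        have h1 : y * (x₀ ^ p) * y⁻¹ ∈ zpowers (x₀ ^ p) := by
          rw [hZF]; exact hyF _ hx₀p
        have h2 := conj_eq_of_cyclic (p := p) (x₀ ^ p) y (j - 1) hox₀p h1 hy0 hy1 hy2
        apply hnaQ
        have hyc : y ∈ centralizer ((zpowers (x₀ ^ p) : Subgroup G) : Set G) := by
          rw [mem_centralizer_iff]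
          intro w hw
          obtain ⟨k, rfl⟩ := mem_zpowers_iff.mp hw
          have hc : Commute y (x₀ ^ p) := by
            have : y * x₀ ^ p = x₀ ^ p * y := by
              calc y * x₀ ^ p = (y * x₀ ^ p * y⁻¹) * y := by group
                _ = x₀ ^ p * y := by rw [h2]
            exact this
          exact ((hc.zpow_right k).eq).symm
        rw [hZF, hFA'] at hyc
        exact centralizer_le (show (Q : Set G) ⊆ A from hQA) hyc

end Cfsg.Agent.Helper15.HSub
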