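import Mathlib
import Cfsg.Agent.Helper15.HSub4
import Cfsg.Agent.S4250
import Cfsg.Agent.Helper9.Focal
import Cfsg.Agent.Helper9.TateNormal
import Cfsg.Agent.Helper9.Burnside
import Cfsg.Agent.Helper10.NPCentral

set_option autoImplicit false
set_option linter.unusedSectionVars false
set_option linter.style.haveILetI false

/-! S3031: `p`-nilpotency from `ℋ`-subgroups of a fixed order (Sylow `p`, `p` the smallest prime). -/

namespace Cfsg.Agent.Helper15.HSub

open Subgroup Cfsg.Agent.Helper14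
open scoped commutatorElement

variable {G : Type*} [Group G] [Finite G] {p : ℕ} [Fact p.Prime]

/-- the local lemma: `p'`-elements of `N_G(R)`, `R ≤ P`, act trivially on `R` modulo `Φ(P)` -/
theorem local_phi (P : Subgroup G) (hP : IsPGroup p P) (d : ℕ) (hd : 1 ≤ d)
    (hdP : p ^ d < Nat.card P) (hfam : ∀ E : Subgroup G, E ≤ P → Fam p d E → IsH E)
    (R : Subgroup G) (hRP : R ≤ P) (y : G) (hyR : y ∈ normalizer (R : Set G))
    (hy1 : Nat.Coprime (orderOf y) p) (hy2 : Nat.Coprime (orderOf y) (p - 1)) :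
    ∀ x ∈ R, x⁻¹ * (y * x * y⁻¹) ∈ phi P := by
  have hp := (Fact.out : p.Prime)
  have hy0 : 0 < orderOf y := orderOf_pos y
  have hRy : ∀ a ∈ R, y * a * y⁻¹ ∈ R := fun a ha => conj_mem_of_mem_normalizer hyR ha
  have hfact : ∀ E : Subgroup G, E ≤ P → Fam p d E → ∀ x ∈ E, x ∈ R → y * x * y⁻¹ ∈ E := by
    intro E hEP hE x hx hxR
    exact conj_mem_of_isH (le_normalizer_of_isH P E hP hEP (hfam E hEP hE)) (hfam E hEP hE) hx
      (hRP (hRy x hxR))
  have hinv : Inv p d y R := fun E hER hE x hx => hfact E (hER.trans hRP) hE x hx (hER hx)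
  have hRp : IsPGroup p R := hP.to_le hRP
  by_cases hbig : p ^ d < Nat.card R
  · have hc := star d hd y hy1 hy2 _ R rfl hRp hyR hbig hinv
    intro x hx
    have : y * x = x * y := (mem_centralizer_iff.mp hc x hx).symm
    have e : x⁻¹ * (y * x * y⁻¹) = 1 := by rw [this]; group
    rw [e]; exact one_mem _
  · push Not at hbig
    intro x hx
    have hmem : x⁻¹ * (y * x * y⁻¹) ∈ P := P.mul_mem (P.inv_mem (hRP hx)) (hRP (hRy x hx))
    rw [mem_phi_iff hmem]
    intro M hM
    have hMc : p ^ d ≤ Nat.card M := hM.le_card hP hdP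
    have hK : ∀ a ∈ R, a ∈ M → y * a * y⁻¹ ∈ M := by
      intro a ha haM
      obtain ⟨E, hBE, hEM, hE⟩ := exists_between (zpowers a) M (hP.to_le hM.le)
        (zpowers_le.mpr haM) d (by rw [Nat.card_zpowers]; exact (orderOf_le_card ha).trans hbig) hMc
      exact hEM (hfact E (hEM.trans hM.le) (Or.inl hE) a (hBE (mem_zpowers a)) ha)
    apply inv_mul_conj_mem (p := p) R M y x hx hRy hK
      (fun a ha z hz => hM.conj_mem hP (hRP ha) hz) (hM.pow_mem hP (hRP hx)) ?_ hy0 hy2
    by_cases hxM : x ∈ M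
    · exact ⟨0, by simpa using hK x hx hxM⟩
    · exact hM.exists_pow hP (hRP hx) hxM (hRP (hRy x hx))

/-- a subgroup containing a Sylow `p`-subgroup of `N` and all its `p'`-elements contains `N` -/
theorem le_of_sylow_of_coprime (N S N0 : Subgroup G) (_hSN : S ≤ N) (hS : IsPGroup p S)
    (hidx : ¬ p ∣ S.relIndex N) (hS0 : S ≤ N0)
    (h0 : ∀ g ∈ N, Nat.Coprime (orderOf g) p → g ∈ N0) : N ≤ N0 := by
  have hSp : IsPGroup p (S.subgroupOf N) := hS.comap_subtype
  let S' : Sylow p ↥N := hSp.toSylow hidx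
  have hsup := Cfsg.Agent.Helper9.sylow_sup_pResidual S'
  have h1 : (S' : Subgroup ↥N) ≤ N0.subgroupOf N := by
    intro u hu
    have hu' : u ∈ S.subgroupOf N := hu
    rw [mem_subgroupOf] at hu' ⊢
    exact hS0 hu'
  have h2 : Cfsg.pResidual p ↥N ≤ N0.subgroupOf N := by
    unfold Cfsg.pResidual
    rw [closure_le]
    intro g hg
    change Nat.Coprime (orderOf g) p at hg
    rw [SetLike.mem_coe, mem_subgroupOf]
    apply h0 _ g.2
    rwa [Subgroup.orderOf_coe]
  have h3 : N0.subgroupOf N = ⊤ := by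
    rw [eq_top_iff, ← hsup]
    exact sup_le h1 h2
  rw [subgroupOf_eq_top] at h3
  exact h3

/-- all of `N_G(T)` acts trivially on `T` modulo `Φ(P)`, for `T ≤ P` extremal -/
theorem normalizer_triv (P : Sylow p G) (d : ℕ) (hd : 1 ≤ d)
    (hdP : p ^ d < Nat.card (P : Subgroup G))
    (hfam : ∀ E : Subgroup G, E ≤ (P : Subgroup G) → Fam p d E → IsH E)
    (hq : ∀ y : G, Nat.Coprime (orderOf y) p → Nat.Coprime (orderOf y) (p - 1))
    (T : Subgroup G) (hTP : T ≤ (P : Subgroup G))
    (hext : ¬ p ∣ ((P : Subgroup G) ⊓ normalizer (T : Set G)).relIndex (normalizer (T : Set G))) :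
    ∀ c ∈ normalizer (T : Set G), ∀ a ∈ T, a⁻¹ * (c * a * c⁻¹) ∈ phi (P : Subgroup G) := by
  have hP : IsPGroup p (P : Subgroup G) := P.isPGroup'
  let N0 : Subgroup G :=
    { carrier := {c | c ∈ normalizer (T : Set G) ∧
        ∀ a ∈ T, a⁻¹ * (c * a * c⁻¹) ∈ phi (P : Subgroup G)}
      one_mem' := ⟨one_mem _, fun x _ => by simp⟩
      mul_mem' := by
        rintro a b ⟨haN, ha⟩ ⟨hbN, hb⟩
        refine ⟨mul_mem haN hbN, fun x hx => ?_⟩
        have hbx : b * x * b⁻¹ ∈ T := conj_mem_of_mem_normalizer hbN hx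
        have := (phi (P : Subgroup G)).mul_mem (hb x hx) (ha _ hbx)
        have e : x⁻¹ * (b * x * b⁻¹) * ((b * x * b⁻¹)⁻¹ * (a * (b * x * b⁻¹) * a⁻¹)) =
            x⁻¹ * (a * b * x * (a * b)⁻¹) := by group
        rwa [e] at this
      inv_mem' := by
        rintro a ⟨haN, ha⟩
        refine ⟨inv_mem haN, fun x hx => ?_⟩
        have hax : a⁻¹ * x * a ∈ T := conj_inv_mem_of_mem_normalizer haN hx
        have := (phi (P : Subgroup G)).inv_mem (ha _ hax)
        have e : ((a⁻¹ * x * a)⁻¹ * (a * (a⁻¹ * x * a) * a⁻¹))⁻¹ = x⁻¹ * (a⁻¹ * x * a⁻¹⁻¹) := by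
          group
        rwa [e] at this }
  have hle : normalizer (T : Set G) ≤ N0 := by
    apply le_of_sylow_of_coprime (p := p) (normalizer (T : Set G))
      ((P : Subgroup G) ⊓ normalizer (T : Set G)) N0 inf_le_right (hP.to_le inf_le_left) hext
    · intro u hu
      obtain ⟨huP, huN⟩ := mem_inf.mp hu
      exact ⟨huN, fun a ha => inv_mul_conj_mem_phi hP huP (hTP ha)⟩
    · intro g hgN hg
      exact ⟨hgN, local_phi (P : Subgroup G) hP d hd hdP hfam T hTP g hgN hg (hq g hg)⟩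
  intro c hc
  exact (hle hc).2

/-- the focal subgroup lies in the Frattini subgroup -/
theorem commutator_inf_le_phi (P : Sylow p G) (d : ℕ) (hd : 1 ≤ d)
    (hdP : p ^ d < Nat.card (P : Subgroup G))
    (hfam : ∀ E : Subgroup G, E ≤ (P : Subgroup G) → Fam p d E → IsH E)
    (hq : ∀ y : G, Nat.Coprime (orderOf y) p → Nat.Coprime (orderOf y) (p - 1)) :
    (P : Subgroup G) ⊓ commutator G ≤ phi (P : Subgroup G) := by
  have key := normalizer_triv P d hd hdP hfam hq
  have hcomm : ∀ (T : Subgroup G), T ≤ (P : Subgroup G) →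
      ¬ p ∣ ((P : Subgroup G) ⊓ normalizer (T : Set G)).relIndex (normalizer (T : Set G)) →
      ∀ a ∈ T, ∀ c ∈ normalizer (T : Set G), ⁅a, c⁆ ∈ phi (P : Subgroup G) := by
    intro T hTP hext a ha c hc
    have := key T hTP hext c hc a⁻¹ (T.inv_mem ha)
    have e : a⁻¹⁻¹ * (c * a⁻¹ * c⁻¹) = ⁅a, c⁆ := by
      rw [commutatorElement_def]; group
    rwa [e] at this
  rw [Cfsg.Agent.S4250.result p P]
  refine sup_le ?_ ?_
  · rw [Subgroup.commutator_le]
    intro a ha c hc
    exact hcomm (P : Subgroup G) le_rfl (Cfsg.Agent.Helper10.isExt_self P) a ha c hc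
  · refine iSup_le fun Q => iSup_le fun hQ => iSup_le fun x => iSup_le fun hx => ?_
    rw [Subgroup.commutator_le]
    intro a ha c hc
    exact hcomm _ inf_le_left hQ.1 a ha c (zpowers_le.mpr hx.1 hc)

/-- `P ∩ O^p(G) ≤ Φ(P)` implies a normal `p`-complement -/
theorem npc_of_inf_pResidual_le_phi (P : Sylow p G)
    (h : (P : Subgroup G) ⊓ Cfsg.pResidual p G ≤ phi (P : Subgroup G)) :
    Cfsg.HasNormalPComplement p G := by
  have hp := (Fact.out : p.Prime)
  have h' : Cfsg.pResidual p G ⊓ (P : Subgroup G) ≤ (frattini P).map (P : Subgroup G).subtype := by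
    rw [inf_comm]; exact h
  have hnpc := Cfsg.Agent.Helper9.hasNormalPComplement_of_inf_le_frattini P (Cfsg.pResidual p G) h'
  obtain ⟨PK⟩ : Nonempty (Sylow p ↥(Cfsg.pResidual p G)) := inferInstance
  rw [Cfsg.Agent.Helper9.hasNormalPComplement_iff_inf_pResidual PK,
    Cfsg.Agent.Helper10.pResidual_pResidual_eq_top, inf_top_eq] at hnpc
  have hcop : Nat.Coprime (Nat.card (Cfsg.pResidual p G)) p := by
    rw [Nat.coprime_comm, Nat.Prime.coprime_iff_not_dvd hp]
    intro hdvd
    exact (Sylow.ne_bot_of_dvd_card PK hdvd) hnpc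
  rw [Cfsg.Agent.Helper9.hasNormalPComplement_iff_inf_pResidual P]
  apply (Subgroup.disjoint_of_coprime_natCard _).eq_bot
  obtain ⟨k, hk⟩ := IsPGroup.iff_card.mp P.isPGroup'
  rw [hk]
  exact (Nat.Coprime.pow_right k hcop).symm

/-- all elements of order prime to `p` have order prime to `p - 1`, `p` the smallest prime -/
theorem coprime_pred_of_min (hmin : ∀ q : ℕ, q.Prime → q ∣ Nat.card G → p ≤ q) (y : G)
    (_hy : Nat.Coprime (orderOf y) p) : Nat.Coprime (orderOf y) (p - 1) := by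
  have hp := (Fact.out : p.Prime)
  by_contra hcon
  obtain ⟨q, hq, hqd⟩ := Nat.exists_prime_and_dvd hcon
  have h1 : q ∣ orderOf y := hqd.trans (Nat.gcd_dvd_left _ _)
  have h2 : q ∣ p - 1 := hqd.trans (Nat.gcd_dvd_right _ _)
  have h3 : p ≤ q := hmin q hq (h1.trans (orderOf_dvd_natCard y))
  have h4 : q ≤ p - 1 := Nat.le_of_dvd (by have := hp.two_le; omega) h2
  have := hp.two_le
  omega

/-- the main theorem, non-cyclic case -/
theorem npc_of_family (hmin : ∀ q : ℕ, q.Prime → q ∣ Nat.card G → p ≤ q) (P : Sylow p G)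
    (d : ℕ) (hd : 1 ≤ d) (hdP : p ^ d < Nat.card (P : Subgroup G))
    (hfam : ∀ E : Subgroup G, E ≤ (P : Subgroup G) → Fam p d E → IsH E) :
    Cfsg.HasNormalPComplement p G := by
  apply npc_of_inf_pResidual_le_phi P
  have h1 := Cfsg.Agent.Helper9.sylow_inf_pResidual_le_focalSubgroup P
  have h2 : focalSubgroup (P : Subgroup G) = (P : Subgroup G) ⊓ commutator G := by
    rw [← Subgroup.commutator_inf_eq_focalSubgroup P, inf_comm]
  rw [h2] at h1
  exact h1.trans (commutator_inf_le_phi P d hd hdP hfam (coprime_pred_of_min hmin))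

/-- the main theorem, cyclic case -/
theorem npc_of_cyclic (hmin : ∀ q : ℕ, q.Prime → q ∣ Nat.card G → p ≤ q) (P : Sylow p G)
    (hc : IsCyclic ↥(P : Subgroup G)) : Cfsg.HasNormalPComplement p G := by
  have hp := (Fact.out : p.Prime)
  have hP : IsPGroup p (P : Subgroup G) := P.isPGroup'
  apply Cfsg.Agent.Helper9.hasNormalPComplement_of_normalizer_le_centralizer P
  obtain ⟨⟨c, hcP⟩, hgen⟩ := hc.exists_generator
  have hPz : ∀ u ∈ (P : Subgroup G), u ∈ zpowers c := by
    intro u hu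
    obtain ⟨k, hk⟩ := mem_zpowers_iff.mp (hgen ⟨u, hu⟩)
    refine mem_zpowers_iff.mpr ⟨k, ?_⟩
    have := congrArg Subtype.val hk
    simpa using this
  have hcomm : ∀ g : G, g * c = c * g → g ∈ centralizer ((P : Subgroup G) : Set G) := by
    intro g hg
    rw [mem_centralizer_iff]
    intro u hu
    obtain ⟨k, rfl⟩ := mem_zpowers_iff.mp (hPz u hu)
    have hc' : Commute g c := hg
    exact ((hc'.zpow_right k).eq).symm
  apply le_of_sylow_of_coprime (p := p) (normalizer ((P : Subgroup G) : Set G)) (P : Subgroup G)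
    _ le_normalizer hP
  · intro hdvd
    exact P.not_dvd_index (hdvd.trans (Subgroup.relIndex_dvd_index_of_le le_normalizer))
  · intro u hu
    apply hcomm
    obtain ⟨k, rfl⟩ := mem_zpowers_iff.mp (hPz u hu)
    exact ((Commute.refl c).zpow_left k).eq
  · intro g hgN hg
    apply hcomm
    obtain ⟨s, hs⟩ := orderOf_eq_pow_of_mem hP hcP
    have h1 : g * c * g⁻¹ ∈ zpowers c := hPz _ (conj_mem_of_mem_normalizer hgN hcP)
    have := conj_eq_of_cyclic (p := p) c g s hs h1 (orderOf_pos g) hg (coprime_pred_of_min hmin g hg)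
    calc g * c = (g * c * g⁻¹) * g := by group
      _ = c * g := by rw [this]

end Cfsg.Agent.Helper15.HSub
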