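import Mathlib
import Cfsg.Agent.Helper29.Supersolvable
import Cfsg.Agent.Helper29.Huppert
import Cfsg.Agent.Helper29.Huppert2
import Cfsg.Agent.S0586
import Cfsg.Agent.Helper1.MinNormal

set_option autoImplicit false
set_option linter.unusedSectionVars false
set_option linter.style.haveILetI false

/-! S3032, part 1: a normal `p`-subgroup `E` of `G` on which the residual `expResidual p G`
(commutators and `(p-1)`-th powers) acts as a `p`-group has a `G`-invariant series with cyclic
factors (`Reach ⊥ E`). -/

namespace Cfsg.Agent.Helper15.HSub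

open Subgroup Cfsg.Agent.Helper29

universe u

/-- the residual `expResidual p G` acts on `E` as a `p`-group -/
def SEmb (p : ℕ) {G : Type*} [Group G] (E : Subgroup G) : Prop :=
  ∀ y ∈ expResidual p G, ∃ k : ℕ, y ^ (p ^ k) ∈ centralizer (E : Set G)

theorem expResidual_le_map (p : ℕ) {G H : Type*} [Group G] [Group H] (f : G →* H)
    (hf : Function.Surjective f) : expResidual p H ≤ (expResidual p G).map f := by
  haveI : ((expResidual p G).map f).Normal := Subgroup.Normal.map inferInstance f hf
  apply expResidual_le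
  · intro g h
    obtain ⟨g', rfl⟩ := hf g
    obtain ⟨h', rfl⟩ := hf h
    exact ⟨g' * h' * g'⁻¹ * h'⁻¹, comm_mem_expResidual p g' h', by simp⟩
  · intro g
    obtain ⟨g', rfl⟩ := hf g
    exact ⟨g' ^ (p - 1), pow_mem_expResidual p g', by simp⟩

theorem SEmb.map {p : ℕ} {G H : Type*} [Group G] [Group H] {E : Subgroup G} (hE : SEmb p E)
    (f : G →* H) (hf : Function.Surjective f) : SEmb p (E.map f) := by
  intro y hy
  obtain ⟨y', hy', rfl⟩ := expResidual_le_map p f hf hy
  obtain ⟨k, hk⟩ := hE y' hy'
  refine ⟨k, ?_⟩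
  rw [← map_pow, mem_centralizer_iff]
  rintro _ ⟨x, hx, rfl⟩
  rw [← map_mul, ← map_mul, mem_centralizer_iff.mp hk x hx]

theorem card_map_mk_mul' {G : Type*} [Group G] [Finite G] (H N : Subgroup G) [H.Normal]
    (hle : H ≤ N) : Nat.card (N.map (QuotientGroup.mk' H)) * Nat.card H = Nat.card N := by
  have h1 : (N.map (QuotientGroup.mk' H)).index = N.index :=
    Subgroup.index_map_eq N (QuotientGroup.mk'_surjective H) (by rw [QuotientGroup.ker_mk']; exact hle)
  have h2 := (N.map (QuotientGroup.mk' H)).card_mul_index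
  have h3 := N.card_mul_index
  have h4 := Subgroup.card_eq_card_quotient_mul_card_subgroup H
  rw [h1] at h2
  have hpos : 0 < N.index := Nat.pos_of_ne_zero (Subgroup.index_ne_zero_of_finite)
  have h5 : Nat.card (N.map (QuotientGroup.mk' H)) * Nat.card H * N.index = Nat.card N * N.index := by
    rw [h3, h4, ← h2]; ring
  exact Nat.eq_of_mul_eq_mul_right hpos h5

theorem card_comap_mk' {G : Type*} [Group G] [Finite G] (H : Subgroup G) [H.Normal]
    (N : Subgroup (G ⧸ H)) :
    Nat.card (N.comap (QuotientGroup.mk' H)) = Nat.card N * Nat.card H := by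
  have hle : H ≤ N.comap (QuotientGroup.mk' H) := by
    intro x hx
    rw [Subgroup.mem_comap, QuotientGroup.mk'_apply, (QuotientGroup.eq_one_iff x).mpr hx]
    exact N.one_mem
  rw [← card_map_mk_mul' H _ hle,
    Subgroup.map_comap_eq_self_of_surjective (QuotientGroup.mk'_surjective H)]

/-- a nontrivial normal `p`-subgroup on which the residual acts as a `p`-group contains a normal
cyclic subgroup -/
theorem exists_normal_zpowers {G : Type*} [Group G] [Finite G] {p : ℕ} [Fact p.Prime]
    (E : Subgroup G) [E.Normal] (hE : IsPGroup p E) (hne : E ≠ ⊥) (hS : SEmb p E) :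
    ∃ z ∈ E, z ≠ 1 ∧ (zpowers z).Normal := by
  have hp := (Fact.out : p.Prime)
  obtain ⟨N, hNn, hNbot, hNE, hNmin⟩ := Cfsg.Agent.S0586.exists_minimal_normal_le E hne
  haveI := hNn
  have hNp : IsPGroup p N := hE.to_le hNE
  have hNsolv : Group.IsSolvable N := by
    haveI := hNp.isNilpotent
    infer_instance
  obtain ⟨hNc, q, hq, hpow⟩ := Cfsg.Agent.Helper1.minNormal_elementary N hNbot hNsolv hNmin
  haveI := hNc
  obtain ⟨v, hv⟩ := (Subgroup.ne_bot_iff_exists_ne_one).mp hNbot
  have hv1 : (v : G) ≠ 1 := fun h => hv (Subtype.ext h)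
  have hqp : q = p := by
    have h1 : orderOf (v : G) ∣ q := orderOf_dvd_of_pow_eq_one (hpow v v.2)
    have h2 : orderOf (v : G) = q := by
      rcases (Nat.dvd_prime hq).mp h1 with h | h
      · exact absurd (orderOf_eq_one_iff.mp h) hv1
      · exact h
    obtain ⟨k, hk⟩ := hNp v
    have h3 : orderOf (v : G) ∣ p ^ k := by
      apply orderOf_dvd_of_pow_eq_one
      have := congrArg Subtype.val hk
      simpa using this
    rw [h2] at h3
    exact (Nat.prime_dvd_prime_iff_eq hq hp).mp (hq.dvd_of_dvd_pow h3)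
  rw [hqp] at hpow
  have hdvd : p ∣ Nat.card N := by
    have h1 : orderOf (v : G) ∣ p := orderOf_dvd_of_pow_eq_one (hpow v v.2)
    have h2 : orderOf (v : G) = p := by
      rcases (Nat.dvd_prime hp).mp h1 with h | h
      · exact absurd (orderOf_eq_one_iff.mp h) hv1
      · exact h
    rw [← h2, ← Subgroup.orderOf_mk (v : G) v.2]
    exact orderOf_dvd_natCard _
  have hX : expResidual p G ≤ centralizer (N : Set G) := by
    let ρ : G →* MulAut N := MulAut.conjNormal
    let Q : Subgroup (MulAut N) := (expResidual p G).map ρ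
    have hQ : IsPGroup p Q := by
      rintro ⟨φ, y, hy, rfl⟩
      obtain ⟨k, hk⟩ := hS y hy
      refine ⟨k, ?_⟩
      apply Subtype.ext
      rw [Subgroup.coe_pow, Subgroup.coe_one, ← map_pow]
      ext n
      rw [MulAut.conjNormal_apply, MulAut.one_apply]
      have := mem_centralizer_iff.mp hk (n : G) (hNE n.2)
      rw [← this]
      group
    have h1fix : (1 : N) ∈ MulAction.fixedPoints Q N := by
      intro q
      rw [Subgroup.smul_def, MulAut.smul_def, map_one]
    obtain ⟨b, hbfix, hb1⟩ :=
      hQ.exists_fixed_point_of_prime_dvd_card_of_fixed_point (α := N) hdvd h1fix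
    let K : Subgroup G := N ⊓ centralizer ((expResidual p G : Subgroup G) : Set G)
    have hKn : K.Normal := inferInstance
    have hbK : (b : G) ∈ K := by
      refine ⟨b.2, ?_⟩
      show (b : G) ∈ centralizer ((expResidual p G : Subgroup G) : Set G)
      rw [mem_centralizer_iff]
      intro y hy
      have h2 := hbfix ⟨ρ y, y, hy, rfl⟩
      rw [Subgroup.smul_def, MulAut.smul_def] at h2
      have h3 : y * (b : G) * y⁻¹ = b := by
        have := congrArg Subtype.val h2
        rwa [MulAut.conjNormal_apply] at this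
      calc y * (b : G) = (y * b * y⁻¹) * y := by group
        _ = b * y := by rw [h3]
    rcases hNmin K hKn inf_le_left with h | h
    · exfalso
      rw [h, mem_bot] at hbK
      exact hb1 (Subtype.ext hbK.symm)
    · intro y hy
      rw [mem_centralizer_iff]
      intro n hn
      have : n ∈ K := h ▸ hn
      exact (mem_centralizer_iff.mp this.2 y hy).symm
  have hcard := card_minNormal_eq_prime p N hNbot hNmin hpow
    (fun g h => hX (comm_mem_expResidual p g h)) (fun g => hX (pow_mem_expResidual p g))
  haveI : IsCyclic N := isCyclic_of_prime_card hcard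
  obtain ⟨z, hz⟩ := (Subgroup.isCyclic_iff_exists_zpowers_eq_top N).mp inferInstance
  refine ⟨z, hNE (hz ▸ mem_zpowers z), ?_, hz ▸ hNn⟩
  rintro rfl
  apply hNbot
  rw [← hz, zpowers_one_eq_bot]

/-- **Lemma SE.** -/
theorem reach_of_semb {p : ℕ} [Fact p.Prime] : ∀ (n : ℕ) (G : Type u) [Group G] [Finite G]
    (E : Subgroup G) [E.Normal], Nat.card E = n → IsPGroup p E → SEmb p E →
    Reach (⊥ : Subgroup G) E := by
  intro n
  induction n using Nat.strong_induction_on with
  | _ n ih =>
  intro G _ _ E _ hn hE hS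
  by_cases hne : E = ⊥
  · rw [hne]; exact Reach.refl
  obtain ⟨z, hzE, hz1, hzn⟩ := exists_normal_zpowers E hE hne hS
  haveI := hzn
  have hZE : zpowers z ≤ E := zpowers_le.mpr hzE
  have hπ : Function.Surjective (QuotientGroup.mk' (zpowers z)) :=
    QuotientGroup.mk'_surjective (zpowers z)
  haveI : (E.map (QuotientGroup.mk' (zpowers z))).Normal :=
    Subgroup.Normal.map inferInstance _ hπ
  have hcard : Nat.card (E.map (QuotientGroup.mk' (zpowers z))) < n := by
    have h1 := card_map_mk_mul' (zpowers z) E hZE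
    have hZ1 : 1 < Nat.card (zpowers z) := by
      rw [Subgroup.one_lt_card_iff_ne_bot]
      intro h
      exact hz1 (zpowers_eq_bot.mp h)
    have hpos : 0 < Nat.card (E.map (QuotientGroup.mk' (zpowers z))) := Nat.card_pos
    rw [← hn, ← h1]
    nlinarith
  have h1 := ih _ hcard (G ⧸ zpowers z) (E.map (QuotientGroup.mk' (zpowers z))) rfl
    (hE.map _) (hS.map _ hπ)
  have h2 := h1.comap _ hπ
  rw [MonoidHom.comap_bot, QuotientGroup.ker_mk', Subgroup.comap_map_eq, QuotientGroup.ker_mk',
    sup_eq_left.mpr hZE] at h2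
  exact (Reach.of_zpowers_normal z hzn).trans h2

end Cfsg.Agent.Helper15.HSub
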