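import Mathlib
import Cfsg.Agent.Helper15.OmegaFus

set_option autoImplicit false
set_option linter.unusedSectionVars false
set_option linter.style.haveILetI false

/-! S1949: ambient lemmas on `p'`-elements acting on `p`-subgroups. -/

namespace Cfsg.Agent.Helper15

open Subgroup Cfsg.Agent.Helper14
open scoped commutatorElement

variable {G : Type*} [Group G] {p : ℕ} [Fact p.Prime]

theorem card_lt_of_lt' [Finite G] {H K : Subgroup G} (h : H < K) : Nat.card H < Nat.card K := by
  by_contra hcon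
  push Not at hcon
  exact h.ne (Subgroup.eq_of_le_of_card_ge h.le hcon)

/-- a `p'`-element normalizing the `p`-subgroup `C` and centralizing its elements of order dividing
`p` (or `4`) centralizes `C` -/
theorem centralizes_of_centralizes_omega [Finite G] (C : Subgroup G) (hC : IsPGroup p C) (a : G)
    (hcop : Nat.Coprime (orderOf a) p)
    (h : ∀ x ∈ C, (x ^ p = 1 ∨ (p = 2 ∧ x ^ 4 = 1)) → x * a = a * x) :
    ∀ (n : ℕ) (Q : Subgroup G), Q ≤ C → Nat.card Q = n → a ∈ normalizer (Q : Set G) →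
      a ∈ centralizer (Q : Set G) := by
  intro n
  induction n using Nat.strong_induction_on with
  | _ n ih =>
  intro Q hQC hn haQ
  by_contra hna
  have hQ : IsPGroup p Q := hC.to_le hQC
  have hmin : ∀ H : Subgroup G, H < Q → a ∈ normalizer (H : Set G) →
      a ∈ centralizer (H : Set G) := by
    intro H hH haH
    exact ih _ (hn ▸ card_lt_of_lt' hH) H (hH.le.trans hQC) rfl haH
  have hexp := exponent_of_minimal_noncentralized Q hQ a haQ hcop hmin hna
  apply hna
  rw [mem_centralizer_iff]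
  intro x hx
  exact h x (hQC hx) (hexp x hx)

theorem map_cj_eq_self_of_mem_centralizer {K : Subgroup G} {a : G}
    (ha : a ∈ centralizer (K : Set G)) : K.map (cj a) = K :=
  mem_normalizer_iff_map_cj.mp (centralizer_le_normalizer _ ha)

/-- a special case of Thompson's `A × B`-lemma: a `p'`-element `b` normalizing the `p`-subgroup
`D` and centralizing a subgroup `A ≤ D` with `C_D(A) ≤ A` centralizes `D` -/
theorem centralizes_of_centralizes_selfCentralizing [Finite G] (D A : Subgroup G)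
    (hD : IsPGroup p D) (hAD : A ≤ D) (hCA : D ⊓ centralizer (A : Set G) ≤ A) (b : G)
    (hcop : Nat.Coprime (orderOf b) p) (hbA : b ∈ centralizer (A : Set G)) :
    ∀ (n : ℕ) (Q : Subgroup G), Q ≤ D → Nat.card Q = n → b ∈ normalizer (Q : Set G) →
      A ≤ normalizer (Q : Set G) → b ∈ centralizer (Q : Set G) := by
  intro n
  induction n using Nat.strong_induction_on with
  | _ n ih =>
  intro Q hQD hn hbQ hAQ
  have hQ : IsPGroup p Q := hD.to_le hQD
  obtain ⟨K, hK⟩ : ∃ K : Subgroup G, K = zpowers b := ⟨_, rfl⟩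
  have hbK : b ∈ K := by rw [hK]; exact mem_zpowers b
  have hKQ : K ≤ normalizer (Q : Set G) := by rw [hK]; exact zpowers_le.mpr hbQ
  have hKA : K ≤ centralizer (A : Set G) := by rw [hK]; exact zpowers_le.mpr hbA
  have hAK : A ≤ centralizer (K : Set G) := by
    intro a ha
    rw [mem_centralizer_iff]
    intro k hk
    exact (mem_centralizer_iff.mp (hKA hk) a ha).symm
  by_cases hQbot : Q = ⊥
  · rw [hQbot, mem_centralizer_iff]
    intro x hx
    rw [SetLike.mem_coe, mem_bot] at hx
    rw [hx]; simp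
  -- `X = [K, Q]`
  have hXQ : ⁅K, Q⁆ ≤ Q := by
    rw [Subgroup.commutator_le]
    intro k hk x hx
    rw [commutatorElement_def]
    exact Q.mul_mem ((mem_normalizer_iff.mp (hKQ hk) x).mp hx) (Q.inv_mem hx)
  have hbX : b ∈ normalizer ((⁅K, Q⁆ : Subgroup G) : Set G) := by
    rw [mem_normalizer_iff_map_cj, Subgroup.map_commutator, map_cj_eq_self_of_mem hbK,
      mem_normalizer_iff_map_cj.mp hbQ]
  have hAX : A ≤ normalizer ((⁅K, Q⁆ : Subgroup G) : Set G) := by
    intro a ha
    rw [mem_normalizer_iff_map_cj, Subgroup.map_commutator,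
      map_cj_eq_self_of_mem_centralizer (hAK ha), mem_normalizer_iff_map_cj.mp (hAQ ha)]
  by_cases hX : ⁅K, Q⁆ = Q
  · -- `Y = [Q, A]`
    have hYQ : ⁅Q, A⁆ ≤ Q := by
      rw [Subgroup.commutator_le]
      intro x hx a ha
      rw [commutatorElement_def]
      have : a * x⁻¹ * a⁻¹ ∈ Q := (mem_normalizer_iff.mp (hAQ ha) _).mp (Q.inv_mem hx)
      have e : x * a * x⁻¹ * a⁻¹ = x * (a * x⁻¹ * a⁻¹) := by group
      rw [e]; exact Q.mul_mem hx this
    have hYne : ⁅Q, A⁆ ≠ Q := by
      intro hY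
      apply hQbot
      haveI : Finite (Q ⊔ A : Subgroup G) := inferInstance
      haveI : Group.IsNilpotent (Q ⊔ A : Subgroup G) := (hD.to_le (sup_le hQD hAD)).isNilpotent
      apply eq_bot_of_le_commutator (Q ⊔ A) Q le_sup_left
      calc Q = ⁅Q, A⁆ := hY.symm
        _ = ⁅A, Q⁆ := Subgroup.commutator_comm _ _
        _ ≤ ⁅Q ⊔ A, Q⁆ := Subgroup.commutator_mono le_sup_right le_rfl
    have hbY : b ∈ normalizer ((⁅Q, A⁆ : Subgroup G) : Set G) := by
      rw [mem_normalizer_iff_map_cj, Subgroup.map_commutator, mem_normalizer_iff_map_cj.mp hbQ,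
        map_cj_eq_self_of_mem_centralizer hbA]
    have hAY : A ≤ normalizer ((⁅Q, A⁆ : Subgroup G) : Set G) := by
      intro a ha
      rw [mem_normalizer_iff_map_cj, Subgroup.map_commutator,
        mem_normalizer_iff_map_cj.mp (hAQ ha), map_cj_eq_self_of_mem ha]
    have hbYc : b ∈ centralizer ((⁅Q, A⁆ : Subgroup G) : Set G) :=
      ih _ (hn ▸ card_lt_of_lt' (lt_of_le_of_ne hYQ hYne)) ⁅Q, A⁆ (hYQ.trans hQD) rfl hbY hAY
    have h1 : ⁅⁅Q, A⁆, K⁆ = ⊥ := by
      rw [Subgroup.commutator_eq_bot_iff_le_centralizer]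
      intro y hy
      rw [mem_centralizer_iff]
      intro k hk
      have hKY : K ≤ centralizer ((⁅Q, A⁆ : Subgroup G) : Set G) := by
        intro k' hk'
        rw [hK] at hk'
        exact zpowers_le.mpr hbYc hk'
      exact (mem_centralizer_iff.mp (hKY hk) y hy).symm
    have h2 : ⁅⁅A, K⁆, Q⁆ = ⊥ := by
      have : ⁅A, K⁆ = ⊥ := by
        rw [Subgroup.commutator_eq_bot_iff_le_centralizer]; exact hAK
      rw [this, Subgroup.commutator_bot_left]
    have h3 : ⁅⁅K, Q⁆, A⁆ = ⊥ := Subgroup.commutator_commutator_eq_bot_of_rotate h1 h2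
    rw [hX, Subgroup.commutator_eq_bot_iff_le_centralizer] at h3
    have hQA : Q ≤ A := fun x hx => hCA ⟨hQD hx, h3 hx⟩
    rw [mem_centralizer_iff]
    intro x hx
    exact mem_centralizer_iff.mp hbA x (hQA hx)
  · have hbXc : b ∈ centralizer ((⁅K, Q⁆ : Subgroup G) : Set G) :=
      ih _ (hn ▸ card_lt_of_lt' (lt_of_le_of_ne hXQ hX)) ⁅K, Q⁆ (hXQ.trans hQD) rfl hbX hAX
    have hKX : K ≤ centralizer ((⁅K, Q⁆ : Subgroup G) : Set G) := by
      intro k' hk'
      rw [hK] at hk'
      exact zpowers_le.mpr hbXc hk'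
    exact mem_centralizer_of_stabilizes_chain Q ⁅K, Q⁆ Q K hQ hXQ le_rfl hKX le_rfl hbK hcop

end Cfsg.Agent.Helper15
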