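import Mathlib
import Cfsg.Agent.Helper15.HSub4
import Cfsg.Agent.Helper15.HSub6
import Cfsg.Agent.Helper15.OmegaFus2
import Cfsg.Agent.Helper29.Supersolvable2

set_option autoImplicit false
set_option linter.unusedSectionVars false
set_option linter.style.haveILetI false

/-! S3032, part 2: a normal `p`-subgroup `E` of `G` all of whose subgroups of a fixed
intermediate order `p ^ d` (and of order `4` if `p ^ d = 2`) are normal in `G` has a `G`-invariant
series with cyclic factors. -/

namespace Cfsg.Agent.Helper15.HSub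

open Subgroup Cfsg.Agent.Helper29

universe u

section

variable {G : Type*} [Group G] [Finite G] {p : ℕ} [Fact p.Prime]

theorem semb_of_coprime (E : Subgroup G)
    (h : ∀ y ∈ expResidual p G, (orderOf y).Coprime p → y ∈ centralizer (E : Set G)) :
    SEmb p E := by
  have hp := (Fact.out : p.Prime)
  intro y hy
  obtain ⟨k, m, hm, hkm⟩ := Nat.exists_eq_pow_mul_and_not_dvd (orderOf_pos y).ne' p hp.ne_one
  refine ⟨k, h _ (Subgroup.pow_mem _ hy _) ?_⟩
  rw [orderOf_pow' y (pow_ne_zero k hp.ne_zero), hkm,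
    Nat.gcd_eq_right (Dvd.intro _ rfl), Nat.mul_div_cancel_left _ (pow_pos hp.pos k)]
  exact ((Nat.Prime.coprime_iff_not_dvd hp).mpr hm).symm

theorem top_normalizer (E : Subgroup G) [hE : E.Normal] (y : G) : y ∈ normalizer (E : Set G) := by
  rw [normalizer_eq_top_iff.mpr hE]; exact mem_top y

theorem semb_of_two (hp2 : p = 2) (E : Subgroup G) [E.Normal] (hE : IsPGroup p E) (d : ℕ)
    (hd : 1 ≤ d) (hlt : p ^ d < Nat.card E)
    (hfam : ∀ F : Subgroup G, F ≤ E → Fam p d F → F.Normal) : SEmb p E := by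
  apply semb_of_coprime
  intro y _ hcop
  apply star d hd y hcop (by rw [hp2]; simp) _ E rfl hE (top_normalizer E y) hlt
  intro F hFE hF x hx
  exact (hfam F hFE hF).conj_mem x hx y

theorem semb_of_one (hp2 : p ≠ 2) (E : Subgroup G) [E.Normal] (hE : IsPGroup p E)
    (hfam : ∀ F : Subgroup G, F ≤ E → Fam p 1 F → F.Normal) : SEmb p E := by
  have hp := (Fact.out : p.Prime)
  apply semb_of_coprime
  intro y hy hcop
  refine Cfsg.Agent.Helper15.centralizes_of_centralizes_omega E hE y hcop ?_ _ E le_rfl rfl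
    (top_normalizer E y)
  intro x hx hexp
  rcases hexp with hxp | ⟨h2, _⟩
  swap
  · exact absurd h2 hp2
  by_cases hx1 : x = 1
  · subst hx1; simp
  have hord : orderOf x = p := orderOf_eq_prime hxp hx1
  have hFn := hfam (zpowers x) (zpowers_le.mpr hx)
    (Or.inl (by rw [Nat.card_zpowers, hord, pow_one]))
  haveI := hFn
  have := expResidual_le_centralizer (zpowers x) (by rw [Nat.card_zpowers, hord]) hy
  exact mem_centralizer_iff.mp this x (mem_zpowers x)

theorem semb_of_small (E : Subgroup G) [E.Normal] (hE : IsPGroup p E) (d : ℕ)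
    (hlt : p ^ d < Nat.card E)
    (hfam : ∀ F : Subgroup G, F ≤ E → Fam p d F → F.Normal)
    (hsmall : ∀ x ∈ E, orderOf x ≤ p ^ d) : SEmb p E := by
  have hp := (Fact.out : p.Prime)
  apply semb_of_coprime
  intro y hy hcop
  apply centralizes_of_triv_phi hE (top_normalizer E y) hcop
  intro x hx
  have hEn : E.Normal := inferInstance
  have hmem : x⁻¹ * (y * x * y⁻¹) ∈ E := E.mul_mem (E.inv_mem hx) (hEn.conj_mem x hx y)
  rw [mem_phi_iff hmem]
  intro M hM
  have hMn : M.Normal := by
    constructor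
    intro a ha g
    have haE := hM.le ha
    obtain ⟨F, hBF, hFM, hF⟩ := exists_between (zpowers a) M (hE.to_le hM.le)
      (zpowers_le.mpr ha) d (by rw [Nat.card_zpowers]; exact hsmall a haE) (hM.le_card hE hlt)
    have := (hfam F (hFM.trans hM.le) (Or.inl hF)).conj_mem a (hBF (mem_zpowers a)) g
    exact hFM this
  haveI := hMn
  have hcardEM : Nat.card (E.map (QuotientGroup.mk' M)) = p := by
    have h1 := card_map_mk_mul' M E hM.le
    have h2 := hM.card hE
    have hpos : 0 < Nat.card M := Nat.card_pos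
    have : Nat.card (E.map (QuotientGroup.mk' M)) * Nat.card M = p * Nat.card M := by
      rw [h1, ← h2, mul_comm]
    exact Nat.eq_of_mul_eq_mul_right hpos this
  haveI : (E.map (QuotientGroup.mk' M)).Normal :=
    Subgroup.Normal.map inferInstance _ (QuotientGroup.mk'_surjective M)
  have h3 := expResidual_le_centralizer (E.map (QuotientGroup.mk' M)) hcardEM
    (map_expResidual_le p (QuotientGroup.mk' M) ⟨y, hy, rfl⟩)
  have h4 := mem_centralizer_iff.mp h3 (QuotientGroup.mk' M x) ⟨x, hx, rfl⟩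
  have h5 : QuotientGroup.mk' M (x⁻¹ * (y * x * y⁻¹)) = 1 := by
    simp only [map_mul, map_inv]
    rw [← h4]
    group
  exact (QuotientGroup.eq_one_iff _).mp h5

theorem orderOf_pow_pow {x : G} {j i : ℕ} (hx : orderOf x = p ^ j) (hij : i ≤ j) :
    orderOf (x ^ (p ^ i)) = p ^ (j - i) := by
  have hp := (Fact.out : p.Prime)
  rw [orderOf_pow' x (pow_ne_zero i hp.ne_zero), hx, Nat.gcd_eq_right (pow_dvd_pow p hij),
    Nat.pow_div hij hp.pos]

end

/-- **Lemma NS.** -/
theorem reach_of_family {p : ℕ} [Fact p.Prime] : ∀ (n : ℕ) (G : Type u) [Group G] [Finite G]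
    (E : Subgroup G) [E.Normal] (d : ℕ), Nat.card E = n → IsPGroup p E → 1 ≤ d →
    p ^ d < Nat.card E → (∀ F : Subgroup G, F ≤ E → Fam p d F → F.Normal) →
    Reach (⊥ : Subgroup G) E := by
  have hp := (Fact.out : p.Prime)
  intro n
  induction n using Nat.strong_induction_on with
  | _ n ih =>
  intro G _ _ E _ d hn hE hd hlt hfam
  by_cases hp2 : p = 2
  · exact reach_of_semb _ G E rfl hE (semb_of_two hp2 E hE d hd hlt hfam)
  by_cases hd1 : d = 1
  · subst hd1
    exact reach_of_semb _ G E rfl hE (semb_of_one hp2 E hE hfam)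
  by_cases hsmall : ∀ x ∈ E, orderOf x ≤ p ^ d
  · exact reach_of_semb _ G E rfl hE (semb_of_small E hE d hlt hfam hsmall)
  push Not at hsmall
  obtain ⟨x₀, hx₀, hx₀d⟩ := hsmall
  obtain ⟨j, hj⟩ := orderOf_eq_pow_of_mem hE hx₀
  have hjd : d < j := by
    rw [hj] at hx₀d
    exact (Nat.pow_lt_pow_iff_right hp.one_lt).mp hx₀d
  have hoc : orderOf (x₀ ^ (p ^ (j - d))) = p ^ d := by
    rw [orderOf_pow_pow hj (by omega)]
    congr 1; omega
  have hoz : orderOf (x₀ ^ (p ^ (j - 1))) = p := by
    rw [orderOf_pow_pow hj (by omega)]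
    have : j - (j - 1) = 1 := by omega
    rw [this, pow_one]
  have hCn : (zpowers (x₀ ^ (p ^ (j - d)))).Normal :=
    hfam _ (zpowers_le.mpr (E.pow_mem hx₀ _)) (Or.inl (by rw [Nat.card_zpowers, hoc]))
  have hzC : zpowers (x₀ ^ (p ^ (j - 1))) ≤ zpowers (x₀ ^ (p ^ (j - d))) := by
    rw [zpowers_le]
    have : x₀ ^ (p ^ (j - 1)) = (x₀ ^ (p ^ (j - d))) ^ (p ^ (d - 1)) := by
      rw [← pow_mul, ← pow_add]
      congr 2; omega
    rw [this]
    exact Subgroup.pow_mem _ (mem_zpowers _) _
  haveI := hCn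
  have hZn : (zpowers (x₀ ^ (p ^ (j - 1)))).Normal := normal_of_le_cyclic_normal hzC
  haveI := hZn
  set z := x₀ ^ (p ^ (j - 1)) with hz
  have hzE : z ∈ E := E.pow_mem hx₀ _
  have hZE : zpowers z ≤ E := zpowers_le.mpr hzE
  have hZcard : Nat.card (zpowers z) = p := by rw [Nat.card_zpowers, hoz]
  have hπ : Function.Surjective (QuotientGroup.mk' (zpowers z)) :=
    QuotientGroup.mk'_surjective (zpowers z)
  haveI : (E.map (QuotientGroup.mk' (zpowers z))).Normal :=
    Subgroup.Normal.map inferInstance _ hπ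
  have hcardmul := card_map_mk_mul' (zpowers z) E hZE
  rw [hZcard] at hcardmul
  have hcard : Nat.card (E.map (QuotientGroup.mk' (zpowers z))) < n := by
    have hpos : 0 < Nat.card (E.map (QuotientGroup.mk' (zpowers z))) := Nat.card_pos
    have := hp.one_lt
    rw [← hn, ← hcardmul]
    nlinarith
  have hlt' : p ^ (d - 1) < Nat.card (E.map (QuotientGroup.mk' (zpowers z))) := by
    have h1 : p ^ d = p ^ (d - 1) * p := by
      rw [← pow_succ]; congr 1; omega
    rw [← hcardmul, h1] at hlt
    exact lt_of_mul_lt_mul_right hlt (Nat.zero_le p)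
  have hfam' : ∀ F : Subgroup (G ⧸ zpowers z), F ≤ E.map (QuotientGroup.mk' (zpowers z)) →
      Fam p (d - 1) F → F.Normal := by
    intro F hFE hF
    have hFc : Nat.card F = p ^ (d - 1) := by
      rcases hF with h | ⟨h2, _⟩
      · exact h
      · exfalso
        apply hp2
        have : p ∣ 2 := by
          rw [← h2]; exact dvd_pow_self p (by omega)
        exact (Nat.prime_dvd_prime_iff_eq hp Nat.prime_two).mp this
    have h1 : Nat.card (F.comap (QuotientGroup.mk' (zpowers z))) = p ^ d := by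
      rw [card_comap_mk', hFc, hZcard, ← pow_succ]
      congr 1; omega
    have h2 : F.comap (QuotientGroup.mk' (zpowers z)) ≤ E := by
      have := Subgroup.comap_mono (f := QuotientGroup.mk' (zpowers z)) hFE
      rwa [Subgroup.comap_map_eq, QuotientGroup.ker_mk', sup_eq_left.mpr hZE] at this
    have h3 := hfam _ h2 (Or.inl h1)
    have h4 := Subgroup.Normal.map h3 (QuotientGroup.mk' (zpowers z)) hπ
    rwa [Subgroup.map_comap_eq_self_of_surjective hπ] at h4
  have h1 := ih _ hcard (G ⧸ zpowers z) (E.map (QuotientGroup.mk' (zpowers z))) (d - 1) rfl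
    (hE.map _) (by omega) hlt' hfam'
  have h2 := h1.comap _ hπ
  rw [MonoidHom.comap_bot, QuotientGroup.ker_mk', Subgroup.comap_map_eq, QuotientGroup.ker_mk',
    sup_eq_left.mpr hZE] at h2
  exact (Reach.of_zpowers_normal z hZn).trans h2

/-- the normal `p`-subgroup case of S3032 -/
theorem ssolv_of_normal_pgroup {p : ℕ} [Fact p.Prime] (G : Type u) [Group G] [Finite G]
    (E : Subgroup G) [E.Normal] (hE : IsPGroup p E) (hss : Cfsg.IsSupersolvable (G ⧸ E))
    (h : (∃ c : G, E = zpowers c) ∨ ∃ d : ℕ, 1 ≤ d ∧ p ^ d < Nat.card E ∧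
      ∀ F : Subgroup G, F ≤ E → Fam p d F → F.Normal) : Cfsg.IsSupersolvable G := by
  rw [isSupersolvable_iff_reach] at hss ⊢
  have h1 := hss.comap (QuotientGroup.mk' E) (QuotientGroup.mk'_surjective E)
  rw [Subgroup.comap_top, MonoidHom.comap_bot, QuotientGroup.ker_mk'] at h1
  have h0 : Reach (⊥ : Subgroup G) E := by
    rcases h with ⟨c, hc⟩ | ⟨d, hd, hlt, hfam⟩
    · have hn : (zpowers c).Normal := hc ▸ (inferInstance : E.Normal)
      have := Reach.of_zpowers_normal c hn
      rwa [← hc] at this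
    · exact reach_of_family _ G E d rfl hE hd hlt hfam
  exact h0.trans h1

end Cfsg.Agent.Helper15.HSub
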