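import Mathlib
import Cfsg.Agent.Helper15.HSub5
import Cfsg.Agent.Helper15.HSub7
import Cfsg.Agent.Helper9.NPC

set_option autoImplicit false
set_option linter.unusedSectionVars false
set_option linter.style.haveILetI false

/-! S3032, part 3: the normal subgroup `E` is `p`-nilpotent for its smallest prime `p`; the
quotient `G ⧸ O^p(E)` falls under the normal `p`-subgroup case. -/

namespace Cfsg.Agent.Helper15.HSub

open Subgroup Cfsg.Agent.Helper29 Cfsg.Agent.Helper9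

universe u

section

variable {G : Type*} [Group G] [Finite G] {p : ℕ} [Fact p.Prime]

/-- an `ℋ`-subgroup of `G` contained in `E` is an `ℋ`-subgroup of `E` -/
theorem isH_of_map_subtype (E : Subgroup G) (F' : Subgroup ↥E) (h : IsH (F'.map E.subtype)) :
    IsH F' := by
  intro g x hx
  obtain ⟨⟨f, hf, hfx⟩, hxN⟩ := hx
  have h1 : (x : G) ∈ (F'.map E.subtype).map (MulAut.conj (g : G)).toMonoidHom ⊓
      normalizer ((F'.map E.subtype : Subgroup G) : Set G) := by
    refine ⟨⟨(f : G), ⟨f, hf, rfl⟩, ?_⟩, ?_⟩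
    · rw [← hfx]
      simp [MulAut.conj_apply]
    · apply mem_normalizer_of_conj_mem
      rintro _ ⟨u, hu, rfl⟩
      exact ⟨x * u * x⁻¹, conj_mem_of_mem_normalizer hxN hu, by simp⟩
  obtain ⟨u, hu, hux⟩ := h (g : G) h1
  have : u = x := Subtype.ext hux
  rwa [← this]

theorem exists_conj_le_sylow' {N : Type*} [Group N] [Finite N] (S : Sylow p N) (A : Subgroup N)
    (hA : IsPGroup p A) : ∃ x : N, ∀ a ∈ A, x * a * x⁻¹ ∈ (S : Subgroup N) := by
  obtain ⟨Q, hQ⟩ := hA.exists_le_sylow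
  obtain ⟨x, hx⟩ := MulAction.exists_smul_eq N Q S
  refine ⟨x, fun a ha => ?_⟩
  have h1 : a ∈ (Q : Subgroup N) := hQ ha
  have h2 : x * a * x⁻¹ ∈ ((x • Q : Sylow p N) : Subgroup N) := by
    show x * a * x⁻¹ ∈ (Q : Subgroup N).map (MulAut.conj x).toMonoidHom
    exact ⟨a, h1, by simp [MulAut.conj_apply]⟩
  rwa [hx] at h2

/-- `E` is `p`-nilpotent for its smallest prime divisor -/
theorem npc_of_hyp (E : Subgroup G) (hmin : ∀ q : ℕ, q.Prime → q ∣ Nat.card E → p ≤ q)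
    (P₀ : Sylow p ↥E)
    (h : ¬ IsCyclic ↥((P₀ : Subgroup ↥E).map E.subtype) →
      ∃ D : Subgroup G, D ≤ (P₀ : Subgroup ↥E).map E.subtype ∧ 1 < Nat.card D ∧
        Nat.card D < Nat.card ((P₀ : Subgroup ↥E).map E.subtype) ∧
        ∀ F : Subgroup G, F ≤ (P₀ : Subgroup ↥E).map E.subtype →
          (Nat.card F = Nat.card D ∨ (Nat.card D = 2 ∧ Nat.card F = 4)) → IsH F) :
    Cfsg.HasNormalPComplement p ↥E := by
  have hp := (Fact.out : p.Prime)
  by_cases hc : IsCyclic ↥(P₀ : Subgroup ↥E)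
  · exact npc_of_cyclic hmin P₀ hc
  have hnc : ¬ IsCyclic ↥((P₀ : Subgroup ↥E).map E.subtype) := by
    intro hcyc
    apply hc
    let e := Subgroup.equivMapOfInjective (P₀ : Subgroup ↥E) E.subtype E.subtype_injective
    exact isCyclic_of_surjective e.symm e.symm.surjective
  obtain ⟨D, hDP, hD1, hDlt, hH⟩ := h hnc
  have hPp : IsPGroup p ((P₀ : Subgroup ↥E).map E.subtype) := P₀.2.map _
  obtain ⟨d, hd⟩ := IsPGroup.iff_card.mp (hPp.to_le hDP)
  have hd1 : 1 ≤ d := by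
    rcases Nat.eq_zero_or_pos d with h0 | h0
    · rw [hd, h0, pow_zero] at hD1; exact absurd hD1 (lt_irrefl 1)
    · exact h0
  have hcardP : Nat.card ((P₀ : Subgroup ↥E).map E.subtype) = Nat.card (P₀ : Subgroup ↥E) :=
    Subgroup.card_map_of_injective E.subtype_injective
  apply npc_of_family hmin P₀ d hd1 (by rw [← hd, ← hcardP]; exact hDlt)
  intro F' hF'P hfam
  apply isH_of_map_subtype E F'
  apply hH _ (Subgroup.map_mono hF'P)
  rw [Subgroup.card_map_of_injective E.subtype_injective, hd]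
  exact hfam

/-- `O^p(E)` as a subgroup of `G` -/
def KK (p : ℕ) (E : Subgroup G) : Subgroup G := (Cfsg.pResidual p ↥E).map E.subtype

instance KK_normal (E : Subgroup G) [E.Normal] : (KK p E).Normal := by
  unfold KK; infer_instance

theorem KK_le (E : Subgroup G) : KK p E ≤ E := map_subtype_le _

/-- the Sylow subgroup of `E`, as a subgroup of `G` -/
def PP (E : Subgroup G) (P₀ : Sylow p ↥E) : Subgroup G := (P₀ : Subgroup ↥E).map E.subtype

theorem PP_le (E : Subgroup G) (P₀ : Sylow p ↥E) : PP E P₀ ≤ E := map_subtype_le _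

theorem PP_isPGroup (E : Subgroup G) (P₀ : Sylow p ↥E) : IsPGroup p (PP E P₀) := P₀.2.map _

theorem card_PP (E : Subgroup G) (P₀ : Sylow p ↥E) :
    Nat.card (PP E P₀) = Nat.card (P₀ : Subgroup ↥E) :=
  Subgroup.card_map_of_injective E.subtype_injective

theorem card_KK (E : Subgroup G) : Nat.card (KK p E) = Nat.card (Cfsg.pResidual p ↥E) :=
  Subgroup.card_map_of_injective E.subtype_injective

theorem relIndex_PP (E : Subgroup G) (P₀ : Sylow p ↥E) :
    (PP E P₀).relIndex E = (P₀ : Subgroup ↥E).index := by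
  unfold PP Subgroup.relIndex Subgroup.subgroupOf
  rw [Subgroup.comap_map_eq_self_of_injective E.subtype_injective]

theorem relIndex_KK (E : Subgroup G) :
    (KK p E).relIndex E = (Cfsg.pResidual p ↥E).index := by
  unfold KK Subgroup.relIndex Subgroup.subgroupOf
  rw [Subgroup.comap_map_eq_self_of_injective E.subtype_injective]

theorem exists_mul (E : Subgroup G) (P₀ : Sylow p ↥E) {e : G} (he : e ∈ E) :
    ∃ u ∈ PP E P₀, ∃ k ∈ KK p E, e = u * k := by
  have h1 : (⟨e, he⟩ : ↥E) ∈ (P₀ : Subgroup ↥E) ⊔ Cfsg.pResidual p ↥E := by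
    rw [sylow_sup_pResidual P₀]; exact mem_top _
  obtain ⟨u, hu, k, hk, huk⟩ := mem_sup_of_normal_right.mp h1
  refine ⟨u, ⟨u, hu, rfl⟩, k, ⟨k, hk, rfl⟩, ?_⟩
  have := congrArg Subtype.val huk
  simpa using this.symm

theorem isComplement_pResidual (E : Subgroup G) (P₀ : Sylow p ↥E)
    (hnpc : Cfsg.HasNormalPComplement p ↥E) :
    (Cfsg.pResidual p ↥E).IsComplement' (P₀ : Subgroup ↥E) := by
  obtain ⟨N, hN, hc⟩ := (hasNormalPComplement_iff P₀).mp hnpc
  haveI := hN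
  rw [← normal_complement_eq_pResidual P₀ N hc]
  exact hc

theorem PP_inf_KK (E : Subgroup G) (P₀ : Sylow p ↥E) (hnpc : Cfsg.HasNormalPComplement p ↥E) :
    PP E P₀ ⊓ KK p E = ⊥ := by
  have hdisj := (isComplement_pResidual E P₀ hnpc).disjoint
  rw [eq_bot_iff]
  rintro x ⟨⟨u, hu, rfl⟩, ⟨k, hk, hku⟩⟩
  have huk : k = u := Subtype.ext hku
  rw [huk] at hk
  have : u ∈ Cfsg.pResidual p ↥E ⊓ (P₀ : Subgroup ↥E) := ⟨hk, hu⟩
  rw [hdisj.eq_bot, mem_bot] at this
  rw [this]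
  simp

theorem card_KK_eq_index (E : Subgroup G) (P₀ : Sylow p ↥E)
    (hnpc : Cfsg.HasNormalPComplement p ↥E) :
    Nat.card (KK p E) = (P₀ : Subgroup ↥E).index := by
  rw [card_KK]
  exact ((isComplement_pResidual E P₀ hnpc).index_eq_card).symm

theorem relIndex_KK_eq_card (E : Subgroup G) (P₀ : Sylow p ↥E)
    (hnpc : Cfsg.HasNormalPComplement p ↥E) :
    (KK p E).relIndex E = Nat.card (P₀ : Subgroup ↥E) := by
  rw [relIndex_KK]
  exact (isComplement_pResidual E P₀ hnpc).symm.index_eq_card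

theorem coprime_card_KK (E : Subgroup G) (P₀ : Sylow p ↥E)
    (hnpc : Cfsg.HasNormalPComplement p ↥E) : (Nat.card (KK p E)).Coprime p := by
  rw [card_KK_eq_index E P₀ hnpc]
  exact ((Fact.out : p.Prime).coprime_iff_not_dvd.mpr P₀.not_dvd_index).symm

theorem card_map_of_inf_eq_bot (K : Subgroup G) [K.Normal] (F : Subgroup G) (h : F ⊓ K = ⊥) :
    Nat.card (F.map (QuotientGroup.mk' K)) = Nat.card F := by
  symm
  apply Nat.card_congr
  refine Equiv.ofBijective (fun x => ⟨QuotientGroup.mk' K x, x, x.2, rfl⟩) ⟨?_, ?_⟩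
  · intro x y hxy
    have h1 : QuotientGroup.mk' K (x : G) = QuotientGroup.mk' K (y : G) :=
      congrArg Subtype.val hxy
    have h2 : (x : G)⁻¹ * y ∈ K := QuotientGroup.eq.mp h1
    have h3 : (x : G)⁻¹ * y ∈ F ⊓ K := ⟨F.mul_mem (F.inv_mem x.2) y.2, h2⟩
    rw [h, mem_bot] at h3
    exact Subtype.ext (inv_mul_eq_one.mp h3)
  · rintro ⟨_, x, hx, rfl⟩
    exact ⟨⟨x, hx⟩, rfl⟩

theorem map_E_eq (E : Subgroup G) [E.Normal] (P₀ : Sylow p ↥E) :
    E.map (QuotientGroup.mk' (KK p E)) = (PP E P₀).map (QuotientGroup.mk' (KK p E)) := by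
  apply le_antisymm
  · rintro _ ⟨e, he, rfl⟩
    obtain ⟨u, hu, k, hk, rfl⟩ := exists_mul E P₀ he
    refine ⟨u, hu, ?_⟩
    rw [map_mul, QuotientGroup.mk'_apply, QuotientGroup.mk'_apply,
      (QuotientGroup.eq_one_iff k).mpr hk, mul_one]
  · exact Subgroup.map_mono (PP_le E P₀)

/-- the image of an `ℋ`-subgroup of the Sylow subgroup is normal in `G ⧸ O^p(E)` -/
theorem normal_map_of_isH (E : Subgroup G) [hEn : E.Normal] (P₀ : Sylow p ↥E)
    {F : Subgroup G} (hFP : F ≤ PP E P₀) (hF : IsH F) :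
    (F.map (QuotientGroup.mk' (KK p E))).Normal := by
  constructor
  rintro _ ⟨x, hx, rfl⟩ gb
  obtain ⟨g, rfl⟩ := QuotientGroup.mk'_surjective _ gb
  have hFE : F ≤ E := hFP.trans (PP_le E P₀)
  have hP : IsPGroup p (PP E P₀) := PP_isPGroup E P₀
  have hFp : IsPGroup p F := hP.to_le hFP
  let A : Subgroup ↥E := (F.map (MulAut.conj g).toMonoidHom).subgroupOf E
  have hA : IsPGroup p A := (hFp.map _).comap_subtype
  obtain ⟨e, he⟩ := exists_conj_le_sylow' P₀ A hA
  have hnorm : PP E P₀ ≤ normalizer (F : Set G) := le_normalizer_of_isH (PP E P₀) F hP hFP hF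
  have key : ∀ x ∈ F, ((e : G) * g) * x * ((e : G) * g)⁻¹ ∈ F := by
    intro x hx
    apply conj_mem_of_isH hnorm hF hx
    have hgx : g * x * g⁻¹ ∈ E := hEn.conj_mem x (hFE hx) g
    have hmemA : (⟨g * x * g⁻¹, hgx⟩ : ↥E) ∈ A :=
      mem_subgroupOf.mpr ⟨x, hx, by simp [MulAut.conj_apply]⟩
    have h2 := he _ hmemA
    refine ⟨_, h2, ?_⟩
    simp
    group
  obtain ⟨u, hu, k, hk, hek⟩ := exists_mul E P₀ e.2
  have hf := key x hx
  have hπe : QuotientGroup.mk' (KK p E) (e : G) = QuotientGroup.mk' (KK p E) u := by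
    rw [hek, map_mul, QuotientGroup.mk'_apply, QuotientGroup.mk'_apply,
      (QuotientGroup.eq_one_iff k).mpr hk, mul_one]
  have hf2 : u⁻¹ * (((e : G) * g) * x * ((e : G) * g)⁻¹) * u ∈ F :=
    conj_inv_mem_of_mem_normalizer (hnorm hu) hf
  refine ⟨_, hf2, ?_⟩
  simp only [map_mul, map_inv, mul_inv_rev, hπe]
  group

/-- subgroups of the image of `E` lift to the Sylow subgroup -/
theorem exists_lift (E : Subgroup G) [E.Normal] (P₀ : Sylow p ↥E)
    (hnpc : Cfsg.HasNormalPComplement p ↥E) (Fb : Subgroup (G ⧸ KK p E))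
    (hFb : Fb ≤ E.map (QuotientGroup.mk' (KK p E))) :
    ∃ F : Subgroup G, F ≤ PP E P₀ ∧ F.map (QuotientGroup.mk' (KK p E)) = Fb ∧
      Nat.card F = Nat.card Fb := by
  have hmap : (Fb.comap (QuotientGroup.mk' (KK p E)) ⊓ PP E P₀).map
      (QuotientGroup.mk' (KK p E)) = Fb := by
    apply le_antisymm
    · rintro _ ⟨x, ⟨hx1, _⟩, rfl⟩
      exact hx1
    · intro y hy
      have := hFb hy
      rw [map_E_eq E P₀] at this
      obtain ⟨u, hu, rfl⟩ := this
      exact ⟨u, ⟨hy, hu⟩, rfl⟩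
  refine ⟨Fb.comap (QuotientGroup.mk' (KK p E)) ⊓ PP E P₀, inf_le_right, hmap, ?_⟩
  rw [← card_map_of_inf_eq_bot (KK p E) _ ?_, hmap]
  rw [eq_bot_iff, ← PP_inf_KK E P₀ hnpc]
  exact inf_le_inf_right _ inf_le_right

end

end Cfsg.Agent.Helper15.HSub
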