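import Mathlib
import Cfsg.Agent.Helper15.HSub8

set_option autoImplicit false
set_option linter.unusedSectionVars false
set_option linter.style.haveILetI false

/-! S3032: the main induction. -/

namespace Cfsg.Agent.Helper15.HSub

open Subgroup Cfsg.Agent.Helper29 Cfsg.Agent.Helper9

universe u

/-- the hypothesis of S3032 on the normal subgroup `E` -/
def Hyp {G : Type*} [Group G] (E : Subgroup G) : Prop :=
  ∀ (p : ℕ), p.Prime → ∀ P : Subgroup G, P ≤ E → IsPGroup p P → ¬ p ∣ P.relIndex E →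
    ¬ IsCyclic ↥P →
      ∃ D : Subgroup G, D ≤ P ∧ 1 < Nat.card D ∧ Nat.card D < Nat.card P ∧
        ∀ F : Subgroup G, F ≤ P → (Nat.card F = Nat.card D ∨ (Nat.card D = 2 ∧ Nat.card F = 4)) →
          IsH F

theorem main (G : Type u) [Group G] [Finite G] : ∀ (n : ℕ) (E : Subgroup G) [E.Normal],
    Nat.card E = n → Cfsg.IsSupersolvable (G ⧸ E) → Hyp E → Cfsg.IsSupersolvable G := by
  intro n
  induction n using Nat.strong_induction_on with
  | _ n ih =>
  intro E hEn hn hss hyp
  by_cases hbot : E = ⊥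
  · subst hbot
    exact isSupersolvable_of_mulEquiv QuotientGroup.quotientBot hss
  have hcard1 : Nat.card E ≠ 1 := fun h => hbot (Subgroup.card_eq_one.mp h)
  set p := (Nat.card E).minFac with hpdef
  have hp : p.Prime := Nat.minFac_prime hcard1
  haveI : Fact p.Prime := ⟨hp⟩
  have hmin : ∀ q : ℕ, q.Prime → q ∣ Nat.card E → p ≤ q :=
    fun q hq hdvd => Nat.minFac_le_of_dvd hq.two_le hdvd
  have hpdvd : p ∣ Nat.card E := Nat.minFac_dvd _
  let P₀ : Sylow p ↥E := default
  have hrel : ¬ p ∣ (PP E P₀).relIndex E := by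
    rw [relIndex_PP]; exact P₀.not_dvd_index
  have hnpc : Cfsg.HasNormalPComplement p ↥E :=
    npc_of_hyp E hmin P₀ (fun hnc => hyp p hp (PP E P₀) (PP_le E P₀) (PP_isPGroup E P₀) hrel hnc)
  have hKE : KK p E ≤ E := KK_le E
  -- the quotient by `O^p(E)` is supersolvable
  have hGK : Cfsg.IsSupersolvable (G ⧸ KK p E) := by
    have hπ : Function.Surjective (QuotientGroup.mk' (KK p E)) :=
      QuotientGroup.mk'_surjective (KK p E)
    haveI : (E.map (QuotientGroup.mk' (KK p E))).Normal :=
      Subgroup.Normal.map inferInstance _ hπ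
    have hEbp : IsPGroup p (E.map (QuotientGroup.mk' (KK p E))) := by
      rw [map_E_eq E P₀]; exact (PP_isPGroup E P₀).map _
    have hss' : Cfsg.IsSupersolvable ((G ⧸ KK p E) ⧸ E.map (QuotientGroup.mk' (KK p E))) :=
      isSupersolvable_of_mulEquiv
        (QuotientGroup.quotientQuotientEquivQuotient (KK p E) E hKE).symm hss
    have hcardEb : Nat.card (E.map (QuotientGroup.mk' (KK p E))) = Nat.card (PP E P₀) := by
      rw [map_E_eq E P₀]
      exact card_map_of_inf_eq_bot (KK p E) _ (PP_inf_KK E P₀ hnpc)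
    apply ssolv_of_normal_pgroup (p := p) (G ⧸ KK p E) (E.map (QuotientGroup.mk' (KK p E)))
      hEbp hss'
    by_cases hc : IsCyclic ↥(PP E P₀)
    · left
      obtain ⟨c, hc'⟩ := (Subgroup.isCyclic_iff_exists_zpowers_eq_top (PP E P₀)).mp hc
      refine ⟨QuotientGroup.mk' (KK p E) c, ?_⟩
      rw [map_E_eq E P₀, ← hc', MonoidHom.map_zpowers]
    · right
      obtain ⟨D, hDP, hD1, hDlt, hH⟩ :=
        hyp p hp (PP E P₀) (PP_le E P₀) (PP_isPGroup E P₀) hrel hc
      obtain ⟨d, hd⟩ := IsPGroup.iff_card.mp ((PP_isPGroup E P₀).to_le hDP)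
      have hd1 : 1 ≤ d := by
        rcases Nat.eq_zero_or_pos d with h0 | h0
        · rw [hd, h0, pow_zero] at hD1; exact absurd hD1 (lt_irrefl 1)
        · exact h0
      refine ⟨d, hd1, by rw [hcardEb, ← hd]; exact hDlt, ?_⟩
      intro Fb hFb hfam
      obtain ⟨F, hFP, hFmap, hFcard⟩ := exists_lift E P₀ hnpc Fb hFb
      rw [← hFmap]
      apply normal_map_of_isH E P₀ hFP
      apply hH F hFP
      rw [hFcard, hd]
      exact hfam
  -- induction for `O^p(E)`
  have hKlt : Nat.card (KK p E) < n := by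
    rw [card_KK_eq_index E P₀ hnpc, ← hn, ← (P₀ : Subgroup ↥E).card_mul_index]
    have h1 : 1 < Nat.card (P₀ : Subgroup ↥E) := by
      obtain ⟨k, hk⟩ := IsPGroup.iff_card.mp P₀.2
      have hk0 : k ≠ 0 := by
        intro h0
        have h2 := P₀.card_eq_multiplicity
        rw [hk, h0, pow_zero] at h2
        have h3 : 0 < (Nat.card ↥E).factorization p :=
          hp.factorization_pos_of_dvd Nat.card_pos.ne' hpdvd
        have h4 : 1 < p ^ (Nat.card ↥E).factorization p :=
          Nat.one_lt_pow h3.ne' hp.one_lt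
        omega
      rw [hk]
      exact Nat.one_lt_pow hk0 hp.one_lt
    have h2 : 0 < (P₀ : Subgroup ↥E).index :=
      Nat.pos_of_ne_zero Subgroup.index_ne_zero_of_finite
    nlinarith
  apply ih _ hKlt (KK p E) rfl hGK
  intro r hr R hRK hRr hRrel hRnc
  by_cases hrp : r = p
  · exfalso
    apply hRnc
    rw [hrp] at hRr
    have hcop := coprime_card_KK E P₀ hnpc
    have h1 : Nat.card R ∣ Nat.card (KK p E) := Subgroup.card_dvd_of_le hRK
    obtain ⟨k, hk⟩ := IsPGroup.iff_card.mp hRr
    have h2 : Nat.card R = 1 := by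
      rcases Nat.eq_zero_or_pos k with h0 | h0
      · rw [hk, h0, pow_zero]
      · exfalso
        have h3 : p ∣ Nat.card (KK p E) := (dvd_pow_self p h0.ne').trans (hk ▸ h1)
        have := Nat.Coprime.eq_one_of_dvd hcop.symm h3
        exact hp.one_lt.ne' this
    have hRbot : R = ⊥ := Subgroup.card_eq_one.mp h2
    subst hRbot
    exact isCyclic_of_subsingleton
  · have hrel' : ¬ r ∣ R.relIndex E := by
      rw [← Subgroup.relIndex_mul_relIndex R (KK p E) E hRK hKE, relIndex_KK_eq_card E P₀ hnpc]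
      intro hdvd
      rcases (Nat.Prime.dvd_mul hr).mp hdvd with h | h
      · exact hRrel h
      · obtain ⟨k, hk⟩ := IsPGroup.iff_card.mp P₀.2
        rw [hk] at h
        exact hrp ((Nat.prime_dvd_prime_iff_eq hr hp).mp (hr.dvd_of_dvd_pow h))
    exact hyp r hr R (hRK.trans hKE) hRr hrel' hRnc

end Cfsg.Agent.Helper15.HSub
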