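import Mathlib
import Cfsg.Agent.Helper25.HT3371Defs

set_option autoImplicit false

/-! S3371 piece COORD: coordinates on a two-dimensional space from two independent vectors. -/

namespace Cfsg.Agent.HT3371

namespace COORD

/-- the coordinate map -/
def lin {q : ℕ} {V : Type*} [AddCommGroup V] [Module (ZMod q) V] (e₁ e₂ : V) :
    (Fin 2 → ZMod q) →ₗ[ZMod q] V :=
  (LinearMap.proj (R := ZMod q) (φ := fun _ : Fin 2 => ZMod q) 0).smulRight e₁ +
    (LinearMap.proj (R := ZMod q) (φ := fun _ : Fin 2 => ZMod q) 1).smulRight e₂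

theorem lin_apply {q : ℕ} {V : Type*} [AddCommGroup V] [Module (ZMod q) V] (e₁ e₂ : V)
    (c : Fin 2 → ZMod q) : lin e₁ e₂ c = c 0 • e₁ + c 1 • e₂ := by
  simp [lin]

end COORD

theorem exists_coord {q : ℕ} [Fact q.Prime] {V : Type*} [AddCommGroup V]
    [Module (ZMod q) V] [Finite V] (hcard : Nat.card V = q ^ 2) (e₁ e₂ : V)
    (hind : ∀ x y : ZMod q, x • e₁ + y • e₂ = 0 → x = 0 ∧ y = 0) :
    ∃ e : V ≃ₗ[ZMod q] (Fin 2 → ZMod q), ∀ c : Fin 2 → ZMod q,
      e.symm c = c 0 • e₁ + c 1 • e₂ := by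
  have hinj : Function.Injective (COORD.lin (q := q) e₁ e₂) := by
    rw [← LinearMap.ker_eq_bot, LinearMap.ker_eq_bot']
    intro c hc
    rw [COORD.lin_apply] at hc
    obtain ⟨h0, h1⟩ := hind _ _ hc
    funext i
    fin_cases i
    · exact h0
    · exact h1
  have hc2 : Nat.card (Fin 2 → ZMod q) = q ^ 2 := by
    rw [Nat.card_fun, Nat.card_zmod, Nat.card_eq_fintype_card, Fintype.card_fin]
  have hbij : Function.Bijective (COORD.lin (q := q) e₁ e₂) :=
    hinj.bijective_of_nat_card_le (by rw [hcard, hc2])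
  refine ⟨(LinearEquiv.ofBijective (COORD.lin (q := q) e₁ e₂) hbij).symm, fun c => ?_⟩
  rw [LinearEquiv.symm_symm, LinearEquiv.ofBijective_apply, COORD.lin_apply]

end Cfsg.Agent.HT3371
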