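import Mathlib
import Cfsg.Agent.Helper25.HT3371Defs

set_option autoImplicit false

/-! S3371 piece LINE: a submodule of cardinality `q` over `ZMod q` is a line. -/

namespace Cfsg.Agent.HT3371

theorem exists_smul_of_card_eq {q : ℕ} [Fact q.Prime] {V : Type*} [AddCommGroup V]
    [Module (ZMod q) V] (W : Submodule (ZMod q) V) (hW : Nat.card W = q) (e : V) (he : e ∈ W)
    (he0 : e ≠ 0) (u : V) (hu : u ∈ W) : ∃ c : ZMod q, u = c • e := by
  have hq : q.Prime := Fact.out
  haveI : Finite W := Nat.finite_of_card_ne_zero (by rw [hW]; exact hq.ne_zero)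
  let f : ZMod q → W := fun c => ⟨c • e, W.smul_mem c he⟩
  have hinj : Function.Injective f := by
    intro c c' hcc
    have h1 : c • e = c' • e := congrArg Subtype.val hcc
    have h2 : (c - c') • e = 0 := by rw [sub_smul, h1, sub_self]
    rcases smul_eq_zero.1 h2 with h3 | h3
    · exact sub_eq_zero.1 h3
    · exact absurd h3 he0
  have hbij := hinj.bijective_of_nat_card_le (by rw [hW, Nat.card_zmod])
  obtain ⟨c, hc⟩ := hbij.2 ⟨u, hu⟩
  exact ⟨c, (congrArg Subtype.val hc).symm⟩

end Cfsg.Agent.HT3371
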