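import Mathlib
import Cfsg.Agent.Helper25.HT3371Defs

set_option autoImplicit false

/-! S3371 piece NUM1: a submodule of cardinality `2^k + 1` over `ZMod q` has cardinality `q` or `9`. -/

namespace Cfsg.Agent.HT3371

namespace NUM1

/-- geometric sum identity in `ℕ`, subtraction-free -/
theorem geom_id (r : ℕ) : ∀ d : ℕ, r * (∑ i ∈ Finset.range d, (r + 1) ^ i) + 1 = (r + 1) ^ d := by
  intro d
  induction d with
  | zero => simp
  | succ d ih =>
    rw [Finset.sum_range_succ, mul_add, pow_succ]
    have : r * (r + 1) ^ d + (r * (∑ i ∈ Finset.range d, (r + 1) ^ i) + 1) =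
        (r + 1) ^ d * (r + 1) := by
      rw [ih]; ring
    omega

/-- a sum of `d` odd numbers has the parity of `d` -/
theorem odd_geom (x d : ℕ) (hx : Odd x) (hd : Odd d) :
    Odd (∑ i ∈ Finset.range d, x ^ i) := by
  rw [Finset.odd_sum_iff_odd_card_odd]
  have : (Finset.range d).filter (fun i => Odd (x ^ i)) = Finset.range d := by
    apply Finset.filter_true_of_mem
    intro i _
    exact hx.pow
  rw [this, Finset.card_range]
  exact hd

/-- an odd divisor of a power of two is one -/
theorem eq_one_of_odd_dvd (s k : ℕ) (hs : Odd s) (hdvd : s ∣ 2 ^ k) : s = 1 := by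
  obtain ⟨j, _, rfl⟩ := (Nat.dvd_prime_pow Nat.prime_two).1 hdvd
  rcases j with _ | j
  · simp
  · exfalso
    rw [pow_succ] at hs
    exact (Nat.not_even_iff_odd.2 hs) (even_two.mul_left _)

/-- two powers of two differing by two are `2` and `4` -/
theorem two_pow_gap (a b : ℕ) (h : 2 ^ b = 2 ^ a + 2) : a = 1 := by
  rcases a with _ | _ | a
  · exfalso
    simp only [pow_zero] at h
    rcases b with _ | b
    · simp at h
    · rw [pow_succ] at h; omega
  · rfl
  · exfalso
    have h4 : 2 ^ (a + 2) = 4 * 2 ^ a := by rw [pow_add]; ring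
    rw [h4] at h
    have hpa : 0 < 2 ^ a := by positivity
    rcases b with _ | _ | b
    · simp only [pow_zero] at h; omega
    · simp only [zero_add, pow_one] at h; omega
    · have h5 : 2 ^ (b + 2) = 4 * 2 ^ b := by rw [pow_add]; ring
      rw [h5] at h; omega

/-- the number theory: a prime power `q^d = 2^k + 1` has `d = 1`, or `q = 3` and `d = 2` -/
theorem pow_eq_two_pow_add_one {q d k : ℕ} (hq : q.Prime) (h : q ^ d = 2 ^ k + 1) :
    d = 1 ∨ (q = 3 ∧ d = 2) := by
  have h2k : 0 < 2 ^ k := by positivity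
  -- d ≠ 0
  have hd0 : d ≠ 0 := by
    rintro rfl
    simp at h
  rcases Nat.Prime.eq_two_or_odd' hq with rfl | hqodd
  · -- q = 2
    left
    rcases k with _ | k
    · simp only [pow_zero] at h
      have : (2 : ℕ) ^ d = 2 ^ 1 := by rw [h]; norm_num
      exact Nat.pow_right_injective (le_refl 2) this
    · exfalso
      obtain ⟨d', rfl⟩ := Nat.exists_eq_succ_of_ne_zero hd0
      rw [pow_succ, pow_succ] at h
      omega
  · -- q odd
    rcases Nat.even_or_odd d with hde | hdo
    · -- d even
      right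
      obtain ⟨e, rfl⟩ := hde
      have he0 : e ≠ 0 := by rintro rfl; exact hd0 rfl
      obtain ⟨x, hx⟩ : ∃ x, x = q ^ e := ⟨_, rfl⟩
      have hxx : x * x = 2 ^ k + 1 := by rw [← h, hx, ← pow_add]
      have hxodd : Odd x := by rw [hx]; exact hqodd.pow
      have hx1 : 1 ≤ x := Nat.one_le_iff_ne_zero.2 (by rw [hx]; exact pow_ne_zero _ hq.ne_zero)
      have hprod : (x - 1) * (x + 1) = 2 ^ k := by
        obtain ⟨y, rfl⟩ : ∃ y, x = y + 1 := ⟨x - 1, by omega⟩
        simp only [Nat.add_sub_cancel]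
        have : (y + 1) * (y + 1) = y * (y + 1 + 1) + 1 := by ring
        omega
      obtain ⟨a, _, ha⟩ := (Nat.dvd_prime_pow Nat.prime_two).1 (Dvd.intro _ hprod)
      obtain ⟨b, _, hb⟩ := (Nat.dvd_prime_pow Nat.prime_two).1 (Dvd.intro_left _ hprod)
      have hgap : 2 ^ b = 2 ^ a + 2 := by omega
      have ha1 := two_pow_gap a b hgap
      subst ha1
      have hx3 : x = 3 := by simp at ha; omega
      have := (Nat.Prime.pow_eq_iff Nat.prime_three).1 (hx ▸ hx3)
      obtain ⟨hq3, he1⟩ := this
      exact ⟨hq3, by omega⟩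
    · -- d odd
      left
      by_contra hd1
      obtain ⟨r, rfl⟩ : ∃ r, q = r + 1 := ⟨q - 1, by have := hq.two_le; omega⟩
      have hid := geom_id r d
      set S := ∑ i ∈ Finset.range d, (r + 1) ^ i with hS
      have hSodd : Odd S := odd_geom (r + 1) d hqodd hdo
      have hdvd : S ∣ 2 ^ k := ⟨r, by rw [mul_comm]; omega⟩
      have hS1 := eq_one_of_odd_dvd S k hSodd hdvd
      -- but S ≥ 1 + q
      have hd2 : 2 ≤ d := by
        rcases hdo with ⟨m, rfl⟩
        omega
      obtain ⟨d', rfl⟩ : ∃ d', d = d' + 2 := ⟨d - 2, by omega⟩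
      have hge : 1 + (r + 1) ≤ S := by
        rw [hS, Finset.sum_range_succ', Finset.sum_range_succ']
        simp only [pow_zero, zero_add, pow_one]
        omega
      omega

end NUM1

theorem card_eq_or_nine {q : ℕ} [Fact q.Prime] {V : Type*} [AddCommGroup V]
    [Module (ZMod q) V] [Finite V] (W : Submodule (ZMod q) V) (k : ℕ)
    (h : Nat.card W = 2 ^ k + 1) : Nat.card W = q ∨ (q = 3 ∧ Nat.card W = 9) := by
  have hq : q.Prime := Fact.out
  have hcard : Nat.card W = q ^ Module.finrank (ZMod q) W := by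
    rw [Module.natCard_eq_pow_finrank (K := ZMod q) (V := W), Nat.card_zmod]
  rw [hcard] at h ⊢
  rcases NUM1.pow_eq_two_pow_add_one hq h with h1 | ⟨h3, h2⟩
  · left; rw [h1, pow_one]
  · right; refine ⟨h3, ?_⟩; rw [h2, h3]; norm_num

end Cfsg.Agent.HT3371
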