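import Mathlib
import Cfsg.Agent.Helper25.HT3371Defs

set_option autoImplicit false

/-! S3371 piece NUM2: `|V| = Q^2` with `Q + 1 = 2^m`, `m ≥ 2`, forces `Q = q`. -/

namespace Cfsg.Agent.HT3371

namespace NUM2

/-- for odd `x` and odd `d`: `x^d + 1 = (x + 1) * A` with `A` odd (in `ℤ`) -/
theorem exists_odd_cofactor (x : ℤ) (hx : Odd x) :
    ∀ e : ℕ, ∃ A : ℤ, Odd A ∧ x ^ (2 * e + 1) + 1 = (x + 1) * A := by
  intro e
  induction e with
  | zero => exact ⟨1, odd_one, by ring⟩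
  | succ e ih =>
    obtain ⟨A, hA, hAe⟩ := ih
    refine ⟨x ^ 2 * A - (x - 1), ?_, ?_⟩
    · have h1 : Odd (x ^ 2 * A) := (hx.pow).mul hA
      have h2 : Even (x - 1) := hx.sub_odd odd_one
      exact h1.sub_even h2
    · have : x ^ (2 * (e + 1) + 1) + 1 = x ^ 2 * (x ^ (2 * e + 1) + 1) - (x ^ 2 - 1) := by ring
      rw [this, hAe]; ring

/-- `q^d + 1 = 2^m` with `q` an odd prime, `m ≥ 2` forces `d = 1` -/
theorem pow_add_one_eq_two_pow {q d m : ℕ} (hq : q.Prime) (hqodd : Odd q) (hm : 2 ≤ m)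
    (h : q ^ d + 1 = 2 ^ m) : d = 1 := by
  obtain ⟨m', rfl⟩ : ∃ m', m = m' + 2 := ⟨m - 2, by omega⟩
  have h4 : 2 ^ (m' + 2) = 4 * 2 ^ m' := by rw [pow_add]; ring
  rcases Nat.even_or_odd d with hde | hdo
  · -- d even: q^d ≡ 1 mod 4
    exfalso
    obtain ⟨e, rfl⟩ := hde
    have hxodd : Odd (q ^ e) := hqodd.pow
    obtain ⟨y, hy⟩ := hxodd
    have : q ^ (e + e) = (q ^ e) * (q ^ e) := by rw [pow_add]
    rw [this, hy, h4] at h
    have h5 : (2 * y + 1) * (2 * y + 1) = 4 * (y * y + y) + 1 := by ring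
    omega
  · obtain ⟨e, rfl⟩ := hdo
    have hqz : Odd (q : ℤ) := by exact_mod_cast hqodd
    obtain ⟨A, hA, hAe⟩ := exists_odd_cofactor (q : ℤ) hqz e
    have hz : ((q : ℤ) + 1) * A = 2 ^ (m' + 2) := by
      rw [← hAe]; exact_mod_cast h
    -- A is positive
    have hq1 : (0 : ℤ) < (q : ℤ) + 1 := by positivity
    have hApos : 0 < A := by
      have : (0 : ℤ) < ((q : ℤ) + 1) * A := by rw [hz]; positivity
      exact (mul_pos_iff_of_pos_left hq1).1 this
    -- A.natAbs is an odd divisor of 2^m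
    have hdvd : A.natAbs ∣ 2 ^ (m' + 2) := by
      have h1 : A ∣ (2 : ℤ) ^ (m' + 2) := ⟨(q : ℤ) + 1, by rw [← hz]; ring⟩
      have h2 := Int.natAbs_dvd_natAbs.2 h1
      simpa [Int.natAbs_pow] using h2
    have hoddA : Odd A.natAbs := Int.natAbs_odd.2 hA
    obtain ⟨j, _, hj⟩ := (Nat.dvd_prime_pow Nat.prime_two).1 hdvd
    have hj0 : j = 0 := by
      rcases j with _ | j
      · rfl
      · exfalso
        rw [hj, pow_succ] at hoddA
        exact (Nat.not_even_iff_odd.2 hoddA) (even_two.mul_left _)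
    rw [hj0, pow_zero] at hj
    have hA1 : A = 1 := by
      have := Int.natAbs_of_nonneg hApos.le
      omega
    rw [hA1, mul_one] at hAe
    have hqq : q ^ (2 * e + 1) = q ^ 1 := by
      have : (q : ℤ) ^ (2 * e + 1) = (q : ℤ) := by linarith
      rw [pow_one]; exact_mod_cast this
    exact Nat.pow_right_injective hq.two_le hqq

end NUM2

theorem card_sq_mersenne {q : ℕ} [Fact q.Prime] {V : Type*} [AddCommGroup V]
    [Module (ZMod q) V] [Finite V] (Q m : ℕ) (hm : 2 ≤ m) (hV : Nat.card V = Q ^ 2)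
    (hQ : Q + 1 = 2 ^ m) : Q = q := by
  have hq : q.Prime := Fact.out
  have hcard : Nat.card V = q ^ Module.finrank (ZMod q) V := by
    rw [Module.natCard_eq_pow_finrank (K := ZMod q) (V := V), Nat.card_zmod]
  rw [hcard] at hV
  -- Q divides q^D, so Q = q^d
  have hdvd : Q ∣ q ^ Module.finrank (ZMod q) V := ⟨Q, by rw [hV]; ring⟩
  obtain ⟨d, _, rfl⟩ := (Nat.dvd_prime_pow hq).1 hdvd
  -- Q ≥ 3
  have h4 : 4 ≤ 2 ^ m := by
    calc 4 = 2 ^ 2 := by norm_num
      _ ≤ 2 ^ m := Nat.pow_le_pow_right (by norm_num) hm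
  -- q is odd
  have hqodd : Odd q := by
    rcases Nat.Prime.eq_two_or_odd' hq with rfl | ho
    · exfalso
      rcases d with _ | d
      · simp at hQ; omega
      · obtain ⟨m', rfl⟩ : ∃ m', m = m' + 1 := ⟨m - 1, by omega⟩
        rw [pow_succ, pow_succ] at hQ; omega
    · exact ho
  have hd1 := NUM2.pow_add_one_eq_two_pow hq hqodd hm hQ
  rw [hd1, pow_one]

end Cfsg.Agent.HT3371
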