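import Mathlib
import Cfsg.Agent.Helper25.HT3371Defs

set_option autoImplicit false

/-! S3371 piece ODDD: the blocks `fixSp (a z^j)` are independent. -/

namespace Cfsg.Agent.HT3371

namespace ODDD

theorem pow_fix {q : ℕ} {V : Type*} [AddCommGroup V] [Module (ZMod q) V]
    {G : Type*} [Group G] (ρ : G →* (V ≃ₗ[ZMod q] V)) (x : G) (u : V) (h : ρ x u = u) :
    ∀ i : ℕ, ρ (x ^ i) u = u := by
  intro i
  induction i with
  | zero => rw [pow_zero, map_one]; rfl
  | succ i ih => rw [pow_succ, map_mul, LinearEquiv.mul_apply, h, ih]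

end ODDD

theorem direct_of_proj {q : ℕ} [Fact q.Prime] {V : Type*} [AddCommGroup V] [Module (ZMod q) V]
    {G : Type*} [Group G] (ρ : G →* (V ≃ₗ[ZMod q] V)) (p : ℕ) [Fact p.Prime] (hpq : p ≠ q)
    (z a : G)
    (hproj : ∀ j l : ℕ, j < p → l < p → j ≠ l → ∀ u : V, u ∈ fixSp ρ (a * z ^ j) →
      ∑ i ∈ Finset.range p, ρ ((a * z ^ l) ^ i) u = 0) : Direct ρ p z a := by
  have hp : p.Prime := Fact.out
  have hq : q.Prime := Fact.out
  intro f hf hsum l hl
  -- apply T_l to the relation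
  have h1 : ∑ i ∈ Finset.range p, ρ ((a * z ^ l) ^ i) (∑ j ∈ Finset.range p, f j) = 0 := by
    rw [hsum]
    simp
  have h2 : ∑ i ∈ Finset.range p, ρ ((a * z ^ l) ^ i) (∑ j ∈ Finset.range p, f j) =
      ∑ j ∈ Finset.range p, ∑ i ∈ Finset.range p, ρ ((a * z ^ l) ^ i) (f j) := by
    rw [Finset.sum_comm]
    apply Finset.sum_congr rfl
    intro i _
    rw [map_sum]
  rw [h2] at h1
  have h3 : ∑ j ∈ Finset.range p, ∑ i ∈ Finset.range p, ρ ((a * z ^ l) ^ i) (f j) =
      ∑ i ∈ Finset.range p, ρ ((a * z ^ l) ^ i) (f l) := by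
    apply Finset.sum_eq_single l
    · intro j hj hjl
      rw [Finset.mem_range] at hj
      exact hproj j l hj hl hjl (f j) (hf j hj)
    · intro hl'
      exact absurd (Finset.mem_range.2 hl) hl'
  rw [h3] at h1
  have h4 : ∑ i ∈ Finset.range p, ρ ((a * z ^ l) ^ i) (f l) = (p : ZMod q) • f l := by
    have hfix := ODDD.pow_fix ρ (a * z ^ l) (f l) ((mem_fixSp ρ _ _).1 (hf l hl))
    rw [Finset.sum_congr rfl (fun i _ => hfix i), Finset.sum_const, Finset.card_range,
      Nat.cast_smul_eq_nsmul]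
  rw [h4] at h1
  have hpne : (p : ZMod q) ≠ 0 := by
    rw [Ne, ZMod.natCast_eq_zero_iff]
    intro hdvd
    exact hpq ((Nat.prime_dvd_prime_iff_eq hq hp).1 hdvd).symm
  rcases smul_eq_zero.1 h1 with h5 | h5
  · exact absurd h5 hpne
  · exact h5

end Cfsg.Agent.HT3371
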