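import Mathlib
import Cfsg.Agent.Helper25.HT3371Defs

set_option autoImplicit false

/-! S3371 piece ODDG: `a` is not central. -/

namespace Cfsg.Agent.HT3371

namespace ODDG

/-- the `y`-sum of a vector is fixed by `y` when `y ^ p = 1` -/
theorem fix_sum {q : ℕ} {V : Type*} [AddCommGroup V] [Module (ZMod q) V]
    {G : Type*} [Group G] (ρ : G →* (V ≃ₗ[ZMod q] V)) (p : ℕ) (y : G) (hy : y ^ p = 1) (v : V) :
    ρ y (∑ i ∈ Finset.range p, ρ (y ^ i) v) = ∑ i ∈ Finset.range p, ρ (y ^ i) v := by
  rw [map_sum]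
  have hstep : ∀ t : ℕ, ρ y (ρ (y ^ t) v) = ρ (y ^ (t + 1)) v := by
    intro t
    rw [← LinearEquiv.mul_apply, ← map_mul, ← pow_succ']
  rw [Finset.sum_congr rfl (fun t _ => hstep t)]
  have h1 := Finset.sum_range_succ' (fun t => ρ (y ^ t) v) p
  have h2 := Finset.sum_range_succ (fun t => ρ (y ^ t) v) p
  rw [h1] at h2
  simp only [pow_zero, hy] at h2
  exact add_right_cancel h2

end ODDG

theorem exists_shift {q : ℕ} [Fact q.Prime] {V : Type*} [AddCommGroup V] [Module (ZMod q) V]
    [Nontrivial V] {G : Type*} [Group G] (ρ : G →* (V ≃ₗ[ZMod q] V)) (p : ℕ) [Fact p.Prime]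
    (hpq : p ≠ q) (z a : G) (hd : OddData p z a) (hfpf : NormalFpf ρ) (hspan : SpanId ρ p z a) :
    ∃ (h : G) (i : ℕ), ¬ p ∣ i ∧ h * a * h⁻¹ = a * z ^ i := by
  have hp : p.Prime := Fact.out
  have hq : q.Prime := Fact.out
  by_contra hcon
  push_neg at hcon
  have hzp : z ^ p = 1 := by rw [← hd.z_ord]; exact pow_orderOf_eq_one z
  have hap : a ^ p = 1 := by rw [← hd.a_ord]; exact pow_orderOf_eq_one a
  -- a is central
  have hacent : ∀ h : G, h * a = a * h := by
    intro h
    obtain ⟨i, hi⟩ := hd.conj h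
    have hpi : p ∣ i := by
      by_contra hnd
      exact hcon h i hnd hi
    have hzi : z ^ i = 1 := by
      rw [← hd.z_ord] at hpi
      exact orderOf_dvd_iff_pow_eq_one.1 hpi
    rw [hzi, mul_one] at hi
    calc h * a = (h * a * h⁻¹) * h := by rw [inv_mul_cancel_right]
      _ = a * h := by rw [hi]
  have hzcent : ∀ (j : ℕ) (h : G), h * z ^ j = z ^ j * h := by
    intro j h
    exact ((show Commute h z from hd.z_comm h).pow_right j)
  -- each sum vanishes
  have hzero : ∀ (j : ℕ) (v : V), ∑ i ∈ Finset.range p, ρ ((a * z ^ j) ^ i) v = 0 := by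
    intro j v
    set y := a * z ^ j with hy
    have hycent : ∀ h : G, h * y = y * h := by
      intro h
      rw [hy, ← mul_assoc, hacent h, mul_assoc, hzcent j h, ← mul_assoc]
    have hyp : y ^ p = 1 := by
      have hc : Commute a (z ^ j) := (hacent (z ^ j)).symm
      rw [hy, hc.mul_pow, hap, ← pow_mul, mul_comm, pow_mul, hzp, one_pow, mul_one]
    have hy1 : y ≠ 1 := by
      intro h1
      apply hd.a_not_mem
      have : a = (z ^ j)⁻¹ := eq_inv_of_mul_eq_one_left h1
      rw [this]
      exact Subgroup.inv_mem _ (Subgroup.pow_mem _ (Subgroup.mem_zpowers z) j)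
    have hN : (Subgroup.zpowers y).Normal := by
      constructor
      intro n hn g
      have hcomm : ∀ n ∈ Subgroup.zpowers y, g * n = n * g := by
        intro n hn
        obtain ⟨k, rfl⟩ := Subgroup.mem_zpowers_iff.1 hn
        exact ((show Commute g y from hycent g).zpow_right k)
      rw [hcomm n hn, mul_inv_cancel_right]
      exact hn
    have hNne : Subgroup.zpowers y ≠ ⊥ := by
      intro hb
      apply hy1
      have : y ∈ (⊥ : Subgroup G) := hb ▸ Subgroup.mem_zpowers y
      exact Subgroup.mem_bot.1 this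
    apply hfpf (Subgroup.zpowers y) hN hNne
    intro n hn
    have hle : Subgroup.zpowers y ≤ stab ρ (∑ i ∈ Finset.range p, ρ (y ^ i) v) := by
      rw [Subgroup.zpowers_le, mem_stab]
      exact ODDG.fix_sum ρ p y hyp v
    exact (mem_stab ρ _ n).1 (hle hn)
  obtain ⟨v, hv⟩ := exists_ne (0 : V)
  have h1 := hspan v
  rw [Finset.sum_eq_zero (fun j _ => hzero j v)] at h1
  have hpne : (p : ZMod q) ≠ 0 := by
    rw [Ne, ZMod.natCast_eq_zero_iff]
    intro hdvd
    exact hpq ((Nat.prime_dvd_prime_iff_eq hq hp).1 hdvd).symm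
  rcases smul_eq_zero.1 h1.symm with h3 | h3
  · exact hpne h3
  · exact hv h3

end Cfsg.Agent.HT3371
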