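import Mathlib
import Cfsg.Agent.Helper25.HT3371Defs

set_option autoImplicit false

/-! S3371 piece P0: a half-transitive faithful `q`-group on a `ZMod q`-space is trivial. -/

namespace Cfsg.Agent.HT3371

theorem subsingleton_of_eq {q : ℕ} [Fact q.Prime] {V : Type*} [AddCommGroup V]
    [Module (ZMod q) V] [Finite V] [Nontrivial V] {G : Type*} [Group G] [Finite G]
    (hG : IsPGroup q G) (ρ : G →* (V ≃ₗ[ZMod q] V)) (hinj : Function.Injective ρ)
    (hhalf : HalfTrans ρ) : Subsingleton G := by
  have hq : q.Prime := Fact.out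
  letI act : MulAction G V := MulAction.compHom V ρ
  have hsmul : ∀ (g : G) (v : V), g • v = ρ g v := fun g v => rfl
  -- q divides |V|
  have hcard : Nat.card V = q ^ Module.finrank (ZMod q) V := by
    rw [Module.natCard_eq_pow_finrank (K := ZMod q) (V := V), Nat.card_zmod]
  have hdvd : q ∣ Nat.card V := by
    rw [hcard]
    apply dvd_pow_self
    intro h0
    rw [h0, pow_zero] at hcard
    have := Finite.one_lt_card (α := V)
    omega
  have h0fix : (0 : V) ∈ MulAction.fixedPoints G V := by
    intro g
    rw [hsmul, map_zero]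
  obtain ⟨b, hbfix, hb0⟩ := hG.exists_fixed_point_of_prime_dvd_card_of_fixed_point V hdvd h0fix
  have hb : ∀ g : G, ρ g b = b := fun g => by rw [← hsmul]; exact hbfix g
  have hbne : b ≠ 0 := fun h => hb0 h.symm
  -- the orbit set of b is a singleton
  have horb : Nat.card {u : V | ∃ g : G, ρ g b = u} = 1 := by
    have : {u : V | ∃ g : G, ρ g b = u} = {b} := by
      ext u
      simp only [Set.mem_setOf_eq, Set.mem_singleton_iff]
      constructor
      · rintro ⟨g, rfl⟩; exact hb g
      · rintro rfl; exact ⟨1, hb 1⟩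
    rw [this]
    simp
  -- every g fixes every vector
  have hall : ∀ (g : G) (w : V), ρ g w = w := by
    intro g w
    by_cases hw : w = 0
    · rw [hw, map_zero]
    · have h1 := hhalf w b hw hbne
      rw [horb] at h1
      rw [Nat.card_eq_one_iff_unique] at h1
      obtain ⟨hsub, _⟩ := h1
      have e1 : (⟨ρ g w, ⟨g, rfl⟩⟩ : {u : V | ∃ g : G, ρ g w = u}) =
          ⟨w, ⟨1, by rw [map_one]; rfl⟩⟩ := Subsingleton.elim _ _
      exact congrArg Subtype.val e1
  refine ⟨fun g h => ?_⟩
  have hg : ρ g = ρ h := by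
    ext w
    rw [hall g w, hall h w]
  exact hinj hg

end Cfsg.Agent.HT3371
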