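import Mathlib
import Cfsg.Agent.Helper25.HT3371Defs

set_option autoImplicit false

/-! S3371 piece SEMI: in a semiregular action commuting elements of order `p` generate the same
subgroup. -/

namespace Cfsg.Agent.HT3371

namespace SEMI

/-- in a semiregular action the `x`-sums vanish for `x ≠ 1`, `x ^ p = 1` -/
theorem sumZ_of_semireg {q : ℕ} {V : Type*} [AddCommGroup V] [Module (ZMod q) V]
    {G : Type*} [Group G] (ρ : G →* (V ≃ₗ[ZMod q] V)) (p : ℕ) (hs : Semireg ρ)
    (x : G) (hxp : x ^ p = 1) (hx1 : x ≠ 1) : SumZ ρ p x := by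
  intro v
  by_contra hne
  apply hx1
  apply hs _ hne x
  rw [map_sum]
  have hstep : ∀ t : ℕ, ρ x (ρ (x ^ t) v) = ρ (x ^ (t + 1)) v := by
    intro t
    rw [← LinearEquiv.mul_apply, ← map_mul, ← pow_succ']
  rw [Finset.sum_congr rfl (fun t _ => hstep t)]
  have h1 := Finset.sum_range_succ' (fun t => ρ (x ^ t) v) p
  have h2 := Finset.sum_range_succ (fun t => ρ (x ^ t) v) p
  rw [h1] at h2
  simp only [pow_zero, hxp] at h2
  exact add_right_cancel h2

end SEMI

theorem mem_zpowers_of_semireg {q : ℕ} [Fact q.Prime] {V : Type*} [AddCommGroup V]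
    [Module (ZMod q) V] [Nontrivial V] {G : Type*} [Group G] (ρ : G →* (V ≃ₗ[ZMod q] V))
    (p : ℕ) [Fact p.Prime] (hpq : p ≠ q) (hs : Semireg ρ)
    (hspan : ∀ z a : G, a * z = z * a → z ^ p = 1 → SumZ ρ p z → SpanId ρ p z a)
    (a z : G) (hc : a * z = z * a) (ha : orderOf a = p) (hz : orderOf z = p) :
    a ∈ Subgroup.zpowers z := by
  have hp : p.Prime := Fact.out
  have hq : q.Prime := Fact.out
  by_contra hna
  have hzp : z ^ p = 1 := by rw [← hz]; exact pow_orderOf_eq_one z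
  have hap : a ^ p = 1 := by rw [← ha]; exact pow_orderOf_eq_one a
  have hz1 : z ≠ 1 := by
    intro h
    rw [h, orderOf_one] at hz
    exact hp.one_lt.ne hz
  have hsz : SumZ ρ p z := SEMI.sumZ_of_semireg ρ p hs z hzp hz1
  have hsp := hspan z a hc hzp hsz
  have hcomm : ∀ j : ℕ, Commute a (z ^ j) := fun j => (show Commute a z from hc).pow_right j
  have hxj : ∀ j : ℕ, SumZ ρ p (a * z ^ j) := by
    intro j
    apply SEMI.sumZ_of_semireg ρ p hs
    · rw [(hcomm j).mul_pow, hap, ← pow_mul, mul_comm, pow_mul, hzp, one_pow, mul_one]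
    · intro h1
      apply hna
      have : a = (z ^ j)⁻¹ := eq_inv_of_mul_eq_one_left h1
      rw [this]
      exact Subgroup.inv_mem _ (Subgroup.pow_mem _ (Subgroup.mem_zpowers z) j)
  obtain ⟨v, hv⟩ := exists_ne (0 : V)
  have h1 := hsp v
  have h2 : ∑ j ∈ Finset.range p, ∑ i ∈ Finset.range p, ρ ((a * z ^ j) ^ i) v = 0 :=
    Finset.sum_eq_zero (fun j _ => hxj j v)
  rw [h2] at h1
  have hpne : (p : ZMod q) ≠ 0 := by
    rw [Ne, ZMod.natCast_eq_zero_iff]
    intro hdvd
    exact hpq ((Nat.prime_dvd_prime_iff_eq hq hp).1 hdvd).symm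
  rcases smul_eq_zero.1 h1.symm with h3 | h3
  · exact hpne h3
  · exact hv h3

end Cfsg.Agent.HT3371
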