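import Mathlib
import Cfsg.Agent.Helper25.HT3371Defs

set_option autoImplicit false

/-! S3371 piece SUMID: the span identity from the vanishing of the `z`-sums. -/

namespace Cfsg.Agent.HT3371

namespace SUMID

/-- reindexing a periodic function over `range p` by multiplication with `i`, `0 < i < p` -/
theorem sum_mul_periodic {M : Type*} [AddCommMonoid M] (p : ℕ) [Fact p.Prime] (g : ℕ → M)
    (hg : ∀ n, g (n % p) = g n) (i : ℕ) (hi0 : 0 < i) (hip : i < p) :
    ∑ j ∈ Finset.range p, g (j * i) = ∑ t ∈ Finset.range p, g t := by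
  have hp : p.Prime := Fact.out
  haveI : NeZero p := ⟨hp.ne_zero⟩
  -- sums over range p as sums over ZMod p
  have conv : ∀ f : ℕ → M, ∑ t ∈ Finset.range p, f t = ∑ x : ZMod p, f x.val := by
    intro f
    obtain ⟨k, hk⟩ : ∃ k, p = k + 1 := ⟨p - 1, by have := hp.two_le; omega⟩
    subst hk
    rw [Finset.sum_range]
    rfl
  rw [conv (fun j => g (j * i)), conv g]
  have hi : (i : ZMod p) ≠ 0 := by
    rw [Ne, ZMod.natCast_eq_zero_iff]
    intro hdvd
    exact absurd (Nat.le_of_dvd hi0 hdvd) (not_le.2 hip)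
  have hstep : ∀ x : ZMod p, g (x.val * i) = g ((x * (i : ZMod p)).val) := by
    intro x
    rw [ZMod.val_mul, ZMod.val_natCast, Nat.mod_eq_of_lt hip, hg]
  rw [Finset.sum_congr rfl (fun x _ => hstep x)]
  exact Fintype.sum_equiv (Equiv.mulRight₀ (i : ZMod p) hi) _ _ (fun x => rfl)

end SUMID

theorem spanId_of_sumZ {q : ℕ} {V : Type*} [AddCommGroup V] [Module (ZMod q) V]
    {G : Type*} [Group G] (ρ : G →* (V ≃ₗ[ZMod q] V)) (p : ℕ) [Fact p.Prime] (z a : G)
    (hc : a * z = z * a) (hz : z ^ p = 1) (hsum : SumZ ρ p z) : SpanId ρ p z a := by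
  have hp : p.Prime := Fact.out
  intro v
  have hcomm : ∀ j : ℕ, Commute a (z ^ j) := fun j => (show Commute a z from hc).pow_right j
  -- rewrite the terms
  have hterm : ∀ j i : ℕ, ρ ((a * z ^ j) ^ i) v = ρ (a ^ i) (ρ (z ^ (j * i)) v) := by
    intro j i
    rw [(hcomm j).mul_pow, ← pow_mul, map_mul, LinearEquiv.mul_apply]
  rw [Finset.sum_congr rfl (fun j _ => Finset.sum_congr rfl (fun i _ => hterm j i)),
    Finset.sum_comm]
  have hinner : ∀ i : ℕ, ∑ j ∈ Finset.range p, ρ (a ^ i) (ρ (z ^ (j * i)) v) =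
      ρ (a ^ i) (∑ j ∈ Finset.range p, ρ (z ^ (j * i)) v) := by
    intro i
    rw [map_sum]
  rw [Finset.sum_congr rfl (fun i _ => hinner i)]
  -- split off i = 0
  obtain ⟨k, hk⟩ : ∃ k, p = k + 1 := ⟨p - 1, by have := hp.two_le; omega⟩
  have hper : ∀ n : ℕ, ρ (z ^ (n % p)) v = ρ (z ^ n) v := by
    intro n
    rw [← pow_eq_pow_mod n hz]
  have hzero : ∀ i : ℕ, 0 < i → i < p → ∑ j ∈ Finset.range p, ρ (z ^ (j * i)) v = 0 := by
    intro i hi0 hip
    rw [SUMID.sum_mul_periodic p (fun n => ρ (z ^ n) v) hper i hi0 hip]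
    exact hsum v
  have hsplit : ∑ i ∈ Finset.range p, ρ (a ^ i) (∑ j ∈ Finset.range p, ρ (z ^ (j * i)) v) =
      ρ (a ^ 0) (∑ j ∈ Finset.range p, ρ (z ^ (j * 0)) v) := by
    rw [hk, Finset.sum_range_succ']
    rw [← hk]
    have : ∑ i ∈ Finset.range k, ρ (a ^ (i + 1))
        (∑ j ∈ Finset.range p, ρ (z ^ (j * (i + 1))) v) = 0 := by
      apply Finset.sum_eq_zero
      intro i hi
      rw [Finset.mem_range] at hi
      rw [hzero (i + 1) (Nat.succ_pos i) (by omega), map_zero]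
    rw [this, zero_add]
  rw [hsplit]
  simp only [mul_zero, pow_zero, map_one, LinearEquiv.coe_one, id_eq, Finset.sum_const,
    Finset.card_range]
  rw [Nat.cast_smul_eq_nsmul]

end Cfsg.Agent.HT3371
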