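import Mathlib
import Cfsg.Agent.Helper25.HT3371Defs

set_option autoImplicit false

/-! S3371 piece TWOP: a transitive 2-group on the nonzero vectors of `fixSp a`. -/

namespace Cfsg.Agent.HT3371

theorem two_card_fix {q : ℕ} {V : Type*} [AddCommGroup V] [Module (ZMod q) V] [Finite V]
    {G : Type*} [Group G] [Finite G] (ρ : G →* (V ≃ₗ[ZMod q] V)) (hG : IsPGroup 2 G) (a : G)
    (hU : fixSp ρ a ≠ ⊥) (htrans : CTrans ρ a (fixSp ρ a)) :
    ∃ k : ℕ, Nat.card (fixSp ρ a) = 2 ^ k + 1 := by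
  haveI : Fact (Nat.Prime 2) := ⟨Nat.prime_two⟩
  let N : Subgroup G := Subgroup.centralizer {a}
  letI act : MulAction N V := MulAction.compHom V (ρ.comp N.subtype)
  have hsmul : ∀ (n : N) (v : V), n • v = ρ (n : G) v := fun n v => rfl
  have hN2 : IsPGroup 2 N := hG.to_subgroup N
  obtain ⟨u₀, hu₀, hu₀0⟩ := Submodule.exists_mem_ne_zero_of_ne_bot hU
  -- the orbit of u₀ is the set of nonzero vectors of fixSp a
  have hcomm : ∀ n : N, (n : G) * a = a * (n : G) := by
    intro n
    have := Subgroup.mem_centralizer_iff.1 n.2 a (Set.mem_singleton a)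
    exact this.symm
  have horb : MulAction.orbit N u₀ = {u : V | u ∈ fixSp ρ a ∧ u ≠ 0} := by
    ext u
    constructor
    · rintro ⟨n, rfl⟩
      refine ⟨?_, ?_⟩
      · change ρ a (n • u₀) = n • u₀
        rw [hsmul, ← LinearEquiv.mul_apply, ← map_mul, ← hcomm n, map_mul, LinearEquiv.mul_apply,
          (mem_fixSp ρ a u₀).1 hu₀]
      · change n • u₀ ≠ 0
        rw [hsmul]
        intro h0
        exact hu₀0 ((ρ (n : G)).map_eq_zero_iff.1 h0)
    · rintro ⟨hu, hu0⟩
      obtain ⟨n, hn, hnu⟩ := htrans u₀ u hu₀ hu hu₀0 hu0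
      have hnN : n ∈ N := by
        rw [Subgroup.mem_centralizer_iff]
        intro b hb
        rw [Set.mem_singleton_iff.1 hb]
        exact hn.symm
      exact ⟨⟨n, hnN⟩, hnu⟩
  obtain ⟨k, hk⟩ := hN2.card_orbit u₀
  refine ⟨k, ?_⟩
  have hset : ((fixSp ρ a : Submodule (ZMod q) V) : Set V) = insert 0 (MulAction.orbit N u₀) := by
    ext u
    rw [horb]
    simp only [SetLike.mem_coe, Set.mem_insert_iff, Set.mem_ofPred_eq]
    constructor
    · intro hu
      by_cases h0 : u = 0
      · left; exact h0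
      · right; exact ⟨hu, h0⟩
    · rintro (rfl | ⟨hu, _⟩)
      · exact Submodule.zero_mem _
      · exact hu
  have h0 : (0 : V) ∉ MulAction.orbit N u₀ := by
    rw [horb]
    intro h
    exact h.2 rfl
  have hc1 : Nat.card (fixSp ρ a) = Set.ncard ((fixSp ρ a : Submodule (ZMod q) V) : Set V) := by
    rfl
  rw [hc1, hset, Set.ncard_insert_of_notMem h0 (Set.toFinite _), ← hk,
    Nat.card_coe_set_eq]

end Cfsg.Agent.HT3371
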