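import Mathlib
import Cfsg.Agent.Helper15.OmegaFus2

set_option autoImplicit false
set_option linter.unusedSectionVars false
set_option linter.style.haveILetI false

/-! The holomorph of a group, used to transport ambient lemmas to automorphisms. -/

namespace Cfsg.Agent.Helper15

open Subgroup

/-- the holomorph of `P` -/
abbrev Hol (P : Type*) [Group P] := P ⋊[MonoidHom.id (MulAut P)] MulAut P

section Hol

variable {P : Type*} [Group P]

instance hol_finite [Finite P] : Finite (Hol P) :=
  Finite.of_equiv _ (SemidirectProduct.equivProd (φ := MonoidHom.id (MulAut P))).symm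

/-- the embedding of `P` -/
abbrev holI (P : Type*) [Group P] : P →* Hol P := SemidirectProduct.inl

/-- the embedding of `Aut P` -/
abbrev holK (P : Type*) [Group P] : MulAut P →* Hol P := SemidirectProduct.inr

theorem hol_conj (α : MulAut P) (x : P) : holK P α * holI P x * (holK P α)⁻¹ = holI P (α x) := by
  have := SemidirectProduct.inl_aut (φ := MonoidHom.id (MulAut P)) α x
  rw [map_inv] at this
  exact this.symm

theorem holI_injective : Function.Injective (holI P) := SemidirectProduct.inl_injective

theorem hol_orderOf (α : MulAut P) : orderOf (holK P α) = orderOf α :=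
  orderOf_injective (holK P) SemidirectProduct.inr_injective α

theorem hol_mem_normalizer [Finite P] (Q : Subgroup P) (α : MulAut P) (h : ∀ x ∈ Q, α x ∈ Q) :
    holK P α ∈ normalizer ((Q.map (holI P) : Subgroup (Hol P)) : Set (Hol P)) := by
  apply mem_normalizer_fintype
  rintro _ ⟨x, hx, rfl⟩
  rw [hol_conj]
  exact ⟨α x, h x hx, rfl⟩

theorem hol_mem_centralizer_iff (Q : Subgroup P) (α : MulAut P) :
    holK P α ∈ centralizer ((Q.map (holI P) : Subgroup (Hol P)) : Set (Hol P)) ↔
      ∀ x ∈ Q, α x = x := by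
  rw [mem_centralizer_iff]
  constructor
  · intro h x hx
    have h1 := h (holI P x) ⟨x, hx, rfl⟩
    apply holI_injective
    rw [← hol_conj, ← h1]
    group
  · rintro h _ ⟨x, hx, rfl⟩
    have h1 := hol_conj α x
    rw [h x hx] at h1
    calc holI P x * holK P α = (holK P α * holI P x * (holK P α)⁻¹) * holK P α := by rw [h1]
      _ = holK P α * holI P x := by group

variable {p : ℕ} [Fact p.Prime]

/-- automorphism form: a `p'`-automorphism fixing the elements of order dividing `p` (or `4`) of an
invariant `p`-subgroup `C` fixes `C` elementwise -/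
theorem aut_fixes_of_fixes_omega' [Finite P] (C : Subgroup P) (hC : IsPGroup p C) (α : MulAut P)
    (hαC : ∀ x ∈ C, α x ∈ C) (hcop : Nat.Coprime (orderOf α) p)
    (h : ∀ x ∈ C, (x ^ p = 1 ∨ (p = 2 ∧ x ^ 4 = 1)) → α x = x) : ∀ x ∈ C, α x = x := by
  rw [← hol_mem_centralizer_iff]
  have hC' : IsPGroup p (C.map (holI P) : Subgroup (Hol P)) := hC.map _
  refine centralizes_of_centralizes_omega (C.map (holI P)) hC' (holK P α)
    (by rw [hol_orderOf]; exact hcop) ?_ _ (C.map (holI P)) le_rfl rfl
    (hol_mem_normalizer C α hαC)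
  rintro _ ⟨x, hx, rfl⟩ hxe
  have hxe' : x ^ p = 1 ∨ (p = 2 ∧ x ^ 4 = 1) := by
    rcases hxe with h1 | ⟨h1, h2⟩
    · left
      apply holI_injective
      rw [map_pow, h1, map_one]
    · right
      refine ⟨h1, ?_⟩
      apply holI_injective
      rw [map_pow, h2, map_one]
  have h1 := hol_conj α x
  rw [h x hx hxe'] at h1
  calc holI P x * holK P α = (holK P α * holI P x * (holK P α)⁻¹) * holK P α := by rw [h1]
    _ = holK P α * holI P x := by group

/-- automorphism form of the special case of Thompson's `A × B`-lemma -/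
theorem aut_fixes_of_fixes_selfCentralizing [Finite P] (D A : Subgroup P) (hD : IsPGroup p D)
    (hAD : A ≤ D) (hCA : ∀ x ∈ D, (∀ a ∈ A, a * x = x * a) → x ∈ A) (β : MulAut P)
    (hβD : ∀ x ∈ D, β x ∈ D) (hcop : Nat.Coprime (orderOf β) p) (hβA : ∀ a ∈ A, β a = a) :
    ∀ x ∈ D, β x = x := by
  rw [← hol_mem_centralizer_iff]
  have hD' : IsPGroup p (D.map (holI P) : Subgroup (Hol P)) := hD.map _
  refine centralizes_of_centralizes_selfCentralizing (D.map (holI P)) (A.map (holI P)) hD'
    (Subgroup.map_mono hAD) ?_ (holK P β) (by rw [hol_orderOf]; exact hcop)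
    ((hol_mem_centralizer_iff A β).mpr hβA) _ (D.map (holI P)) le_rfl rfl
    (hol_mem_normalizer D β hβD) ((Subgroup.map_mono hAD).trans le_normalizer)
  rintro _ ⟨⟨x, hx, rfl⟩, hxc⟩
  refine ⟨x, hCA x hx ?_, rfl⟩
  intro a ha
  apply holI_injective
  rw [map_mul, map_mul]
  exact mem_centralizer_iff.mp hxc _ ⟨a, ha, rfl⟩

end Hol

end Cfsg.Agent.Helper15
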