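import Cfsg.Agent.Helper15.Iso44Bas
import Cfsg.Agent.Helper20.Iso44YL1
import Cfsg.Agent.Helper25.Iso44INV
import Cfsg.Agent.Helper19.Iso44CY
import Cfsg.Agent.Helper22.Iso44AP
import Cfsg.Agent.Helper20.Iso44RPR
import Cfsg.Agent.Helper11.Iso44CP1
import Cfsg.Agent.Helper3.Iso44PERF
import Cfsg.Agent.Helper3.Iso44XT
import Cfsg.Agent.Helper24.Iso44ORB
import Cfsg.Agent.Helper20.Iso44CLAY
import Cfsg.Agent.Helper10.Iso44NOSPLIT
import Cfsg.Agent.Helper6.Iso44EFA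
import Cfsg.Agent.Helper21.Iso44EFB
import Cfsg.Agent.Helper11.Iso44XN
import Cfsg.Agent.Helper27.Iso44AT
import Cfsg.Agent.Helper21.Iso44AD

/-! # S3044 and S3045 assembled from the pieces of board `s3044pieces`
(blueprint `departures/helper15_S3044_blueprint.md`). -/

set_option autoImplicit false

namespace Cfsg.Agent.Helper15.Iso44

open Cfsg Subgroup

variable {G : Type*} [Group G] [Finite G] {p : ℕ} [Fact p.Prime] {S : Sylow p G} {P : Subgroup G}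

theorem case_split (h : Ctx p S P) :
    ⁅Ysub p P, Ysub p P⁆ ≤ YLsub p S P ∨ ⁅Ysub p P, Ysub p P⁆ = Ysub p P := by
  have hN : (⁅Ysub p P, Ysub p P⁆).Normal := Subgroup.commutator_normal _ _
  rcases normal_le_Y h _ hN (Subgroup.commutator_le_left _ _) with h1 | h1
  · exact Or.inr h1
  · exact Or.inl h1

theorem caseA_class2 (h : Ctx p S P) (hA : ⁅Ysub p P, Ysub p P⁆ ≤ YLsub p S P) :
    ⁅⁅Ysub p P, Ysub p P⁆, Ysub p P⁆ ≤ Osub p P :=
  (Subgroup.commutator_mono hA le_rfl).trans (comm_YL_Y h)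

theorem caseA_tgroup (h : Ctx p S P) (hA : ⁅Ysub p P, Ysub p P⁆ ≤ YLsub p S P) :
    ∃ t : ℕ, t.Prime ∧ t ≠ p ∧ ∀ y ∈ Ysub p P, ∃ k : ℕ, y ^ (t ^ k) ∈ Osub p P := by
  obtain ⟨t, ht, htp, hexp⟩ := caseA_exists_t h hA
  obtain ⟨r, hr, hall⟩ := exists_r_of_pprime h (caseA_pprime h hA)
  refine ⟨t, ht, htp, ?_⟩
  by_cases hrt : r = t
  · subst hrt; exact hall
  exfalso
  apply Y_not_le_L h
  intro y hy
  apply YL_le_L (p := p) (S := S) (P := P)
  obtain ⟨k, hk⟩ := hall y hy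
  have h1 : y ^ (r ^ k) ∈ YLsub p S P := O_le_YL hk
  have h2 : y ^ t ∈ YLsub p S P := hexp y hy
  have hcop : Nat.Coprime (r ^ k) t :=
    Nat.Coprime.pow_left k ((Nat.coprime_primes hr ht).2 hrt)
  have h3 : y ^ (Nat.gcd (r ^ k) t) ∈ YLsub p S P := by
    rw [← zpow_natCast, Nat.gcd_eq_gcd_ab, zpow_add, zpow_mul, zpow_mul]
    exact Subgroup.mul_mem _ (Subgroup.zpow_mem _ (by rw [zpow_natCast]; exact h1) _)
      (Subgroup.zpow_mem _ (by rw [zpow_natCast]; exact h2) _)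
  rwa [hcop.gcd_eq_one, pow_one] at h3

theorem caseB_p_dvd (h : Ctx p S P) (hB : ⁅Ysub p P, Ysub p P⁆ = Ysub p P)
    [hn : (Cfsg.pCore p ↥(Ysub p P)).Normal] :
    p ∣ Nat.card (↥(Ysub p P) ⧸ Cfsg.pCore p ↥(Ysub p P)) := by
  by_contra hnd
  have hp' := pprime_of_not_dvd (P := P) hnd
  obtain ⟨r, hr, hall⟩ := exists_r_of_pprime h hp'
  exact Y_not_le_L h ((perfect_rgroup hB r hr hall).trans (O_le_S.trans S_le_L))

theorem caseB_trans (h : Ctx p S P) (hB : ⁅Ysub p P, Ysub p P⁆ = Ysub p P)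
    [hn : (Cfsg.pCore p ↥(Ysub p P)).Normal]
    (K₁ K₂ : Subgroup (↥(Ysub p P) ⧸ Cfsg.pCore p ↥(Ysub p P)))
    (h1 : Cfsg.IsComponent K₁) (h2 : Cfsg.IsComponent K₂) :
    ∃ s ∈ (S : Subgroup G), pb p P K₂ = (pb p P K₁).map (MulAut.conj s).toMonoidHom := by
  by_contra hno
  obtain ⟨X₁, X₂, a1, a2, a3, a4, a5, a6, a7, a8, a9, a10, a11, a12⟩ :=
    orbit_split (S : Subgroup G) (caseB_layer h hB) K₁ K₂ h1 h2 hno
  exact no_split h hB X₁ X₂ a1 a2 a3 a4 a5 a6 a7 a8 a9 a10 a11 a12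

theorem s3044 (S : Sylow p G) (P : Subgroup G) (hSP : (S : Subgroup G) ≤ P)
    (hPmin : Cfsg.IsPMinimal p ↥P) (L Y : Subgroup G)
    (hL : L = Subgroup.normalizer ((S : Subgroup G) : Set G) ⊔ ⨆ P' : {P' : Subgroup G // (S : Subgroup G) ≤ P' ∧ Cfsg.IsPMinimal p ↥P' ∧ P' ≠ P}, (P' : Subgroup G))
    (hiso : ¬ (Cfsg.pCore p ↥L).map L.subtype ≤ (Cfsg.pCore p ↥P).map P.subtype)
    (hY : Y = Subgroup.normalClosure (((Cfsg.pResidual p ↥P).map P.subtype : Subgroup G) : Set G)) :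
    Y ⊔ L = ⊤ ∧
    ¬ (Cfsg.pCore p ↥((Subgroup.normalizer ((S : Subgroup G) : Set G) ⊓ (Y ⊔ (S : Subgroup G))) ⊔
          ⨆ P' : {P' : Subgroup G // (S : Subgroup G) ≤ P' ∧ P' ≤ Y ⊔ (S : Subgroup G) ∧ Cfsg.IsPMinimal p ↥P' ∧ P' ≠ P}, (P' : Subgroup G))).map
        (Subgroup.subtype _) ≤ (Cfsg.pCore p ↥P).map P.subtype ∧
    ((Cfsg.pResidual p ↥P).map P.subtype = Y ∨
     ∃ _ : (Cfsg.pCore p ↥Y).Normal,
       p ∣ Nat.card (↥Y ⧸ Cfsg.pCore p ↥Y) ∧ Cfsg.layer (↥Y ⧸ Cfsg.pCore p ↥Y) = ⊤ ∧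
       ∀ K₁ K₂ : Subgroup (↥Y ⧸ Cfsg.pCore p ↥Y), Cfsg.IsComponent K₁ → Cfsg.IsComponent K₂ →
         ∃ s ∈ (S : Subgroup G), ((K₂.comap (QuotientGroup.mk' (Cfsg.pCore p ↥Y))).map Y.subtype) = (((K₁.comap (QuotientGroup.mk' (Cfsg.pCore p ↥Y))).map Y.subtype)).map (MulAut.conj s).toMonoidHom) := by
  subst hL hY
  have h : Ctx p S P := ⟨hSP, hPmin, hiso⟩
  refine ⟨Y_sup_L h, claim2 h, ?_⟩
  rcases case_split h with hA | hB
  · exact Or.inl (caseA_Y_eq_D h hA)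
  · refine Or.inr ⟨Cfsg.Agent.Helper14.pCore_normal p, caseB_p_dvd h hB, caseB_layer h hB, ?_⟩
    intro K₁ K₂ h1 h2
    exact caseB_trans h hB K₁ K₂ h1 h2

theorem s3045 (S : Sylow p G) (P : Subgroup G) (hSP : (S : Subgroup G) ≤ P) (hPmin : Cfsg.IsPMinimal p ↥P)
    (L Y : Subgroup G)
    (hL : L = Subgroup.normalizer ((S : Subgroup G) : Set G) ⊔ ⨆ P' : {P' : Subgroup G // (S : Subgroup G) ≤ P' ∧ Cfsg.IsPMinimal p ↥P' ∧ P' ≠ P}, (P' : Subgroup G))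
    (hiso : ¬ (Cfsg.pCore p ↥L).map L.subtype ≤ (Cfsg.pCore p ↥P).map P.subtype)
    (hY : Y = Subgroup.normalClosure (((Cfsg.pResidual p ↥P).map P.subtype : Subgroup G) : Set G)) [hn : (Cfsg.pCore p G).Normal] :
    (Cfsg.pResidual p ↥P).map P.subtype ≤ (Cfsg.generalizedFittingSubgroup (G ⧸ Cfsg.pCore p G)).comap (QuotientGroup.mk' (Cfsg.pCore p G)) ∧
    (Group.IsSolvable ↥Y → (Cfsg.pResidual p ↥P).map P.subtype = Y ∧
       ∃ _ : (Cfsg.pCore p ↥Y).Normal, ∃ t : ℕ, t.Prime ∧ t ≠ p ∧ IsPGroup t (↥Y ⧸ Cfsg.pCore p ↥Y) ∧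
         ∃ _ : Group.IsNilpotent (↥Y ⧸ Cfsg.pCore p ↥Y), Group.nilpotencyClass (↥Y ⧸ Cfsg.pCore p ↥Y) ≤ 2) := by
  subst hL hY
  have h : Ctx p S P := ⟨hSP, hPmin, hiso⟩
  have hnY : (Cfsg.pCore p ↥(Ysub p P)).Normal := Cfsg.Agent.Helper14.pCore_normal p
  constructor
  · have hDY : Dsub p P ≤ Ysub p P := D_le_Y
    refine hDY.trans ?_
    rw [← Subgroup.map_le_iff_le_comap]
    rcases case_split h with hA | hB
    · exact (map_le_fitting (caseA_class2 h hA)).trans le_sup_right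
    · exact (map_le_layer (caseB_layer h hB)).trans le_sup_left
  · intro hsolv
    change Group.IsSolvable ↥(Ysub p P) at hsolv
    have hA : ⁅Ysub p P, Ysub p P⁆ ≤ YLsub p S P := by
      rcases case_split h with hA | hB
      · exact hA
      · exfalso
        apply Y_not_le_L h
        have hbot : Ysub p P = ⊥ := by
          have h1 : ∀ n, derivedSeries ↥(Ysub p P) n = ⊤ := by
            intro n
            induction n with
            | zero => rfl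
            | succ n ih =>
              rw [derivedSeries_succ, ih]
              have := hB
              apply Subgroup.map_injective (Ysub p P).subtype_injective
              rw [Subgroup.map_commutator, ← MonoidHom.range_eq_map, Subgroup.range_subtype]
              exact hB
          obtain ⟨n, hn⟩ := (Group.isSolvable_def _).1 hsolv
          rw [h1 n] at hn
          rw [eq_bot_iff]
          intro y hy
          have : (⟨y, hy⟩ : ↥(Ysub p P)) ∈ (⊥ : Subgroup ↥(Ysub p P)) := hn ▸ Subgroup.mem_top _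
          simpa using congrArg Subtype.val (Subgroup.mem_bot.1 this)
        rw [hbot]; exact bot_le
    refine ⟨caseA_Y_eq_D h hA, hnY, ?_⟩
    obtain ⟨t, ht, htp, hall⟩ := caseA_tgroup h hA
    exact ⟨t, ht, htp, quot_isPGroup t hall, quot_nilpotent (caseA_class2 h hA)⟩

end Cfsg.Agent.Helper15.Iso44
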