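import Cfsg.Agent.Helper15.JComp9

/-!
# J-components, part 10: component-like subgroups and the plane `[V, K]`

`CompLike K` collects the properties of a `J(T)`-component `K` that do not mention `T`.
For such a `K` and a normal elementary abelian `2`-subgroup `V` with `V ≤ N(K)`, `O₂(K) ≤ C(V)`,
`K ≰ C(V)`: `[V, K] = W_K`.  In the FF-module world: a subgroup `K̄` whose commutators with `H` are
`3`-elements and whose plane `[V, K̄]` is an irreducible four-group has its plane normalized by `H`.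
-/

set_option autoImplicit false
set_option linter.unusedSectionVars false
set_option linter.style.haveILetI false

namespace Cfsg.Agent.Helper15.JComp

open Cfsg Subgroup Cfsg.Agent.Helper7
open scoped commutatorElement

section CompLikeSec

variable {G : Type*} [Group G]

/-- the properties of a `J(T)`-component that do not mention `T` -/
structure CompLike (K : Subgroup G) : Prop where
  gen : closure {g : G | g ∈ K ∧ Odd (orderOf g)} = K
  idx : (pCoreOf 2 K).relIndex K = 3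
  card : Nat.card (wOf K) = 4
  irr : ∀ U : Subgroup G, U ≤ wOf K → U ≠ ⊥ → K ≤ normalizer (U : Set G) → U = wOf K

theorem compLike_of_jc [Finite G] {T K : Subgroup G} (hK : IsJComponent T K) : CompLike K :=
  ⟨hK.1, jc_relIndex hK, jc_card_wOf hK, fun _ h1 h2 h3 => jc_eq_wOf_of_le hK h1 h2 h3⟩

theorem compLike_of_map {H : Type*} [Group H] {f : H →* G} (hf : Function.Injective f)
    {K : Subgroup H} (h : CompLike (K.map f)) : CompLike K := by
  obtain ⟨h1, h2, h3, h4⟩ := h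
  refine ⟨?_, ?_, ?_, ?_⟩
  · rw [closure_odd_map hf] at h1
    exact map_injective hf h1
  · rwa [pCoreOf_map hf, relIndex_map_map_of_injective _ _ hf] at h2
  · rwa [wOf_map hf, Subgroup.card_map_of_injective hf] at h3
  · intro U hU hU1 hKU
    have := h4 (U.map f) (by rw [wOf_map hf]; exact map_mono hU)
      (by rwa [Ne, map_eq_bot_iff_of_injective _ hf])
      ((map_mono hKU).trans (le_normalizer_map f))
    rw [wOf_map hf] at this
    exact map_injective hf this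

theorem CompLike.subgroupOf {L K : Subgroup G} (hKL : K ≤ L) (h : CompLike K) :
    CompLike (K.subgroupOf L) := by
  apply compLike_of_map L.subtype_injective
  rwa [map_subgroupOf_eq_of_le hKL]

theorem CompLike.exists_odd_not_mem {K : Subgroup G} (h : CompLike K) :
    ∃ k ∈ K, Odd (orderOf k) ∧ k ∉ pCoreOf 2 K := by
  by_contra hcon
  push Not at hcon
  have hle : K ≤ pCoreOf 2 K := by
    conv_lhs => rw [← h.gen]
    rw [closure_le]
    rintro g ⟨hg, hgo⟩
    exact hcon g hg hgo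
  have h1 : (pCoreOf 2 K).relIndex K = 1 := relIndex_eq_one.mpr hle
  rw [h.idx] at h1
  norm_num at h1

/-- `[V, K] = W_K` -/
theorem CompLike.commutator_eq_wOf [Finite G] {K V : Subgroup G} (h : CompLike K)
    (hVel : IsElementaryAbelian 2 V)
    (hKV : K ≤ normalizer (V : Set G)) (hVK : V ≤ normalizer (K : Set G))
    (hRC : pCoreOf 2 K ≤ centralizer (V : Set G)) (hKC : ¬ K ≤ centralizer (V : Set G)) :
    ⁅V, K⁆ = wOf K := by
  haveI : IsMulCommutative V := hVel.1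
  set R := pCoreOf 2 K with hR
  have hRK : R ≤ K := Cfsg.Agent.Helper14.pCoreOf_le 2 K
  have hKR : K ≤ normalizer (R : Set G) := Cfsg.Agent.Helper14.le_normalizer_pCoreOf 2 K
  obtain ⟨k, hk, hko, hkR⟩ := h.exists_odd_not_mem
  set Q := zpowers k with hQ
  have hQK : Q ≤ K := by rw [hQ, zpowers_le]; exact hk
  have hKle : K ≤ R ⊔ Q := by
    intro x hx
    obtain ⟨n, r, hr, hxe⟩ := exists_zpow_mul hRK hKR h.idx hk hkR hx
    rw [hxe]
    exact mul_mem (mem_sup_right (zpow_mem (mem_zpowers k) n)) (mem_sup_left hr)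
  have hVR : ⁅V, R⁆ = ⊥ := by
    rw [commutator_eq_bot_iff_le_centralizer]
    exact le_centralizer_iff.mp hRC
  have hVKQ : ⁅V, K⁆ = ⁅V, Q⁆ := by
    apply le_antisymm
    · refine (commutator_mono le_rfl hKle).trans ?_
      rw [commutator_sup_right_eq (hRK.trans hKV) (hQK.trans hKV), hVR, bot_sup_eq]
    · exact commutator_mono le_rfl hQK
  have hcop : (Nat.card Q).Coprime (Nat.card V) := by
    obtain ⟨m, hm⟩ := (Cfsg.Agent.Helper26.isPGroup_of_isElementaryAbelian hVel).exists_card_eq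
    rw [hm, hQ, Nat.card_zpowers]
    exact Nat.Coprime.pow_right _ (Nat.coprime_two_right.mpr hko)
  obtain ⟨-, hd2⟩ := Cfsg.Agent.Lead.coprime_abelian_decomp Q V (hQK.trans hKV) hcop
  set U := ⁅V, Q⁆ with hU
  have hUV : U ≤ V := Cfsg.Agent.Lead.commutator_le_of_le_normalizer (hQK.trans hKV)
  have hVab : ∀ v ∈ V, ∀ w ∈ V, v * w = w * v := fun v hv w hw =>
    Cfsg.Agent.Helper26.isElementaryAbelian_commute hVel hv hw
  have hUU : U ≤ ⁅U, Q⁆ := by
    have h1 : ⁅(V ⊓ centralizer (Q : Set G)) ⊔ U, Q⁆ ≤ ⁅U, Q⁆ := by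
      apply Cfsg.Agent.Helper10.commutator_sup_le_of_conj_mem
      · rw [hd2]
        intro g hg w hw
        have hwV : w ∈ V := hUV (commutator_mono hUV (le_refl Q) hw)
        rw [hVab g hg w hwV, mul_inv_cancel_right]
        exact hw
      · have : ⁅V ⊓ centralizer (Q : Set G), Q⁆ = ⊥ := by
          rw [commutator_eq_bot_iff_le_centralizer]
          exact inf_le_right
        rw [this]; exact bot_le
      · exact le_rfl
    rw [hd2] at h1
    exact h1
  have hVKle : ⁅V, K⁆ ≤ V ⊓ K := by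
    apply le_inf (Cfsg.Agent.Lead.commutator_le_of_le_normalizer hKV)
    rw [commutator_comm]
    exact Cfsg.Agent.Lead.commutator_le_of_le_normalizer hVK
  have hVKR : V ⊓ K ≤ R := by
    apply Cfsg.Agent.Helper14.le_pCoreOf 2 inf_le_right _
      ((Cfsg.Agent.Helper26.isPGroup_of_isElementaryAbelian hVel).to_le inf_le_left)
    exact (le_inf hKV le_normalizer).trans le_normalizer_inf
  have hUR : U ≤ R := by
    rw [← hVKQ]; exact hVKle.trans hVKR
  have hUZ : U ≤ omegaCenterOf R := by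
    intro u hu
    unfold omegaCenterOf omegaOne
    apply Subgroup.subset_closure
    refine ⟨mem_inf.mpr ⟨hUR hu, ?_⟩, hVel.2 u (hUV hu)⟩
    rw [mem_centralizer_iff]
    intro r hr
    exact (mem_centralizer_iff.mp (hRC hr) u (hUV hu)).symm
  have hUW : ⁅V, K⁆ ≤ wOf K := by
    rw [hVKQ]
    exact hUU.trans (commutator_mono hUZ hQK)
  have hne : ⁅V, K⁆ ≠ ⊥ := by
    intro hbot
    rw [commutator_eq_bot_iff_le_centralizer] at hbot
    exact hKC (le_centralizer_iff.mp hbot)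
  exact h.irr _ hUW hne (Cfsg.Agent.Lead.le_normalizer_commutator_right V K)

end CompLikeSec

section FFWorld2

variable {Γ : Type*} [Group Γ] [Finite Γ]

/-- an element normalizing `H` and `V`, none of whose commutators with `H` is an involution,
normalizes every factor `E_B` -/
theorem ff_map_conj_ffE_eq_of_comm {V H : Subgroup Γ} (hS : FFSetup 2 V H)
    {B : Subgroup Γ} (hB : FFMin 2 V H B) {k : Γ} (hkH : k ∈ normalizer (H : Set Γ))
    (hkV : k ∈ normalizer (V : Set Γ))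
    (hD : ∀ b ∈ H, ⁅k, b⁆ ^ 2 = 1 → ⁅k, b⁆ = 1) :
    (ffE 2 H B).map (MulAut.conj k).toMonoidHom = ffE 2 H B := by
  haveI : Fact (Nat.Prime 2) := ⟨Nat.prime_two⟩
  have hB' := ffMin_map_conj hB hkH hkV
  rw [map_conj_ffE hkH]
  by_cases hpl : ⁅V, ffE 2 H (B.map (MulAut.conj k).toMonoidHom)⁆ = ⁅V, ffE 2 H B⁆
  · exact hS.ffE_eq_of_commutator_eq hB' hB hpl
  · have hcomm := hS.ffE_commute_of_ne hB' hB hpl
    obtain ⟨b, hb, hb1⟩ := exists_mem_ne_one_of_ne_bot hB.ne_bot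
    have hBz : zpowers b = B := eq_zpowers_of_card_prime hB.hAp hb hb1
    have hb2 : b ^ 2 = 1 := by
      have h1 : orderOf b ∣ 2 := by
        have := orderOf_dvd_natCard (⟨b, hb⟩ : B)
        rwa [Subgroup.orderOf_mk, hB.hAp] at this
      exact orderOf_dvd_iff_pow_eq_one.mp h1
    have hb'E : k * b * k⁻¹ ∈ ffE 2 H (B.map (MulAut.conj k).toMonoidHom) :=
      (le_sup_right : B.map (MulAut.conj k).toMonoidHom ≤ _) ⟨b, hb, rfl⟩
    have hbE : b ∈ ffE 2 H B := (le_sup_right : B ≤ _) hb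
    have hc : ⁅k * b * k⁻¹, b⁆ = 1 := by
      have := commutator_mem_commutator hb'E hbE
      rwa [hcomm, mem_bot] at this
    rw [commutatorElement_eq_one_iff_mul_comm] at hc
    have hbinv : b⁻¹ = b := by
      rw [inv_eq_iff_mul_eq_one, ← pow_two, hb2]
    have h2 : ⁅k, b⁆ ^ 2 = 1 := by
      have e : ⁅k, b⁆ = (k * b * k⁻¹) * b := by
        rw [commutatorElement_def]
        conv_lhs => rw [hbinv]
      rw [e, pow_two]
      calc (k * b * k⁻¹) * b * ((k * b * k⁻¹) * b)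
          = (k * b * k⁻¹) * (b * (k * b * k⁻¹)) * b := by group
        _ = (k * b * k⁻¹) * ((k * b * k⁻¹) * b) * b := by rw [hc]
        _ = k * (b * b) * k⁻¹ * (b * b) := by group
        _ = 1 := by rw [← pow_two, hb2]; group
    have h1 := hD b (hB.hAH hb) h2
    have hkb : k * b * k⁻¹ = b := by
      have e : k * b * k⁻¹ = ⁅k, b⁆ * b := by rw [commutatorElement_def]; group
      rw [e, h1, one_mul]
    have hBB : B.map (MulAut.conj k).toMonoidHom = B := by
      rw [← hBz, MonoidHom.map_zpowers]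
      congr 1
    rw [hBB]

/-- **the plane of `K̄` is normalized by `H`** -/
theorem ff_le_normalizer_plane {V H : Subgroup Γ} (hS : FFSetup 2 V H)
    (hS3 : H = ⨆ A : {A : Subgroup Γ // A ≤ H ∧ IsBestOffenderOn 2 V A}, (A : Subgroup Γ))
    {Kb : Subgroup Γ} (hKH : Kb ≤ normalizer (H : Set Γ)) (hKV : Kb ≤ normalizer (V : Set Γ))
    (hD : ∀ k ∈ Kb, ∀ b ∈ H, ⁅k, b⁆ ^ 2 = 1 → ⁅k, b⁆ = 1)
    (hW4 : Nat.card ↥⁅V, Kb⁆ = 4)
    (hirr : ∀ U : Subgroup Γ, U ≤ ⁅V, Kb⁆ → Kb ≤ normalizer (U : Set Γ) →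
      U = ⊥ ∨ U = ⁅V, Kb⁆) :
    H ≤ normalizer ((⁅V, Kb⁆ : Subgroup Γ) : Set Γ) := by
  haveI : Fact (Nat.Prime 2) := ⟨Nat.prime_two⟩
  refine (hS.le_sSup_minOffender_top hS3).trans (sSup_le ?_)
  rintro B ⟨hBH, hBmin⟩
  have hBm : FFMin 2 V H B := IsMinOffender.ffMin hS hBH hBmin
  obtain ⟨E, hEdef⟩ : ∃ E : Subgroup Γ, E = ffE 2 H B := ⟨_, rfl⟩
  have hBE : B ≤ E := by rw [hEdef]; exact le_sup_right
  have hEH : E ≤ H := by rw [hEdef]; exact ffE_le hBm.hAH
  have hKE : Kb ≤ normalizer (E : Set Γ) := by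
    intro k hk
    rw [Cfsg.Agent.Helper14.mem_normalizer_iff_map_cj, hEdef]
    exact ff_map_conj_ffE_eq_of_comm hS hBm (hKH hk) (hKV hk) (hD k hk)
  obtain ⟨-, -, -, hdec⟩ := hS.ffE_decomp hBm
  rw [← hEdef] at hdec
  obtain ⟨UE, hUE⟩ : ∃ UE : Subgroup Γ, UE = ⁅V, E⁆ := ⟨_, rfl⟩
  obtain ⟨CE, hCE⟩ : ∃ CE : Subgroup Γ, CE = V ⊓ centralizer (E : Set Γ) := ⟨_, rfl⟩
  rw [← hUE, ← hCE] at hdec
  have hUEV : UE ≤ V := by
    rw [hUE]; exact Cfsg.Agent.Lead.commutator_le_of_le_normalizer (hEH.trans hS.hHV)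
  have hCEV : CE ≤ V := by rw [hCE]; exact inf_le_left
  have hKUE : Kb ≤ normalizer (UE : Set Γ) := by
    rw [hUE]; exact Cfsg.Agent.Helper10.le_normalizer_commutator_of_le hKV hKE
  have hKCE : Kb ≤ normalizer (CE : Set Γ) := by
    rw [hCE]
    exact (le_inf hKV (hKE.trans (normalizer_le_normalizer_centralizer E))).trans le_normalizer_inf
  have hW1le : ⁅UE, Kb⁆ ≤ ⁅V, Kb⁆ := commutator_mono hUEV le_rfl
  have hW1UE : ⁅UE, Kb⁆ ≤ UE := Cfsg.Agent.Lead.commutator_le_of_le_normalizer hKUE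
  have hW2CE : ⁅CE, Kb⁆ ≤ CE := Cfsg.Agent.Lead.commutator_le_of_le_normalizer hKCE
  have hVab : ∀ v ∈ V, ∀ w ∈ V, v * w = w * v := fun v hv w hw =>
    Cfsg.Agent.Helper26.isElementaryAbelian_commute hS.hV hv hw
  have hsplit : ⁅V, Kb⁆ ≤ ⁅UE, Kb⁆ ⊔ ⁅CE, Kb⁆ := by
    have h1 : ⁅UE ⊔ CE, Kb⁆ ≤ ⁅UE, Kb⁆ ⊔ ⁅CE, Kb⁆ := by
      apply Cfsg.Agent.Helper10.commutator_sup_le_of_conj_mem
      · rw [hdec]
        intro g hg w hw
        have hwV : w ∈ V := (sup_le (hW1UE.trans hUEV) (hW2CE.trans hCEV)) hw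
        rw [hVab g hg w hwV, mul_inv_cancel_right]
        exact hw
      · exact le_sup_left
      · exact le_sup_right
    rwa [hdec] at h1
  have hKW1 : Kb ≤ normalizer ((⁅UE, Kb⁆ : Subgroup Γ) : Set Γ) :=
    Cfsg.Agent.Helper10.le_normalizer_commutator_of_le hKUE le_normalizer
  rcases hirr _ hW1le hKW1 with h0 | h1
  · -- `[V, K̄] ≤ C_V(E)`
    rw [h0, bot_sup_eq] at hsplit
    have hle : ⁅V, Kb⁆ ≤ centralizer (E : Set Γ) := by
      refine (hsplit.trans hW2CE).trans ?_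
      rw [hCE]; exact inf_le_right
    exact (hBE.trans (le_centralizer_iff.mp hle)).trans (centralizer_le_normalizer _)
  · -- `[V, K̄] = [V, E]`
    have heq : ⁅V, Kb⁆ = UE := by
      apply eq_of_le_of_card_ge (h1 ▸ hW1UE)
      rw [hW4, hUE, hEdef, hS.card_commutator_ffE hBm]
      norm_num
    rw [heq, hUE]
    exact hBE.trans (Cfsg.Agent.Lead.le_normalizer_commutator_right V E)

end FFWorld2

section Bridge2

variable {X : Type*} [Group X] [Finite X]

/-- the image of `[v, k]` in `V ⋊ X / C_X(V)` -/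
theorem ffInl_commutatorElement (V : Subgroup X) [V.Normal] (v : ↥V) (k : X)
    (hmem : ⁅(v : X), k⁆ ∈ V) :
    ffInl V ⟨⁅(v : X), k⁆, hmem⟩ = ⁅ffInl V v, ffIota V k⁆ := by
  have h2 := ffIota_conj V k v⁻¹
  have e1 : (⟨⁅(v : X), k⁆, hmem⟩ : ↥V) = v *
      ⟨k * ((v⁻¹ : ↥V) : X) * k⁻¹, Subgroup.Normal.conj_mem inferInstance _ (v⁻¹ : ↥V).2 k⟩ := by
    apply Subtype.ext
    show ⁅(v : X), k⁆ = (v : X) * (k * ((v⁻¹ : ↥V) : X) * k⁻¹)
    rw [commutatorElement_def, Subgroup.coe_inv]; group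
  rw [e1, map_mul, ← h2, commutatorElement_def, map_inv]
  group

/-- `[V̂, K̄]` is the image of `[V, K]` -/
theorem commutator_ffV_map (V : Subgroup X) [V.Normal] (K : Subgroup X) :
    ⁅ffV V, K.map (ffIota V)⁆ = ((⁅V, K⁆).subgroupOf V).map (ffInl V) := by
  apply le_antisymm
  · rw [commutator_le]
    rintro _ ⟨v, rfl⟩ _ ⟨k, hk, rfl⟩
    have hmem : ⁅(v : X), k⁆ ∈ V := commutator_le_left V K (commutator_mem_commutator v.2 hk)
    refine ⟨⟨⁅(v : X), k⁆, hmem⟩, ?_, ffInl_commutatorElement V v k hmem⟩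
    rw [SetLike.mem_coe, mem_subgroupOf]
    exact commutator_mem_commutator v.2 hk
  · rintro _ ⟨⟨w, hwV⟩, hw, rfl⟩
    obtain ⟨_, h⟩ := ffInl_mem_commutator_map V K (mem_subgroupOf.mp hw)
    exact h

/-- **The second bridge.**  `X` finite solvable, `V` a normal elementary abelian 2-subgroup with
`O₂(X / C_X(V)) = 1`, `K` a subgroup all of whose commutators `[k, x]` are `3`-elements modulo
`C_X(V)` and whose plane `[V, K]` is an irreducible four-group.  Then `J(X)` normalizes `[V, K]`. -/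
theorem ff_bridge2 [Group.IsSolvable X] (V : Subgroup X) [V.Normal]
    (hVel : IsElementaryAbelian 2 V)
    (hOp : pCore 2 (X ⧸ centralizer (V : Set X)) = ⊥)
    (K : Subgroup X)
    (hD : ∀ k ∈ K, ∀ x : X, ∃ m : ℕ, ⁅k, x⁆ ^ (3 ^ m) ∈ centralizer (V : Set X))
    (hW4 : Nat.card ↥⁅V, K⁆ = 4)
    (hirr : ∀ U : Subgroup X, U ≤ ⁅V, K⁆ → K ≤ normalizer (U : Set X) → U = ⊥ ∨ U = ⁅V, K⁆) :
    thompsonSubgroup 2 X ≤ normalizer ((⁅V, K⁆ : Subgroup X) : Set X) := by
  haveI : Fact (Nat.Prime 2) := ⟨Nat.prime_two⟩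
  have hsep : IsPSolvable 2 X := Cfsg.Agent.Helper10.isPSolvable_of_isSolvable 2 inferInstance
  obtain ⟨Y, hY⟩ : ∃ Y : Subgroup X, Y = thompsonSubgroup 2 X := ⟨_, rfl⟩
  obtain ⟨Yb, hYb⟩ : ∃ Yb : Subgroup (FFGamma V), Yb = Y.map (ffIota V) := ⟨_, rfl⟩
  obtain ⟨W, hW⟩ : ∃ W : Subgroup X, W = ⁅V, K⁆ := ⟨_, rfl⟩
  obtain ⟨Wb, hWb⟩ : ∃ Wb : Subgroup (FFGamma V), Wb = (W.subgroupOf V).map (ffInl V) := ⟨_, rfl⟩
  rw [← hY, ← hW]
  rw [← hW] at hW4 hirr
  have hWV : W ≤ V := by rw [hW]; exact commutator_le_left V K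
  have hS : FFSetup 2 (ffV V) Yb := by
    rw [hYb, hY]; exact ffSetup_thompson hsep V hVel hOp
  have hS3 : Yb = ⨆ A : {A : Subgroup (FFGamma V) // A ≤ Yb ∧
      IsBestOffenderOn 2 (ffV V) A}, (A : Subgroup (FFGamma V)) := by
    rw [hYb, hY]; exact thompson_map_eq_iSup V hVel
  haveI hYc : Y.Characteristic := hY ▸ Cfsg.Agent.Helper26.thompsonSubgroup_characteristic 2
  have hYn : Y.Normal := inferInstance
  have hcomm : ⁅ffV V, K.map (ffIota V)⁆ = Wb := by
    rw [commutator_ffV_map, ← hW, hWb]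
  -- membership in `Wb`
  have hmemWb : ∀ (w : X) (hw : w ∈ V), ffInl V ⟨w, hw⟩ ∈ Wb ↔ w ∈ W := by
    intro w hw
    constructor
    · rw [hWb]
      rintro ⟨v', hv', he⟩
      have := ffInl_injective V he
      rw [this] at hv'
      exact mem_subgroupOf.mp hv'
    · intro h
      rw [hWb]
      exact ⟨⟨w, hw⟩, mem_subgroupOf.mpr h, rfl⟩
  have hKH : K.map (ffIota V) ≤ normalizer (Yb : Set (FFGamma V)) := by
    rw [hYb]
    refine (map_mono ?_).trans (le_normalizer_map (ffIota V))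
    rw [normalizer_eq_top_iff.mpr hYn]
    exact le_top
  have hKV : K.map (ffIota V) ≤ normalizer ((ffV V : Subgroup (FFGamma V)) : Set (FFGamma V)) := by
    rw [normalizer_eq_top_iff.mpr (inferInstance : (ffV V).Normal)]
    exact le_top
  have hD' : ∀ k ∈ K.map (ffIota V), ∀ b ∈ Yb, ⁅k, b⁆ ^ 2 = 1 → ⁅k, b⁆ = 1 := by
    rintro _ ⟨k, hk, rfl⟩ b hb h2
    rw [hYb] at hb
    obtain ⟨y, -, rfl⟩ := hb
    obtain ⟨m, hm⟩ := hD k hk y
    rw [← map_commutatorElement] at h2 ⊢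
    have h3 : (ffIota V ⁅k, y⁆) ^ (3 ^ m) = 1 := by
      rw [← map_pow, ffIota_eq_one_iff]
      exact hm
    have hd2 : orderOf (ffIota V ⁅k, y⁆) ∣ 2 := orderOf_dvd_of_pow_eq_one h2
    have hd3 : orderOf (ffIota V ⁅k, y⁆) ∣ 3 ^ m := orderOf_dvd_of_pow_eq_one h3
    have hcop : Nat.Coprime 2 (3 ^ m) := Nat.Coprime.pow_right _ (by decide)
    have h1 : orderOf (ffIota V ⁅k, y⁆) = 1 :=
      Nat.eq_one_of_dvd_coprimes hcop hd2 hd3
    exact orderOf_eq_one_iff.mp h1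
  have hW4' : Nat.card ↥⁅ffV V, K.map (ffIota V)⁆ = 4 := by
    rw [hcomm, hWb, Subgroup.card_map_of_injective (ffInl_injective V),
      Nat.card_congr (subgroupOfEquivOfLe hWV).toEquiv]
    exact hW4
  have hirr' : ∀ Ub : Subgroup (FFGamma V), Ub ≤ ⁅ffV V, K.map (ffIota V)⁆ →
      K.map (ffIota V) ≤ normalizer (Ub : Set (FFGamma V)) →
      Ub = ⊥ ∨ Ub = ⁅ffV V, K.map (ffIota V)⁆ := by
    rw [hcomm]
    intro Ub hUb hKUb
    obtain ⟨U, hU⟩ : ∃ U : Subgroup X, U = (Ub.comap (ffInl V)).map V.subtype := ⟨_, rfl⟩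
    have hUW : U ≤ W := by
      rw [hU]
      rintro _ ⟨v, hv, rfl⟩
      exact (hmemWb v v.2).mp (hUb hv)
    have hKU : K ≤ normalizer (U : Set X) := by
      apply Cfsg.Agent.S2941.le_normalizer_of_conj_mem
      intro k hk x hx
      rw [hU] at hx ⊢
      obtain ⟨v, hv, rfl⟩ := hx
      refine ⟨⟨k * v * k⁻¹, Subgroup.Normal.conj_mem inferInstance (v : X) v.2 k⟩, ?_, rfl⟩
      rw [SetLike.mem_coe, mem_comap, ← ffIota_conj]
      exact conj_mem_of_mem_normalizer (hKUb ⟨k, hk, rfl⟩) hv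
    rcases hirr U hUW hKU with h | h
    · left
      rw [eq_bot_iff]
      intro u hu
      have hu' := hUb hu
      rw [hWb] at hu'
      obtain ⟨v, -, rfl⟩ := hu'
      have hvU : (v : X) ∈ U := by rw [hU]; exact ⟨v, hu, rfl⟩
      rw [h, mem_bot] at hvU
      have hv1 : v = 1 := Subtype.ext hvU
      rw [hv1, map_one]
      exact one_mem _
    · right
      apply le_antisymm hUb
      rw [hWb]
      rintro _ ⟨v, hv, rfl⟩
      have hvW : (v : X) ∈ W := mem_subgroupOf.mp hv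
      rw [← h, hU] at hvW
      obtain ⟨v', hv', he⟩ := hvW
      have : v' = v := Subtype.ext he
      rw [← this]
      exact hv'
  have hmain := ff_le_normalizer_plane hS hS3 hKH hKV hD' hW4' hirr'
  rw [hcomm] at hmain
  apply Cfsg.Agent.S2941.le_normalizer_of_conj_mem
  intro y hy w hw
  have hwV : w ∈ V := hWV hw
  have h1 : ffIota V y ∈ normalizer (Wb : Set (FFGamma V)) := hmain (hYb ▸ ⟨y, hy, rfl⟩)
  have h2 : ffInl V ⟨w, hwV⟩ ∈ Wb := (hmemWb w hwV).mpr hw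
  have h3 := conj_mem_of_mem_normalizer h1 h2
  rw [ffIota_conj] at h3
  exact (hmemWb _ _).mp h3

end Bridge2

end Cfsg.Agent.Helper15.JComp
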