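import Cfsg.Agent.Helper15.JComp10

/-!
# J-components, part 11: a component-like subgroup subnormal in `⟨K, J(T)⟩`

`X` finite solvable with `C_X(O₂(X)) ≤ O₂(X)`, `T` a Sylow 2-subgroup, `C_X(V) ≤ N_X(T)` for
`V = ⟨Ω₁Z(S) | S Sylow⟩`.  If `K` is component-like, subnormal in `⟨K, J(T)⟩`, and
`X = ⟨K, J(T)⟩ O₂(X)`, then `J(T)` normalizes `W_K`.
-/

set_option autoImplicit false
set_option linter.unusedSectionVars false
set_option linter.style.haveILetI false

namespace Cfsg.Agent.Helper15.JComp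

open Cfsg Subgroup Cfsg.Agent.Helper7
open scoped commutatorElement

section Generic

variable {G : Type*} [Group G] [Finite G]

/-- Wielandt: `O₂(M)` normalizes a subnormal subgroup of `M` generated by elements of odd order -/
theorem pCoreOf_le_normalizer_of_subnormal {K M : Subgroup G} (hKM : K ≤ M)
    (hgen : closure {g : G | g ∈ K ∧ Odd (orderOf g)} = K)
    (hsn : (K.subgroupOf M).IsSubnormal) : pCoreOf 2 M ≤ normalizer (K : Set G) := by
  haveI : Fact (Nat.Prime 2) := ⟨Nat.prime_two⟩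
  have h1 := Cfsg.Agent.Helper14.pCore_le_normalizer_pResidualOf (p := 2) hsn
  have h2 : (pResidual 2 ↥(K.subgroupOf M)).map (K.subgroupOf M).subtype = K.subgroupOf M := by
    rw [Cfsg.Agent.Helper14.pResidualOf_eq_closure]
    have h3 := closure_odd_map M.subtype_injective (K.subgroupOf M)
    rw [map_subgroupOf_eq_of_le hKM, hgen] at h3
    have h4 : closure {b : ↥M | b ∈ K.subgroupOf M ∧ Nat.Coprime (orderOf b) 2} =
        closure {g : ↥M | g ∈ K.subgroupOf M ∧ Odd (orderOf g)} := by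
      congr 1
      ext b
      simp only [Set.mem_setOf_eq, Nat.coprime_two_right]
    rw [h4]
    apply map_injective M.subtype_injective
    rw [← h3, map_subgroupOf_eq_of_le hKM]
  rw [h2] at h1
  unfold pCoreOf
  refine (map_mono h1).trans ((le_normalizer_map M.subtype).trans ?_)
  rw [map_subgroupOf_eq_of_le hKM]

/-- the image of a subnormal subgroup of `M` in `G / N` is subnormal when `G = M N` -/
theorem isSubnormal_map_mk_of_sup_eq_top {K M N : Subgroup G} [N.Normal] (hKM : K ≤ M)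
    (hsn : (K.subgroupOf M).IsSubnormal) (htop : M ⊔ N = ⊤) :
    (K.map (QuotientGroup.mk' N)).IsSubnormal := by
  have hsurj : Function.Surjective ((QuotientGroup.mk' N).comp M.subtype) := by
    intro q
    obtain ⟨x, rfl⟩ := QuotientGroup.mk'_surjective N q
    have hx : x ∈ M ⊔ N := by rw [htop]; exact mem_top x
    obtain ⟨a, ha, n, hn, rfl⟩ := mem_sup_of_normal_right.mp hx
    refine ⟨⟨a, ha⟩, ?_⟩
    rw [MonoidHom.comp_apply, Subgroup.subtype_apply, QuotientGroup.mk'_apply,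
      QuotientGroup.mk'_apply, QuotientGroup.eq]
    have : a⁻¹ * (a * n) = n := by group
    rw [this]
    exact hn
  have := hsn.map hsurj
  rwa [← Subgroup.map_map, map_subgroupOf_eq_of_le hKM] at this

end Generic

section Local

variable {X : Type*} [Group X] [Finite X]

/-- the standing hypotheses of the local theory, without a component -/
structure LocalBase (T : Subgroup X) : Prop where
  solv : Group.IsSolvable X
  hT2 : IsPGroup 2 T
  hTodd : Odd T.index
  hc : centralizer (pCore 2 X : Set X) ≤ pCore 2 X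
  hCT : centralizer ((omegaZ 2 X : Subgroup X) : Set X) ≤ normalizer (T : Set X)

theorem LocalSetup.toBase {T K : Subgroup X} (h : LocalSetup T K) : LocalBase T :=
  ⟨h.solv, h.hT2, h.hTodd, h.hc, h.hCT⟩

namespace LocalBase

variable {T : Subgroup X}

theorem omegaZ_normal (h : LocalBase T) : (omegaZ 2 X).Normal := by
  haveI : Fact (Nat.Prime 2) := ⟨Nat.prime_two⟩
  exact (Cfsg.Agent.S0601.result h.hc).1

theorem omegaZ_el (h : LocalBase T) : IsElementaryAbelian 2 (omegaZ 2 X) := by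
  haveI : Fact (Nat.Prime 2) := ⟨Nat.prime_two⟩
  exact (Cfsg.Agent.S0601.result h.hc).2.1

theorem hOp (h : LocalBase T) :
    haveI := h.omegaZ_normal
    pCore 2 (X ⧸ centralizer ((omegaZ 2 X : Subgroup X) : Set X)) = ⊥ := by
  haveI : Fact (Nat.Prime 2) := ⟨Nat.prime_two⟩
  haveI := h.omegaZ_normal
  exact Cfsg.Agent.S0600.result (omegaZ 2 X) h.omegaZ_el (omegaZ_eq_iSup_inf 2 X)

theorem exists_sylow (h : LocalBase T) : ∃ TS : Sylow 2 X, (TS : Subgroup X) = T := by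
  haveI : Fact (Nat.Prime 2) := ⟨Nat.prime_two⟩
  have h2 : ¬ 2 ∣ T.index := fun hd => (Nat.not_even_iff_odd.mpr h.hTodd) (even_iff_two_dvd.mpr hd)
  exact ⟨h.hT2.toSylow h2, h.hT2.toSylow_coe h2⟩

theorem pCore_le_T (h : LocalBase T) : pCore 2 X ≤ T := by
  obtain ⟨TS, hTS⟩ := h.exists_sylow
  rw [← hTS]
  exact Cfsg.Agent.Helper14.pCore_le_sylow 2 TS

theorem omegaZ_le_centralizer_pCore (h : LocalBase T) :
    omegaZ 2 X ≤ centralizer (pCore 2 X : Set X) := by
  apply iSup_le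
  intro S
  refine (omegaOne_le 2 _).trans (inf_le_right.trans ?_)
  exact centralizer_le (Cfsg.Agent.Helper14.pCore_le_sylow 2 S)

theorem omegaZ_le_pCore (h : LocalBase T) : omegaZ 2 X ≤ pCore 2 X :=
  h.omegaZ_le_centralizer_pCore.trans h.hc

theorem pCore_le_C (h : LocalBase T) :
    pCore 2 X ≤ centralizer ((omegaZ 2 X : Subgroup X) : Set X) :=
  le_centralizer_iff.mp h.omegaZ_le_centralizer_pCore

theorem C_normal (h : LocalBase T) :
    (centralizer ((omegaZ 2 X : Subgroup X) : Set X)).Normal := by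
  haveI := h.omegaZ_normal
  infer_instance

/-- every 2-subgroup of `C` lies in `T` -/
theorem le_T_of_isPGroup (h : LocalBase T) {Q : Subgroup X} (hQ : IsPGroup 2 Q)
    (hQC : Q ≤ centralizer ((omegaZ 2 X : Subgroup X) : Set X)) : Q ≤ T := by
  obtain ⟨TS, hTS⟩ := h.exists_sylow
  have h1 : IsPGroup 2 ↥(Q ⊔ T) := hQ.to_sup_of_normal_right' h.hT2 (hQC.trans h.hCT)
  have h2 : Q ⊔ T = T := by
    have := TS.is_maximal' (Q := Q ⊔ T) h1 (by rw [hTS]; exact le_sup_right)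
    rw [this, hTS]
  rw [← h2]
  exact le_sup_left

/-- every 2-subgroup of `C` lies in `O₂(X)` -/
theorem le_pCore_of_isPGroup (h : LocalBase T) {Q : Subgroup X} (hQ : IsPGroup 2 Q)
    (hQC : Q ≤ centralizer ((omegaZ 2 X : Subgroup X) : Set X)) : Q ≤ pCore 2 X := by
  haveI := h.C_normal
  set C := centralizer ((omegaZ 2 X : Subgroup X) : Set X) with hC
  have hD2 : IsPGroup 2 ↥(T ⊓ C) := h.hT2.to_le inf_le_left
  have hDn : (T ⊓ C).Normal := by
    rw [← normalizer_eq_top_iff, eq_top_iff]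
    apply Cfsg.Agent.Helper14.le_normalizer_of_map_cj_le
    intro g _
    have h1 : (T ⊓ C).map (Cfsg.Agent.Helper14.cj g) ≤ C := by
      rintro _ ⟨x, hx, rfl⟩
      exact Subgroup.Normal.conj_mem inferInstance x hx.2 g
    exact le_inf (h.le_T_of_isPGroup (hD2.map _) h1) h1
  exact (le_inf (h.le_T_of_isPGroup hQ hQC) hQC).trans (Cfsg.Agent.Helper14.le_pCore 2 hDn hD2)

theorem commutator_C_T_le (h : LocalBase T) :
    ⁅centralizer ((omegaZ 2 X : Subgroup X) : Set X), T⁆ ≤ pCore 2 X := by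
  haveI := h.C_normal
  set C := centralizer ((omegaZ 2 X : Subgroup X) : Set X) with hC
  have h1 : ⁅C, T⁆ ≤ C := commutator_le_left C T
  have h2 : ⁅C, T⁆ ≤ T := by
    rw [commutator_comm]
    exact Cfsg.Agent.Lead.commutator_le_of_le_normalizer h.hCT
  exact h.le_pCore_of_isPGroup (h.hT2.to_le h2) h1

theorem J_le_T (h : LocalBase T) : thompsonSubgroupOf 2 T ≤ T :=
  Cfsg.Agent.S2941.thompsonSubgroupOf_le 2 T

/-- elementary abelian subgroups of largest order of `T` are such for `X` -/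
theorem maxEA_subset (h : LocalBase T) : maxEA 2 T ⊆ maxElementaryAbelianSubgroups 2 X := by
  haveI : Fact (Nat.Prime 2) := ⟨Nat.prime_two⟩
  obtain ⟨TS, hTS⟩ := h.exists_sylow
  obtain ⟨A₀, hA₀, hA₀T⟩ := Cfsg.Agent.Helper26.exists_mem_maxElementaryAbelianSubgroups_le_sylow TS
  rw [hTS] at hA₀T
  intro A hA
  have := Cfsg.Agent.Helper26.map_subtype_mem_maxElementaryAbelianSubgroups hA₀ hA₀T
    (subgroupOf_mem_of_mem_maxEA hA)
  rwa [map_subgroupOf_eq_of_le hA.1] at this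

theorem J_le_thompson (h : LocalBase T) : thompsonSubgroupOf 2 T ≤ thompsonSubgroup 2 X := by
  rw [thompsonSubgroupOf_eq_sSup_maxEA]
  exact sSup_le (fun A hA => le_sSup (h.maxEA_subset hA))

/-- `V ≤ J(T)` -/
theorem omegaZ_le_J (h : LocalBase T) : omegaZ 2 X ≤ thompsonSubgroupOf 2 T := by
  haveI : Fact (Nat.Prime 2) := ⟨Nat.prime_two⟩
  haveI := h.solv
  haveI := h.omegaZ_normal
  have hsep : IsPSolvable 2 X := Cfsg.Agent.Helper10.isPSolvable_of_isSolvable 2 inferInstance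
  obtain ⟨A, hA⟩ := maxEA_nonempty 2 T
  have hA' := sup_inf_centralizer_mem_maxElementaryAbelian hsep (omegaZ 2 X) h.omegaZ_el h.hOp
    (h.maxEA_subset hA)
  have hle : omegaZ 2 X ⊔ (A ⊓ centralizer ((omegaZ 2 X : Subgroup X) : Set X)) ≤ T :=
    sup_le (h.omegaZ_le_pCore.trans h.pCore_le_T) (inf_le_left.trans hA.1)
  have hmem : omegaZ 2 X ⊔ (A ⊓ centralizer ((omegaZ 2 X : Subgroup X) : Set X)) ∈ maxEA 2 T :=
    mem_maxEA_of_card_le hA hle hA'.1 (hA'.2 A hA.2.1)
  exact le_sup_left.trans (le_thompsonSubgroupOf_of_mem_maxEA hmem)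

/-- **the middle theorem** -/
theorem thompson_le_normalizer_wOf (h : LocalBase T) {K : Subgroup X} (hK : CompLike K)
    (hsn : (K.subgroupOf (K ⊔ thompsonSubgroupOf 2 T)).IsSubnormal)
    (htop : K ⊔ thompsonSubgroupOf 2 T ⊔ pCore 2 X = ⊤) :
    thompsonSubgroupOf 2 T ≤ normalizer ((wOf K : Subgroup X) : Set X) := by
  haveI : Fact (Nat.Prime 2) := ⟨Nat.prime_two⟩
  haveI : Fact (Nat.Prime 3) := ⟨Nat.prime_three⟩
  haveI := h.solv
  haveI hVn := h.omegaZ_normal
  haveI hCn := h.C_normal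
  haveI hPn : (pCore 2 X).Normal := Cfsg.Agent.Helper14.pCore_normal 2
  obtain ⟨V, hV⟩ : ∃ V : Subgroup X, V = omegaZ 2 X := ⟨_, rfl⟩
  obtain ⟨C, hC⟩ : ∃ C : Subgroup X, C = centralizer (V : Set X) := ⟨_, rfl⟩
  obtain ⟨P, hP⟩ : ∃ P : Subgroup X, P = pCore 2 X := ⟨_, rfl⟩
  obtain ⟨J, hJ⟩ : ∃ J : Subgroup X, J = thompsonSubgroupOf 2 T := ⟨_, rfl⟩
  obtain ⟨X₀, hX₀⟩ : ∃ X₀ : Subgroup X, X₀ = K ⊔ J := ⟨_, rfl⟩
  obtain ⟨R, hR⟩ : ∃ R : Subgroup X, R = pCoreOf 2 K := ⟨_, rfl⟩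
  obtain ⟨Q₀, hQ₀⟩ : ∃ Q₀ : Subgroup X, Q₀ = pCoreOf 2 X₀ := ⟨_, rfl⟩
  rw [← hJ] at hsn htop ⊢
  rw [← hX₀] at hsn htop
  rw [← hP] at htop
  have hVnorm : V.Normal := hV ▸ hVn
  have hCnorm : C.Normal := by rw [hC, hV]; exact hCn
  have hPnorm : P.Normal := hP ▸ hPn
  have hVel : IsElementaryAbelian 2 V := hV ▸ h.omegaZ_el
  have hOp : pCore 2 (X ⧸ C) = ⊥ := by
    subst hC; subst hV
    exact h.hOp
  have hPC : P ≤ C := by rw [hP, hC, hV]; exact h.pCore_le_C
  have hKX₀ : K ≤ X₀ := hX₀ ▸ le_sup_left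
  have hJX₀ : J ≤ X₀ := hX₀ ▸ le_sup_right
  have hJT : J ≤ T := hJ ▸ h.J_le_T
  have hRK : R ≤ K := hR ▸ Cfsg.Agent.Helper14.pCoreOf_le 2 K
  have hKR : K ≤ normalizer (R : Set X) := hR ▸ Cfsg.Agent.Helper14.le_normalizer_pCoreOf 2 K
  have hQ₀2 : IsPGroup 2 Q₀ := hQ₀ ▸ Cfsg.Agent.Helper14.pCoreOf_isPGroup 2 X₀
  have hQ₀K : Q₀ ≤ normalizer (K : Set X) :=
    hQ₀ ▸ pCoreOf_le_normalizer_of_subnormal hKX₀ hK.gen hsn
  have hNtop : ∀ {N : Subgroup X}, N.Normal → ∀ A : Subgroup X, A ≤ normalizer (N : Set X) := by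
    intro N hN A
    rw [normalizer_eq_top_iff.mpr hN]
    exact le_top
  -- the image of `K` in `X / C` is subnormal
  have htop' : X₀ ⊔ C = ⊤ := by
    rw [eq_top_iff, ← htop]
    exact sup_le_sup_left hPC X₀
  have hsnb : (K.map (QuotientGroup.mk' C)).IsSubnormal :=
    isSubnormal_map_mk_of_sup_eq_top hKX₀ hsn htop'
  -- `R ≤ C`
  have hRC : R ≤ C := by
    have hRb : (R.map (QuotientGroup.mk' C)).IsSubnormal := by
      refine IsSubnormal.step _ _ (map_mono hRK) hsnb ?_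
      rw [normal_subgroupOf_iff_le_normalizer (map_mono hRK)]
      exact (map_mono hKR).trans (le_normalizer_map _)
    have hRb2 : IsPGroup 2 ↥(R.map (QuotientGroup.mk' C)) :=
      (hR ▸ Cfsg.Agent.Helper14.pCoreOf_isPGroup 2 K).map _
    have hle := Cfsg.Agent.Helper14.le_pCore_of_isSubnormal hRb hRb2
    rw [hOp, le_bot_iff, Subgroup.map_eq_bot_iff, QuotientGroup.ker_mk'] at hle
    exact hle
  by_cases hKC : K ≤ C
  · -- `K ≤ C`: `[K, J] ≤ O₂(X) ∩ X₀ ≤ O₂(X₀)`
    have hKJP : ⁅K, J⁆ ≤ P := by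
      have := h.commutator_C_T_le
      rw [← hV, ← hC, ← hP] at this
      exact (commutator_mono hKC hJT).trans this
    have hKJX₀ : ⁅K, J⁆ ≤ X₀ :=
      (commutator_mono hKX₀ hJX₀).trans (Cfsg.Agent.Lead.commutator_le_of_le_normalizer le_normalizer)
    have hPX₀ : P ⊓ X₀ ≤ Q₀ := by
      rw [hQ₀]
      apply Cfsg.Agent.Helper14.le_pCoreOf 2 inf_le_right _
        ((hP ▸ Cfsg.Agent.Helper14.pCore_isPGroup 2 : IsPGroup 2 P).to_le inf_le_left)
      exact (le_inf (hNtop hPnorm X₀) le_normalizer).trans le_normalizer_inf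
    have hJK : J ≤ normalizer (K : Set X) := by
      apply Cfsg.Agent.S2941.le_normalizer_of_conj_mem
      intro j hj x hx
      rw [← hK.gen] at hx
      refine Cfsg.Agent.S2941.conj_closure_mem _ _ j ?_ x hx
      rintro g ⟨hgK, hgodd⟩
      apply Cfsg.Agent.S2941.odd_mem_of_mem_sup K Q₀ hQ₀2 hQ₀K
      · have hc : ⁅g, j⁆ ∈ Q₀ :=
          hPX₀ (mem_inf.mpr ⟨hKJP (commutator_mem_commutator hgK hj),
            hKJX₀ (commutator_mem_commutator hgK hj)⟩)
        have e : j * g * j⁻¹ = (⁅g, j⁆)⁻¹ * g := by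
          rw [commutatorElement_def]; group
        rw [e]
        exact mul_mem (mem_sup_right (inv_mem hc)) (mem_sup_left hgK)
      · have : orderOf (j * g * j⁻¹) = orderOf g :=
          orderOf_injective (MulAut.conj j).toMonoidHom (MulAut.conj j).injective g
        rw [this]; exact hgodd
    exact hJK.trans (normalizer_le_normalizer_wOf K)
  · -- `K ≰ C`
    have hVJ : V ≤ J := by rw [hV, hJ]; exact h.omegaZ_le_J
    have hVQ₀ : V ≤ Q₀ := by
      rw [hQ₀]
      exact Cfsg.Agent.Helper14.le_pCoreOf 2 (hVJ.trans hJX₀) (hNtop hVnorm X₀)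
        (Cfsg.Agent.Helper26.isPGroup_of_isElementaryAbelian hVel)
    have hWeq : ⁅V, K⁆ = wOf K :=
      hK.commutator_eq_wOf hVel (hNtop hVnorm K) (hVQ₀.trans hQ₀K) (hC ▸ hR ▸ hRC)
        (hC ▸ hKC)
    -- commutators with `K` are `3`-elements modulo `C`
    have hK3 : IsPGroup 3 ↥(K.map (QuotientGroup.mk' C)) := by
      rintro ⟨_, k, hk, rfl⟩
      refine ⟨1, ?_⟩
      apply Subtype.ext
      show (QuotientGroup.mk' C k) ^ 3 ^ 1 = 1
      rw [pow_one, ← map_pow, QuotientGroup.mk'_apply, QuotientGroup.eq_one_iff]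
      exact hRC (hR ▸ pow_three_mem (hR ▸ hRK) (hR ▸ hKR) hK.idx hk)
    have hKD : K.map (QuotientGroup.mk' C) ≤ pCore 3 (X ⧸ C) :=
      Cfsg.Agent.Helper14.le_pCore_of_isSubnormal hsnb hK3
    have hDn : (pCore 3 (X ⧸ C)).Normal := Cfsg.Agent.Helper14.pCore_normal 3
    have hD3 : IsPGroup 3 ↥(pCore 3 (X ⧸ C)) := Cfsg.Agent.Helper14.pCore_isPGroup 3
    have hD : ∀ k ∈ K, ∀ x : X, ∃ m : ℕ, ⁅k, x⁆ ^ (3 ^ m) ∈ centralizer (V : Set X) := by
      intro k hk x
      have hkD : QuotientGroup.mk' C k ∈ pCore 3 (X ⧸ C) := hKD ⟨k, hk, rfl⟩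
      have hcD : QuotientGroup.mk' C ⁅k, x⁆ ∈ pCore 3 (X ⧸ C) := by
        rw [map_commutatorElement, commutatorElement_def]
        have h1 := hDn.conj_mem _ (inv_mem hkD) (QuotientGroup.mk' C x)
        have e : (QuotientGroup.mk' C) k * (QuotientGroup.mk' C) x * ((QuotientGroup.mk' C) k)⁻¹ *
            ((QuotientGroup.mk' C) x)⁻¹ = (QuotientGroup.mk' C) k *
            ((QuotientGroup.mk' C) x * ((QuotientGroup.mk' C) k)⁻¹ *
              ((QuotientGroup.mk' C) x)⁻¹) := by group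
        rw [e]
        exact mul_mem hkD h1
      obtain ⟨m, hm⟩ := hD3 ⟨_, hcD⟩
      refine ⟨m, ?_⟩
      have hm' : (QuotientGroup.mk' C ⁅k, x⁆) ^ 3 ^ m = 1 := congrArg Subtype.val hm
      rw [← map_pow, QuotientGroup.mk'_apply, QuotientGroup.eq_one_iff] at hm'
      rw [← hC]
      exact hm'
    have hmain := ff_bridge2 V hVel (hC ▸ hOp) K hD (by rw [hWeq]; exact hK.card) (by
      intro U hU hKU
      by_cases hU1 : U = ⊥
      · exact Or.inl hU1
      · right
        rw [hWeq] at hU ⊢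
        exact hK.irr U hU hU1 hKU)
    rw [hWeq] at hmain
    exact (hJ ▸ h.J_le_thompson).trans hmain

end LocalBase

end Local

end Cfsg.Agent.Helper15.JComp
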