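import Cfsg.Agent.Helper15.JComp11

/-!
# J-components, part 12: S2945

A member `K` of `jComponentsZero (T^g)` contained in `L ∈ jOvergroups T` and subnormal in
`⟨K, J(T)⟩` is a `J(T)`-component.
-/

set_option autoImplicit false
set_option linter.unusedSectionVars false
set_option linter.style.haveILetI false

namespace Cfsg.Agent.Helper15.JComp

open Cfsg Subgroup Cfsg.Agent.Helper7
open scoped commutatorElement

variable {G : Type*} [Group G] [Finite G]

/-- the standing hypotheses (without a component) hold in `↥L` -/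
theorem localBase_of_overgroup
    (hZ : ∀ S : Sylow 2 G, centralizer ((omegaCenterOf (S : Subgroup G) : Subgroup G) : Set G) ≤
      normalizer ((S : Subgroup G) : Set G))
    {T L : Subgroup G} (hsolv : Group.IsSolvable ↥L) (hTL : IsSylowTwoIn T L)
    (hCP : centralizer ((pCoreOf 2 L : Subgroup G) : Set G) ≤ pCoreOf 2 L) :
    LocalBase (T.subgroupOf L) := by
  haveI : Fact (Nat.Prime 2) := ⟨Nat.prime_two⟩
  have hT2 : IsPGroup 2 (T.subgroupOf L) := hTL.2.1.comap_subtype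
  have hTodd : Odd (T.subgroupOf L).index := hTL.2.2
  have h2 : ¬ 2 ∣ (T.subgroupOf L).index := fun hd =>
    (Nat.not_even_iff_odd.mpr hTodd) (even_iff_two_dvd.mpr hd)
  have hPT : pCoreOf 2 L ≤ T := pCoreOf_le_of_isSylowTwoIn hTL
  refine ⟨hsolv, hT2, hTodd, ?_, ?_⟩
  · -- `C_X(O₂(X)) ≤ O₂(X)`
    intro x hx
    have h1 : (x : G) ∈ centralizer ((pCoreOf 2 L : Subgroup G) : Set G) := by
      rw [mem_centralizer_iff]
      rintro _ ⟨y, hy, rfl⟩
      exact congrArg Subtype.val (mem_centralizer_iff.mp hx y hy)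
    obtain ⟨x', hx', hxx'⟩ := hCP h1
    have : x' = x := Subtype.ext hxx'
    rw [← this]; exact hx'
  · -- `C_X(V) ≤ N_X(T)`
    intro c hc
    rw [← subgroupOf_normalizer_eq hTL.1, mem_subgroupOf]
    obtain ⟨S', hTS'⟩ := hTL.2.1.exists_le_sylow
    have hZV : omegaCenterOf (S' : Subgroup G) ≤ (omegaZ 2 ↥L).map L.subtype := by
      unfold omegaCenterOf omegaOne
      rw [closure_le]
      rintro x ⟨hx1, hx2⟩
      obtain ⟨hxS, hxc⟩ := mem_inf.mp hx1
      have hxT : x ∈ T := by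
        apply hPT
        apply hCP
        exact centralizer_le (hPT.trans hTS') hxc
      have hxL : x ∈ L := hTL.1 hxT
      refine ⟨⟨x, hxL⟩, ?_, rfl⟩
      refine (le_iSup (fun S : Sylow 2 ↥L => omegaOne 2
        ((S : Subgroup ↥L) ⊓ centralizer ((S : Subgroup ↥L) : Set ↥L))) (hT2.toSylow h2)) ?_
      unfold omegaOne
      apply Subgroup.subset_closure
      rw [hT2.toSylow_coe h2]
      refine ⟨mem_inf.mpr ⟨mem_subgroupOf.mpr hxT, ?_⟩, Subtype.ext hx2⟩
      rw [mem_centralizer_iff]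
      intro y hy
      apply Subtype.ext
      exact mem_centralizer_iff.mp hxc y (hTS' (mem_subgroupOf.mp hy))
    have hcc : (c : G) ∈ centralizer ((omegaCenterOf (S' : Subgroup G) : Subgroup G) : Set G) := by
      rw [mem_centralizer_iff]
      intro z hz
      obtain ⟨z', hz', rfl⟩ := hZV hz
      exact congrArg Subtype.val (mem_centralizer_iff.mp hc z' hz')
    have hcS : (c : G) ∈ normalizer ((S' : Subgroup G) : Set G) := hZ S' hcc
    have hSL : (S' : Subgroup G) ⊓ L = T := by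
      apply le_antisymm
      · have hQ2 : IsPGroup 2 (((S' : Subgroup G) ⊓ L).subgroupOf L) :=
          (S'.isPGroup'.to_le inf_le_left).comap_subtype
        have hle : ((hT2.toSylow h2 : Sylow 2 ↥L) : Subgroup ↥L) ≤
            ((S' : Subgroup G) ⊓ L).subgroupOf L := by
          rw [hT2.toSylow_coe h2]
          intro y hy
          rw [mem_subgroupOf] at hy ⊢
          exact mem_inf.mpr ⟨hTS' hy, y.2⟩
        have heq := (hT2.toSylow h2).is_maximal' hQ2 hle
        rw [hT2.toSylow_coe h2] at heq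
        intro y hy
        have : (⟨y, (mem_inf.mp hy).2⟩ : ↥L) ∈ ((S' : Subgroup G) ⊓ L).subgroupOf L :=
          mem_subgroupOf.mpr hy
        rw [heq] at this
        exact mem_subgroupOf.mp this
      · exact le_inf hTS' hTL.1
    rw [← hSL]
    exact le_normalizer_inf (mem_inf.mpr ⟨hcS, le_normalizer c.2⟩)

/-- if `J(T) ≤ T₀ ≤ Tⁿ` then `J(T₀) = J(T)` -/
theorem thompson_eq_of_le_of_le_conj {T T₀ : Subgroup G} (n : G)
    (h1 : thompsonSubgroupOf 2 T ≤ T₀) (h2 : T₀ ≤ T.map (MulAut.conj n).toMonoidHom) :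
    thompsonSubgroupOf 2 T₀ = thompsonSubgroupOf 2 T := by
  set cn := (MulAut.conj n).toMonoidHom with hcn
  have hcni : Function.Injective cn := (MulAut.conj n).injective
  have hcard : ∀ A ∈ maxEA 2 T, ∀ E ∈ maxEA 2 T₀, Nat.card A = Nat.card E := by
    intro A hA E hE
    apply le_antisymm
    · exact hE.2.2 A ((le_thompsonSubgroupOf_of_mem_maxEA hA).trans h1) hA.2.1
    · have := (map_mem_maxEA hcni hA).2.2 E (hE.1.trans h2) hE.2.1
      rwa [Subgroup.card_map_of_injective hcni] at this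
  have hle : thompsonSubgroupOf 2 T ≤ thompsonSubgroupOf 2 T₀ :=
    thompson_eq_of_le_of_card_eq h1 hcard
  symm
  apply eq_of_le_of_card_ge hle
  have hle2 : thompsonSubgroupOf 2 T₀ ≤ (thompsonSubgroupOf 2 T).map cn := by
    rw [← thompsonSubgroupOf_map hcni]
    conv_lhs => rw [thompsonSubgroupOf_eq_sSup_maxEA]
    apply sSup_le
    intro E hE
    apply le_thompsonSubgroupOf_of_mem_maxEA
    obtain ⟨A, hA⟩ := maxEA_nonempty 2 T
    apply mem_maxEA_of_card_le (map_mem_maxEA hcni hA) (hE.1.trans h2) hE.2.1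
    rw [Subgroup.card_map_of_injective hcni]
    exact le_of_eq (hcard A hA E hE)
  have := card_le_of_le hle2
  rwa [Subgroup.card_map_of_injective hcni] at this

/-- subnormality transfers along an injective homomorphism -/
theorem isSubnormal_subgroupOf_of_map {H : Type*} [Group H] {f : H →* G}
    (hf : Function.Injective f) {A B : Subgroup H}
    (h : ((A.map f).subgroupOf (B.map f)).IsSubnormal) : (A.subgroupOf B).IsSubnormal := by
  have e : ((A.map f).subgroupOf (B.map f)).comap (f.subgroupMap B) = A.subgroupOf B := by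
    ext ⟨b, hb⟩
    rw [mem_comap, mem_subgroupOf, mem_subgroupOf]
    show f b ∈ A.map f ↔ b ∈ A
    exact mem_map_iff_mem hf
  rw [← e]
  exact h.comap _

/-- **S2945.** -/
theorem jc_of_subnormal_in_overgroup (hL : IsCharacteristicTwoType G)
    (hN : ∀ N : Subgroup G, IsTwoLocal N → Group.IsSolvable ↥N)
    (hZ : ∀ S : Sylow 2 G, centralizer ((omegaCenterOf (S : Subgroup G) : Subgroup G) : Set G) ≤
      normalizer ((S : Subgroup G) : Set G))
    {T : Subgroup G} (hT : IsPGroup 2 T) {L : Subgroup G} (hLT : L ∈ jOvergroups T)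
    {K : Subgroup G} (hKL : K ≤ L)
    (hKsn : (K.subgroupOf (K ⊔ thompsonSubgroupOf 2 T)).IsSubnormal) (g : G)
    (hKg : K ∈ jComponentsZero (T.map (MulAut.conj g).toMonoidHom)) : IsJComponent T K := by
  haveI : Fact (Nat.Prime 2) := ⟨Nat.prime_two⟩
  have hsolvL : Group.IsSolvable ↥L := isSolvable_of_mem_jOvergroups hN hLT
  obtain ⟨hTL, -, hCP⟩ := hLT
  obtain ⟨J, hJ⟩ : ∃ J : Subgroup G, J = thompsonSubgroupOf 2 T := ⟨_, rfl⟩
  obtain ⟨P, hP⟩ : ∃ P : Subgroup G, P = pCoreOf 2 L := ⟨_, rfl⟩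
  obtain ⟨L₀, hL₀⟩ : ∃ L₀ : Subgroup G, L₀ = K ⊔ J ⊔ P := ⟨_, rfl⟩
  rw [← hJ] at hKsn
  rw [← hP] at hCP
  have hJT : J ≤ T := hJ ▸ Cfsg.Agent.S2941.thompsonSubgroupOf_le 2 T
  have hPT : P ≤ T := hP ▸ pCoreOf_le_of_isSylowTwoIn hTL
  have hP2 : IsPGroup 2 P := hP ▸ Cfsg.Agent.Helper14.pCoreOf_isPGroup 2 L
  have hPL : P ≤ L := hPT.trans hTL.1
  have hL₀L : L₀ ≤ L := by
    rw [hL₀]; exact sup_le (sup_le hKL (hJT.trans hTL.1)) hPL
  have hKL₀ : K ≤ L₀ := by rw [hL₀]; exact le_sup_left.trans le_sup_left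
  have hJL₀ : J ≤ L₀ := by rw [hL₀]; exact le_sup_right.trans le_sup_left
  have hPL₀ : P ≤ L₀ := by rw [hL₀]; exact le_sup_right
  -- a Sylow 2-subgroup `T₀` of `L₀` containing `J P`
  obtain ⟨T₀, hT₀L₀, hJPT₀⟩ := exists_isSylowTwoIn_ge (hT.to_le (sup_le hJT hPT))
    (sup_le hJL₀ hPL₀)
  obtain ⟨S₁, hS₁L, hT₀S₁⟩ := exists_isSylowTwoIn_ge hT₀L₀.2.1 (hT₀L₀.1.trans hL₀L)
  obtain ⟨n, -, hS₁⟩ := isSylowTwoIn_conj hTL hS₁L
  have hJeq : thompsonSubgroupOf 2 T₀ = J := by
    rw [hJ]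
    exact thompson_eq_of_le_of_le_conj n (hJ ▸ le_sup_left.trans hJPT₀) (hS₁ ▸ hT₀S₁)
  -- the local hypotheses in `↥L₀`
  have hPcore : P ≤ pCoreOf 2 L₀ :=
    Cfsg.Agent.Helper14.le_pCoreOf 2 hPL₀
      (hL₀L.trans (hP ▸ Cfsg.Agent.Helper14.le_normalizer_pCoreOf 2 L)) hP2
  have hCP₀ : centralizer ((pCoreOf 2 L₀ : Subgroup G) : Set G) ≤ pCoreOf 2 L₀ :=
    (centralizer_le hPcore).trans (hCP.trans hPcore)
  have hsolv₀ : Group.IsSolvable ↥L₀ :=
    solvable_of_solvable_injective (f := Subgroup.inclusion hL₀L) (Subgroup.inclusion_injective _)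
  have hb : LocalBase (T₀.subgroupOf L₀) := localBase_of_overgroup hZ hsolv₀ hT₀L₀ hCP₀
  have hcl : CompLike (K.subgroupOf L₀) := (compLike_of_jc hKg.1).subgroupOf hKL₀
  have hJ' : thompsonSubgroupOf 2 (T₀.subgroupOf L₀) = J.subgroupOf L₀ := by
    have := thompsonSubgroupOf_map L₀.subtype_injective 2 (T₀.subgroupOf L₀)
    rw [map_subgroupOf_eq_of_le hT₀L₀.1, hJeq] at this
    apply map_injective L₀.subtype_injective
    rw [← this, map_subgroupOf_eq_of_le hJL₀]
  have hsn' : ((K.subgroupOf L₀).subgroupOf (K.subgroupOf L₀ ⊔ J.subgroupOf L₀)).IsSubnormal := by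
    apply isSubnormal_subgroupOf_of_map L₀.subtype_injective
    rw [Subgroup.map_sup, map_subgroupOf_eq_of_le hKL₀, map_subgroupOf_eq_of_le hJL₀]
    exact hKsn
  have htop' : K.subgroupOf L₀ ⊔ J.subgroupOf L₀ ⊔ pCore 2 ↥L₀ = ⊤ := by
    apply map_injective L₀.subtype_injective
    rw [Subgroup.map_sup, Subgroup.map_sup, map_subgroupOf_eq_of_le hKL₀,
      map_subgroupOf_eq_of_le hJL₀, ← MonoidHom.range_eq_map, range_subtype]
    apply le_antisymm
    · exact sup_le (sup_le hKL₀ hJL₀) (Cfsg.Agent.Helper14.pCoreOf_le 2 L₀)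
    · conv_lhs => rw [hL₀]
      exact sup_le_sup_left hPcore _
  have hmid := hb.thompson_le_normalizer_wOf hcl (hJ'.symm ▸ hsn') (hJ'.symm ▸ htop')
  rw [hJ', wOf_subgroupOf hKL₀] at hmid
  have hWL₀ : wOf K ≤ L₀ := (wOf_le K).trans hKL₀
  have hJW : J ≤ normalizer ((wOf K : Subgroup G) : Set G) := by
    rw [← subgroupOf_normalizer_eq hWL₀] at hmid
    intro j hj
    exact mem_subgroupOf.mp (hmid (mem_subgroupOf.mpr (show ((⟨j, hJL₀ hj⟩ : ↥L₀) : G) ∈ J from hj)))
  -- conclude with S2944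
  obtain ⟨-, hall⟩ := jc_zero_normalizer_eq hL hN hZ (hT.map _) hKg
  have hback : (T.map (MulAut.conj g).toMonoidHom).map (MulAut.conj g⁻¹).toMonoidHom = T := by
    rw [map_conj_map_conj, inv_mul_cancel, map_conj_one]
  have := hall g⁻¹ (by rw [hback, ← hJ]; exact hJW)
  rwa [hback] at this

end Cfsg.Agent.Helper15.JComp
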