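import Cfsg.Agent.Helper15.JComp12
import Cfsg.Agent.Helper14.Kieler

/-!
# J-components, part 13: the four-group lemma

`A` elementary abelian of largest order in `G`, `W` an elementary abelian `2`-subgroup normalized by
`A` and by an element `e` of order `3` acting fixed-point-freely on `W`, `R` a subgroup centralizing
`W`, every element of `A` centralizing or inverting `e` modulo `R`, and some `b ∈ A` inverting `e`.
Then `|W| ≤ 4`.
-/

set_option autoImplicit false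
set_option linter.unusedSectionVars false
set_option linter.style.haveILetI false

namespace Cfsg.Agent.Helper15.JComp

open Cfsg Subgroup
open scoped commutatorElement

section FG

variable {G : Type*} [Group G]

/-- the elements of `A` centralizing `e` modulo `R` -/
def stabMod (A R : Subgroup G) (e : G) (hAR : A ≤ normalizer (R : Set G)) : Subgroup G where
  carrier := {a | a ∈ A ∧ a * e * a⁻¹ * e⁻¹ ∈ R}
  one_mem' := ⟨one_mem _, by simp⟩
  mul_mem' := by
    rintro a a' ⟨ha, har⟩ ⟨ha', har'⟩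
    refine ⟨mul_mem ha ha', ?_⟩
    have h1 : a * (a' * e * a'⁻¹ * e⁻¹) * a⁻¹ ∈ R := conj_mem_of_mem_normalizer (hAR ha) har'
    have e1 : a * a' * e * (a * a')⁻¹ * e⁻¹ =
        (a * (a' * e * a'⁻¹ * e⁻¹) * a⁻¹) * (a * e * a⁻¹ * e⁻¹) := by group
    rw [e1]
    exact mul_mem h1 har
  inv_mem' := by
    rintro a ⟨ha, har⟩
    refine ⟨inv_mem ha, ?_⟩
    have h1 : a⁻¹ * (a * e * a⁻¹ * e⁻¹)⁻¹ * a⁻¹⁻¹ ∈ R :=
      conj_mem_of_mem_normalizer (hAR (inv_mem ha)) (inv_mem har)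
    have e1 : a⁻¹ * e * a⁻¹⁻¹ * e⁻¹ = a⁻¹ * (a * e * a⁻¹ * e⁻¹)⁻¹ * a⁻¹⁻¹ := by group
    rw [e1]
    exact h1

theorem mem_stabMod {A R : Subgroup G} {e : G} {hAR : A ≤ normalizer (R : Set G)} {a : G} :
    a ∈ stabMod A R e hAR ↔ a ∈ A ∧ a * e * a⁻¹ * e⁻¹ ∈ R := Iff.rfl

theorem stabMod_le {A R : Subgroup G} {e : G} {hAR : A ≤ normalizer (R : Set G)} :
    stabMod A R e hAR ≤ A := fun _ h => h.1

theorem two_pow_even_of_mod_three {n : ℕ} (h : 2 ^ n % 3 = 1) : Even n := by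
  rcases Nat.even_or_odd n with he | ho
  · exact he
  · exfalso
    obtain ⟨k, rfl⟩ := ho
    have h4 : (4 : ℕ) ^ k % 3 = 1 := by
      rw [Nat.pow_mod]; norm_num
    rw [pow_succ, pow_mul] at h
    have h5 : (2 ^ 2) ^ k * 2 % 3 = 2 := by
      have e4 : (2 : ℕ) ^ 2 = 4 := by norm_num
      rw [e4]
      omega
    omega

variable [Finite G]

/-- an element of prime order `p` acting fixed-point-freely on a subgroup `N`: `|N| ≡ 1 mod p` -/
theorem card_modEq_one_of_fpf {e : G} {p : ℕ} [Fact p.Prime] (hep : e ^ p = 1) {N : Subgroup G}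
    (hN : e ∈ normalizer (N : Set G)) (hfix : ∀ w ∈ N, e * w = w * e → w = 1) :
    Nat.card N ≡ 1 [MOD p] := by
  classical
  haveI : Fintype ↥N := Fintype.ofFinite _
  let f : Function.End ↥N := fun w => ⟨e * w * e⁻¹, conj_mem_of_mem_normalizer hN w.2⟩
  have hpow : ∀ n : ℕ, ∀ w : ↥N, (((f ^ n) w : ↥N) : G) = e ^ n * w * (e ^ n)⁻¹ := by
    intro n
    induction n with
    | zero =>
      intro w
      rw [pow_zero, pow_zero]
      show (w : G) = 1 * w * 1⁻¹
      group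
    | succ n ih =>
      intro w
      have hstep : (f ^ (n + 1)) w = f ((f ^ n) w) := by rw [pow_succ']; rfl
      rw [hstep]
      show e * ((f ^ n) w : G) * e⁻¹ = _
      rw [ih, pow_succ']
      group
  have hf : f ^ p ^ 1 = 1 := by
    rw [pow_one]
    funext w
    apply Subtype.ext
    rw [hpow, hep]
    show 1 * (w : G) * 1⁻¹ = w
    group
  have h1 := Equiv.Perm.card_fixedPoints_modEq (p := p) (n := 1) hf
  have h2 : Fintype.card (Function.fixedPoints f) = 1 := by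
    rw [Fintype.card_eq_one_iff]
    refine ⟨⟨1, ?_⟩, ?_⟩
    · show f 1 = 1
      apply Subtype.ext
      show e * (1 : G) * e⁻¹ = 1
      group
    · rintro ⟨w, hw⟩
      apply Subtype.ext
      apply Subtype.ext
      have hw' : e * (w : G) * e⁻¹ = w := congrArg Subtype.val hw
      show (w : G) = 1
      apply hfix w w.2
      calc e * (w : G) = (e * w * e⁻¹) * e := by group
        _ = w * e := by rw [hw']
  rw [h2, ← Nat.card_eq_fintype_card] at h1
  exact h1

theorem mem_normalizer_of_conj_mem_of_pow_three {N : Subgroup G} {e : G} (he3 : e ^ 3 = 1)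
    (h : ∀ w ∈ N, e * w * e⁻¹ ∈ N) : e ∈ normalizer (N : Set G) := by
  rw [mem_normalizer_iff]
  intro w
  refine ⟨h w, fun hw => ?_⟩
  have h2 := h _ (h _ hw)
  have e3 : e * e * e = 1 := by rw [← he3, pow_succ, pow_two]
  have e1 : e * (e * (e * w * e⁻¹) * e⁻¹) * e⁻¹ = (e * e * e) * w * (e * e * e)⁻¹ := by group
  rw [e1, e3] at h2
  simpa using h2

/-- **the four-group lemma** -/
theorem card_le_four_of_offender {A R W : Subgroup G} {b e : G}
    (hA : A ∈ maxElementaryAbelianSubgroups 2 G)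
    (hWel : IsElementaryAbelian 2 W)
    (hAW : A ≤ normalizer (W : Set G))
    (hRW : R ≤ centralizer (W : Set G))
    (hAR : A ≤ normalizer (R : Set G))
    (heW : e ∈ normalizer (W : Set G))
    (heR : e ∈ normalizer (R : Set G))
    (he3 : e ^ 3 = 1)
    (hfix : ∀ w ∈ W, e * w = w * e → w = 1)
    (hb : b ∈ A) (hbe : b * e * b⁻¹ = e⁻¹)
    (hA2 : ∀ a ∈ A, a * e * a⁻¹ * e⁻¹ ∈ R ∨ a * e * a⁻¹ * e ∈ R) :
    Nat.card W ≤ 4 := by
  haveI : Fact (Nat.Prime 2) := ⟨Nat.prime_two⟩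
  haveI : Fact (Nat.Prime 3) := ⟨Nat.prime_three⟩
  by_cases hW1 : W = ⊥
  · rw [hW1, Subgroup.card_bot]; norm_num
  have hAcomm : ∀ x ∈ A, ∀ y ∈ A, x * y = y * x := fun x hx y hy =>
    Cfsg.Agent.Helper26.isElementaryAbelian_commute hA.1 hx hy
  have hWcomm : ∀ x ∈ W, ∀ y ∈ W, x * y = y * x := fun x hx y hy =>
    Cfsg.Agent.Helper26.isElementaryAbelian_commute hWel hx hy
  have hAsq : ∀ x ∈ A, x ^ 2 = 1 := hA.1.2
  have hA2g : IsPGroup 2 A := Cfsg.Agent.Helper26.isPGroup_of_isElementaryAbelian hA.1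
  have hW2g : IsPGroup 2 W := Cfsg.Agent.Helper26.isPGroup_of_isElementaryAbelian hWel
  have hbo := (Cfsg.Agent.Helper26.isBestOffenderOn_of_mem_maxElementaryAbelianSubgroups hWel hA).1
  have hee : e * e = e⁻¹ := by
    have e3 : e * e * e = 1 := by rw [← he3, pow_succ, pow_two]
    calc e * e = (e * e * e) * e⁻¹ := by group
      _ = e⁻¹ := by rw [e3, one_mul]
  have hcard2 : ∀ x ∈ A, Nat.card (zpowers x) ≤ 2 := by
    intro x hx
    rw [Nat.card_zpowers]
    exact Nat.le_of_dvd (by norm_num) (orderOf_dvd_of_pow_eq_one (hAsq x hx))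
  have hsupcard : ∀ (D : Subgroup G) (x : G), D ≤ A → x ∈ A →
      Nat.card (D ⊔ zpowers x : Subgroup G) ≤ 2 * Nat.card D := by
    intro D x hD hx
    have hxN : zpowers x ≤ normalizer (D : Set G) := by
      rw [zpowers_le]
      apply centralizer_le_normalizer
      rw [mem_centralizer_iff]
      intro d hd
      exact hAcomm d (hD hd) x hx
    have h1 := Cfsg.Agent.Helper17.card_sup_mul_card_inf D (zpowers x) hxN
    have h3 : Nat.card (D ⊔ zpowers x : Subgroup G) ≤ Nat.card D * Nat.card (zpowers x) := by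
      rw [← h1]; exact Nat.le_mul_of_pos_right _ Nat.card_pos
    calc Nat.card (D ⊔ zpowers x : Subgroup G) ≤ Nat.card D * Nat.card (zpowers x) := h3
      _ ≤ Nat.card D * 2 := Nat.mul_le_mul_left _ (hcard2 x hx)
      _ = 2 * Nat.card D := mul_comm _ _
  -- `A₂`
  obtain ⟨A₂, hA₂def⟩ : ∃ A₂ : Subgroup G, A₂ = stabMod A R e hAR := ⟨_, rfl⟩
  have hA₂A : A₂ ≤ A := hA₂def ▸ stabMod_le
  have hmemA₂ : ∀ a, a ∈ A₂ ↔ a ∈ A ∧ a * e * a⁻¹ * e⁻¹ ∈ R := by
    intro a; rw [hA₂def]; exact mem_stabMod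
  have hAle : A ≤ A₂ ⊔ zpowers b := by
    intro a ha
    rcases hA2 a ha with h | h
    · exact mem_sup_left ((hmemA₂ a).mpr ⟨ha, h⟩)
    · have hab : a * b ∈ A₂ := by
        refine (hmemA₂ _).mpr ⟨mul_mem ha hb, ?_⟩
        have h1 : e * (a * e * a⁻¹ * e) * e⁻¹ ∈ R := conj_mem_of_mem_normalizer heR h
        have e1 : a * b * e * (a * b)⁻¹ * e⁻¹ = (e * (a * e * a⁻¹ * e) * e⁻¹)⁻¹ := by
          have : a * b * e * (a * b)⁻¹ * e⁻¹ = a * (b * e * b⁻¹) * a⁻¹ * e⁻¹ := by group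
          rw [this, hbe]; group
        rw [e1]; exact inv_mem h1
      have : a = (a * b) * b⁻¹ := by group
      rw [this]
      exact mul_mem (mem_sup_left hab) (mem_sup_right (inv_mem (mem_zpowers b)))
  have hcardA : Nat.card A ≤ 2 * Nat.card A₂ :=
    (card_le_of_le hAle).trans (hsupcard A₂ b hA₂A hb)
  -- `W' = C_W(A₂)` and `F₁ = C_W(A)`
  obtain ⟨W', hW'def⟩ : ∃ W' : Subgroup G, W' = W ⊓ centralizer (A₂ : Set G) := ⟨_, rfl⟩
  obtain ⟨F₁, hF₁def⟩ : ∃ F₁ : Subgroup G, F₁ = W ⊓ centralizer (A : Set G) := ⟨_, rfl⟩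
  have hW'W : W' ≤ W := hW'def ▸ inf_le_left
  have hF₁W' : F₁ ≤ W' := by
    rw [hF₁def, hW'def]; exact inf_le_inf_left W (centralizer_le hA₂A)
  have hW'card : Nat.card W' ≤ 2 * Nat.card F₁ := by
    have h1 := hbo A₂ hA₂A
    rw [← hW'def, ← hF₁def] at h1
    have h2 : Nat.card A₂ * Nat.card W' ≤ Nat.card A₂ * (2 * Nat.card F₁) := by
      calc Nat.card A₂ * Nat.card W' ≤ Nat.card A * Nat.card F₁ := h1
        _ ≤ (2 * Nat.card A₂) * Nat.card F₁ := Nat.mul_le_mul_right _ hcardA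
        _ = Nat.card A₂ * (2 * Nat.card F₁) := by ring
    exact Nat.le_of_mul_le_mul_left h2 Nat.card_pos
  -- invariance under `e`
  have hinv : ∀ B' : Subgroup G, B' ≤ A₂ → ∀ w ∈ W ⊓ centralizer (B' : Set G),
      e * w * e⁻¹ ∈ W ⊓ centralizer (B' : Set G) := by
    intro B' hB' w hw
    obtain ⟨hwW, hwc⟩ := mem_inf.mp hw
    have hewW : e * w * e⁻¹ ∈ W := conj_mem_of_mem_normalizer heW hwW
    refine mem_inf.mpr ⟨hewW, ?_⟩
    rw [mem_centralizer_iff]
    intro a ha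
    obtain ⟨-, har⟩ := (hmemA₂ a).mp (hB' ha)
    have haw : a * w = w * a := mem_centralizer_iff.mp hwc a ha
    have h1 : a * w * a⁻¹ = w := by rw [haw]; group
    have hrc : (a * e * a⁻¹ * e⁻¹) * (e * w * e⁻¹) = (e * w * e⁻¹) * (a * e * a⁻¹ * e⁻¹) :=
      mem_centralizer_iff.mp (hRW har) _ hewW |>.symm
    have h2 : a * (e * w * e⁻¹) * a⁻¹ =
        (a * e * a⁻¹ * e⁻¹) * (e * (a * w * a⁻¹) * e⁻¹) * (a * e * a⁻¹ * e⁻¹)⁻¹ := by group
    rw [h1, hrc] at h2
    have h3 : a * (e * w * e⁻¹) * a⁻¹ = e * w * e⁻¹ := by rw [h2]; group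
    calc a * (e * w * e⁻¹) = (a * (e * w * e⁻¹) * a⁻¹) * a := by group
      _ = (e * w * e⁻¹) * a := by rw [h3]
  -- `F₁ ∩ F₁^e = 1`
  obtain ⟨F₂, hF₂def⟩ : ∃ F₂ : Subgroup G, F₂ = F₁.map (MulAut.conj e).toMonoidHom := ⟨_, rfl⟩
  have hF₂W' : F₂ ≤ W' := by
    rw [hF₂def]
    rintro _ ⟨x, hx, rfl⟩
    have := hinv A₂ le_rfl x (hW'def ▸ hF₁W' hx)
    rw [← hW'def] at this
    exact this
  have hF12 : F₁ ⊓ F₂ = ⊥ := by
    rw [eq_bot_iff]
    intro x hx
    obtain ⟨hx1, hx2⟩ := mem_inf.mp hx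
    rw [hF₂def] at hx2
    obtain ⟨y, hy, hyx⟩ := hx2
    have hyx' : e * y * e⁻¹ = x := hyx
    rw [hF₁def] at hx1 hy
    have hxb : b * x = x * b := mem_centralizer_iff.mp hx1.2 b hb
    have hyb : b * y = y * b := mem_centralizer_iff.mp hy.2 b hb
    have h1 : b * y * b⁻¹ = y := by rw [hyb]; group
    have h2 : b * x * b⁻¹ = x := by rw [hxb]; group
    have h3 : b * (e * y * e⁻¹) * b⁻¹ = (b * e * b⁻¹) * (b * y * b⁻¹) * (b * e * b⁻¹)⁻¹ := by group
    rw [hbe, h1, hyx', h2, ← hyx', inv_inv] at h3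
    -- h3 : e * y * e⁻¹ = e⁻¹ * y * e
    have h4 : e * y * e⁻¹ = y := by
      calc e * y * e⁻¹ = e⁻¹ * y * e := h3
        _ = (e * e) * y * (e * e)⁻¹ := by rw [hee, inv_inv]
        _ = e * (e * y * e⁻¹) * e⁻¹ := by group
        _ = e * (e⁻¹ * y * e) * e⁻¹ := by rw [h3]
        _ = y := by group
    have hy1 : y = 1 := by
      apply hfix y hy.1
      calc e * y = (e * y * e⁻¹) * e := by group
        _ = y * e := by rw [h4]
    rw [mem_bot, ← hyx', hy1]
    group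
  have hF₁sq : Nat.card F₁ * Nat.card F₁ ≤ Nat.card W' := by
    have hN : F₂ ≤ normalizer (F₁ : Set G) := by
      refine le_trans ?_ (centralizer_le_normalizer _)
      intro x hx
      rw [mem_centralizer_iff]
      intro y hy
      exact hWcomm y (hW'W (hF₁W' hy)) x (hW'W (hF₂W' hx))
    have h1 := Cfsg.Agent.Helper17.card_sup_mul_card_inf F₁ F₂ hN
    rw [hF12, Subgroup.card_bot, mul_one] at h1
    have h2 : Nat.card F₂ = Nat.card F₁ := by
      rw [hF₂def]; exact Subgroup.card_map_of_injective (MulAut.conj e).injective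
    rw [h2] at h1
    rw [← h1]
    exact card_le_of_le (sup_le hF₁W' hF₂W')
  have hF₁2 : Nat.card F₁ ≤ 2 := by
    have hpos : 0 < Nat.card F₁ := Nat.card_pos
    have : Nat.card F₁ * Nat.card F₁ ≤ 2 * Nat.card F₁ := hF₁sq.trans hW'card
    nlinarith
  have hW'4 : Nat.card W' ≤ 4 := by omega
  by_cases hWW' : W ≤ W'
  · exact (card_le_of_le hWW').trans hW'4
  exfalso
  -- `F₁ ≠ 1`
  have hAW'N : A ≤ normalizer (W' : Set G) := by
    rw [hW'def]
    refine (le_inf hAW ?_).trans le_normalizer_inf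
    refine le_trans ?_ (normalizer_le_normalizer_centralizer A₂)
    refine le_trans ?_ (centralizer_le_normalizer _)
    intro a ha
    rw [mem_centralizer_iff]
    intro x hx
    exact hAcomm x (hA₂A hx) a ha
  have hF₁ne : F₁ ≠ ⊥ := by
    obtain ⟨u', hu'W, hu'1, hu'⟩ := Cfsg.Agent.Helper14.exists_fixed_mod (p := 2)
      (A := ⊥) (B := W) (T := A) bot_le (fun h => hW1 (le_bot_iff.mp h)) hW2g hA2g
      (by intro a _; rw [mem_normalizer_iff]; intro x; simp [mem_bot]) hAW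
      (by intro a _; rw [mem_normalizer_iff]; intro x; simp [mem_bot])
    intro hbot
    apply hu'1
    have : u' ∈ F₁ := by
      rw [hF₁def]
      refine mem_inf.mpr ⟨hu'W, ?_⟩
      rw [mem_centralizer_iff]
      intro t ht
      have h1 := hu' t ht
      rw [mem_bot] at h1
      calc t * u' = u' * (u'⁻¹ * (t * u' * t⁻¹)) * t := by group
        _ = u' * t := by rw [h1, mul_one]
    rw [hbot] at this
    exact this
  -- an element `u ∈ W ∖ W'` fixed by `A` modulo `W'`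
  have hWW'N : W ≤ normalizer (W' : Set G) := by
    refine le_trans ?_ (centralizer_le_normalizer _)
    intro x hx
    rw [mem_centralizer_iff]
    intro y hy
    exact hWcomm y (hW'W hy) x hx
  obtain ⟨u, huW, huW', hu⟩ := Cfsg.Agent.Helper14.exists_fixed_mod (p := 2)
    (A := W') (B := W) (T := A) hW'W hWW' hW2g hA2g hAW'N hAW hWW'N
  -- the commutators `[u, a]`, `a ∈ A₂`, lie in `F₁`
  have hf : ∀ a ∈ A₂, u⁻¹ * (a * u * a⁻¹) ∈ F₁ := by
    intro a ha
    have haA : a ∈ A := hA₂A ha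
    have hfW' : u⁻¹ * (a * u * a⁻¹) ∈ W' := hu a haA
    have hw' : u⁻¹ * (b * u * b⁻¹) ∈ W' := hu b hb
    obtain ⟨w', hw'def⟩ : ∃ w', w' = u⁻¹ * (b * u * b⁻¹) := ⟨_, rfl⟩
    rw [← hw'def] at hw'
    have hbu : b * u * b⁻¹ = u * w' := by rw [hw'def]; group
    have hab : b * a * b⁻¹ = a := by
      rw [hAcomm b hb a haA]; group
    have haw' : a * w' * a⁻¹ = w' := by
      rw [hW'def] at hw'
      have := mem_centralizer_iff.mp hw'.2 a ha
      rw [this]; group
    have hfb : b * (u⁻¹ * (a * u * a⁻¹)) * b⁻¹ = u⁻¹ * (a * u * a⁻¹) := by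
      have e1 : b * (u⁻¹ * (a * u * a⁻¹)) * b⁻¹ =
          (b * u * b⁻¹)⁻¹ * ((b * a * b⁻¹) * (b * u * b⁻¹) * (b * a * b⁻¹)⁻¹) := by group
      rw [e1, hbu, hab]
      have e2 : (u * w')⁻¹ * (a * (u * w') * a⁻¹) =
          w'⁻¹ * (u⁻¹ * (a * u * a⁻¹)) * (a * w' * a⁻¹) := by group
      rw [e2, haw']
      have hc := hWcomm _ (hW'W (inv_mem hw')) _ (hW'W hfW')
      rw [hc]; group
    rw [hF₁def]
    refine mem_inf.mpr ⟨hW'W hfW', ?_⟩
    apply centralizer_le hAle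
    rw [Cfsg.Agent.Helper7.centralizer_sup_eq]
    refine mem_inf.mpr ⟨(hW'def ▸ hfW' : _ ∈ W ⊓ centralizer (A₂ : Set G)).2, ?_⟩
    rw [mem_centralizer_iff]
    rintro _ ⟨n, rfl⟩
    have hcb : Commute b (u⁻¹ * (a * u * a⁻¹)) := by
      show b * _ = _ * b
      calc b * (u⁻¹ * (a * u * a⁻¹)) = (b * (u⁻¹ * (a * u * a⁻¹)) * b⁻¹) * b := by group
        _ = (u⁻¹ * (a * u * a⁻¹)) * b := by rw [hfb]
    exact (hcb.zpow_left n).eq
  -- `B = C_{A₂}(u)` has index at most `2` in `A₂`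
  obtain ⟨B, hBdef⟩ : ∃ B : Subgroup G, B = A₂ ⊓ centralizer ({u} : Set G) := ⟨_, rfl⟩
  have hBA₂ : B ≤ A₂ := hBdef ▸ inf_le_left
  have hmemB : ∀ a ∈ A₂, a * u * a⁻¹ = u → a ∈ B := by
    intro a ha h
    rw [hBdef]
    refine mem_inf.mpr ⟨ha, ?_⟩
    rw [mem_centralizer_iff]
    intro y hy
    have hy' : y = u := hy
    rw [hy']
    calc u * a = (a * u * a⁻¹) * a := by rw [h]
      _ = a * u := by group
  have hcardA₂ : Nat.card A₂ ≤ 2 * Nat.card B := by
    by_cases hAB : A₂ ≤ B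
    · exact (card_le_of_le hAB).trans (Nat.le_mul_of_pos_left _ (by norm_num))
    · obtain ⟨a₀, ha₀, ha₀B⟩ : ∃ a₀ ∈ A₂, a₀ ∉ B := by
        by_contra hcon
        push Not at hcon
        exact hAB hcon
      have hf₀ := hf a₀ ha₀
      have hf₀1 : u⁻¹ * (a₀ * u * a₀⁻¹) ≠ 1 := by
        intro h
        apply ha₀B
        apply hmemB a₀ ha₀
        calc a₀ * u * a₀⁻¹ = u * (u⁻¹ * (a₀ * u * a₀⁻¹)) := by group
          _ = u := by rw [h, mul_one]
      have hF₁card : Nat.card F₁ = 2 := by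
        have h1 : Nat.card F₁ ≠ 1 := fun h => hF₁ne (Subgroup.card_eq_one.mp h)
        have h0 : 0 < Nat.card F₁ := Nat.card_pos
        omega
      obtain ⟨y, -, hy⟩ := (Nat.card_eq_two_iff' (1 : F₁)).mp hF₁card
      have hle : A₂ ≤ B ⊔ zpowers a₀ := by
        intro a ha
        by_cases haB : a ∈ B
        · exact mem_sup_left haB
        · have hfa := hf a ha
          have hfa1 : u⁻¹ * (a * u * a⁻¹) ≠ 1 := by
            intro h
            apply haB
            apply hmemB a ha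
            calc a * u * a⁻¹ = u * (u⁻¹ * (a * u * a⁻¹)) := by group
              _ = u := by rw [h, mul_one]
          have h1 := hy ⟨_, hfa⟩ (fun h => hfa1 (congrArg Subtype.val h))
          have h2 := hy ⟨_, hf₀⟩ (fun h => hf₀1 (congrArg Subtype.val h))
          have h3 : u⁻¹ * (a * u * a⁻¹) = u⁻¹ * (a₀ * u * a₀⁻¹) :=
            congrArg Subtype.val (h1.trans h2.symm)
          have h4 : a * u * a⁻¹ = a₀ * u * a₀⁻¹ := mul_left_cancel h3
          have h5 : a₀⁻¹ * a ∈ B := by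
            apply hmemB _ (mul_mem (inv_mem ha₀) ha)
            calc a₀⁻¹ * a * u * (a₀⁻¹ * a)⁻¹ = a₀⁻¹ * (a * u * a⁻¹) * a₀ := by group
              _ = a₀⁻¹ * (a₀ * u * a₀⁻¹) * a₀ := by rw [h4]
              _ = u := by group
          have : a = a₀ * (a₀⁻¹ * a) := by group
          rw [this]
          exact mul_mem (mem_sup_right (mem_zpowers a₀)) (mem_sup_left h5)
      exact (card_le_of_le hle).trans (hsupcard B a₀ (hBA₂.trans hA₂A) (hA₂A ha₀))
  -- `N' = C_W(B)`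
  obtain ⟨N', hN'def⟩ : ∃ N' : Subgroup G, N' = W ⊓ centralizer (B : Set G) := ⟨_, rfl⟩
  have hW'N' : W' ≤ N' := by
    rw [hW'def, hN'def]; exact inf_le_inf_left W (centralizer_le hBA₂)
  have huN' : u ∈ N' := by
    rw [hN'def]
    refine mem_inf.mpr ⟨huW, ?_⟩
    rw [mem_centralizer_iff]
    intro a ha
    rw [hBdef] at ha
    exact (mem_centralizer_iff.mp ha.2 u rfl).symm
  have hne : W' ≠ N' := fun h => huW' (h ▸ huN')
  have heN' : e ∈ normalizer (N' : Set G) := by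
    apply mem_normalizer_of_conj_mem_of_pow_three he3
    rw [hN'def]
    exact hinv B hBA₂
  have heW' : e ∈ normalizer (W' : Set G) := by
    apply mem_normalizer_of_conj_mem_of_pow_three he3
    rw [hW'def]
    exact hinv A₂ le_rfl
  have hN'W : N' ≤ W := hN'def ▸ inf_le_left
  have hmodN := card_modEq_one_of_fpf (p := 3) he3 heN' (fun w hw => hfix w (hN'W hw))
  have hmodW := card_modEq_one_of_fpf (p := 3) he3 heW' (fun w hw => hfix w (hW'W hw))
  obtain ⟨n, hn⟩ := (hW2g.to_le hN'W).exists_card_eq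
  obtain ⟨n', hn'⟩ := (hW2g.to_le hW'W).exists_card_eq
  have hevn : Even n := by
    apply two_pow_even_of_mod_three
    rw [← hn]; exact hmodN
  have hevn' : Even n' := by
    apply two_pow_even_of_mod_three
    rw [← hn']; exact hmodW
  have hlt : Nat.card W' < Nat.card N' := by
    rcases (card_le_of_le hW'N').lt_or_eq with h | h
    · exact h
    · exact absurd (eq_of_le_of_card_ge hW'N' (le_of_eq h.symm)) hne
  rw [hn, hn'] at hlt
  have hnn : n' < n := (Nat.pow_lt_pow_iff_right (by norm_num)).mp hlt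
  have hnn2 : n' + 2 ≤ n := by
    obtain ⟨k, hk⟩ := hevn
    obtain ⟨k', hk'⟩ := hevn'
    omega
  have hN'card : 4 * Nat.card W' ≤ Nat.card N' := by
    rw [hn, hn']
    calc 4 * 2 ^ n' = 2 ^ (n' + 2) := by ring
      _ ≤ 2 ^ n := Nat.pow_le_pow_right (by norm_num) hnn2
  -- the final count
  have h1 := hbo B (hBA₂.trans hA₂A)
  rw [← hN'def, ← hF₁def] at h1
  have hF₁pos : 0 < Nat.card F₁ := Nat.card_pos
  have hBpos : 0 < Nat.card B := Nat.card_pos
  have h2 : Nat.card B * (4 * (Nat.card F₁ * Nat.card F₁)) ≤ Nat.card B * (4 * Nat.card F₁) := by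
    calc Nat.card B * (4 * (Nat.card F₁ * Nat.card F₁))
        ≤ Nat.card B * (4 * Nat.card W') :=
          Nat.mul_le_mul_left _ (Nat.mul_le_mul_left _ hF₁sq)
      _ ≤ Nat.card B * Nat.card N' := Nat.mul_le_mul_left _ hN'card
      _ ≤ Nat.card A * Nat.card F₁ := h1
      _ ≤ (2 * Nat.card A₂) * Nat.card F₁ := Nat.mul_le_mul_right _ hcardA
      _ ≤ (2 * (2 * Nat.card B)) * Nat.card F₁ :=
          Nat.mul_le_mul_right _ (Nat.mul_le_mul_left _ hcardA₂)
      _ = Nat.card B * (4 * Nat.card F₁) := by ring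
  have h3 : 4 * (Nat.card F₁ * Nat.card F₁) ≤ 4 * Nat.card F₁ := Nat.le_of_mul_le_mul_left h2 hBpos
  have h4 : Nat.card F₁ * Nat.card F₁ ≤ Nat.card F₁ := Nat.le_of_mul_le_mul_left h3 (by norm_num)
  have h5 : Nat.card F₁ ≤ 1 := by nlinarith
  have h6 : Nat.card F₁ = 1 := by omega
  exact hF₁ne (Subgroup.card_eq_one.mp h6)

end FG

end Cfsg.Agent.Helper15.JComp
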