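import Cfsg.Agent.Helper15.JComp13

/-!
# J-components, part 14: existence of `J(T)`-components

The abstract construction: `P` a normal `2`-subgroup, `e` of order `3` outside `P`, `J` a subgroup
containing an element inverting `e` and all of whose elements centralize or invert `e` modulo `P`.
Then `K = O^{2}(P ⟨e⟩)` is component-like.
-/

set_option autoImplicit false
set_option linter.unusedSectionVars false
set_option linter.style.haveILetI false

namespace Cfsg.Agent.Helper15.JComp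

open Cfsg Subgroup Cfsg.Agent.Helper7
open scoped commutatorElement

section Generic14

variable {G : Type*} [Group G]

theorem mem_zpowers_of_pow_three {e x : G} (he3 : e ^ 3 = 1) (hx : x ∈ zpowers e) :
    x = 1 ∨ x = e ∨ x = e⁻¹ := by
  obtain ⟨k, rfl⟩ := mem_zpowers_iff.mp hx
  have he3' : e ^ (3 : ℤ) = 1 := by
    have : e ^ ((3 : ℕ) : ℤ) = 1 := by rw [zpow_natCast]; exact he3
    exact_mod_cast this
  rw [zpow_eq_zpow_emod k he3']
  have h0 : 0 ≤ k % 3 := Int.emod_nonneg k (by norm_num)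
  have h3 : k % 3 < 3 := Int.emod_lt_of_pos k (by norm_num)
  have hcases : k % 3 = 0 ∨ k % 3 = 1 ∨ k % 3 = 2 := by omega
  rcases hcases with h | h | h
  · left; rw [h, zpow_zero]
  · right; left; rw [h, zpow_one]
  · right; right
    rw [h]
    have : e ^ (2 : ℤ) * e = 1 := by
      have e1 : e ^ (2 : ℤ) * e = e ^ (3 : ℤ) := by
        rw [show (3 : ℤ) = 2 + 1 by norm_num, zpow_add, zpow_one]
      rw [e1, he3']
    exact eq_inv_of_mul_eq_one_left this

theorem normalizer_le_normalizer_closure_odd (H : Subgroup G) :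
    normalizer (H : Set G) ≤
      normalizer ((closure {g : G | g ∈ H ∧ Odd (orderOf g)} : Subgroup G) : Set G) := by
  apply Cfsg.Agent.S2941.le_normalizer_of_conj_mem
  intro q hq x hx
  refine Cfsg.Agent.S2941.conj_closure_mem _ _ q ?_ x hx
  rintro g ⟨hg, hgo⟩
  apply Subgroup.subset_closure
  refine ⟨conj_mem_of_mem_normalizer hq hg, ?_⟩
  have : orderOf (q * g * q⁻¹) = orderOf g :=
    orderOf_injective (MulAut.conj q).toMonoidHom (MulAut.conj q).injective g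
  rw [this]; exact hgo

theorem closure_odd_closure_odd (H : Subgroup G) :
    closure {g : G | g ∈ closure {g : G | g ∈ H ∧ Odd (orderOf g)} ∧ Odd (orderOf g)} =
      closure {g : G | g ∈ H ∧ Odd (orderOf g)} := by
  apply le_antisymm
  · rw [closure_le]
    rintro g ⟨hg, -⟩
    exact hg
  · apply Subgroup.closure_mono
    rintro g ⟨hg, hgo⟩
    exact ⟨Subgroup.subset_closure ⟨hg, hgo⟩, hgo⟩

/-- a `2`-subgroup lies in a conjugate of a `2`-subgroup of odd index -/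
theorem exists_le_map_conj_of_isPGroup [Finite G] {T S : Subgroup G} (hT2 : IsPGroup 2 T)
    (hTodd : Odd T.index) (hS : IsPGroup 2 S) :
    ∃ n : G, S ≤ T.map (MulAut.conj n).toMonoidHom := by
  haveI : Fact (Nat.Prime 2) := ⟨Nat.prime_two⟩
  have h2 : ¬ 2 ∣ T.index := fun hd => (Nat.not_even_iff_odd.mpr hTodd) (even_iff_two_dvd.mpr hd)
  obtain ⟨Q, hQ⟩ := hS.exists_le_sylow
  obtain ⟨n, hn⟩ := MulAction.exists_smul_eq G (hT2.toSylow h2) Q
  refine ⟨n, ?_⟩
  have h3 := congrArg (fun P : Sylow 2 G => (P : Subgroup G)) hn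
  simp only [Sylow.coe_subgroup_smul, IsPGroup.toSylow_coe] at h3
  intro x hx
  have hxQ : x ∈ (Q : Subgroup G) := hQ hx
  rw [← h3, Subgroup.mem_pointwise_smul_iff_inv_smul_mem] at hxQ
  refine ⟨(MulAut.conj n)⁻¹ • x, hxQ, ?_⟩
  simp only [MulAut.smul_def, MulAut.conj_apply, MulAut.inv_apply,
    MulAut.conj_symm_apply, MulEquiv.coe_toMonoidHom]
  group

end Generic14

section Core

variable {G : Type*} [Group G] [Finite G]

/-- **the abstract construction** -/
theorem comp_core {P J : Subgroup G} {b e : G}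
    (hPn : P.Normal) (hP2 : IsPGroup 2 P)
    (he3 : e ^ 3 = 1) (heP : e ∉ P)
    (hbJ : b ∈ J) (hbe : b * e * b⁻¹ = e⁻¹)
    (hJe : ∀ t ∈ J, t * e * t⁻¹ * e⁻¹ ∈ P ∨ t * e * t⁻¹ * e ∈ P) :
    ∃ K : Subgroup G, e ∈ K ∧ K ≤ P ⊔ zpowers e ∧
      closure {g : G | g ∈ K ∧ Odd (orderOf g)} = K ∧
      ⁅K, J⁆ = K ∧ pCoreOf 2 K = K ⊓ P ∧ (pCoreOf 2 K).relIndex K = 3 ∧
      P ≤ normalizer (K : Set G) ∧ J ≤ normalizer (K : Set G) := by
  haveI : Fact (Nat.Prime 2) := ⟨Nat.prime_two⟩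
  haveI : Fact (Nat.Prime 3) := ⟨Nat.prime_three⟩
  haveI := hPn
  obtain ⟨K₂, hK₂⟩ : ∃ K₂ : Subgroup G, K₂ = P ⊔ zpowers e := ⟨_, rfl⟩
  obtain ⟨K, hK⟩ : ∃ K : Subgroup G, K = closure {g : G | g ∈ K₂ ∧ Odd (orderOf g)} := ⟨_, rfl⟩
  have he1 : e ≠ 1 := fun h => heP (h ▸ one_mem P)
  have hord : orderOf e = 3 := orderOf_eq_prime he3 he1
  have heK₂ : e ∈ K₂ := hK₂ ▸ mem_sup_right (mem_zpowers e)
  have hPK₂ : P ≤ K₂ := hK₂ ▸ le_sup_left
  have heK : e ∈ K := by
    rw [hK]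
    exact Subgroup.subset_closure ⟨heK₂, by rw [hord]; exact ⟨1, by norm_num⟩⟩
  have hKK₂ : K ≤ K₂ := by
    rw [hK, closure_le]
    exact fun g hg => hg.1
  have hNK : normalizer (K₂ : Set G) ≤ normalizer (K : Set G) := by
    rw [hK]; exact normalizer_le_normalizer_closure_odd K₂
  have hPNK : P ≤ normalizer (K : Set G) := hPK₂.trans (le_normalizer.trans hNK)
  have heee : e * e * e = 1 := by rw [← he3, pow_succ, pow_two]
  -- conjugates of `e` under `J`
  have hJconj : ∀ t ∈ J, t * e * t⁻¹ ∈ K₂ := by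
    intro t ht
    rcases hJe t ht with h | h
    · have : t * e * t⁻¹ = (t * e * t⁻¹ * e⁻¹) * e := by group
      rw [this]
      exact mul_mem (hPK₂ h) heK₂
    · have : t * e * t⁻¹ = (t * e * t⁻¹ * e) * e⁻¹ := by group
      rw [this]
      exact mul_mem (hPK₂ h) (inv_mem heK₂)
  have hJK₂ : J ≤ normalizer (K₂ : Set G) := by
    apply Cfsg.Agent.Helper14.le_normalizer_of_map_cj_le
    intro t ht
    rw [hK₂, Subgroup.map_sup]
    apply sup_le
    · refine le_trans ?_ le_sup_left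
      rintro _ ⟨x, hx, rfl⟩
      exact hPn.conj_mem x hx t
    · rw [MonoidHom.map_zpowers, zpowers_le]
      have := hJconj t ht
      rw [hK₂] at this
      exact this
  have hJK : J ≤ normalizer (K : Set G) := hJK₂.trans hNK
  -- `2`-elements of `K₂` lie in `P`
  have h2el : ∀ g ∈ K₂, ∀ n : ℕ, g ^ (2 ^ n) = 1 → g ∈ P := by
    intro g hg n hgn
    rw [hK₂] at hg
    obtain ⟨p, hp, z, hz, rfl⟩ := mem_sup_of_normal_left.mp hg
    have h1 : (QuotientGroup.mk' P (p * z)) = QuotientGroup.mk' P z := by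
      rw [map_mul, QuotientGroup.mk'_apply, (QuotientGroup.eq_one_iff p).mpr hp, one_mul]
    have hz3 : z ^ 3 = 1 := by
      obtain ⟨k, rfl⟩ := mem_zpowers_iff.mp hz
      rw [← zpow_natCast, ← zpow_mul, mul_comm, zpow_mul, zpow_natCast, he3, one_zpow]
    have hq3 : (QuotientGroup.mk' P (p * z)) ^ 3 = 1 := by rw [h1, ← map_pow, hz3, map_one]
    have hq2 : (QuotientGroup.mk' P (p * z)) ^ (2 ^ n) = 1 := by rw [← map_pow, hgn, map_one]
    have h5 : QuotientGroup.mk' P (p * z) = 1 := by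
      have hd3 := orderOf_dvd_of_pow_eq_one hq3
      have hd2 := orderOf_dvd_of_pow_eq_one hq2
      have hcop : Nat.Coprime 3 (2 ^ n) := Nat.Coprime.pow_right _ (by decide)
      exact orderOf_eq_one_iff.mp (Nat.eq_one_of_dvd_coprimes hcop hd3 hd2)
    rw [QuotientGroup.mk'_apply] at h5
    exact (QuotientGroup.eq_one_iff _).mp h5
  have hR : pCoreOf 2 K = K ⊓ P := by
    apply le_antisymm
    · apply le_inf (Cfsg.Agent.Helper14.pCoreOf_le 2 K)
      intro g hg
      obtain ⟨n, hn⟩ := (Cfsg.Agent.Helper14.pCoreOf_isPGroup 2 K) ⟨g, hg⟩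
      have hn' : g ^ 2 ^ n = 1 := congrArg Subtype.val hn
      exact h2el g (hKK₂ (Cfsg.Agent.Helper14.pCoreOf_le 2 K hg)) n hn'
    · apply Cfsg.Agent.Helper14.le_pCoreOf 2 inf_le_left _ (hP2.to_le inf_le_right)
      refine (le_inf le_normalizer ?_).trans le_normalizer_inf
      rw [normalizer_eq_top_iff.mpr hPn]
      exact le_top
  have hPe : P ⊓ zpowers e = ⊥ := by
    rw [eq_bot_iff]
    intro x hx
    obtain ⟨hxP, hxe⟩ := mem_inf.mp hx
    rcases mem_zpowers_of_pow_three he3 hxe with h | h | h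
    · exact h
    · exact absurd (h ▸ hxP) heP
    · exfalso
      apply heP
      have := P.inv_mem hxP
      rw [h, inv_inv] at this
      exact this
  have hidx : (K ⊓ P).relIndex K = 3 := by
    rw [inf_comm, inf_relIndex_right]
    have h1 : K ⊔ P = K₂ := by
      apply le_antisymm (sup_le hKK₂ hPK₂)
      rw [hK₂]
      exact sup_le le_sup_right ((zpowers_le.mpr heK).trans le_sup_left)
    have h2 : P.relIndex (K ⊔ P) = P.relIndex K := relIndex_sup_right K P
    have h3 : P.relIndex (zpowers e ⊔ P) = P.relIndex (zpowers e) := relIndex_sup_right _ _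
    rw [← h2, h1, hK₂, sup_comm, h3, ← inf_relIndex_right, hPe, relIndex_bot_left,
      Nat.card_zpowers, hord]
  have hgen : closure {g : G | g ∈ K ∧ Odd (orderOf g)} = K := by
    rw [hK]; exact closure_odd_closure_odd K₂
  have hdecomp : ∀ g ∈ K, ∃ r ∈ K ⊓ P, ∃ z ∈ zpowers e, g = r * z := by
    intro g hg
    have h1 := hKK₂ hg
    rw [hK₂] at h1
    obtain ⟨p, hp, z, hz, rfl⟩ := mem_sup_of_normal_left.mp h1
    have hzK : z ∈ K := zpowers_le.mpr heK hz
    refine ⟨p, mem_inf.mpr ⟨?_, hp⟩, z, hz, rfl⟩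
    have : p = (p * z) * z⁻¹ := by group
    rw [this]
    exact K.mul_mem hg (K.inv_mem hzK)
  have hcomm : ⁅K, J⁆ = K := by
    apply le_antisymm
    · exact Cfsg.Agent.Lead.commutator_le_of_le_normalizer hJK
    · obtain ⟨N, hN⟩ : ∃ N : Subgroup G, N = ⁅K, J⁆ := ⟨_, rfl⟩
      rw [← hN]
      have heN : e ∈ N := by
        have h1 : ⁅e, b⁆ ∈ N := hN ▸ commutator_mem_commutator heK hbJ
        have h2 : ⁅e, b⁆ = e * e := by
          rw [commutatorElement_def]
          have : e * b * e⁻¹ * b⁻¹ = e * (b * e * b⁻¹)⁻¹ := by group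
          rw [this, hbe, inv_inv]
        rw [h2] at h1
        have h3 : e = (e * e) * (e * e) := by
          calc e = e * (e * e * e) := by rw [heee, mul_one]
            _ = _ := by group
        rw [h3]
        exact mul_mem h1 h1
      have hKN : K ≤ normalizer (N : Set G) :=
        hN ▸ Cfsg.Agent.Lead.le_normalizer_commutator_left K J
      conv_lhs => rw [← hgen]
      rw [closure_le]
      rintro g ⟨hg, hgo⟩
      apply Cfsg.Agent.S2941.odd_mem_of_mem_sup N (K ⊓ P) (hP2.to_le inf_le_right)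
        (inf_le_left.trans hKN) g _ hgo
      obtain ⟨r, hr, z, hz, rfl⟩ := hdecomp g hg
      exact mul_mem (mem_sup_right hr) (mem_sup_left (zpowers_le.mpr heN hz))
  exact ⟨K, heK, hK₂ ▸ hKK₂, hgen, hcomm, hR, hR ▸ hidx, hPNK, hJK⟩

end Core

section CoreW

variable {G : Type*} [Group G] [Finite G]

/-- `[V, K] ≤ W_K` -/
theorem commutator_le_wOf {K V : Subgroup G}
    (hgen : closure {g : G | g ∈ K ∧ Odd (orderOf g)} = K)
    (hidx : (pCoreOf 2 K).relIndex K = 3)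
    (hVel : IsElementaryAbelian 2 V)
    (hKV : K ≤ normalizer (V : Set G)) (hVK : V ≤ normalizer (K : Set G))
    (hRC : pCoreOf 2 K ≤ centralizer (V : Set G)) :
    ⁅V, K⁆ ≤ wOf K := by
  haveI : IsMulCommutative V := hVel.1
  set R := pCoreOf 2 K with hR
  have hRK : R ≤ K := Cfsg.Agent.Helper14.pCoreOf_le 2 K
  have hKR : K ≤ normalizer (R : Set G) := Cfsg.Agent.Helper14.le_normalizer_pCoreOf 2 K
  obtain ⟨k, hk, hko, hkR⟩ : ∃ k ∈ K, Odd (orderOf k) ∧ k ∉ pCoreOf 2 K := by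
    by_contra hcon
    push Not at hcon
    have hle : K ≤ pCoreOf 2 K := by
      conv_lhs => rw [← hgen]
      rw [closure_le]
      rintro g ⟨hg, hgo⟩
      exact hcon g hg hgo
    have h1 : (pCoreOf 2 K).relIndex K = 1 := relIndex_eq_one.mpr hle
    rw [hidx] at h1
    norm_num at h1
  set Q := zpowers k with hQ
  have hQK : Q ≤ K := by rw [hQ, zpowers_le]; exact hk
  have hKle : K ≤ R ⊔ Q := by
    intro x hx
    obtain ⟨n, r, hr, hxe⟩ := exists_zpow_mul hRK hKR hidx hk hkR hx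
    rw [hxe]
    exact mul_mem (mem_sup_right (zpow_mem (mem_zpowers k) n)) (mem_sup_left hr)
  have hVR : ⁅V, R⁆ = ⊥ := by
    rw [commutator_eq_bot_iff_le_centralizer]
    exact le_centralizer_iff.mp hRC
  have hVKQ : ⁅V, K⁆ = ⁅V, Q⁆ := by
    apply le_antisymm
    · refine (commutator_mono le_rfl hKle).trans ?_
      rw [commutator_sup_right_eq (hRK.trans hKV) (hQK.trans hKV), hVR, bot_sup_eq]
    · exact commutator_mono le_rfl hQK
  have hcop : (Nat.card Q).Coprime (Nat.card V) := by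
    obtain ⟨m, hm⟩ := (Cfsg.Agent.Helper26.isPGroup_of_isElementaryAbelian hVel).exists_card_eq
    rw [hm, hQ, Nat.card_zpowers]
    exact Nat.Coprime.pow_right _ (Nat.coprime_two_right.mpr hko)
  obtain ⟨-, hd2⟩ := Cfsg.Agent.Lead.coprime_abelian_decomp Q V (hQK.trans hKV) hcop
  set U := ⁅V, Q⁆ with hU
  have hUV : U ≤ V := Cfsg.Agent.Lead.commutator_le_of_le_normalizer (hQK.trans hKV)
  have hVab : ∀ v ∈ V, ∀ w ∈ V, v * w = w * v := fun v hv w hw =>
    Cfsg.Agent.Helper26.isElementaryAbelian_commute hVel hv hw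
  have hUU : U ≤ ⁅U, Q⁆ := by
    have h1 : ⁅(V ⊓ centralizer (Q : Set G)) ⊔ U, Q⁆ ≤ ⁅U, Q⁆ := by
      apply Cfsg.Agent.Helper10.commutator_sup_le_of_conj_mem
      · rw [hd2]
        intro g hg w hw
        have hwV : w ∈ V := hUV (commutator_mono hUV (le_refl Q) hw)
        rw [hVab g hg w hwV, mul_inv_cancel_right]
        exact hw
      · have : ⁅V ⊓ centralizer (Q : Set G), Q⁆ = ⊥ := by
          rw [commutator_eq_bot_iff_le_centralizer]
          exact inf_le_right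
        rw [this]; exact bot_le
      · exact le_rfl
    rw [hd2] at h1
    exact h1
  have hVKle : ⁅V, K⁆ ≤ V ⊓ K := by
    apply le_inf (Cfsg.Agent.Lead.commutator_le_of_le_normalizer hKV)
    rw [commutator_comm]
    exact Cfsg.Agent.Lead.commutator_le_of_le_normalizer hVK
  have hVKR : V ⊓ K ≤ R := by
    apply Cfsg.Agent.Helper14.le_pCoreOf 2 inf_le_right _
      ((Cfsg.Agent.Helper26.isPGroup_of_isElementaryAbelian hVel).to_le inf_le_left)
    exact (le_inf hKV le_normalizer).trans le_normalizer_inf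
  have hUR : U ≤ R := by
    rw [← hVKQ]; exact hVKle.trans hVKR
  have hUZ : U ≤ omegaCenterOf R := by
    intro u hu
    unfold omegaCenterOf omegaOne
    apply Subgroup.subset_closure
    refine ⟨mem_inf.mpr ⟨hUR hu, ?_⟩, hVel.2 u (hUV hu)⟩
    rw [mem_centralizer_iff]
    intro r hr
    exact (mem_centralizer_iff.mp (hRC hr) u (hUV hu)).symm
  rw [hVKQ]
  exact hUU.trans (commutator_mono hUZ hQK)

/-- **the four-group of the abstract construction** -/
theorem comp_core_wOf {P K V A : Subgroup G} {b e : G}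
    (hPn : P.Normal) (he3 : e ^ 3 = 1)
    (heK : e ∈ K) (hKle : K ≤ P ⊔ zpowers e)
    (hgen : closure {g : G | g ∈ K ∧ Odd (orderOf g)} = K)
    (hR : pCoreOf 2 K = K ⊓ P) (hidx : (pCoreOf 2 K).relIndex K = 3)
    (hPK : P ≤ normalizer (K : Set G))
    (hVn : V.Normal) (hVel : IsElementaryAbelian 2 V) (hVP : V ≤ P)
    (hPV : P ≤ centralizer (V : Set G)) (heV : e ∉ centralizer (V : Set G))
    (hA : A ∈ maxElementaryAbelianSubgroups 2 G) (hAK : A ≤ normalizer (K : Set G))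
    (hbA : b ∈ A) (hbe : b * e * b⁻¹ = e⁻¹)
    (hAe : ∀ a ∈ A, a * e * a⁻¹ * e⁻¹ ∈ P ∨ a * e * a⁻¹ * e ∈ P) :
    Nat.card (wOf K) = 4 ∧ ∀ w ∈ wOf K, w * w = 1 := by
  haveI : Fact (Nat.Prime 2) := ⟨Nat.prime_two⟩
  haveI : Fact (Nat.Prime 3) := ⟨Nat.prime_three⟩
  haveI := hPn
  obtain ⟨R, hRdef⟩ : ∃ R : Subgroup G, R = pCoreOf 2 K := ⟨_, rfl⟩
  obtain ⟨W, hWdef⟩ : ∃ W : Subgroup G, W = wOf K := ⟨_, rfl⟩
  obtain ⟨Z, hZdef⟩ : ∃ Z : Subgroup G, Z = omegaCenterOf R := ⟨_, rfl⟩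
  obtain ⟨Q, hQdef⟩ : ∃ Q : Subgroup G, Q = zpowers e := ⟨_, rfl⟩
  rw [← hWdef]
  rw [← hRdef] at hR hidx
  have hRK : R ≤ K := hRdef ▸ Cfsg.Agent.Helper14.pCoreOf_le 2 K
  have hWZ : W ≤ Z := by rw [hWdef, hZdef, hRdef]; exact wOf_le_omegaCenterOf K
  have hZel : IsElementaryAbelian 2 Z := by
    rw [hZdef]
    unfold omegaCenterOf
    apply omegaOne_isElementaryAbelian 2
    intro x hx
    rw [mem_centralizer_iff]
    intro y hy
    exact mem_centralizer_iff.mp (mem_inf.mp hx).2 y (mem_inf.mp hy).1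
  have hWel : IsElementaryAbelian 2 W := Cfsg.Agent.Helper26.isElementaryAbelian_of_le hZel hWZ
  have hKW : K ≤ normalizer (W : Set G) :=
    hWdef ▸ le_normalizer.trans (normalizer_le_normalizer_wOf K)
  have hRW : R ≤ centralizer (W : Set G) := by
    rw [hRdef, hWdef]; exact pCoreOf_le_centralizer_wOf K
  have hKZ : K ≤ normalizer (Z : Set G) := by
    rw [hZdef, hRdef]; exact le_normalizer.trans (le_normalizer_omegaCenterOf_pCoreOf K)
  have hRZ : R ≤ centralizer (Z : Set G) := by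
    rw [hZdef, hRdef]; exact pCoreOf_le_centralizer_omegaCenterOf K
  have hQK : Q ≤ K := by rw [hQdef, zpowers_le]; exact heK
  have hKle' : K ≤ R ⊔ Q := by
    intro g hg
    obtain ⟨p, hp, z, hz, rfl⟩ := mem_sup_of_normal_left.mp (hKle hg)
    have hzK : z ∈ K := zpowers_le.mpr heK hz
    have hpK : p ∈ K := by
      have : p = (p * z) * z⁻¹ := by group
      rw [this]
      exact K.mul_mem hg (K.inv_mem hzK)
    refine mul_mem (mem_sup_left ?_) (mem_sup_right (hQdef ▸ hz))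
    rw [hR]
    exact mem_inf.mpr ⟨hpK, hp⟩
  -- `W ≠ ⊥`
  have hKV : K ≤ normalizer (V : Set G) := by
    rw [normalizer_eq_top_iff.mpr hVn]; exact le_top
  have hW1 : W ≠ ⊥ := by
    intro hbot
    have h1 : ⁅V, K⁆ ≤ W := by
      rw [hWdef]
      apply commutator_le_wOf hgen (hRdef ▸ hidx) hVel hKV (hVP.trans hPK)
      rw [← hRdef, hR]
      exact inf_le_right.trans hPV
    rw [hbot, le_bot_iff, commutator_eq_bot_iff_le_centralizer] at h1
    exact heV (le_centralizer_iff.mp h1 heK)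
  -- `e` acts fixed-point-freely
  have hfix : ∀ w ∈ W, e * w = w * e → w = 1 := by
    intro w hw hcomm
    haveI : IsMulCommutative Z := hZel.1
    have hcop : (Nat.card Q).Coprime (Nat.card Z) := by
      obtain ⟨m, hm⟩ := (Cfsg.Agent.Helper26.isPGroup_of_isElementaryAbelian hZel).exists_card_eq
      rw [hm, hQdef, Nat.card_zpowers]
      apply Nat.Coprime.pow_right
      have : orderOf e ∣ 3 := orderOf_dvd_of_pow_eq_one he3
      exact Nat.Coprime.coprime_dvd_left this (by decide)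
    obtain ⟨hd1, -⟩ := Cfsg.Agent.Lead.coprime_abelian_decomp Q Z (hQK.trans hKZ) hcop
    have hZR : ⁅Z, R⁆ = ⊥ := by
      rw [commutator_eq_bot_iff_le_centralizer]
      exact le_centralizer_iff.mp hRZ
    have hWQ : W ≤ ⁅Z, Q⁆ := by
      have h1 : W = ⁅Z, K⁆ := by rw [hWdef, hZdef, hRdef]; rfl
      rw [h1]
      refine (commutator_mono le_rfl hKle').trans ?_
      rw [commutator_sup_right_eq (hRK.trans hKZ) (hQK.trans hKZ), hZR, bot_sup_eq]
    have hwC : w ∈ centralizer (Q : Set G) := by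
      rw [mem_centralizer_iff]
      intro q hq
      rw [hQdef] at hq
      obtain ⟨k, rfl⟩ := mem_zpowers_iff.mp hq
      exact ((Commute.zpow_left (show Commute e w from hcomm) k).eq)
    have : w ∈ (Z ⊓ centralizer (Q : Set G)) ⊓ ⁅Z, Q⁆ :=
      mem_inf.mpr ⟨mem_inf.mpr ⟨hWZ hw, hwC⟩, hWQ hw⟩
    rw [hd1, mem_bot] at this
    exact this
  have heW : e ∈ normalizer (W : Set G) := hKW heK
  have heR : e ∈ normalizer (R : Set G) :=
    hRdef ▸ Cfsg.Agent.Helper14.le_normalizer_pCoreOf 2 K heK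
  have hAW : A ≤ normalizer (W : Set G) := hWdef ▸ hAK.trans (normalizer_le_normalizer_wOf K)
  have hAR : A ≤ normalizer (R : Set G) :=
    hRdef ▸ hAK.trans (normalizer_le_normalizer_pCoreOf 2 K)
  have hA2 : ∀ a ∈ A, a * e * a⁻¹ * e⁻¹ ∈ R ∨ a * e * a⁻¹ * e ∈ R := by
    intro a ha
    have hc : a * e * a⁻¹ ∈ K := conj_mem_of_mem_normalizer (hAK ha) heK
    rcases hAe a ha with h | h
    · left
      rw [hR]
      exact mem_inf.mpr ⟨K.mul_mem hc (K.inv_mem heK), h⟩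
    · right
      rw [hR]
      exact mem_inf.mpr ⟨K.mul_mem hc heK, h⟩
  have hle : Nat.card W ≤ 4 :=
    card_le_four_of_offender hA hWel hAW hRW hAR heW heR he3 hfix hbA hbe hA2
  have hge : 4 ≤ Nat.card W := by
    have hmod := card_modEq_one_of_fpf (p := 3) he3 heW hfix
    obtain ⟨n, hn⟩ := (Cfsg.Agent.Helper26.isPGroup_of_isElementaryAbelian hWel).exists_card_eq
    rw [hn] at hmod ⊢
    have hn0 : n ≠ 0 := by
      rintro rfl
      rw [pow_zero] at hn
      exact hW1 (Subgroup.card_eq_one.mp hn)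
    have heven : Even n := by
      apply two_pow_even_of_mod_three
      have : 2 ^ n % 3 = 1 % 3 := hmod
      simpa using this
    obtain ⟨m, rfl⟩ := heven
    have hm : 1 ≤ m := by omega
    calc 4 = 2 ^ 2 := by norm_num
      _ ≤ 2 ^ (m + m) := Nat.pow_le_pow_right (by norm_num) (by omega)
  refine ⟨le_antisymm hle hge, ?_⟩
  intro w hw
  rw [← pow_two]
  exact hWel.2 w hw

end CoreW

section Exist

variable {X : Type*} [Group X] [Finite X]

namespace LocalBase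

variable {T : Subgroup X}

/-- an element of `C` with a `2`-power power in `O₂(X)` lies in `O₂(X)` -/
theorem mem_pCore_of_pow_mem (h : LocalBase T) {c : X}
    (hc : c ∈ centralizer ((omegaZ 2 X : Subgroup X) : Set X)) {k : ℕ}
    (hk : c ^ 2 ^ k ∈ pCore 2 X) : c ∈ pCore 2 X := by
  haveI : Fact (Nat.Prime 2) := ⟨Nat.prime_two⟩
  have hP2 : IsPGroup 2 (pCore 2 X) := Cfsg.Agent.Helper14.pCore_isPGroup 2
  obtain ⟨j, hj⟩ := hP2 ⟨_, hk⟩
  have hj' : (c ^ 2 ^ k) ^ 2 ^ j = 1 := congrArg Subtype.val hj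
  have h2 : IsPGroup 2 (zpowers c) := by
    rintro ⟨_, n, rfl⟩
    refine ⟨k + j, ?_⟩
    apply Subtype.ext
    show (c ^ n) ^ 2 ^ (k + j) = 1
    rw [← zpow_natCast, ← zpow_mul, mul_comm, zpow_mul, zpow_natCast, pow_add, pow_mul, hj',
      one_zpow]
  exact h.le_pCore_of_isPGroup h2 (zpowers_le.mpr hc) (mem_zpowers c)

/-- for `t ∈ T`: if `[t, e] ∈ C` then `[t, e] ∈ O₂(X)` -/
theorem commutator_mem_pCore (h : LocalBase T) {t e : X} (ht : t ∈ T)
    (hc : t * e * t⁻¹ * e⁻¹ ∈ centralizer ((omegaZ 2 X : Subgroup X) : Set X)) :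
    t * e * t⁻¹ * e⁻¹ ∈ pCore 2 X := by
  haveI hPn : (pCore 2 X).Normal := Cfsg.Agent.Helper14.pCore_normal 2
  obtain ⟨c, hcdef⟩ : ∃ c : X, c = t * e * t⁻¹ * e⁻¹ := ⟨_, rfl⟩
  rw [← hcdef] at hc ⊢
  obtain ⟨k, hk⟩ := h.hT2 ⟨t, ht⟩
  have hk' : t ^ 2 ^ k = 1 := congrArg Subtype.val hk
  apply h.mem_pCore_of_pow_mem hc (k := k)
  obtain ⟨π, hπ⟩ : ∃ π : X →* X ⧸ pCore 2 X, π = QuotientGroup.mk' (pCore 2 X) := ⟨_, rfl⟩
  have hπ1 : ∀ x : X, π x = 1 ↔ x ∈ pCore 2 X := by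
    intro x
    rw [hπ, QuotientGroup.mk'_apply, QuotientGroup.eq_one_iff]
  have hcomm : π t * π c = π c * π t := by
    have h1 : ⁅c, t⁆ ∈ pCore 2 X := h.commutator_C_T_le (commutator_mem_commutator hc ht)
    have h2 : π ⁅c, t⁆ = 1 := (hπ1 _).mpr h1
    rw [map_commutatorElement, commutatorElement_def] at h2
    have h3 : π c * π t = π t * π c := by
      have h4 : π c * π t * (π c)⁻¹ = π t := mul_inv_eq_one.mp h2
      calc π c * π t = (π c * π t * (π c)⁻¹) * π c := by group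
        _ = π t * π c := by rw [h4]
    exact h3.symm
  have hconj : π t * π e * (π t)⁻¹ = π c * π e := by
    rw [← map_inv, ← map_mul, ← map_mul, ← map_mul]
    congr 1
    rw [hcdef]
    group
  have h5 := conj_pow_mul_eq hcomm hconj (2 ^ k)
  rw [← map_pow, hk', map_one, one_mul, inv_one, mul_one] at h5
  have h6 : (π c) ^ 2 ^ k = 1 := by
    have h7 : (π c) ^ 2 ^ k * π e = 1 * π e := by rw [one_mul]; exact h5.symm
    exact mul_right_cancel h7
  rw [← map_pow] at h6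
  exact (hπ1 _).mp h6

/-- for `t ∈ T` and `b ∈ T` inverting `e`: if `t e t⁻¹ e ∈ C` then `t e t⁻¹ e ∈ O₂(X)` -/
theorem commutator_mem_pCore' (h : LocalBase T) {t b e : X} (ht : t ∈ T) (hb : b ∈ T)
    (hbe : b * e * b⁻¹ = e⁻¹)
    (hc : t * e * t⁻¹ * e ∈ centralizer ((omegaZ 2 X : Subgroup X) : Set X)) :
    t * e * t⁻¹ * e ∈ pCore 2 X := by
  haveI hPn : (pCore 2 X).Normal := Cfsg.Agent.Helper14.pCore_normal 2
  haveI hCn := h.C_normal
  have e1 : (t * b) * e * (t * b)⁻¹ * e⁻¹ = e * (t * e * t⁻¹ * e)⁻¹ * e⁻¹ := by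
    have : (t * b) * e * (t * b)⁻¹ * e⁻¹ = t * (b * e * b⁻¹) * t⁻¹ * e⁻¹ := by group
    rw [this, hbe]
    group
  have h1 : (t * b) * e * (t * b)⁻¹ * e⁻¹ ∈ centralizer ((omegaZ 2 X : Subgroup X) : Set X) := by
    rw [e1]
    exact hCn.conj_mem _ (inv_mem hc) e
  have h2 := h.commutator_mem_pCore (T.mul_mem ht hb) h1
  rw [e1] at h2
  have h3 := hPn.conj_mem _ h2 e⁻¹
  have e2 : e⁻¹ * (e * (t * e * t⁻¹ * e)⁻¹ * e⁻¹) * e⁻¹⁻¹ = (t * e * t⁻¹ * e)⁻¹ := by group
  rw [e2] at h3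
  exact (inv_mem_iff).mp h3

/-- **existence of a `J(T)`-component attached to a minimal offender** -/
theorem exists_jc_of_ffMin (h : LocalBase T) (V : Subgroup X) [V.Normal] (hV : V = omegaZ 2 X)
    {A : Subgroup X} (hA : A ∈ maxEA 2 T) {b : X} (hbA : b ∈ A)
    (hBm : FFMin 2 (ffV V) ((thompsonSubgroup 2 X).map (ffIota V)) (zpowers (ffIota V b))) :
    ∃ K : Subgroup X, IsJComponent T K ∧ ∃ e ∈ K, zpowers (ffIota V e) =
      ⁅ffQ 2 ((thompsonSubgroup 2 X).map (ffIota V)), zpowers (ffIota V b)⁆ := by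
  haveI : Fact (Nat.Prime 2) := ⟨Nat.prime_two⟩
  haveI : Fact (Nat.Prime 3) := ⟨Nat.prime_three⟩
  haveI := h.solv
  haveI hPn : (pCore 2 X).Normal := Cfsg.Agent.Helper14.pCore_normal 2
  have hsep : IsPSolvable 2 X := Cfsg.Agent.Helper10.isPSolvable_of_isSolvable 2 inferInstance
  have hVel : IsElementaryAbelian 2 V := hV ▸ h.omegaZ_el
  have hOp : pCore 2 (X ⧸ centralizer (V : Set X)) = ⊥ := by
    subst hV
    exact h.hOp
  have hVn : V.Normal := inferInstance
  obtain ⟨C, hC⟩ : ∃ C : Subgroup X, C = centralizer (V : Set X) := ⟨_, rfl⟩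
  obtain ⟨P, hP⟩ : ∃ P : Subgroup X, P = pCore 2 X := ⟨_, rfl⟩
  obtain ⟨J, hJ⟩ : ∃ J : Subgroup X, J = thompsonSubgroupOf 2 T := ⟨_, rfl⟩
  obtain ⟨Y, hY⟩ : ∃ Y : Subgroup X, Y = thompsonSubgroup 2 X := ⟨_, rfl⟩
  obtain ⟨Yb, hYb⟩ : ∃ Yb : Subgroup (FFGamma V), Yb = Y.map (ffIota V) := ⟨_, rfl⟩
  obtain ⟨Bb, hBb⟩ : ∃ Bb : Subgroup (FFGamma V), Bb = zpowers (ffIota V b) := ⟨_, rfl⟩
  obtain ⟨Db, hDb⟩ : ∃ Db : Subgroup (FFGamma V), Db = ⁅ffQ 2 Yb, Bb⁆ := ⟨_, rfl⟩
  rw [← hY, ← hYb, ← hBb] at hBm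
  rw [← hY, ← hYb, ← hBb, ← hDb]
  have hS : FFSetup 2 (ffV V) Yb := by
    rw [hYb, hY]; exact ffSetup_thompson hsep V hVel hOp
  have hS3 : Yb = ⨆ A : {A : Subgroup (FFGamma V) // A ≤ Yb ∧
      IsBestOffenderOn 2 (ffV V) A}, (A : Subgroup (FFGamma V)) := by
    rw [hYb, hY]; exact thompson_map_eq_iSup V hVel
  have hPC : P ≤ C := by rw [hP, hC, hV]; exact h.pCore_le_C
  have hCT : ⁅C, T⁆ ≤ P := by rw [hP, hC, hV]; exact h.commutator_C_T_le
  have hP2 : IsPGroup 2 P := hP ▸ Cfsg.Agent.Helper14.pCore_isPGroup 2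
  have hPnorm : P.Normal := hP ▸ hPn
  have hCn : C.Normal := by rw [hC]; infer_instance
  have hι1 : ∀ x : X, ffIota V x = 1 ↔ x ∈ C := by
    intro x; rw [hC]; exact ffIota_eq_one_iff V x
  -- basic facts on `b`
  have hbT : b ∈ T := hA.1 hbA
  have hbJ : b ∈ J := hJ ▸ le_thompsonSubgroupOf_of_mem_maxEA hA hbA
  have hb2 : b * b = 1 := by rw [← pow_two]; exact hA.2.1.2 b hbA
  have hbinv : b⁻¹ = b := inv_eq_of_mul_eq_one_left hb2
  have hJY : J ≤ Y := by rw [hJ, hY]; exact h.J_le_thompson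
  have hJT : J ≤ T := hJ ▸ h.J_le_T
  have hD3 : Nat.card Db = 3 := by
    rw [hDb]
    have := hS.card_commutator_ffQ hBm
    norm_num at this
    exact this
  have hD1 : Db ≠ ⊥ := hDb ▸ hS.commutator_ffQ_ne_bot hBm
  have hDQ : Db ≤ ffQ 2 Yb := hDb ▸ FFSetup.commutator_ffQ_le hBm.hAH
  have hDY : Db ≤ Yb := hDQ.trans (ffQ_le 2 Yb)
  have hDE : Db ≤ ffE 2 Yb Bb := hDb ▸ le_sup_left
  have hBD : Bb ≤ normalizer (Db : Set (FFGamma V)) :=
    hDb ▸ Cfsg.Agent.Lead.le_normalizer_commutator_right _ _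
  -- `Yb` normalizes `Db`
  have hYD : Yb ≤ normalizer (Db : Set (FFGamma V)) := by
    obtain ⟨hc1, -, hc3, -, -⟩ := hS.ffE_direct_factor hS3 hBm
    rw [← hc3]
    apply sup_le
    · exact sup_le (hDb ▸ le_normalizer) hBD
    · rw [commutator_eq_bot_iff_le_centralizer] at hc1
      exact ((le_centralizer_iff.mp hc1).trans (centralizer_le hDE)).trans
        (centralizer_le_normalizer _)
  have hbb : ffIota V b ∈ Bb := hBb ▸ mem_zpowers _
  -- `[Db, Bb] = Db`
  have hDD : ⁅Db, Bb⁆ = Db := by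
    rw [hDb]
    apply Cfsg.Agent.Lead.coprime_commutator_commutator Bb (ffQ 2 Yb)
      (hBm.hAH.trans (le_normalizer_ffQ 2 Yb))
    · rw [hBm.hAp]
      exact (ffQ_coprime 2 Yb).symm
    · left
      have hB2 : IsPGroup 2 Bb := IsPGroup.of_card (n := 1) (by rw [hBm.hAp, pow_one])
      haveI := hB2.isNilpotent
      infer_instance
  -- a generator of `Db`
  obtain ⟨db, hdb, hdb1⟩ := exists_mem_ne_one_of_ne_bot hD1
  have hdbz : zpowers db = Db := eq_zpowers_of_card_prime hD3 hdb hdb1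
  have hdb3 : db ^ 3 = 1 := by
    have : orderOf db ∣ 3 := hD3 ▸ Subgroup.orderOf_dvd_natCard Db hdb
    exact orderOf_dvd_iff_pow_eq_one.mp this
  have hdbord : orderOf db = 3 := orderOf_eq_prime hdb3 hdb1
  -- `b` inverts `db`
  have hbdb : ffIota V b * db * (ffIota V b)⁻¹ = db⁻¹ := by
    have h1 : ffIota V b * db * (ffIota V b)⁻¹ ∈ zpowers db :=
      hdbz ▸ conj_mem_of_mem_normalizer (hBD hbb) hdb
    rcases mem_zpowers_of_pow_three hdb3 h1 with h2 | h2 | h2
    · exfalso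
      apply hdb1
      have : db = (ffIota V b)⁻¹ * (ffIota V b * db * (ffIota V b)⁻¹) * ffIota V b := by group
      rw [this, h2]
      group
    · exfalso
      apply hD1
      rw [← hDD, commutator_eq_bot_iff_le_centralizer, ← hdbz, hBb, zpowers_le, mem_centralizer_iff]
      intro z hz
      obtain ⟨k, rfl⟩ := mem_zpowers_iff.mp hz
      have hcm : Commute db (ffIota V b) := by
        show db * ffIota V b = ffIota V b * db
        calc db * ffIota V b = (ffIota V b * db * (ffIota V b)⁻¹) * ffIota V b := by rw [h2]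
          _ = ffIota V b * db := by group
      exact (Commute.zpow_left hcm.symm k).eq
    · exact h2
  -- lift
  obtain ⟨x, -, hx⟩ := (hYb ▸ hDY hdb : db ∈ Y.map (ffIota V))
  obtain ⟨y, hy⟩ : ∃ y : X, y = b * x * b * x⁻¹ := ⟨_, rfl⟩
  have hιy : ffIota V y = db := by
    rw [hy, map_mul, map_mul, map_mul, map_inv, hx]
    have h1 : ffIota V b * db * ffIota V b = db⁻¹ := by
      have : ffIota V b = (ffIota V b)⁻¹ := by rw [← map_inv, hbinv]
      rw [← hbdb]
      nth_rewrite 2 [this]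
      rfl
    rw [h1]
    have h2 : db⁻¹ * db⁻¹ = db := by
      have : db * db * db = 1 := by rw [← hdb3, pow_succ, pow_two]
      calc db⁻¹ * db⁻¹ = db⁻¹ * db⁻¹ * (db * db * db) := by rw [this, mul_one]
        _ = db := by group
    exact h2
  have hby : b * y * b⁻¹ = y⁻¹ := by
    rw [hbinv, hy]
    have h1 : b * (b * x * b * x⁻¹) * b = (b * b) * x * b * x⁻¹ * b := by group
    have h2 : (b * x * b * x⁻¹)⁻¹ = x * b⁻¹ * x⁻¹ * b⁻¹ := by group
    rw [h1, h2, hb2, hbinv, one_mul]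
  -- the odd part
  obtain ⟨n, hn⟩ := Cfsg.Agent.Helper14.exists_pow_coprime_order' (p := 2) y
  obtain ⟨e, he⟩ : ∃ e : X, e = y ^ 2 ^ n := ⟨_, rfl⟩
  rw [← he] at hn
  have hbe : b * e * b⁻¹ = e⁻¹ := by
    rw [he, ← conj_pow, hby, inv_pow]
  obtain ⟨eb, heb⟩ : ∃ eb : FFGamma V, eb = ffIota V e := ⟨_, rfl⟩
  have hebD : eb ∈ Db := by
    rw [heb, he, map_pow, hιy]
    exact Db.pow_mem hdb _
  have heb1 : eb ≠ 1 := by
    rw [heb, he, map_pow, hιy]
    intro h1
    have h2 : 3 ∣ 2 ^ n := hdbord ▸ orderOf_dvd_of_pow_eq_one h1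
    have h3 : 3 ∣ 2 := Nat.Prime.dvd_of_dvd_pow Nat.prime_three h2
    omega
  have hebz : zpowers eb = Db := eq_zpowers_of_card_prime hD3 hebD heb1
  have heb3 : eb ^ 3 = 1 := by
    have : orderOf eb ∣ 3 := hD3 ▸ Subgroup.orderOf_dvd_natCard Db hebD
    exact orderOf_dvd_iff_pow_eq_one.mp this
  have heC : e ∉ C := by
    intro h1
    exact heb1 (heb ▸ (hι1 e).mpr h1)
  have heP : e ∉ P := fun h1 => heC (hPC h1)
  -- `e ^ 3 = 1`
  have he3 : e ^ 3 = 1 := by
    obtain ⟨c, hc⟩ : ∃ c : X, c = e ^ 3 := ⟨_, rfl⟩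
    rw [← hc]
    have hcC : c ∈ C := by
      rw [← hι1, hc, map_pow, ← heb, heb3]
    have hbc : b * c * b⁻¹ = c⁻¹ := by
      rw [hc, ← conj_pow, hbe, inv_pow]
    have hcc : c * c ∈ P := by
      have h1 : ⁅c, b⁆ ∈ P := hCT (commutator_mem_commutator hcC hbT)
      have h2 : ⁅c, b⁆ = c * c := by
        rw [commutatorElement_def]
        have : c * b * c⁻¹ * b⁻¹ = c * (b * c * b⁻¹)⁻¹ := by group
        rw [this, hbc, inv_inv]
      rwa [h2] at h1
    obtain ⟨j, hj⟩ := hP2 ⟨_, hcc⟩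
    have hj' : (c * c) ^ 2 ^ j = 1 := congrArg Subtype.val hj
    have hd1 : orderOf c ∣ 2 ^ (j + 1) := by
      apply orderOf_dvd_of_pow_eq_one
      rw [pow_succ', pow_mul, pow_two]
      exact hj'
    have hd2 : orderOf c ∣ orderOf e := hc ▸ orderOf_pow_dvd 3
    have hcop : Nat.Coprime (orderOf e) (2 ^ (j + 1)) := Nat.Coprime.pow_right _ hn
    exact orderOf_eq_one_iff.mp (Nat.eq_one_of_dvd_coprimes hcop hd2 hd1)
  -- elements of `J` centralize or invert `e` modulo `P`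
  have hTe : ∀ t ∈ T, ffIota V t ∈ Yb → t * e * t⁻¹ * e⁻¹ ∈ P ∨ t * e * t⁻¹ * e ∈ P := by
    intro t ht htY
    have h1 : ffIota V t * eb * (ffIota V t)⁻¹ ∈ zpowers eb :=
      hebz ▸ conj_mem_of_mem_normalizer (hYD htY) hebD
    rcases mem_zpowers_of_pow_three heb3 h1 with h2 | h2 | h2
    · exfalso
      apply heb1
      have : eb = (ffIota V t)⁻¹ * (ffIota V t * eb * (ffIota V t)⁻¹) * ffIota V t := by group
      rw [this, h2]
      group
    · left
      have h3 : t * e * t⁻¹ * e⁻¹ ∈ C := by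
        rw [← hι1, map_mul, map_mul, map_mul, map_inv, map_inv, ← heb, h2, mul_inv_cancel]
      rw [hC, hV] at h3
      rw [hP]
      exact h.commutator_mem_pCore ht h3
    · right
      have h3 : t * e * t⁻¹ * e ∈ C := by
        rw [← hι1, map_mul, map_mul, map_mul, map_inv, ← heb, h2, inv_mul_cancel]
      rw [hC, hV] at h3
      rw [hP]
      exact h.commutator_mem_pCore' ht hbT hbe h3
  have hJe : ∀ t ∈ J, t * e * t⁻¹ * e⁻¹ ∈ P ∨ t * e * t⁻¹ * e ∈ P := by
    intro t ht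
    exact hTe t (hJT ht) (hYb ▸ ⟨t, hJY ht, rfl⟩)
  obtain ⟨K, heK, hKle, hgen, hcomm, hR, hidx, hPNK, hJK⟩ :=
    comp_core hPnorm hP2 he3 heP hbJ hbe hJe
  have hAJ : A ≤ J := hJ ▸ le_thompsonSubgroupOf_of_mem_maxEA hA
  have hW := comp_core_wOf hPnorm he3 heK hKle hgen hR hidx hPNK hVn hVel
    (by rw [hV, hP]; exact h.omegaZ_le_pCore) (hC ▸ hPC) (hC ▸ heC) (h.maxEA_subset hA)
    (hAJ.trans hJK) hbA hbe (fun a ha => hJe a (hAJ ha))
  refine ⟨K, ⟨hgen, hJ ▸ hcomm, hidx, ?_, hW.1, hW.2⟩, e, heK, heb ▸ hebz⟩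
  intro S hS hJS
  obtain ⟨m, hm⟩ := exists_le_map_conj_of_isPGroup h.hT2 h.hTodd hS.2.1
  exact thompson_eq_of_le_of_le_conj m hJS hm

/-- the FF-setup attached to `X` -/
theorem ffSetup (h : LocalBase T) (V : Subgroup X) [V.Normal] (hV : V = omegaZ 2 X) :
    FFSetup 2 (ffV V) ((thompsonSubgroup 2 X).map (ffIota V)) := by
  haveI : Fact (Nat.Prime 2) := ⟨Nat.prime_two⟩
  haveI := h.solv
  have hsep : IsPSolvable 2 X := Cfsg.Agent.Helper10.isPSolvable_of_isSolvable 2 inferInstance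
  have hVel : IsElementaryAbelian 2 V := hV ▸ h.omegaZ_el
  have hOp : pCore 2 (X ⧸ centralizer (V : Set X)) = ⊥ := by
    subst hV
    exact h.hOp
  exact ffSetup_thompson hsep V hVel hOp

/-- a minimal offender inside the image of a member of `maxEA 2 T` has a generator in it -/
theorem exists_gen_of_minOffender (h : LocalBase T) (V : Subgroup X) [V.Normal]
    (hV : V = omegaZ 2 X) {A : Subgroup X} (hA : A ∈ maxEA 2 T) {Bb : Subgroup (FFGamma V)}
    (hBA : Bb ≤ A.map (ffIota V)) (hB : IsMinOffender 2 (ffV V) Bb) :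
    ∃ b ∈ A, Bb = zpowers (ffIota V b) ∧
      FFMin 2 (ffV V) ((thompsonSubgroup 2 X).map (ffIota V)) Bb := by
  haveI : Fact (Nat.Prime 2) := ⟨Nat.prime_two⟩
  have hS := h.ffSetup V hV
  have hAY : A.map (ffIota V) ≤ (thompsonSubgroup 2 X).map (ffIota V) :=
    map_mono ((le_thompsonSubgroupOf_of_mem_maxEA hA).trans h.J_le_thompson)
  have hBm : FFMin 2 (ffV V) ((thompsonSubgroup 2 X).map (ffIota V)) Bb :=
    hB.ffMin hS (hBA.trans hAY)
  obtain ⟨bb, hbb, hbb1⟩ := exists_mem_ne_one_of_ne_bot hBm.ne_bot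
  obtain ⟨b, hbA, rfl⟩ := hBA hbb
  exact ⟨b, hbA, (eq_zpowers_of_card_prime hBm.hAp hbb hbb1).symm, hBm⟩

/-- a member of `maxEA 2 T` not centralizing `V` contains a minimal offender -/
theorem exists_minOffender_of_not_le (h : LocalBase T) (V : Subgroup X) [V.Normal]
    (hV : V = omegaZ 2 X) {A : Subgroup X} (hA : A ∈ maxEA 2 T)
    (hAC : ¬ A ≤ centralizer (V : Set X)) :
    ∃ Bb : Subgroup (FFGamma V), Bb ≤ A.map (ffIota V) ∧ IsMinOffender 2 (ffV V) Bb := by
  haveI : Fact (Nat.Prime 2) := ⟨Nat.prime_two⟩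
  have hS := h.ffSetup V hV
  have hVel : IsElementaryAbelian 2 V := hV ▸ h.omegaZ_el
  have hAY : A.map (ffIota V) ≤ (thompsonSubgroup 2 X).map (ffIota V) :=
    map_mono ((le_thompsonSubgroupOf_of_mem_maxEA hA).trans h.J_le_thompson)
  have hbest : IsBestOffenderOn 2 (ffV V) (A.map (ffIota V)) :=
    isBestOffenderOn_map_ffIota V (Cfsg.Agent.S0606.result V hVel A (h.maxEA_subset hA))
  have hle := hS.le_sSup_minOffender _ (A.map (ffIota V)) rfl hAY hbest
  by_contra hcon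
  push Not at hcon
  have hempty : {B : Subgroup (FFGamma V) | B ≤ A.map (ffIota V) ∧ IsMinOffender 2 (ffV V) B} =
      ∅ := by
    ext B
    simp only [Set.mem_ofPred_eq, Set.mem_empty_iff_false, iff_false, not_and]
    exact hcon B
  rw [hempty, sSup_empty, le_bot_iff, Subgroup.map_eq_bot_iff, ffIota_ker] at hle
  exact hAC hle

/-- **existence of `J(T)`-components** -/
theorem exists_jc (h : LocalBase T) (hJP : ¬ thompsonSubgroupOf 2 T ≤ pCore 2 X) :
    ∃ K : Subgroup X, IsJComponent T K := by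
  haveI := h.omegaZ_normal
  have hJC : ¬ thompsonSubgroupOf 2 T ≤ centralizer ((omegaZ 2 X : Subgroup X) : Set X) :=
    fun hle => hJP (h.le_pCore_of_isPGroup (thompson_isPGroup h.hT2) hle)
  obtain ⟨A, hA, hAC⟩ : ∃ A ∈ maxEA 2 T,
      ¬ A ≤ centralizer ((omegaZ 2 X : Subgroup X) : Set X) := by
    by_contra hcon
    push Not at hcon
    apply hJC
    rw [thompsonSubgroupOf_eq_sSup_maxEA]
    exact sSup_le hcon
  obtain ⟨Bb, hBA, hB⟩ := h.exists_minOffender_of_not_le (omegaZ 2 X) rfl hA hAC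
  obtain ⟨b, hbA, hBb, hBm⟩ := h.exists_gen_of_minOffender (omegaZ 2 X) rfl hA hBA hB
  rw [hBb] at hBm
  obtain ⟨K, hK, -⟩ := h.exists_jc_of_ffMin (omegaZ 2 X) rfl hA hbA hBm
  exact ⟨K, hK⟩

end LocalBase

end Exist

end Cfsg.Agent.Helper15.JComp
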