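import Cfsg.Agent.Helper15.JComp14
import Cfsg.Agent.Helper11.SylowInter

/-!
# J-components, part 15: maximal straddling 2-subgroups (S2948)
-/

set_option autoImplicit false
set_option linter.unusedSectionVars false
set_option linter.style.haveILetI false

namespace Cfsg.Agent.Helper15.JComp

open Cfsg Subgroup
open scoped commutatorElement

section Straddle

variable {G : Type*} [Group G] [Finite G]

theorem maxElemAbelianOrder_eq {T A : Subgroup G} (hA : A ∈ maxEA 2 T) :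
    maxElemAbelianOrder T = Nat.card A := by
  unfold maxElemAbelianOrder
  have hA' := subgroupOf_mem_of_mem_maxEA hA
  have himg : (fun B : Subgroup ↥T => Nat.card ↥B) '' maxElementaryAbelianSubgroups 2 ↥T =
      {Nat.card A} := by
    ext n
    constructor
    · rintro ⟨B, hB, rfl⟩
      have h1 : Nat.card B = Nat.card (A.subgroupOf T) :=
        le_antisymm (hA'.2 B hB.1) (hB.2 _ hA'.1)
      rw [Set.mem_singleton_iff]
      show Nat.card B = Nat.card A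
      rw [h1, Cfsg.Agent.Helper17.card_subgroupOf_of_le hA.1]
    · intro hn
      rw [Set.mem_singleton_iff] at hn
      subst hn
      exact ⟨A.subgroupOf T, hA', Cfsg.Agent.Helper17.card_subgroupOf_of_le hA.1⟩
  rw [himg, csSup_singleton]

/-- if `J(T) ≤ T'` then `a(T) ≤ a(T')` -/
theorem maxElemAbelianOrder_le_of_thompson_le {T T' : Subgroup G}
    (h : thompsonSubgroupOf 2 T ≤ T') : maxElemAbelianOrder T ≤ maxElemAbelianOrder T' := by
  obtain ⟨A, hA⟩ := maxEA_nonempty 2 T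
  obtain ⟨A', hA'⟩ := maxEA_nonempty 2 T'
  rw [maxElemAbelianOrder_eq hA, maxElemAbelianOrder_eq hA']
  exact hA'.2.2 A ((le_thompsonSubgroupOf_of_mem_maxEA hA).trans h) hA.2.1

/-- the key consequence of maximality -/
theorem thompson_eq_of_maxStraddling {M T T' : Subgroup G}
    (hT : T ∈ maxStraddlingTwoSubgroups M) (hT' : T' ∈ straddlingTwoSubgroups M)
    (hJ : thompsonSubgroupOf 2 T ≤ T') :
    thompsonSubgroupOf 2 T' = thompsonSubgroupOf 2 T ∧ Nat.card T' ≤ Nat.card T := by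
  obtain ⟨h1, h2⟩ := hT.2 T' hT'
  have ha : maxElemAbelianOrder T' = maxElemAbelianOrder T :=
    le_antisymm h1 (maxElemAbelianOrder_le_of_thompson_le hJ)
  obtain ⟨h3, h4⟩ := h2 ha
  have hle : thompsonSubgroupOf 2 T ≤ thompsonSubgroupOf 2 T' := by
    apply thompson_eq_of_le_of_card_eq hJ
    intro A hA E hE
    rw [← maxElemAbelianOrder_eq hA, ← maxElemAbelianOrder_eq hE, ha]
  have heq : thompsonSubgroupOf 2 T = thompsonSubgroupOf 2 T' := eq_of_le_of_card_ge hle h3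
  exact ⟨heq.symm, h4 (by rw [heq])⟩

theorem thompsonSubgroupOf_ne_bot {T : Subgroup G} (hT2 : IsPGroup 2 T) (hT1 : T ≠ ⊥) :
    thompsonSubgroupOf 2 T ≠ ⊥ := by
  haveI : Fact (Nat.Prime 2) := ⟨Nat.prime_two⟩
  have h2 : 2 ∣ Nat.card T := by
    obtain ⟨n, hn⟩ := hT2.exists_card_eq
    rw [hn]
    have : n ≠ 0 := by
      rintro rfl
      rw [pow_zero] at hn
      exact hT1 (card_eq_one.mp hn)
    exact dvd_pow_self 2 this
  have h3 := Cfsg.Agent.Helper26.thompsonSubgroup_ne_bot (G := ↥T) (p := 2) h2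
  unfold thompsonSubgroupOf
  rwa [Ne, map_eq_bot_iff_of_injective _ T.subtype_injective]

/-- normalizers grow in `2`-groups -/
theorem eq_of_inf_normalizer_le {P D : Subgroup G} (hP : IsPGroup 2 P) (hDP : D ≤ P)
    (h : P ⊓ normalizer (D : Set G) ≤ D) : D = P := by
  haveI : Fact (Nat.Prime 2) := ⟨Nat.prime_two⟩
  by_contra hne
  have hlt : D < P := lt_of_le_of_ne hDP hne
  exact absurd (lt_of_lt_of_le (Cfsg.Agent.Helper11.lt_inf_normalizer P D hP hlt) h) (lt_irrefl _)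

/-- `C_G(O₂(L)) ≤ O₂(L)` for a `2`-local subgroup of a group of characteristic `2` type -/
theorem centralizer_pCoreOf_le_of_isTwoLocal (hL : IsCharacteristicTwoType G) {L : Subgroup G}
    (hL2 : IsTwoLocal L) : centralizer ((pCoreOf 2 L : Subgroup G) : Set G) ≤ pCoreOf 2 L := by
  obtain ⟨Q₀, hQ₀2, hQ₀1, hLdef⟩ := hL2
  have hQ₀P : Q₀ ≤ pCoreOf 2 L := by
    apply Cfsg.Agent.Helper14.le_pCoreOf 2 _ _ hQ₀2
    · rw [hLdef]; exact le_normalizer
    · rw [hLdef]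
  intro x hx
  have hxL : x ∈ L := by
    rw [hLdef]
    exact centralizer_le_normalizer _ (centralizer_le hQ₀P hx)
  have hchar : centralizer ((pCore 2 ↥L : Subgroup ↥L) : Set ↥L) ≤ pCore 2 ↥L := by
    have := hL.2 Q₀ hQ₀2 hQ₀1
    rw [← hLdef] at this
    exact this
  have hx' : (⟨x, hxL⟩ : ↥L) ∈ centralizer ((pCore 2 ↥L : Subgroup ↥L) : Set ↥L) := by
    rw [mem_centralizer_iff]
    intro y hy
    apply Subtype.ext
    exact mem_centralizer_iff.mp hx y ⟨y, hy, rfl⟩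
  exact ⟨⟨x, hxL⟩, hchar hx', rfl⟩

/-- a Sylow `2`-subgroup of `G` contained in `M` is a Sylow `2`-subgroup of `M` -/
theorem isSylowTwoIn_of_sylow_le (S : Sylow 2 G) {M : Subgroup G} (hSM : (S : Subgroup G) ≤ M) :
    IsSylowTwoIn (S : Subgroup G) M := by
  haveI : Fact (Nat.Prime 2) := ⟨Nat.prime_two⟩
  refine ⟨hSM, S.isPGroup', ?_⟩
  have h1 : (S : Subgroup G).relIndex M ∣ (S : Subgroup G).index :=
    Dvd.intro _ (relIndex_mul_index hSM)
  have h2 : Odd (S : Subgroup G).index := by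
    rw [← Nat.not_even_iff_odd, even_iff_two_dvd]
    exact S.not_dvd_index
  exact Odd.of_dvd_nat h2 h1

/-- `N_G(J(T)) ≤ M` for `T` maximal straddling -/
theorem normalizer_thompson_le_of_maxStraddling (S : Sylow 2 G) {M T : Subgroup G}
    (hMJ : normalizer ((thompsonSubgroupOf 2 (S : Subgroup G) : Subgroup G) : Set G) ≤ M)
    (hT : T ∈ maxStraddlingTwoSubgroups M) :
    normalizer ((thompsonSubgroupOf 2 T : Subgroup G) : Set G) ≤ M := by
  haveI : Fact (Nat.Prime 2) := ⟨Nat.prime_two⟩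
  obtain ⟨⟨hT2, hT1, hTM, -⟩, -⟩ := id hT
  have hSM : (S : Subgroup G) ≤ M :=
    (le_normalizer.trans (normalizer_le_normalizer_thompsonSubgroupOf 2 _)).trans hMJ
  -- a Sylow `2`-subgroup `S'` containing `T` with `N_G(J(S')) ≤ M`
  obtain ⟨S', hS'2, hTS', hS'M, hS'J⟩ : ∃ S' : Subgroup G, IsPGroup 2 S' ∧ T ≤ S' ∧ S' ≤ M ∧
      normalizer ((thompsonSubgroupOf 2 S' : Subgroup G) : Set G) ≤ M := by
    obtain ⟨S₁, hS₁M, hTS₁⟩ := exists_isSylowTwoIn_ge hT2 hTM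
    obtain ⟨n, hn, hS₁⟩ := isSylowTwoIn_conj (isSylowTwoIn_of_sylow_le S hSM) hS₁M
    refine ⟨S₁, hS₁M.2.1, hTS₁, hS₁M.1, ?_⟩
    have hcni : Function.Injective (MulAut.conj n).toMonoidHom := (MulAut.conj n).injective
    rw [hS₁, thompsonSubgroupOf_map hcni, ← map_equiv_normalizer_eq]
    refine (map_mono hMJ).trans ?_
    rw [Cfsg.Agent.Helper7.map_conj_eq_self_of_mem hn]
  by_contra hcon
  obtain ⟨J, hJ⟩ : ∃ J : Subgroup G, J = thompsonSubgroupOf 2 T := ⟨_, rfl⟩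
  rw [← hJ] at hcon
  have hJT : J ≤ T := hJ ▸ Cfsg.Agent.S2941.thompsonSubgroupOf_le 2 T
  have hTNJ : T ≤ normalizer (J : Set G) :=
    hJ ▸ le_normalizer.trans (normalizer_le_normalizer_thompsonSubgroupOf 2 T)
  obtain ⟨T₂, hT₂⟩ : ∃ T₂ : Subgroup G, T₂ = S' ⊓ normalizer (J : Set G) := ⟨_, rfl⟩
  have hTT₂ : T ≤ T₂ := hT₂ ▸ le_inf hTS' hTNJ
  have hT₂s : T₂ ∈ straddlingTwoSubgroups M := by
    refine ⟨hT₂ ▸ hS'2.to_le inf_le_left, ?_, hT₂ ▸ inf_le_left.trans hS'M,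
      normalizer (J : Set G), ⟨J, hJ ▸ thompson_isPGroup hT2,
        hJ ▸ thompsonSubgroupOf_ne_bot hT2 hT1, rfl⟩, hT₂ ▸ inf_le_right, hcon⟩
    intro hbot
    apply hT1
    rw [eq_bot_iff, ← hbot]
    exact hTT₂
  obtain ⟨-, hcard⟩ := thompson_eq_of_maxStraddling hT hT₂s (hJ ▸ hJT.trans hTT₂)
  have hT₂T : T = T₂ := eq_of_le_of_card_ge hTT₂ hcard
  have hTS : T = S' := by
    apply eq_of_inf_normalizer_le hS'2 hTS'
    conv_rhs => rw [hT₂T, hT₂]
    exact inf_le_inf_left _ (hJ ▸ normalizer_le_normalizer_thompsonSubgroupOf 2 T)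
  apply hcon
  rw [hJ, hTS]
  exact hS'J

/-- **the first three claims of S2948** -/
theorem straddle_partA (hL : IsCharacteristicTwoType G) (S : Sylow 2 G) {M T : Subgroup G}
    (hMJ : normalizer ((thompsonSubgroupOf 2 (S : Subgroup G) : Subgroup G) : Set G) ≤ M)
    (hT : T ∈ maxStraddlingTwoSubgroups M) {L : Subgroup G} (hL2 : IsTwoLocal L)
    (hLM : ¬ L ≤ M) {T₀ : Subgroup G} (hT₀ : IsSylowTwoIn T₀ L)
    (hJT₀ : thompsonSubgroupOf 2 T ≤ T₀) :
    thompsonSubgroupOf 2 T₀ = thompsonSubgroupOf 2 T ∧ T₀ ∈ straddlingTwoSubgroups M ∧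
      L ∈ jOvergroups T₀ := by
  have hNJ := normalizer_thompson_le_of_maxStraddling S hMJ hT
  obtain ⟨⟨hT2, hT1, hTM, -⟩, -⟩ := id hT
  have hJ1 : thompsonSubgroupOf 2 T ≠ ⊥ := thompsonSubgroupOf_ne_bot hT2 hT1
  have hJT : thompsonSubgroupOf 2 T ≤ T := Cfsg.Agent.S2941.thompsonSubgroupOf_le 2 T
  obtain ⟨T₁, hT₁⟩ : ∃ T₁ : Subgroup G, T₁ = T₀ ⊓ M := ⟨_, rfl⟩
  have hJT₁ : thompsonSubgroupOf 2 T ≤ T₁ := hT₁ ▸ le_inf hJT₀ (hJT.trans hTM)
  have hT₁s : T₁ ∈ straddlingTwoSubgroups M := by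
    refine ⟨hT₁ ▸ hT₀.2.1.to_le inf_le_left, ?_, hT₁ ▸ inf_le_right, L, hL2,
      hT₁ ▸ inf_le_left.trans hT₀.1, hLM⟩
    intro hbot
    apply hJ1
    rw [eq_bot_iff, ← hbot]
    exact hJT₁
  obtain ⟨hJ₁, -⟩ := thompson_eq_of_maxStraddling hT hT₁s hJT₁
  have hT₁T₀ : T₁ = T₀ := by
    apply eq_of_inf_normalizer_le hT₀.2.1 (hT₁ ▸ inf_le_left)
    intro x hx
    rw [hT₁]
    refine mem_inf.mpr ⟨(mem_inf.mp hx).1, hNJ ?_⟩
    rw [← hJ₁]
    exact normalizer_le_normalizer_thompsonSubgroupOf 2 T₁ (mem_inf.mp hx).2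
  rw [hT₁T₀] at hJ₁ hT₁s
  refine ⟨hJ₁, hT₁s, hT₀, ?_, centralizer_pCoreOf_le_of_isTwoLocal hL hL2⟩
  intro hle
  apply hLM
  have hQT₀ : pCoreOf 2 L ≤ T₀ := pCoreOf_le_of_isSylowTwoIn hT₀
  have hJQ : thompsonSubgroupOf 2 (pCoreOf 2 L) = thompsonSubgroupOf 2 T₀ := by
    apply thompson_eq_of_le_of_le_conj 1 hle
    rw [Cfsg.Agent.Helper7.map_conj_one]
    exact hQT₀
  refine le_trans ?_ hNJ
  rw [← hJ₁, ← hJQ]
  exact (Cfsg.Agent.Helper14.le_normalizer_pCoreOf 2 L).trans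
    (normalizer_le_normalizer_thompsonSubgroupOf 2 _)

/-- **S2948** -/
theorem straddle_main (hL : IsCharacteristicTwoType G)
    (hN : ∀ N : Subgroup G, IsTwoLocal N → Group.IsSolvable ↥N)
    (hZ : ∀ S : Sylow 2 G, centralizer ((omegaCenterOf (S : Subgroup G) : Subgroup G) : Set G) ≤
      normalizer ((S : Subgroup G) : Set G))
    (S : Sylow 2 G) {M T : Subgroup G}
    (hMJ : normalizer ((thompsonSubgroupOf 2 (S : Subgroup G) : Subgroup G) : Set G) ≤ M)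
    (hT : T ∈ maxStraddlingTwoSubgroups M) {L : Subgroup G} (hL2 : IsTwoLocal L)
    (hLM : ¬ L ≤ M) (hTL : T ≤ L) :
    L ∈ jOvergroups T ∧ ∃ K : Subgroup G, IsJComponent T K ∧ K ≤ L := by
  obtain ⟨⟨hT2, hT1, hTM, -⟩, -⟩ := id hT
  have hJT : thompsonSubgroupOf 2 T ≤ T := Cfsg.Agent.S2941.thompsonSubgroupOf_le 2 T
  obtain ⟨T₀, hT₀L, hTT₀⟩ := exists_isSylowTwoIn_ge hT2 hTL
  obtain ⟨-, hs', hov'⟩ := straddle_partA hL S hMJ hT hL2 hLM hT₀L (hJT.trans hTT₀)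
  obtain ⟨-, hcard⟩ := thompson_eq_of_maxStraddling hT hs' (hJT.trans hTT₀)
  have hTeq : T = T₀ := eq_of_le_of_card_ge hTT₀ hcard
  rw [← hTeq] at hov'
  refine ⟨hov', ?_⟩
  have hsolv : Group.IsSolvable ↥L := hN L hL2
  have hbase : LocalBase (T.subgroupOf L) := localBase_of_overgroup hZ hsolv hov'.1 hov'.2.2
  have hJP' : ¬ thompsonSubgroupOf 2 (T.subgroupOf L) ≤ pCore 2 ↥L := by
    intro hle
    apply hov'.2.1
    have h1 := map_mono (f := L.subtype) hle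
    rw [← thompsonSubgroupOf_map L.subtype_injective, map_subgroupOf_eq_of_le hTL] at h1
    exact h1
  obtain ⟨K', hK'⟩ := hbase.exists_jc hJP'
  refine ⟨K'.map L.subtype, ?_, map_subtype_le _⟩
  have := (isJComponent_map_iff L.subtype_injective).mpr hK'
  rwa [map_subgroupOf_eq_of_le hTL] at this

end Straddle

end Cfsg.Agent.Helper15.JComp
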