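import Cfsg.Agent.Helper15.JComp15

/-!
# J-components, part 16: `X = ⟨J(T)-components⟩ N_X(J(T))` and S2949
-/

set_option autoImplicit false
set_option linter.unusedSectionVars false
set_option linter.style.haveILetI false

namespace Cfsg.Agent.Helper15.JComp

open Cfsg Subgroup Cfsg.Agent.Helper7
open scoped commutatorElement

section Gen

variable {X : Type*} [Group X] [Finite X]

theorem map_conj_map_hom {Γ : Type*} [Group Γ] (f : X →* Γ) (A : Subgroup X) (n : X) :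
    (A.map (MulAut.conj n).toMonoidHom).map f =
      (A.map f).map (MulAut.conj (f n)).toMonoidHom := by
  rw [Subgroup.map_map, Subgroup.map_map]
  congr 1
  ext x
  simp [MulAut.conj_apply]

/-- the intersection of a Sylow `2`-subgroup with a normal subgroup is a Sylow `2`-subgroup of
it -/
theorem isSylowTwoIn_inf_normal {T Y : Subgroup X} (hT2 : IsPGroup 2 T) (hTodd : Odd T.index)
    (hYn : Y.Normal) : IsSylowTwoIn (T ⊓ Y) Y := by
  obtain ⟨S₁, hS₁, hle⟩ := exists_isSylowTwoIn_ge (hT2.to_le inf_le_left)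
    (inf_le_right : T ⊓ Y ≤ Y)
  obtain ⟨x, hx⟩ := exists_le_map_conj_of_isPGroup hT2 hTodd hS₁.2.1
  have h1 : S₁ ≤ (T ⊓ Y).map (MulAut.conj x).toMonoidHom := by
    intro s hs
    obtain ⟨t, ht, rfl⟩ := hx hs
    refine ⟨t, mem_inf.mpr ⟨ht, ?_⟩, rfl⟩
    have h2 : x * t * x⁻¹ ∈ Y := hS₁.1 hs
    have h3 := hYn.conj_mem _ h2 x⁻¹
    have e : x⁻¹ * (x * t * x⁻¹) * x⁻¹⁻¹ = t := by group
    rwa [e] at h3
  have hcard : Nat.card S₁ ≤ Nat.card (T ⊓ Y : Subgroup X) := by
    have := card_le_of_le h1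
    rwa [card_map_conj] at this
  have : T ⊓ Y = S₁ := eq_of_le_of_card_ge hle hcard
  rw [this]
  exact hS₁

namespace LocalBase

variable {T : Subgroup X}

/-- **generation**: a subgroup containing `N_X(J(T))` and all `J(T)`-components is `X` -/
theorem eq_top_of_components_le (h : LocalBase T) {M₀ : Subgroup X}
    (hNJ : normalizer ((thompsonSubgroupOf 2 T : Subgroup X) : Set X) ≤ M₀)
    (hK : ∀ K : Subgroup X, IsJComponent T K → K ≤ M₀) : M₀ = ⊤ := by
  haveI : Fact (Nat.Prime 2) := ⟨Nat.prime_two⟩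
  haveI hVn := h.omegaZ_normal
  obtain ⟨V, hV⟩ : ∃ V : Subgroup X, V = omegaZ 2 X := ⟨_, rfl⟩
  have hVnorm : V.Normal := hV ▸ hVn
  haveI := hVnorm
  have hVel : IsElementaryAbelian 2 V := hV ▸ h.omegaZ_el
  obtain ⟨C, hC⟩ : ∃ C : Subgroup X, C = centralizer (V : Set X) := ⟨_, rfl⟩
  obtain ⟨J, hJ⟩ : ∃ J : Subgroup X, J = thompsonSubgroupOf 2 T := ⟨_, rfl⟩
  obtain ⟨Y, hY⟩ : ∃ Y : Subgroup X, Y = thompsonSubgroup 2 X := ⟨_, rfl⟩
  obtain ⟨Yb, hYb⟩ : ∃ Yb : Subgroup (FFGamma V), Yb = Y.map (ffIota V) := ⟨_, rfl⟩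
  have hS : FFSetup 2 (ffV V) Yb := by
    rw [hYb, hY]; exact h.ffSetup V hV
  have hS3 : Yb = ⨆ A : {A : Subgroup (FFGamma V) // A ≤ Yb ∧
      IsBestOffenderOn 2 (ffV V) A}, (A : Subgroup (FFGamma V)) := by
    rw [hYb, hY]; exact thompson_map_eq_iSup V hVel
  haveI hYc : Y.Characteristic := hY ▸ Cfsg.Agent.Helper26.thompsonSubgroup_characteristic 2
  have hYn : Y.Normal := inferInstance
  have hker : (ffIota V).ker = C := hC ▸ ffIota_ker V
  have hJT : J ≤ T := hJ ▸ h.J_le_T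
  have hJY : J ≤ Y := by rw [hJ, hY]; exact h.J_le_thompson
  rw [← hJ] at hNJ
  have hCM : C ≤ M₀ := by
    rw [hC, hV]
    refine (h.hCT.trans ?_).trans hNJ
    rw [hJ]
    exact normalizer_le_normalizer_thompsonSubgroupOf 2 T
  have hJM : J ≤ M₀ := le_normalizer.trans hNJ
  have hTY : IsSylowTwoIn (T ⊓ Y) Y := isSylowTwoIn_inf_normal h.hT2 h.hTodd hYn
  -- the main claim
  have hYbM : Yb ≤ M₀.map (ffIota V) := by
    rw [hYb, map_le_iff_le_comap, hY]
    unfold thompsonSubgroup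
    apply sSup_le
    intro A hA
    rw [← map_le_iff_le_comap]
    by_cases hAC : A ≤ C
    · have : A.map (ffIota V) = ⊥ := by
        rw [Subgroup.map_eq_bot_iff, hker]; exact hAC
      rw [this]; exact bot_le
    have hAY : A ≤ Y := by
      rw [hY]
      exact le_sSup hA
    have hA2 : IsPGroup 2 A := Cfsg.Agent.Helper26.isPGroup_of_isElementaryAbelian hA.1
    obtain ⟨S₁, hS₁, hAS₁⟩ := exists_isSylowTwoIn_ge hA2 hAY
    obtain ⟨n, hnY, hS₁eq⟩ := isSylowTwoIn_conj hTY hS₁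
    obtain ⟨m, hm⟩ : ∃ m : X, m = n⁻¹ := ⟨_, rfl⟩
    have hmY : m ∈ Y := hm ▸ Y.inv_mem hnY
    obtain ⟨A', hA'⟩ : ∃ A' : Subgroup X, A' = A.map (MulAut.conj m).toMonoidHom := ⟨_, rfl⟩
    have hA'T : A' ≤ T := by
      rw [hA']
      refine (map_mono hAS₁).trans ?_
      rw [hS₁eq, map_conj_map_conj, hm, inv_mul_cancel, map_conj_one]
      exact inf_le_left
    have hA'max : A' ∈ maxEA 2 T := by
      refine ⟨hA'T, hA' ▸ Cfsg.Agent.Helper26.isElementaryAbelian_map _ hA.1, ?_⟩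
      intro F _ hF
      rw [hA', card_map_conj]
      exact hA.2 F hF
    obtain ⟨Ab, hAb⟩ : ∃ Ab : Subgroup (FFGamma V), Ab = A.map (ffIota V) := ⟨_, rfl⟩
    have hAbY : Ab ≤ Yb := by rw [hAb, hYb]; exact map_mono hAY
    have hbest : IsBestOffenderOn 2 (ffV V) Ab :=
      hAb ▸ isBestOffenderOn_map_ffIota V (Cfsg.Agent.S0606.result V hVel A hA)
    have hle := hS.le_sSup_minOffender _ Ab rfl hAbY hbest
    rw [← hAb]
    refine hle.trans (sSup_le ?_)
    rintro Bb ⟨hBA, hB⟩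
    have hBm : FFMin 2 (ffV V) Yb Bb := hB.ffMin hS (hBA.trans hAbY)
    have hιm : ffIota V m ∈ Yb := hYb ▸ ⟨m, hmY, rfl⟩
    have hιmN : ffIota V m ∈ normalizer (Yb : Set (FFGamma V)) := le_normalizer hιm
    have hιmV : ffIota V m ∈ normalizer ((ffV V : Subgroup (FFGamma V)) : Set (FFGamma V)) :=
      hS.hHV hιm
    obtain ⟨B'b, hB'b⟩ : ∃ B'b : Subgroup (FFGamma V),
        B'b = Bb.map (MulAut.conj (ffIota V m)).toMonoidHom := ⟨_, rfl⟩
    have hB'm : FFMin 2 (ffV V) Yb B'b := hB'b ▸ ffMin_map_conj hBm hιmN hιmV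
    have hB'A' : B'b ≤ A'.map (ffIota V) := by
      rw [hB'b, hA', map_conj_map_hom, ← hAb]
      exact map_mono hBA
    obtain ⟨bb, hbb, hbb1⟩ := exists_mem_ne_one_of_ne_bot hB'm.ne_bot
    obtain ⟨b', hb'A', rfl⟩ := hB'A' hbb
    have hB'z : B'b = zpowers (ffIota V b') :=
      (eq_zpowers_of_card_prime hB'm.hAp hbb hbb1).symm
    have hB'm2 := hB'm
    rw [hB'z, hYb, hY] at hB'm2
    obtain ⟨K, hKc, e, heK, hez⟩ := h.exists_jc_of_ffMin V hV hA'max hb'A' hB'm2
    rw [← hY, ← hYb, ← hB'z] at hez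
    have hE' : ffE 2 Yb B'b ≤ M₀.map (ffIota V) := by
      show ⁅ffQ 2 Yb, B'b⁆ ⊔ B'b ≤ _
      rw [← hez]
      apply sup_le
      · rw [zpowers_le]
        exact ⟨e, hK K hKc heK, rfl⟩
      · rw [hB'z, zpowers_le]
        refine ⟨b', hJM ?_, rfl⟩
        rw [hJ]
        exact le_thompsonSubgroupOf_of_mem_maxEA hA'max hb'A'
    have hEeq : ffE 2 Yb B'b = ffE 2 Yb Bb := by
      rw [hB'b, ← map_conj_ffE hιmN]
      exact Cfsg.Agent.Helper7.map_conj_eq_of_mem_normalizer (hS.le_normalizer_ffE hS3 hBm hιm)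
    rw [hEeq] at hE'
    exact (le_sup_right : Bb ≤ ffE 2 Yb Bb).trans hE'
  have hYM : Y ≤ M₀ := by
    have h1 : Y ≤ (Y.map (ffIota V)).comap (ffIota V) := le_comap_map _ _
    have h2 : Yb.comap (ffIota V) ≤ (M₀.map (ffIota V)).comap (ffIota V) := comap_mono hYbM
    rw [comap_map_eq, hker] at h2
    exact (hYb ▸ h1).trans (h2.trans (sup_le le_rfl hCM))
  -- Frattini
  have hTY2 : IsPGroup 2 ((T ⊓ Y).subgroupOf Y) := (h.hT2.to_le inf_le_left).comap_subtype
  have hidx : ¬ 2 ∣ ((T ⊓ Y).subgroupOf Y).index := fun hd =>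
    (Nat.not_even_iff_odd.mpr hTY.2.2) (even_iff_two_dvd.mpr hd)
  have hfr := Sylow.normalizer_sup_eq_top (hTY2.toSylow hidx)
  rw [hTY2.toSylow_coe hidx, map_subgroupOf_eq_of_le inf_le_right] at hfr
  have hNTY : normalizer ((T ⊓ Y : Subgroup X) : Set X) ≤ M₀ := by
    have hJeq : thompsonSubgroupOf 2 (T ⊓ Y) = thompsonSubgroupOf 2 T := by
      apply thompson_eq_of_le_of_le_conj 1 (le_inf h.J_le_T (hJ ▸ hJY))
      rw [map_conj_one]
      exact inf_le_left
    refine le_trans ?_ hNJ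
    rw [hJ, ← hJeq]
    exact normalizer_le_normalizer_thompsonSubgroupOf 2 _
  rw [eq_top_iff, ← hfr]
  exact sup_le hNTY hYM

end LocalBase

end Gen

section Outside

variable {G : Type*} [Group G] [Finite G]

/-- **S2949** -/
theorem outside_component (hL : IsCharacteristicTwoType G)
    (hN : ∀ N : Subgroup G, IsTwoLocal N → Group.IsSolvable ↥N)
    (hZ : ∀ S : Sylow 2 G, centralizer ((omegaCenterOf (S : Subgroup G) : Subgroup G) : Set G) ≤
      normalizer ((S : Subgroup G) : Set G))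
    (S : Sylow 2 G) {M T : Subgroup G}
    (hMJ : normalizer ((thompsonSubgroupOf 2 (S : Subgroup G) : Subgroup G) : Set G) ≤ M)
    (hT : T ∈ maxStraddlingTwoSubgroups M) : (jComponentsOutside M T).Nonempty := by
  obtain ⟨⟨hT2, hT1, hTM, L, hL2, hTL, hLM⟩, -⟩ := id hT
  obtain ⟨hov, -⟩ := straddle_main hL hN hZ S hMJ hT hL2 hLM hTL
  have hNJ := normalizer_thompson_le_of_maxStraddling S hMJ hT
  have hsolv : Group.IsSolvable ↥L := hN L hL2
  have hbase : LocalBase (T.subgroupOf L) := localBase_of_overgroup hZ hsolv hov.1 hov.2.2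
  have hJmap : (thompsonSubgroupOf 2 (T.subgroupOf L)).map L.subtype = thompsonSubgroupOf 2 T := by
    rw [← thompsonSubgroupOf_map L.subtype_injective, map_subgroupOf_eq_of_le hTL]
  -- a component outside `M`
  obtain ⟨K', hK', hK'M⟩ : ∃ K' : Subgroup ↥L, IsJComponent (T.subgroupOf L) K' ∧
      ¬ K'.map L.subtype ≤ M := by
    by_contra hcon
    push Not at hcon
    apply hLM
    have htop : M.subgroupOf L = ⊤ := by
      apply hbase.eq_top_of_components_le
      · change _ ≤ M.comap L.subtype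
        rw [← map_le_iff_le_comap]
        refine (le_normalizer_map L.subtype).trans ?_
        rw [hJmap]
        exact hNJ
      · intro K' hK'
        change _ ≤ M.comap L.subtype
        rw [← map_le_iff_le_comap]
        exact hcon K' hK'
    exact subgroupOf_eq_top.mp htop
  obtain ⟨K, hKdef⟩ : ∃ K : Subgroup G, K = K'.map L.subtype := ⟨_, rfl⟩
  rw [← hKdef] at hK'M
  have hKL : K ≤ L := hKdef ▸ map_subtype_le _
  have hKc : IsJComponent T K := by
    have := (isJComponent_map_iff L.subtype_injective).mpr hK'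
    rwa [map_subgroupOf_eq_of_le hTL, ← hKdef] at this
  refine ⟨K, ⟨hKc, ?_⟩, hK'M, ?_⟩
  · -- `K ∈ jComponentsZero T`
    intro S' hJS' hS'
    have hW1 : wOf K ≠ ⊥ := by
      intro hbot
      have := jc_card_wOf hKc
      rw [hbot, Subgroup.card_bot] at this
      norm_num at this
    have hL2' : IsTwoLocal (normalizer ((wOf K : Subgroup G) : Set G)) :=
      ⟨wOf K, wOf_isPGroup K, hW1, rfl⟩
    have hL'M : ¬ normalizer ((wOf K : Subgroup G) : Set G) ≤ M := fun hle =>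
      hK'M ((le_normalizer.trans (normalizer_le_normalizer_wOf K)).trans hle)
    exact (straddle_partA hL S hMJ hT hL2' hL'M hS' hJS').1
  · -- `O₂(⟨K, T⟩) ≠ 1`
    have hP1 : pCoreOf 2 L ≠ ⊥ := by
      intro hbot
      apply hov.2.1
      have h1 := hov.2.2
      rw [hbot] at h1 ⊢
      refine le_trans ?_ h1
      intro x _
      rw [mem_centralizer_iff]
      intro y hy
      rw [SetLike.mem_coe, mem_bot] at hy
      rw [hy, one_mul, mul_one]
    have hle : pCoreOf 2 L ≤ pCoreOf 2 (K ⊔ T) := by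
      apply Cfsg.Agent.Helper14.le_pCoreOf 2 ((pCoreOf_le_of_isSylowTwoIn hov.1).trans le_sup_right)
        _ (Cfsg.Agent.Helper14.pCoreOf_isPGroup 2 L)
      exact (sup_le hKL hTL).trans (Cfsg.Agent.Helper14.le_normalizer_pCoreOf 2 L)
    intro hbot
    apply hP1
    rw [eq_bot_iff, ← hbot]
    exact hle

end Outside

end Cfsg.Agent.Helper15.JComp
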