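import Cfsg.Agent.Helper15.JComp1

/-!
# J-components, part 2: basic structure of a `J(T)`-component `K`

With `J = J(T)`, `R = O₂(K)`, `W = W_K`, `X = ⟨K, J⟩`:
`J ≤ N(K)`, `W ≤ Ω₁Z(R)`, `C_K(W) = R`, `J ≰ C(W)`, index three facts.
-/

set_option autoImplicit false

namespace Cfsg.Agent.Helper15.JComp

open Cfsg Subgroup
open scoped commutatorElement

variable {G : Type*} [Group G]

/-! ### subgroups of index three -/

section IndexThree

variable {R K : Subgroup G}

theorem pow_three_mem (hRK : R ≤ K) (hn : K ≤ normalizer (R : Set G)) (h3 : R.relIndex K = 3)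
    {k : G} (hk : k ∈ K) : k ^ 3 ∈ R := by
  have : (R.subgroupOf K).Normal := (normal_subgroupOf_iff_le_normalizer hRK).2 hn
  have hcard : Nat.card (↥K ⧸ R.subgroupOf K) = 3 := by
    rw [← Subgroup.index_eq_card]; exact h3
  have h1 : ((⟨k, hk⟩ : K) : ↥K ⧸ R.subgroupOf K) ^ 3 = 1 := by
    rw [← hcard]; exact pow_card_eq_one'
  rw [← QuotientGroup.mk_pow, QuotientGroup.eq_one_iff, mem_subgroupOf] at h1
  simpa using h1

theorem exists_zpow_mul (hRK : R ≤ K) (hn : K ≤ normalizer (R : Set G)) (h3 : R.relIndex K = 3)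
    {d : G} (hd : d ∈ K) (hdR : d ∉ R) {k : G} (hk : k ∈ K) :
    ∃ n : ℤ, ∃ r ∈ R, k = d ^ n * r := by
  have : (R.subgroupOf K).Normal := (normal_subgroupOf_iff_le_normalizer hRK).2 hn
  have : Fact (Nat.Prime 3) := ⟨Nat.prime_three⟩
  have hcard : Nat.card (↥K ⧸ R.subgroupOf K) = 3 := by
    rw [← Subgroup.index_eq_card]; exact h3
  have hne : ((⟨d, hd⟩ : K) : ↥K ⧸ R.subgroupOf K) ≠ 1 := by
    rw [Ne, QuotientGroup.eq_one_iff, mem_subgroupOf]
    exact hdR
  have hmem : ((⟨k, hk⟩ : K) : ↥K ⧸ R.subgroupOf K) ∈ zpowers ((⟨d, hd⟩ : K) : ↥K ⧸ R.subgroupOf K) :=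
    mem_zpowers_of_prime_card hcard hne
  obtain ⟨n, hn'⟩ := hmem
  have h1 : (((⟨d, hd⟩ : K) ^ n : K) : ↥K ⧸ R.subgroupOf K) = ((⟨k, hk⟩ : K) : ↥K ⧸ R.subgroupOf K) := by
    rw [QuotientGroup.mk_zpow]; exact hn'
  rw [QuotientGroup.eq, mem_subgroupOf] at h1
  refine ⟨n, _, h1, ?_⟩
  simp only [coe_mul, coe_inv, SubgroupClass.coe_zpow]
  group

end IndexThree

/-! ### the pieces attached to a subgroup `K` -/

theorem normalizer_le_normalizer_pCoreOf (p : ℕ) (K : Subgroup G) :
    normalizer (K : Set G) ≤ normalizer ((pCoreOf p K : Subgroup G) : Set G) := by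
  intro g hg
  have h := Cfsg.Agent.Helper14.pCoreOf_map_conj p K g
  rw [map_conj_eq_of_mem_normalizer hg] at h
  exact Subgroup.mem_normalizer_iff_map_conj_eq.mpr h.symm

/-- `K` normalizes `Ω₁Z(O₂(K))`. -/
theorem le_normalizer_omegaCenterOf_pCoreOf (K : Subgroup G) :
    normalizer (K : Set G) ≤ normalizer ((omegaCenterOf (pCoreOf 2 K) : Subgroup G) : Set G) :=
  (normalizer_le_normalizer_pCoreOf 2 K).trans (normalizer_le_normalizer_omegaCenterOf _)

theorem wOf_le_omegaCenterOf (K : Subgroup G) : wOf K ≤ omegaCenterOf (pCoreOf 2 K) := by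
  unfold wOf
  rw [Subgroup.commutator_le]
  intro ω hω k hk
  have hkN : k ∈ normalizer ((omegaCenterOf (pCoreOf 2 K) : Subgroup G) : Set G) :=
    le_normalizer_omegaCenterOf_pCoreOf K (le_normalizer hk)
  have h1 : k * ω⁻¹ * k⁻¹ ∈ omegaCenterOf (pCoreOf 2 K) :=
    conj_mem_of_mem_normalizer hkN (inv_mem hω)
  have e : ⁅ω, k⁆ = ω * (k * ω⁻¹ * k⁻¹) := by
    simp only [commutatorElement_def]; group
  rw [e]
  exact mul_mem hω h1

theorem wOf_le_pCoreOf (K : Subgroup G) : wOf K ≤ pCoreOf 2 K :=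
  (wOf_le_omegaCenterOf K).trans ((omegaCenterOf_le _).trans inf_le_left)

theorem wOf_le (K : Subgroup G) : wOf K ≤ K :=
  (wOf_le_pCoreOf K).trans (Cfsg.Agent.Helper14.pCoreOf_le 2 K)

theorem pCoreOf_le_centralizer_wOf (K : Subgroup G) :
    pCoreOf 2 K ≤ centralizer ((wOf K : Subgroup G) : Set G) := by
  rw [le_centralizer_iff]
  exact (wOf_le_omegaCenterOf K).trans ((omegaCenterOf_le _).trans inf_le_right)

theorem pCoreOf_le_centralizer_omegaCenterOf (K : Subgroup G) :
    pCoreOf 2 K ≤ centralizer ((omegaCenterOf (pCoreOf 2 K) : Subgroup G) : Set G) := by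
  rw [le_centralizer_iff]
  exact (omegaCenterOf_le _).trans inf_le_right

theorem normalizer_le_normalizer_wOf (K : Subgroup G) :
    normalizer (K : Set G) ≤ normalizer ((wOf K : Subgroup G) : Set G) := by
  unfold wOf
  refine le_trans ?_ le_normalizer_commutator
  exact le_inf (le_normalizer_omegaCenterOf_pCoreOf K) le_rfl

/-! ### J-components -/

section JC

variable [Finite G] {T K : Subgroup G}

theorem jc_thompson_le_normalizer (hK : IsJComponent T K) :
    thompsonSubgroupOf 2 T ≤ normalizer (K : Set G) := by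
  have := Cfsg.Agent.S2941.right_le_normalizer_commutator K (thompsonSubgroupOf 2 T)
  rwa [hK.2.1] at this

theorem jc_relIndex (hK : IsJComponent T K) : (pCoreOf 2 K).relIndex K = 3 := hK.2.2.1

theorem jc_card_wOf (hK : IsJComponent T K) : Nat.card (wOf K) = 4 := hK.2.2.2.2.1

theorem jc_wOf_sq (hK : IsJComponent T K) {w : G} (hw : w ∈ wOf K) : w * w = 1 :=
  hK.2.2.2.2.2 w hw

theorem jc_wOf_inv (hK : IsJComponent T K) {w : G} (hw : w ∈ wOf K) : w⁻¹ = w :=
  inv_eq_of_mul_eq_one_left ((jc_wOf_sq hK) hw)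

theorem jc_wOf_comm (hK : IsJComponent T K) {a b : G} (ha : a ∈ wOf K) (hb : b ∈ wOf K) :
    a * b = b * a := by
  have h1 := (jc_wOf_inv hK) (mul_mem ha hb)
  rw [mul_inv_rev, (jc_wOf_inv hK) ha, (jc_wOf_inv hK) hb] at h1
  exact h1.symm

theorem jc_wOf_isElementaryAbelian (hK : IsJComponent T K) :
    IsElementaryAbelian 2 (wOf K) := by
  rw [Cfsg.Agent.Helper26.isElementaryAbelian_iff]
  refine ⟨fun a ha b hb => (jc_wOf_comm hK) ha hb, fun a ha => ?_⟩
  rw [pow_two]; exact (jc_wOf_sq hK) ha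

theorem jc_wOf_le_centralizer_wOf (hK : IsJComponent T K) :
    wOf K ≤ centralizer ((wOf K : Subgroup G) : Set G) := by
  intro a ha
  rw [mem_centralizer_iff]
  intro b hb
  exact (jc_wOf_comm hK) hb ha

/-- `C_K(W) = R`. -/
theorem jc_mem_pCoreOf_of_mem_centralizer_wOf (hK : IsJComponent T K) {d : G} (hd : d ∈ K)
    (hc : d ∈ centralizer ((wOf K : Subgroup G) : Set G)) : d ∈ pCoreOf 2 K := by
  by_contra hdR
  have hRK := Cfsg.Agent.Helper14.pCoreOf_le 2 K
  have hn := Cfsg.Agent.Helper14.le_normalizer_pCoreOf 2 K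
  -- `d` centralizes `Ω`
  have hdΩ : d ∈ centralizer ((omegaCenterOf (pCoreOf 2 K) : Subgroup G) : Set G) := by
    rw [mem_centralizer_iff]
    intro ω hω
    -- u = d ω d⁻¹ ω⁻¹ ∈ W
    have hu : d * ω * d⁻¹ * ω⁻¹ ∈ wOf K := by
      have h1 : ⁅ω, d⁆ ∈ wOf K := commutator_mem_commutator hω hd
      have e : d * ω * d⁻¹ * ω⁻¹ = (⁅ω, d⁆)⁻¹ := by
        simp only [commutatorElement_def]; group
      rw [e]; exact inv_mem h1
    have hdu : (d * ω * d⁻¹ * ω⁻¹) * d = d * (d * ω * d⁻¹ * ω⁻¹) := mem_centralizer_iff.mp hc _ hu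
    have huu := (jc_wOf_sq hK) hu
    -- d² commutes with ω
    have h2 : (d * d) * ω = ω * (d * d) := by
      have e1 : (d * d) * ω * (d * d)⁻¹ = (d * (d * ω * d⁻¹ * ω⁻¹) * d⁻¹) * (d * ω * d⁻¹ * ω⁻¹) * ω := by
        group
      have e2 : d * (d * ω * d⁻¹ * ω⁻¹) * d⁻¹ = d * ω * d⁻¹ * ω⁻¹ := by
        rw [← hdu]; group
      rw [e2, huu, one_mul] at e1
      calc (d * d) * ω = (d * d) * ω * (d * d)⁻¹ * (d * d) := by group
        _ = ω * (d * d) := by rw [e1]
    -- d³ commutes with ω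
    have h3 : (d * d * d) * ω = ω * (d * d * d) := by
      have hd3 : d ^ 3 ∈ pCoreOf 2 K := pow_three_mem hRK hn (jc_relIndex hK) hd
      have e3 : d ^ 3 = d * d * d := by rw [pow_succ, pow_two]
      rw [e3] at hd3
      exact (mem_centralizer_iff.mp (pCoreOf_le_centralizer_omegaCenterOf K hd3) ω hω).symm
    have e : d = (d * d * d) * (d * d)⁻¹ := by group
    have h2' : (d * d)⁻¹ * ω = ω * (d * d)⁻¹ := by
      calc (d * d)⁻¹ * ω = (d * d)⁻¹ * (ω * (d * d)) * (d * d)⁻¹ := by group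
        _ = (d * d)⁻¹ * ((d * d) * ω) * (d * d)⁻¹ := by rw [h2]
        _ = ω * (d * d)⁻¹ := by group
    calc ω * d = ω * ((d * d * d) * (d * d)⁻¹) := by rw [← e]
      _ = (ω * (d * d * d)) * (d * d)⁻¹ := by group
      _ = ((d * d * d) * ω) * (d * d)⁻¹ := by rw [h3]
      _ = (d * d * d) * (ω * (d * d)⁻¹) := by group
      _ = (d * d * d) * ((d * d)⁻¹ * ω) := by rw [h2']
      _ = ((d * d * d) * (d * d)⁻¹) * ω := by group
      _ = d * ω := by rw [← e]
  have hKΩ : K ≤ centralizer ((omegaCenterOf (pCoreOf 2 K) : Subgroup G) : Set G) := by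
    intro k hk
    obtain ⟨n, r, hr, rfl⟩ := exists_zpow_mul hRK hn (jc_relIndex hK) hd hdR hk
    exact mul_mem (zpow_mem hdΩ n) (pCoreOf_le_centralizer_omegaCenterOf K hr)
  have hW : wOf K = ⊥ := by
    unfold wOf
    rw [commutator_eq_bot_iff_le_centralizer, le_centralizer_iff]
    exact hKΩ
  have := (jc_card_wOf hK)
  rw [hW, Subgroup.card_bot] at this
  norm_num at this

/-- `J(T)` does not centralize `W`. -/
theorem jc_thompson_not_le_centralizer_wOf (hK : IsJComponent T K) :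
    ¬ thompsonSubgroupOf 2 T ≤ centralizer ((wOf K : Subgroup G) : Set G) := by
  intro hJ
  have hKW : K ≤ centralizer ((wOf K : Subgroup G) : Set G) := by
    conv_lhs => rw [← hK.2.1]
    rw [Subgroup.commutator_le]
    intro k hk j hj
    have hkN : k ∈ normalizer ((wOf K : Subgroup G) : Set G) :=
      normalizer_le_normalizer_wOf K (le_normalizer hk)
    have h1 : k * j * k⁻¹ ∈ centralizer ((wOf K : Subgroup G) : Set G) :=
      conj_mem_centralizer hkN (hJ hj)
    have e : ⁅k, j⁆ = (k * j * k⁻¹) * j⁻¹ := by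
      simp only [commutatorElement_def]
    rw [e]
    exact mul_mem h1 (inv_mem (hJ hj))
  have hKR : K ≤ pCoreOf 2 K := fun k hk => (jc_mem_pCoreOf_of_mem_centralizer_wOf hK) hk (hKW hk)
  have h1 : (pCoreOf 2 K).relIndex K = 1 := relIndex_eq_one.mpr hKR
  rw [(jc_relIndex hK)] at h1
  norm_num at h1

/-- there is an element of `K` outside `O₂(K)` -/
theorem jc_exists_not_mem_pCoreOf (hK : IsJComponent T K) : ∃ k ∈ K, k ∉ pCoreOf 2 K := by
  by_contra h
  push Not at h
  have h1 : (pCoreOf 2 K).relIndex K = 1 := relIndex_eq_one.mpr h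
  rw [(jc_relIndex hK)] at h1
  norm_num at h1

/-- elements of `K` outside `O₂(K)` fix no nonidentity element of `W` -/
theorem jc_eq_one_of_commute (hK : IsJComponent T K) {k : G} (hk : k ∈ K)
    (hkR : k ∉ pCoreOf 2 K) {w : G} (hw : w ∈ wOf K) (hc : k * w = w * k) : w = 1 := by
  by_contra hw1
  have hRK := Cfsg.Agent.Helper14.pCoreOf_le 2 K
  have hn := Cfsg.Agent.Helper14.le_normalizer_pCoreOf 2 K
  have hkN : k ∈ normalizer ((wOf K : Subgroup G) : Set G) :=
    normalizer_le_normalizer_wOf K (le_normalizer hk)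
  -- F = C_W(k)
  set F : Subgroup G := wOf K ⊓ centralizer ({k} : Set G) with hF
  have hwF : w ∈ F := by
    refine ⟨hw, ?_⟩
    show w ∈ centralizer ({k} : Set G)
    rw [mem_centralizer_iff]
    intro y hy
    have hy' : y = k := hy
    rw [hy']
    exact hc
  have hFW : F ≤ wOf K := inf_le_left
  have hnle : ¬ wOf K ≤ F := by
    intro h
    apply hkR
    apply (jc_mem_pCoreOf_of_mem_centralizer_wOf hK) hk
    rw [mem_centralizer_iff]
    intro v hv
    exact (mem_centralizer_iff.mp (h hv).2 k rfl).symm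
  have hF2 : Nat.card F ≤ 2 := card_le_two_of_lt (jc_card_wOf hK) hFW hnle
  have hF2' : Nat.card F = 2 := by
    have h1 : Nat.card F ≠ 1 := by
      intro h1
      rw [Subgroup.card_eq_one] at h1
      rw [h1, mem_bot] at hwF
      exact hw1 hwF
    have h0 : Nat.card F ≠ 0 := Nat.card_pos.ne'
    omega
  -- k² centralizes W
  have hk2 : k * k ∈ centralizer ((wOf K : Subgroup G) : Set G) := by
    rw [mem_centralizer_iff]
    intro v hv
    by_cases hvF : v ∈ F
    · have h1 : k * v = v * k := (mem_centralizer_iff.mp hvF.2 k rfl)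
      calc v * (k * k) = (v * k) * k := by group
        _ = (k * v) * k := by rw [h1]
        _ = k * (v * k) := by group
        _ = k * (k * v) := by rw [h1]
        _ = (k * k) * v := by group
    · have hkv : k * v * k⁻¹ ∈ wOf K := conj_mem_of_mem_normalizer hkN hv
      have hkvF : k * v * k⁻¹ ∉ F := by
        intro h
        apply hvF
        refine ⟨hv, ?_⟩
        show v ∈ centralizer ({k} : Set G)
        rw [mem_centralizer_iff]
        intro y hy
        have hy' : y = k := hy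
        rw [hy']
        have h2 : k * (k * v * k⁻¹) = (k * v * k⁻¹) * k := mem_centralizer_iff.mp h.2 k rfl
        have : k * (k * v) = k * (v * k) := by
          calc k * (k * v) = (k * (k * v * k⁻¹)) * k := by group
            _ = ((k * v * k⁻¹) * k) * k := by rw [h2]
            _ = k * (v * k) := by group
        exact (mul_left_cancel this)
      have hvinv : v⁻¹ ∉ F := fun h => hvF (by simpa using inv_mem h)
      have hf : v⁻¹ * (k * v * k⁻¹) ∈ F :=
        mul_mem_of_card_four (jc_card_wOf hK) hF2' hFW (inv_mem hv) hkv hvinv hkvF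
      obtain ⟨f, hfdef⟩ : ∃ f, f = v⁻¹ * (k * v * k⁻¹) := ⟨_, rfl⟩
      rw [← hfdef] at hf
      have hkf : k * f = f * k := (mem_centralizer_iff.mp hf.2 k rfl)
      have hff : f * f = 1 := (jc_wOf_sq hK) hf.1
      have e1 : k * v * k⁻¹ = v * f := by rw [hfdef]; group
      have e2 : (k * k) * v * (k * k)⁻¹ = v := by
        calc (k * k) * v * (k * k)⁻¹ = k * (k * v * k⁻¹) * k⁻¹ := by group
          _ = k * (v * f) * k⁻¹ := by rw [e1]
          _ = (k * v * k⁻¹) * (k * f) * k⁻¹ := by group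
          _ = (v * f) * (f * k) * k⁻¹ := by rw [e1, hkf]
          _ = v * (f * f) := by group
          _ = v := by rw [hff, mul_one]
      calc v * (k * k) = ((k * k) * v * (k * k)⁻¹) * (k * k) := by rw [e2]
        _ = (k * k) * v := by group
  have hk2R : k * k ∈ pCoreOf 2 K :=
    (jc_mem_pCoreOf_of_mem_centralizer_wOf hK) (mul_mem hk hk) hk2
  have hk3R : k ^ 3 ∈ pCoreOf 2 K := pow_three_mem hRK hn (jc_relIndex hK) hk
  have e3 : k ^ 3 = k * k * k := by rw [pow_succ, pow_two]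
  rw [e3] at hk3R
  apply hkR
  have e : k = (k * k * k) * (k * k)⁻¹ := by group
  rw [e]
  exact mul_mem hk3R (inv_mem hk2R)

end JC

end Cfsg.Agent.Helper15.JComp
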