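import Cfsg.Agent.Helper15.JComp2

/-!
# J-components, part 3: the Sylow subgroup `S = O₂(K) J(T)` of `X = ⟨K, J(T)⟩`,
Thompson replacement, and generation `X = ⟨J, d⟩`.
-/

set_option autoImplicit false

namespace Cfsg.Agent.Helper15.JComp

open Cfsg Subgroup
open scoped commutatorElement

variable {G : Type*} [Group G] [Finite G] {T K : Subgroup G}

theorem thompson_isPGroup (hT : IsPGroup 2 T) : IsPGroup 2 (thompsonSubgroupOf 2 T) :=
  hT.to_le (Cfsg.Agent.S2941.thompsonSubgroupOf_le 2 T)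

theorem wOf_isPGroup (K : Subgroup G) : IsPGroup 2 (wOf K) :=
  (Cfsg.Agent.Helper14.pCoreOf_isPGroup 2 K).to_le (wOf_le_pCoreOf K)

theorem jc_thompson_le_normalizer_wOf (hK : IsJComponent T K) :
    thompsonSubgroupOf 2 T ≤ normalizer ((wOf K : Subgroup G) : Set G) :=
  (jc_thompson_le_normalizer hK).trans (normalizer_le_normalizer_wOf K)

theorem jc_sup_le_normalizer_wOf (hK : IsJComponent T K) :
    K ⊔ thompsonSubgroupOf 2 T ≤ normalizer ((wOf K : Subgroup G) : Set G) :=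
  sup_le (le_normalizer.trans (normalizer_le_normalizer_wOf K)) (jc_thompson_le_normalizer_wOf hK)

/-- `C_W(J)` has order two. -/
theorem jc_card_fix (hT : IsPGroup 2 T) (hK : IsJComponent T K) :
    Nat.card ↥(wOf K ⊓ centralizer ((thompsonSubgroupOf 2 T : Subgroup G) : Set G)) = 2 := by
  have : Fact (Nat.Prime 2) := ⟨Nat.prime_two⟩
  set J := thompsonSubgroupOf 2 T with hJ
  set W := wOf K with hW
  have hJ2 : IsPGroup 2 J := thompson_isPGroup hT
  have hW2 : IsPGroup 2 W := wOf_isPGroup K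
  have hJW : J ≤ normalizer (W : Set G) := jc_thompson_le_normalizer_wOf hK
  have hM2 : IsPGroup 2 (J ⊔ W : Subgroup G) := IsPGroup.to_sup_of_normal_right' hJ2 hW2 hJW
  have hWM : W ≤ J ⊔ W := le_sup_right
  have hMN : J ⊔ W ≤ normalizer (W : Set G) := sup_le hJW le_normalizer
  have : (W.subgroupOf (J ⊔ W)).Normal := (normal_subgroupOf_iff_le_normalizer hWM).2 hMN
  have hne : W.subgroupOf (J ⊔ W) ≠ ⊥ := by
    intro h
    rw [subgroupOf_eq_bot, disjoint_iff, inf_of_le_left hWM] at h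
    have := jc_card_wOf hK
    rw [← hW, h, Subgroup.card_bot] at this
    norm_num at this
  obtain ⟨z, hzN, hz1, hzc⟩ :=
    Cfsg.Agent.Helper10.exists_ne_one_mem_inf_center hM2 (W.subgroupOf (J ⊔ W)) hne
  have hzW : (z : G) ∈ W := hzN
  have hzJ : (z : G) ∈ centralizer ((J : Subgroup G) : Set G) := by
    rw [mem_centralizer_iff]
    intro j hj
    rw [mem_center_iff] at hzc
    have := hzc ⟨j, mem_sup_left hj⟩
    exact congrArg Subtype.val this
  have hz1' : (z : G) ≠ 1 := fun h => hz1 (Subtype.ext h)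
  have hFW : W ⊓ centralizer ((J : Subgroup G) : Set G) ≤ W := inf_le_left
  have hnle : ¬ W ≤ W ⊓ centralizer ((J : Subgroup G) : Set G) := by
    intro h
    apply jc_thompson_not_le_centralizer_wOf hK
    rw [le_centralizer_iff]
    exact h.trans inf_le_right
  have h2 := card_le_two_of_lt (jc_card_wOf hK) hFW hnle
  have h1 : Nat.card ↥(W ⊓ centralizer ((J : Subgroup G) : Set G)) ≠ 1 := by
    intro h1
    rw [Subgroup.card_eq_one] at h1
    have : (z : G) ∈ W ⊓ centralizer ((J : Subgroup G) : Set G) := ⟨hzW, hzJ⟩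
    rw [h1, mem_bot] at this
    exact hz1' this
  have h0 : Nat.card ↥(W ⊓ centralizer ((J : Subgroup G) : Set G)) ≠ 0 := Nat.card_pos.ne'
  omega

/-- two elements of `J` not centralizing `W` have product centralizing `W` -/
theorem jc_mul_mem_centralizer (hT : IsPGroup 2 T) (hK : IsJComponent T K) {j j' : G}
    (hj : j ∈ thompsonSubgroupOf 2 T) (hj' : j' ∈ thompsonSubgroupOf 2 T)
    (hjc : j ∉ centralizer ((wOf K : Subgroup G) : Set G))
    (hjc' : j' ∉ centralizer ((wOf K : Subgroup G) : Set G)) :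
    j * j' ∈ centralizer ((wOf K : Subgroup G) : Set G) := by
  set J := thompsonSubgroupOf 2 T with hJ
  set W := wOf K with hW
  set F := W ⊓ centralizer ((J : Subgroup G) : Set G) with hF
  have hF2 : Nat.card F = 2 := jc_card_fix hT hK
  have hW4 : Nat.card W = 4 := jc_card_wOf hK
  have hFW : F ≤ W := inf_le_left
  have hJW : J ≤ normalizer (W : Set G) := jc_thompson_le_normalizer_wOf hK
  -- elements of J commute with elements of F
  have hcomm : ∀ x ∈ J, ∀ f ∈ F, x * f = f * x := fun x hx f hf =>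
    mem_centralizer_iff.mp hf.2 x hx
  -- pick v₀ ∈ W \ F
  obtain ⟨v₀, hv₀W, hv₀F⟩ : ∃ v ∈ W, v ∉ F := by
    by_contra h
    push Not at h
    have : Nat.card W ≤ Nat.card F := Subgroup.card_le_of_le h
    omega
  have hv₀inv : v₀⁻¹ ∉ F := fun h => hv₀F (by simpa using inv_mem h)
  -- Claim A: an element of J commuting with v₀ centralizes W
  have claimA : ∀ x ∈ J, x * v₀ = v₀ * x → x ∈ centralizer ((W : Subgroup G) : Set G) := by
    intro x hx hxv
    rw [mem_centralizer_iff]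
    intro v hv
    by_cases hvF : v ∈ F
    · exact (hcomm x hx v hvF).symm
    · have hf : v₀⁻¹ * v ∈ F := mul_mem_of_card_four hW4 hF2 hFW (inv_mem hv₀W) hv hv₀inv hvF
      have hxf := hcomm x hx _ hf
      have e : v = v₀ * (v₀⁻¹ * v) := by group
      rw [e]
      calc v₀ * (v₀⁻¹ * v) * x = v₀ * ((v₀⁻¹ * v) * x) := by group
        _ = v₀ * (x * (v₀⁻¹ * v)) := by rw [hxf]
        _ = (v₀ * x) * (v₀⁻¹ * v) := by group
        _ = (x * v₀) * (v₀⁻¹ * v) := by rw [hxv]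
        _ = x * (v₀ * (v₀⁻¹ * v)) := by group
  -- φ(x) = v₀⁻¹ (x v₀ x⁻¹) ∈ F, nontrivial if x does not centralize W
  have hφ : ∀ x ∈ J, x ∉ centralizer ((W : Subgroup G) : Set G) →
      v₀⁻¹ * (x * v₀ * x⁻¹) ∈ F ∧ v₀⁻¹ * (x * v₀ * x⁻¹) ≠ 1 := by
    intro x hx hxc
    have hxv : x * v₀ * x⁻¹ ∈ W := conj_mem_of_mem_normalizer (hJW hx) hv₀W
    have hxvF : x * v₀ * x⁻¹ ∉ F := by
      intro h
      apply hv₀F
      have h1 : x⁻¹ * (x * v₀ * x⁻¹) = (x * v₀ * x⁻¹) * x⁻¹ := hcomm x⁻¹ (inv_mem hx) _ h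
      have e : v₀ = x⁻¹ * (x * v₀ * x⁻¹) * x := by group
      rw [e, h1]
      have e2 : x * v₀ * x⁻¹ * x⁻¹ * x = x * v₀ * x⁻¹ := by group
      rw [e2]
      exact h
    refine ⟨mul_mem_of_card_four hW4 hF2 hFW (inv_mem hv₀W) hxv hv₀inv hxvF, ?_⟩
    intro h1
    apply hxc
    apply claimA x hx
    have : x * v₀ * x⁻¹ = v₀ := by
      calc x * v₀ * x⁻¹ = v₀ * (v₀⁻¹ * (x * v₀ * x⁻¹)) := by group
        _ = v₀ := by rw [h1, mul_one]
    calc x * v₀ = (x * v₀ * x⁻¹) * x := by group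
      _ = v₀ * x := by rw [this]
  obtain ⟨hφj, hφj1⟩ := hφ j hj hjc
  obtain ⟨hφj', hφj'1⟩ := hφ j' hj' hjc'
  -- the two nonidentity elements of F agree
  have heq : v₀⁻¹ * (j * v₀ * j⁻¹) = v₀⁻¹ * (j' * v₀ * j'⁻¹) := by
    obtain ⟨y, -, hy⟩ := (Nat.card_eq_two_iff' (1 : F)).mp hF2
    have h1 := hy ⟨_, hφj⟩ (fun h => hφj1 (congrArg Subtype.val h))
    have h2 := hy ⟨_, hφj'⟩ (fun h => hφj'1 (congrArg Subtype.val h))
    exact congrArg Subtype.val (h1.trans h2.symm)
  have hsq := jc_wOf_sq hK hφj.1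
  apply claimA (j * j') (mul_mem hj hj')
  -- (j j') v₀ (j j')⁻¹ = v₀
  have e1 : j' * v₀ * j'⁻¹ = v₀ * (v₀⁻¹ * (j' * v₀ * j'⁻¹)) := by group
  have hjf := hcomm j hj _ hφj'
  have key : (j * j') * v₀ * (j * j')⁻¹ = v₀ := by
    calc (j * j') * v₀ * (j * j')⁻¹ = j * (j' * v₀ * j'⁻¹) * j⁻¹ := by group
      _ = j * (v₀ * (v₀⁻¹ * (j' * v₀ * j'⁻¹))) * j⁻¹ := by rw [← e1]
      _ = (j * v₀ * j⁻¹) * (j * (v₀⁻¹ * (j' * v₀ * j'⁻¹))) * j⁻¹ := by group
      _ = (j * v₀ * j⁻¹) * ((v₀⁻¹ * (j' * v₀ * j'⁻¹)) * j) * j⁻¹ := by rw [hjf]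
      _ = v₀ * ((v₀⁻¹ * (j * v₀ * j⁻¹)) * (v₀⁻¹ * (j' * v₀ * j'⁻¹))) := by group
      _ = v₀ * ((v₀⁻¹ * (j * v₀ * j⁻¹)) * (v₀⁻¹ * (j * v₀ * j⁻¹))) := by rw [← heq]
      _ = v₀ := by rw [hsq, mul_one]
  calc (j * j') * v₀ = ((j * j') * v₀ * (j * j')⁻¹) * (j * j') := by group
    _ = v₀ * (j * j') := by rw [key]

/-! ### The Sylow subgroup `S = R J` of `X = K J` -/

theorem jc_thompson_le_normalizer_pCoreOf (hK : IsJComponent T K) :
    thompsonSubgroupOf 2 T ≤ normalizer ((pCoreOf 2 K : Subgroup G) : Set G) :=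
  (jc_thompson_le_normalizer hK).trans (normalizer_le_normalizer_pCoreOf 2 K)

theorem jc_S_isPGroup (hT : IsPGroup 2 T) (hK : IsJComponent T K) :
    IsPGroup 2 (pCoreOf 2 K ⊔ thompsonSubgroupOf 2 T : Subgroup G) := by
  rw [sup_comm]
  exact IsPGroup.to_sup_of_normal_right' (thompson_isPGroup hT)
    (Cfsg.Agent.Helper14.pCoreOf_isPGroup 2 K) (jc_thompson_le_normalizer_pCoreOf hK)

theorem jc_inf_S (hT : IsPGroup 2 T) (hK : IsJComponent T K) :
    K ⊓ (pCoreOf 2 K ⊔ thompsonSubgroupOf 2 T) = pCoreOf 2 K := by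
  have hRK := Cfsg.Agent.Helper14.pCoreOf_le 2 K
  apply le_antisymm
  · set D := K ⊓ (pCoreOf 2 K ⊔ thompsonSubgroupOf 2 T) with hD
    have hRD : pCoreOf 2 K ≤ D := le_inf hRK le_sup_left
    have hDK : D ≤ K := inf_le_left
    have hD2 : IsPGroup 2 D := (jc_S_isPGroup hT hK).to_le inf_le_right
    have h1 := relIndex_mul_relIndex _ _ _ hRD hDK
    rw [jc_relIndex hK] at h1
    have hdvd3 : (pCoreOf 2 K).relIndex D ∣ 3 := Dvd.intro _ h1
    obtain ⟨a, ha⟩ := IsPGroup.iff_card.mp hD2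
    have hdvd2 : (pCoreOf 2 K).relIndex D ∣ 2 ^ a := ha ▸ relIndex_dvd_card (pCoreOf 2 K) D
    have hcop : Nat.Coprime (2 ^ a) 3 := Nat.Coprime.pow_left a (by norm_num)
    have hone : (pCoreOf 2 K).relIndex D = 1 := Nat.eq_one_of_dvd_coprimes hcop hdvd2 hdvd3
    exact relIndex_eq_one.mp hone
  · exact le_inf hRK le_sup_left

theorem jc_isSylowTwoIn (hT : IsPGroup 2 T) (hK : IsJComponent T K) :
    IsSylowTwoIn (pCoreOf 2 K ⊔ thompsonSubgroupOf 2 T) (K ⊔ thompsonSubgroupOf 2 T) := by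
  have hRK := Cfsg.Agent.Helper14.pCoreOf_le 2 K
  set J := thompsonSubgroupOf 2 T with hJ
  set R := pCoreOf 2 K with hR
  have hSX : R ⊔ J ≤ K ⊔ J := sup_le (hRK.trans le_sup_left) le_sup_right
  refine ⟨hSX, jc_S_isPGroup hT hK, ?_⟩
  have hSN : R ⊔ J ≤ normalizer (K : Set G) :=
    sup_le (hRK.trans le_normalizer) (jc_thompson_le_normalizer hK)
  have h1 := Cfsg.Agent.Helper17.card_sup_mul_card_inf K (R ⊔ J) hSN
  rw [jc_inf_S hT hK] at h1
  have h2 : K ⊔ (R ⊔ J) = K ⊔ J := by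
    rw [← sup_assoc, sup_of_le_left hRK]
  rw [h2] at h1
  have h3 := Cfsg.Agent.Helper26.card_mul_relIndex_of_le hRK
  rw [jc_relIndex hK] at h3
  have h4 := Cfsg.Agent.Helper26.card_mul_relIndex_of_le hSX
  have hRpos : 0 < Nat.card R := Nat.card_pos
  have hSpos : 0 < Nat.card (R ⊔ J : Subgroup G) := Nat.card_pos
  -- |X| * |R| = |R| * 3 * |S|, |S| * idx = |X|
  have h5 : Nat.card (R ⊔ J : Subgroup G) * (R ⊔ J).relIndex (K ⊔ J) * Nat.card R
      = Nat.card (R ⊔ J : Subgroup G) * 3 * Nat.card R := by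
    rw [h4, h1, ← h3]; ring
  have h6 : (R ⊔ J).relIndex (K ⊔ J) = 3 := by
    have := Nat.eq_of_mul_eq_mul_right hRpos h5
    exact Nat.eq_of_mul_eq_mul_left hSpos this
  rw [h6]
  exact ⟨1, by norm_num⟩

theorem jc_thompson_S (hT : IsPGroup 2 T) (hK : IsJComponent T K) :
    thompsonSubgroupOf 2 (pCoreOf 2 K ⊔ thompsonSubgroupOf 2 T) = thompsonSubgroupOf 2 T :=
  hK.2.2.2.1 _ (jc_isSylowTwoIn hT hK) le_sup_right

theorem jc_maxEA_S (hT : IsPGroup 2 T) (hK : IsJComponent T K) :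
    maxEA 2 (pCoreOf 2 K ⊔ thompsonSubgroupOf 2 T) = maxEA 2 T :=
  maxEA_eq_of_thompson_eq (jc_thompson_S hT hK)

theorem jc_S_le_normalizer_thompson (hT : IsPGroup 2 T) (hK : IsJComponent T K) :
    pCoreOf 2 K ⊔ thompsonSubgroupOf 2 T ≤
      normalizer ((thompsonSubgroupOf 2 T : Subgroup G) : Set G) := by
  have := le_normalizer_thompsonSubgroupOf 2 (pCoreOf 2 K ⊔ thompsonSubgroupOf 2 T)
  rwa [jc_thompson_S hT hK] at this

/-! ### Thompson replacement -/

theorem jc_exists_maxEA_not_le (hK : IsJComponent T K) :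
    ∃ A ∈ maxEA 2 T, ¬ A ≤ centralizer ((wOf K : Subgroup G) : Set G) := by
  by_contra h
  push Not at h
  apply jc_thompson_not_le_centralizer_wOf hK
  rw [thompsonSubgroupOf_eq_sSup_maxEA]
  exact sSup_le h

/-- Thompson replacement: `W (A ∩ C(W))` is again elementary abelian of largest order. -/
theorem jc_replacement (hT : IsPGroup 2 T) (hK : IsJComponent T K) {A : Subgroup G}
    (hA : A ∈ maxEA 2 T) (hAW : ¬ A ≤ centralizer ((wOf K : Subgroup G) : Set G)) :
    wOf K ⊔ (A ⊓ centralizer ((wOf K : Subgroup G) : Set G)) ∈ maxEA 2 T := by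
  set J := thompsonSubgroupOf 2 T with hJ
  set W := wOf K with hW
  set B := A ⊓ centralizer ((W : Subgroup G) : Set G) with hB
  have hAJ : A ≤ J := le_thompsonSubgroupOf_of_mem_maxEA hA
  have hW4 : Nat.card W = 4 := jc_card_wOf hK
  obtain ⟨a, haA, haW⟩ : ∃ a ∈ A, a ∉ centralizer ((W : Subgroup G) : Set G) := by
    by_contra h
    push Not at h
    exact hAW h
  have hBA : B ≤ A := inf_le_left
  have hBC : B ≤ centralizer ((W : Subgroup G) : Set G) := inf_le_right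
  -- index two
  have hidx : B.relIndex A = 2 := by
    show (B.subgroupOf A).index = 2
    rw [index_eq_two_iff]
    refine ⟨⟨a, haA⟩, ?_⟩
    rintro ⟨b, hbA⟩
    simp only [mem_subgroupOf, coe_mul]
    by_cases hbB : b ∈ B
    · refine Or.inr ⟨hbB, ?_⟩
      intro h
      apply haW
      have : a = b⁻¹ * (b * a) := by group
      rw [this]
      exact hBC (mul_mem (inv_mem hbB) h)
    · refine Or.inl ⟨?_, hbB⟩
      have hbc : b ∉ centralizer ((W : Subgroup G) : Set G) := fun h => hbB ⟨hbA, h⟩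
      exact ⟨mul_mem hbA haA, jc_mul_mem_centralizer hT hK (hAJ hbA) (hAJ haA) hbc haW⟩
  have hcardA : Nat.card B * 2 = Nat.card A := by
    have := Cfsg.Agent.Helper26.card_mul_relIndex_of_le hBA
    rwa [hidx] at this
  -- |W ⊓ B| ≤ 2
  have hWB2 : Nat.card (W ⊓ B : Subgroup G) ≤ 2 := by
    have hle : W ⊓ B ≤ W ⊓ centralizer ({a} : Set G) := by
      rintro x ⟨hxW, hxB⟩
      refine ⟨hxW, ?_⟩
      show x ∈ centralizer ({a} : Set G)
      rw [mem_centralizer_iff]
      intro y hy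
      have hy' : y = a := hy
      rw [hy']
      exact Cfsg.Agent.Helper26.isElementaryAbelian_commute hA.2.1 haA (hBA hxB)
    have hnle : ¬ W ≤ W ⊓ centralizer ({a} : Set G) := by
      intro h
      apply haW
      rw [mem_centralizer_iff]
      intro v hv
      exact (mem_centralizer_iff.mp (h hv).2 a rfl).symm
    exact (Subgroup.card_le_of_le hle).trans (card_le_two_of_lt hW4 inf_le_left hnle)
  -- product formula
  have hBN : B ≤ normalizer (W : Set G) := hBC.trans (centralizer_le_normalizer _)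
  have hprod := Cfsg.Agent.Helper17.card_sup_mul_card_inf W B hBN
  rw [hW4] at hprod
  have hsuppos : 0 < Nat.card (W ⊔ B : Subgroup G) := Nat.card_pos
  have hcard : Nat.card A ≤ Nat.card (W ⊔ B : Subgroup G) := by
    have h1 : Nat.card (W ⊔ B : Subgroup G) * Nat.card (W ⊓ B : Subgroup G) ≤
        Nat.card (W ⊔ B : Subgroup G) * 2 := Nat.mul_le_mul_left _ hWB2
    rw [hprod] at h1
    omega
  -- elementary abelian
  have hEA : IsElementaryAbelian 2 (W ⊔ B) := by
    apply Cfsg.Agent.Helper26.isElementaryAbelian_sup (jc_wOf_isElementaryAbelian hK)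
      (Cfsg.Agent.Helper26.isElementaryAbelian_of_le hA.2.1 hBA)
    intro w hw b hb
    exact (mem_centralizer_iff.mp (hBC hb) w hw)
  have hle : W ⊔ B ≤ pCoreOf 2 K ⊔ J :=
    sup_le ((wOf_le_pCoreOf K).trans le_sup_left) ((hBA.trans hAJ).trans le_sup_right)
  rw [← jc_maxEA_S hT hK] at hA ⊢
  exact mem_maxEA_of_card_le hA hle hEA hcard

theorem jc_wOf_le_thompson (hT : IsPGroup 2 T) (hK : IsJComponent T K) :
    wOf K ≤ thompsonSubgroupOf 2 T := by
  obtain ⟨A, hA, hAW⟩ := jc_exists_maxEA_not_le hK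
  exact le_sup_left.trans (le_thompsonSubgroupOf_of_mem_maxEA (jc_replacement hT hK hA hAW))

/-- `Ω₁Z(J) ∩ W = C_W(J)` -/
theorem jc_omega_inf_wOf (hT : IsPGroup 2 T) (hK : IsJComponent T K) :
    omegaCenterOf (thompsonSubgroupOf 2 T) ⊓ wOf K =
      wOf K ⊓ centralizer ((thompsonSubgroupOf 2 T : Subgroup G) : Set G) := by
  apply le_antisymm
  · rintro x ⟨hxZ, hxW⟩
    exact ⟨hxW, (omegaCenterOf_le _ hxZ).2⟩
  · rintro x ⟨hxW, hxc⟩
    refine ⟨?_, hxW⟩
    unfold omegaCenterOf omegaOne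
    apply Subgroup.subset_closure
    refine ⟨⟨jc_wOf_le_thompson hT hK hxW, hxc⟩, ?_⟩
    rw [pow_two]
    exact jc_wOf_sq hK hxW

/-! ### `C_X(W) ≤ S` -/

theorem jc_centralizer_le (hT : IsPGroup 2 T) (hK : IsJComponent T K) :
    (K ⊔ thompsonSubgroupOf 2 T) ⊓ centralizer ((wOf K : Subgroup G) : Set G) ≤
      pCoreOf 2 K ⊔ thompsonSubgroupOf 2 T := by
  set J := thompsonSubgroupOf 2 T with hJ
  set W := wOf K with hW
  rintro x ⟨hxX, hxc⟩
  obtain ⟨k, hk, j, hj, rfl⟩ :=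
    (Cfsg.Agent.Helper7.mem_sup_of_le_normalizer (jc_thompson_le_normalizer hK)).mp hxX
  by_cases hjc : j ∈ centralizer ((W : Subgroup G) : Set G)
  · have hkc : k ∈ centralizer ((W : Subgroup G) : Set G) := by
      have : k = (k * j) * j⁻¹ := by group
      rw [this]
      exact mul_mem hxc (inv_mem hjc)
    exact mul_mem (mem_sup_left (jc_mem_pCoreOf_of_mem_centralizer_wOf hK hk hkc)) (mem_sup_right hj)
  · exfalso
    -- `k` fixes the nontrivial subgroup `C_W(J)` pointwise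
    have hF2 : Nat.card ↥(W ⊓ centralizer ((J : Subgroup G) : Set G)) = 2 := jc_card_fix hT hK
    obtain ⟨f, hf, hf1⟩ : ∃ f ∈ W ⊓ centralizer ((J : Subgroup G) : Set G), f ≠ 1 := by
      by_contra h
      push Not at h
      have : W ⊓ centralizer ((J : Subgroup G) : Set G) = ⊥ := by
        rw [eq_bot_iff]
        intro y hy
        rw [mem_bot]
        exact h y hy
      rw [this, Subgroup.card_bot] at hF2
      norm_num at hF2
    have hkR : k ∉ pCoreOf 2 K := by
      intro hkR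
      apply hjc
      have : j = k⁻¹ * (k * j) := by group
      rw [this]
      exact mul_mem (inv_mem (pCoreOf_le_centralizer_wOf K hkR)) hxc
    have hjf : j * f = f * j := mem_centralizer_iff.mp hf.2 j hj
    have hxf : f * (k * j) = (k * j) * f := mem_centralizer_iff.mp hxc f hf.1
    have hkf : k * f = f * k := by
      calc k * f = k * (f * j) * j⁻¹ := by group
        _ = k * (j * f) * j⁻¹ := by rw [hjf]
        _ = ((k * j) * f) * j⁻¹ := by group
        _ = (f * (k * j)) * j⁻¹ := by rw [hxf]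
        _ = f * k := by group
    exact hf1 (jc_eq_one_of_commute hK hk hkR hf.1 hkf)

/-! ### conjugates of `Ω₁Z(J)` lie in the replaced subgroup -/

theorem jc_conj_mem (hT : IsPGroup 2 T) (hK : IsJComponent T K) {A : Subgroup G}
    (hA : A ∈ maxEA 2 T) (hAW : ¬ A ≤ centralizer ((wOf K : Subgroup G) : Set G))
    {x : G} (hx : x ∈ K ⊔ thompsonSubgroupOf 2 T) {z : G}
    (hz : z ∈ omegaCenterOf (thompsonSubgroupOf 2 T)) :
    x⁻¹ * z * x ∈ wOf K ⊔ (A ⊓ centralizer ((wOf K : Subgroup G) : Set G)) := by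
  set J := thompsonSubgroupOf 2 T with hJ
  set W := wOf K with hW
  set B := A ⊓ centralizer ((W : Subgroup G) : Set G) with hB
  have hrep : W ⊔ B ∈ maxEA 2 T := jc_replacement hT hK hA hAW
  have hAJ : A ≤ J := le_thompsonSubgroupOf_of_mem_maxEA hA
  have hxN : x ∈ normalizer ((W : Subgroup G) : Set G) := jc_sup_le_normalizer_wOf hK hx
  -- A* ≤ X ⊓ C(W)
  have hle1 : W ⊔ B ≤ (K ⊔ J) ⊓ centralizer ((W : Subgroup G) : Set G) := by
    apply sup_le
    · exact le_inf ((wOf_le K).trans le_sup_left) (jc_wOf_le_centralizer_wOf hK)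
    · exact le_inf ((inf_le_left.trans hAJ).trans le_sup_right) inf_le_right
  have hle2 : (W ⊔ B).map (MulAut.conj x).toMonoidHom ≤ pCoreOf 2 K ⊔ J := by
    refine le_trans ?_ (jc_centralizer_le hT hK)
    rintro _ ⟨e, he, rfl⟩
    have he12 := hle1 he
    have he1 : e ∈ K ⊔ J := he12.1
    have he2 : e ∈ centralizer ((W : Subgroup G) : Set G) := he12.2
    refine Subgroup.mem_inf.mpr ⟨?_, ?_⟩
    · exact (K ⊔ J).mul_mem ((K ⊔ J).mul_mem hx he1) ((K ⊔ J).inv_mem hx)
    · exact conj_mem_centralizer hxN he2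
  rw [← jc_maxEA_S hT hK] at hrep
  have hmem := map_conj_mem_maxEA hrep x hle2
  have hz' := omegaCenterOf_thompson_le_of_mem_maxEA hmem
  rw [jc_thompson_S hT hK] at hz'
  obtain ⟨e, he, hez⟩ := hz' hz
  have : x⁻¹ * z * x = e := by
    rw [← hez]
    simp only [MulEquiv.coe_toMonoidHom, MulAut.conj_apply]
    group
  rw [this]
  exact he

/-! ### generation -/

/-- an element commuting with `J` and with some `d ∈ K ∖ O₂(K)` centralizes `⟨K, J⟩` -/
theorem jc_centralizes (hT : IsPGroup 2 T) (hK : IsJComponent T K) {c d : G}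
    (hcJ : ∀ j ∈ thompsonSubgroupOf 2 T, j * c = c * j) (hd : d ∈ K) (hdR : d ∉ pCoreOf 2 K)
    (hcd : d * c = c * d) :
    c ∈ centralizer (((K ⊔ thompsonSubgroupOf 2 T : Subgroup G)) : Set G) := by
  set J := thompsonSubgroupOf 2 T with hJ
  have hRK := Cfsg.Agent.Helper14.pCoreOf_le 2 K
  have hn := Cfsg.Agent.Helper14.le_normalizer_pCoreOf 2 K
  have hJle : J ≤ centralizer ({c} : Set G) := by
    intro j hj
    rw [mem_centralizer_iff]
    intro y hy
    have hy' : y = c := hy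
    rw [hy']
    exact (hcJ j hj).symm
  have hdc : d ∈ centralizer ({c} : Set G) := by
    rw [mem_centralizer_iff]
    intro y hy
    have hy' : y = c := hy
    rw [hy']
    exact hcd.symm
  have hKle : K ≤ centralizer ({c} : Set G) := by
    conv_lhs => rw [← hK.2.1]
    rw [Subgroup.commutator_le]
    intro k hk j hj
    obtain ⟨n, r, hr, rfl⟩ := exists_zpow_mul hRK hn (jc_relIndex hK) hd hdR hk
    have hrj : r * j * r⁻¹ ∈ J :=
      conj_mem_of_mem_normalizer (jc_S_le_normalizer_thompson hT hK (mem_sup_left hr)) hj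
    have e : ⁅d ^ n * r, j⁆ = d ^ n * (r * j * r⁻¹) * (d ^ n)⁻¹ * j⁻¹ := by
      simp only [commutatorElement_def]; group
    rw [e]
    exact mul_mem (mul_mem (mul_mem (zpow_mem hdc n) (hJle hrj)) (inv_mem (zpow_mem hdc n)))
      (inv_mem (hJle hj))
  have hXle : K ⊔ J ≤ centralizer ({c} : Set G) := sup_le hKle hJle
  rw [mem_centralizer_iff]
  intro x hx
  exact (mem_centralizer_iff.mp (hXle hx) c rfl).symm

end Cfsg.Agent.Helper15.JComp
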