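import Cfsg.Agent.Helper15.JComp3

/-!
# J-components, part 4: decomposition of `Ω₁Z(J(T))` relative to a `J(T)`-component.
-/

set_option autoImplicit false

namespace Cfsg.Agent.Helper15.JComp

open Cfsg Subgroup
open scoped commutatorElement

variable {G : Type*} [Group G] [Finite G] {T K : Subgroup G}

/-- for `a ∈ J` not centralizing `W`: `C_W(a) = C_W(J)` -/
theorem jc_fix_eq (hT : IsPGroup 2 T) (hK : IsJComponent T K) {a : G}
    (haJ : a ∈ thompsonSubgroupOf 2 T) (haW : a ∉ centralizer ((wOf K : Subgroup G) : Set G)) :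
    wOf K ⊓ centralizer ({a} : Set G) =
      wOf K ⊓ centralizer ((thompsonSubgroupOf 2 T : Subgroup G) : Set G) := by
  symm
  have hle : wOf K ⊓ centralizer ((thompsonSubgroupOf 2 T : Subgroup G) : Set G) ≤
      wOf K ⊓ centralizer ({a} : Set G) := by
    rintro x ⟨hxW, hxc⟩
    refine ⟨hxW, ?_⟩
    show x ∈ centralizer ({a} : Set G)
    rw [mem_centralizer_iff]
    intro y hy
    have hy' : y = a := hy
    rw [hy']
    exact mem_centralizer_iff.mp hxc a haJ
  have hnle : ¬ wOf K ≤ wOf K ⊓ centralizer ({a} : Set G) := by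
    intro h
    apply haW
    rw [mem_centralizer_iff]
    intro v hv
    exact (mem_centralizer_iff.mp (h hv).2 a rfl).symm
  have h2 := card_le_two_of_lt (jc_card_wOf hK) inf_le_left hnle
  apply eq_of_le_of_card_ge hle
  rw [jc_card_fix hT hK]
  exact h2

/-- the main decomposition: every `z ∈ Ω₁Z(J)` is `c * w` with `c ∈ Ω₁Z(J)` centralizing `⟨K, J⟩`
and `w ∈ C_W(J)`. -/
theorem jc_decomp (hT : IsPGroup 2 T) (hK : IsJComponent T K) {z : G}
    (hz : z ∈ omegaCenterOf (thompsonSubgroupOf 2 T)) :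
    ∃ c ∈ omegaCenterOf (thompsonSubgroupOf 2 T), ∃ w ∈ wOf K,
      c ∈ centralizer (((K ⊔ thompsonSubgroupOf 2 T : Subgroup G)) : Set G) ∧
      w ∈ centralizer ((thompsonSubgroupOf 2 T : Subgroup G) : Set G) ∧ z = w * c := by
  set J := thompsonSubgroupOf 2 T with hJ
  set W := wOf K with hW
  obtain ⟨A, hA, hAW⟩ := jc_exists_maxEA_not_le hK
  set B := A ⊓ centralizer ((W : Subgroup G) : Set G) with hB
  have hAJ : A ≤ J := le_thompsonSubgroupOf_of_mem_maxEA hA
  obtain ⟨a, haA, haW⟩ : ∃ a ∈ A, a ∉ centralizer ((W : Subgroup G) : Set G) := by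
    by_contra h
    push Not at h
    exact hAW h
  have haJ : a ∈ J := hAJ haA
  have ha2 : a * a = 1 := by
    have := hA.2.1.2 a haA
    rwa [pow_two] at this
  have hainv : a⁻¹ = a := inv_eq_of_mul_eq_one_left ha2
  obtain ⟨k, hk, hkR⟩ := jc_exists_not_mem_pCoreOf hK
  have hkX : k ∈ K ⊔ J := mem_sup_left hk
  have hXN : K ⊔ J ≤ normalizer ((W : Subgroup G) : Set G) := jc_sup_le_normalizer_wOf hK
  have hkN : k ∈ normalizer ((W : Subgroup G) : Set G) := hXN hkX
  have haN : a ∈ normalizer ((W : Subgroup G) : Set G) := hXN (mem_sup_right haJ)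
  have hzJc := omegaCenterOf_le _ hz
  have hzJ : z ∈ J := hzJc.1
  have hzc : z ∈ centralizer ((J : Subgroup G) : Set G) := hzJc.2
  have haz : a * z = z * a := (mem_centralizer_iff.mp hzc a haJ)
  -- W ≤ J, so z commutes with W
  have hWJ : W ≤ J := jc_wOf_le_thompson hT hK
  have hzW : ∀ w ∈ W, w * z = z * w := fun w hw => mem_centralizer_iff.mp hzc w (hWJ hw)
  -- the elements a' and d
  obtain ⟨a', ha'def⟩ : ∃ a', a' = k * a * k⁻¹ := ⟨_, rfl⟩
  obtain ⟨d, hddef⟩ : ∃ d, d = a * a' := ⟨_, rfl⟩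
  have ha'2 : a' * a' = 1 := by
    rw [ha'def]
    calc k * a * k⁻¹ * (k * a * k⁻¹) = k * (a * a) * k⁻¹ := by group
      _ = 1 := by rw [ha2]; group
  have ha'inv : a'⁻¹ = a' := inv_eq_of_mul_eq_one_left ha'2
  have hdK : d ∈ K := by
    have h1 : a * k * a⁻¹ ∈ K :=
      conj_mem_of_mem_normalizer (jc_thompson_le_normalizer hK haJ) hk
    have e : d = (a * k * a⁻¹) * k⁻¹ := by
      rw [hddef, ha'def, hainv]; group
    rw [e]
    exact mul_mem h1 (inv_mem hk)
  have hdinv : a * d * a⁻¹ = d⁻¹ := by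
    rw [hddef, mul_inv_rev, hainv, ha'inv]
    calc a * (a * a') * a = (a * a) * a' * a := by group
      _ = a' * a := by rw [ha2, one_mul]
  -- fixed points
  have hfix := jc_fix_eq hT hK haJ haW
  have hF2 : Nat.card ↥(W ⊓ centralizer ((J : Subgroup G) : Set G)) = 2 := jc_card_fix hT hK
  -- d ∉ R
  have hdR : d ∉ pCoreOf 2 K := by
    intro hdR
    have hdc : d ∈ centralizer ((W : Subgroup G) : Set G) := pCoreOf_le_centralizer_wOf K hdR
    obtain ⟨f, hf, hf1⟩ : ∃ f ∈ W ⊓ centralizer ((J : Subgroup G) : Set G), f ≠ 1 := by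
      by_contra h
      push Not at h
      have : W ⊓ centralizer ((J : Subgroup G) : Set G) = ⊥ := by
        rw [eq_bot_iff]
        intro y hy
        rw [mem_bot]
        exact h y hy
      rw [this, Subgroup.card_bot] at hF2
      norm_num at hF2
    have haf : a * f = f * a := mem_centralizer_iff.mp hf.2 a haJ
    have hgW : k * f * k⁻¹ ∈ W := conj_mem_of_mem_normalizer hkN hf.1
    have hdg : (k * f * k⁻¹) * d = d * (k * f * k⁻¹) := mem_centralizer_iff.mp hdc _ hgW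
    have ha'g : a' * (k * f * k⁻¹) = (k * f * k⁻¹) * a' := by
      rw [ha'def]
      calc k * a * k⁻¹ * (k * f * k⁻¹) = k * (a * f) * k⁻¹ := by group
        _ = k * (f * a) * k⁻¹ := by rw [haf]
        _ = k * f * k⁻¹ * (k * a * k⁻¹) := by group
    have hag : a * (k * f * k⁻¹) = (k * f * k⁻¹) * a := by
      have h1 : a * (k * f * k⁻¹) * a' = (k * f * k⁻¹) * a * a' := by
        calc a * (k * f * k⁻¹) * a' = a * ((k * f * k⁻¹) * a') := by group
          _ = a * (a' * (k * f * k⁻¹)) := by rw [ha'g]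
          _ = (a * a') * (k * f * k⁻¹) := by group
          _ = d * (k * f * k⁻¹) := by rw [hddef]
          _ = (k * f * k⁻¹) * d := hdg.symm
          _ = (k * f * k⁻¹) * a * a' := by rw [hddef]; group
      exact mul_right_cancel h1
    have hgF : k * f * k⁻¹ ∈ W ⊓ centralizer ((J : Subgroup G) : Set G) := by
      rw [← hfix]
      refine ⟨hgW, ?_⟩
      show k * f * k⁻¹ ∈ centralizer ({a} : Set G)
      rw [mem_centralizer_iff]
      intro y hy
      have hy' : y = a := hy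
      rw [hy']
      exact hag
    have hg1 : k * f * k⁻¹ ≠ 1 := by
      intro h
      apply hf1
      calc f = k⁻¹ * (k * f * k⁻¹) * k := by group
        _ = 1 := by rw [h]; group
    have heq : k * f * k⁻¹ = f := by
      obtain ⟨y, -, hy⟩ := (Nat.card_eq_two_iff'
        (1 : ↥(W ⊓ centralizer ((J : Subgroup G) : Set G)))).mp hF2
      have h1 := hy ⟨_, hgF⟩ (fun h => hg1 (congrArg Subtype.val h))
      have h2 := hy ⟨_, hf⟩ (fun h => hf1 (congrArg Subtype.val h))
      exact congrArg Subtype.val (h1.trans h2.symm)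
    have hkf : k * f = f * k := by
      calc k * f = (k * f * k⁻¹) * k := by group
        _ = f * k := by rw [heq]
    exact hf1 (jc_eq_one_of_commute hK hk hkR hf.1 hkf)
  have hdN : d ∈ normalizer ((W : Subgroup G) : Set G) := hXN (mem_sup_left hdK)
  -- (iii) d z d⁻¹ = w₃ z
  obtain ⟨w₃, hw₃, hdz⟩ : ∃ w₃ ∈ W, d * z * d⁻¹ = w₃ * z := by
    have hy : k⁻¹ * z * k ∈ W ⊔ B := jc_conj_mem hT hK hA hAW hkX hz
    have hBN : B ≤ normalizer ((W : Subgroup G) : Set G) :=
      inf_le_right.trans (centralizer_le_normalizer _)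
    obtain ⟨w, hw, b, hb, hwb⟩ := (Cfsg.Agent.Helper7.mem_sup_of_le_normalizer hBN).mp hy
    have hab : a * b = b * a :=
      Cfsg.Agent.Helper26.isElementaryAbelian_commute hA.2.1 haA hb.1
    -- w₁ = a y a⁻¹ y⁻¹ = (a w a⁻¹) w⁻¹
    have hw₁ : a * (k⁻¹ * z * k) * a⁻¹ * (k⁻¹ * z * k)⁻¹ ∈ W := by
      rw [← hwb]
      have e : a * (w * b) * a⁻¹ * (w * b)⁻¹ = (a * w * a⁻¹) * ((a * b) * a⁻¹ * b⁻¹) * w⁻¹ := by
        group
      rw [e, hab]
      have e2 : a * w * a⁻¹ * (b * a * a⁻¹ * b⁻¹) * w⁻¹ = (a * w * a⁻¹) * w⁻¹ := by group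
      rw [e2]
      exact mul_mem (conj_mem_of_mem_normalizer haN hw) (inv_mem hw)
    -- w₂ = k w₁ k⁻¹ = a' z a'⁻¹ z⁻¹
    have hw₂ : a' * z * a'⁻¹ * z⁻¹ ∈ W := by
      have e : a' * z * a'⁻¹ * z⁻¹ =
          k * (a * (k⁻¹ * z * k) * a⁻¹ * (k⁻¹ * z * k)⁻¹) * k⁻¹ := by
        rw [ha'def]; group
      rw [e]
      exact conj_mem_of_mem_normalizer hkN hw₁
    refine ⟨a * (a' * z * a'⁻¹ * z⁻¹) * a⁻¹, conj_mem_of_mem_normalizer haN hw₂, ?_⟩
    have e1 : d * z * d⁻¹ = a * ((a' * z * a'⁻¹ * z⁻¹) * z) * a⁻¹ := by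
      rw [hddef]; group
    rw [e1]
    calc a * ((a' * z * a'⁻¹ * z⁻¹) * z) * a⁻¹
        = a * (a' * z * a'⁻¹ * z⁻¹) * a⁻¹ * ((a * z) * a⁻¹) := by group
      _ = a * (a' * z * a'⁻¹ * z⁻¹) * a⁻¹ * ((z * a) * a⁻¹) := by rw [haz]
      _ = a * (a' * z * a'⁻¹ * z⁻¹) * a⁻¹ * z := by group
  -- (iv) find w with d (w z) d⁻¹ = w z
  obtain ⟨w, hw, hwd⟩ : ∃ w ∈ W, w * (d * w * d⁻¹) = w₃ := by
    let φ : W → W := fun w => ⟨(w : G) * (d * (w : G) * d⁻¹),
      mul_mem w.2 (conj_mem_of_mem_normalizer hdN w.2)⟩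
    have hinj : Function.Injective φ := by
      rintro ⟨w, hw⟩ ⟨w', hw'⟩ h
      have h1 : w * (d * w * d⁻¹) = w' * (d * w' * d⁻¹) := congrArg Subtype.val h
      have hdw : d * w * d⁻¹ ∈ W := conj_mem_of_mem_normalizer hdN hw
      have hdw' : d * w' * d⁻¹ ∈ W := conj_mem_of_mem_normalizer hdN hw'
      -- u = w' * w is fixed by d
      have hu : w' * w ∈ W := mul_mem hw' hw
      have h2 : d * (w' * w) * d⁻¹ = w' * w := by
        have e : d * (w' * w) * d⁻¹ = (d * w' * d⁻¹) * (d * w * d⁻¹) := by group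
        rw [e]
        -- from h1: w (dwd⁻¹) = w' (dw'd⁻¹)
        have h3 : (d * w * d⁻¹) = w * (w' * (d * w' * d⁻¹)) := by
          calc d * w * d⁻¹ = (w * w) * (d * w * d⁻¹) := by rw [jc_wOf_sq hK hw, one_mul]
            _ = w * (w * (d * w * d⁻¹)) := by group
            _ = w * (w' * (d * w' * d⁻¹)) := by rw [h1]
        rw [h3]
        calc d * w' * d⁻¹ * (w * (w' * (d * w' * d⁻¹)))
            = (d * w' * d⁻¹ * w) * (w' * (d * w' * d⁻¹)) := by group
          _ = (w * (d * w' * d⁻¹)) * ((d * w' * d⁻¹) * w') := by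
              rw [jc_wOf_comm hK hdw' hw, jc_wOf_comm hK hw' hdw']
          _ = w * ((d * w' * d⁻¹) * (d * w' * d⁻¹)) * w' := by group
          _ = w * w' := by rw [jc_wOf_sq hK hdw', mul_one]
          _ = w' * w := jc_wOf_comm hK hw hw'
      have h4 : d * (w' * w) = (w' * w) * d := by
        calc d * (w' * w) = (d * (w' * w) * d⁻¹) * d := by group
          _ = (w' * w) * d := by rw [h2]
      have h5 : w' * w = 1 := jc_eq_one_of_commute hK hdK hdR hu h4
      apply Subtype.ext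
      show w = w'
      calc w = (w' * w') * w := by rw [jc_wOf_sq hK hw', one_mul]
        _ = w' * (w' * w) := by group
        _ = w' := by rw [h5, mul_one]
    have hsurj : Function.Surjective φ := Finite.injective_iff_surjective.mp hinj
    obtain ⟨⟨w, hw⟩, hφ⟩ := hsurj ⟨w₃, hw₃⟩
    exact ⟨w, hw, congrArg Subtype.val hφ⟩
  have hdwW : d * w * d⁻¹ ∈ W := conj_mem_of_mem_normalizer hdN hw
  -- c = w z is centralized by d
  have hdc : d * (w * z) = (w * z) * d := by
    have h1 : d * (w * z) * d⁻¹ = w * z := by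
      calc d * (w * z) * d⁻¹ = (d * w * d⁻¹) * (d * z * d⁻¹) := by group
        _ = (d * w * d⁻¹) * (w₃ * z) := by rw [hdz]
        _ = (d * w * d⁻¹) * ((w * (d * w * d⁻¹)) * z) := by rw [hwd]
        _ = ((d * w * d⁻¹) * w) * (d * w * d⁻¹) * z := by group
        _ = (w * (d * w * d⁻¹)) * (d * w * d⁻¹) * z := by rw [jc_wOf_comm hK hdwW hw]
        _ = w * ((d * w * d⁻¹) * (d * w * d⁻¹)) * z := by group
        _ = w * z := by rw [jc_wOf_sq hK hdwW, mul_one]
    calc d * (w * z) = (d * (w * z) * d⁻¹) * d := by group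
      _ = (w * z) * d := by rw [h1]
  -- (v) a centralizes w
  have haw : a * w * a⁻¹ = w := by
    have hawW : a * w * a⁻¹ ∈ W := conj_mem_of_mem_normalizer haN hw
    -- d commutes with a c a⁻¹
    have h1 : d * (a * (w * z) * a⁻¹) = (a * (w * z) * a⁻¹) * d := by
      have h2 : d⁻¹ * (a * (w * z) * a⁻¹) = (a * (w * z) * a⁻¹) * d⁻¹ := by
        rw [← hdinv]
        calc a * d * a⁻¹ * (a * (w * z) * a⁻¹) = a * (d * (w * z)) * a⁻¹ := by group
          _ = a * ((w * z) * d) * a⁻¹ := by rw [hdc]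
          _ = a * (w * z) * a⁻¹ * (a * d * a⁻¹) := by group
      calc d * (a * (w * z) * a⁻¹) = d * ((a * (w * z) * a⁻¹) * d⁻¹) * d := by group
        _ = d * (d⁻¹ * (a * (w * z) * a⁻¹)) * d := by rw [h2]
        _ = (a * (w * z) * a⁻¹) * d := by group
    -- u = (a w a⁻¹) w⁻¹
    have e : a * (w * z) * a⁻¹ = (a * w * a⁻¹) * z := by
      calc a * (w * z) * a⁻¹ = (a * w * a⁻¹) * ((a * z) * a⁻¹) := by group
        _ = (a * w * a⁻¹) * ((z * a) * a⁻¹) := by rw [haz]
        _ = (a * w * a⁻¹) * z := by group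
    rw [e] at h1
    have hu : (a * w * a⁻¹) * w ∈ W := mul_mem hawW hw
    have hcomm : d * ((a * w * a⁻¹) * w) = ((a * w * a⁻¹) * w) * d := by
      -- (a w a⁻¹) w = ((a w a⁻¹) z) (w z)⁻¹  (as w⁻¹ = w, z commutes with W)
      have e3 : (a * w * a⁻¹) * w = ((a * w * a⁻¹) * z) * (w * z)⁻¹ := by
        rw [mul_inv_rev, jc_wOf_inv hK hw]; group
      rw [e3]
      have hdc' : d * (w * z)⁻¹ = (w * z)⁻¹ * d := by
        calc d * (w * z)⁻¹ = (w * z)⁻¹ * ((w * z) * d) * (w * z)⁻¹ := by group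
          _ = (w * z)⁻¹ * (d * (w * z)) * (w * z)⁻¹ := by rw [hdc]
          _ = (w * z)⁻¹ * d := by group
      calc d * ((a * w * a⁻¹) * z * (w * z)⁻¹) = (d * ((a * w * a⁻¹) * z)) * (w * z)⁻¹ := by group
        _ = (((a * w * a⁻¹) * z) * d) * (w * z)⁻¹ := by rw [h1]
        _ = ((a * w * a⁻¹) * z) * (d * (w * z)⁻¹) := by group
        _ = ((a * w * a⁻¹) * z) * ((w * z)⁻¹ * d) := by rw [hdc']
        _ = (a * w * a⁻¹) * z * (w * z)⁻¹ * d := by group
    have h5 : (a * w * a⁻¹) * w = 1 := jc_eq_one_of_commute hK hdK hdR hu hcomm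
    calc a * w * a⁻¹ = ((a * w * a⁻¹) * w) * w⁻¹ := by group
      _ = w := by rw [h5, one_mul, jc_wOf_inv hK hw]
  have hwF : w ∈ W ⊓ centralizer ((J : Subgroup G) : Set G) := by
    rw [← hfix]
    refine ⟨hw, ?_⟩
    show w ∈ centralizer ({a} : Set G)
    rw [mem_centralizer_iff]
    intro y hy
    have hy' : y = a := hy
    rw [hy']
    calc a * w = (a * w * a⁻¹) * a := by group
      _ = w * a := by rw [haw]
  have hwZ : w ∈ omegaCenterOf J := by
    have : w ∈ omegaCenterOf J ⊓ W := by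
      rw [jc_omega_inf_wOf hT hK]; exact hwF
    exact this.1
  have hcZ : w * z ∈ omegaCenterOf J := mul_mem hwZ hz
  have hcJ : ∀ j ∈ J, j * (w * z) = (w * z) * j := fun j hj =>
    mem_centralizer_iff.mp (omegaCenterOf_le _ hcZ).2 j hj
  refine ⟨w * z, hcZ, w, hw, jc_centralizes hT hK hcJ hdK hdR hdc, hwF.2, ?_⟩
  calc z = (w * w) * z := by rw [jc_wOf_sq hK hw, one_mul]
    _ = w * (w * z) := by group

end Cfsg.Agent.Helper15.JComp
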