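import Cfsg.Agent.Helper15.JComp5
import Cfsg.Agent.Helper7.FFThompson2
import Cfsg.Agent.Helper7.GenOff7

/-!
# J-components, part 6: consequences of the FF-module structure theorem (helper7) for `p = 2`

In the FF-module world (`FFSetup 2 V H`, `H` generated by best offenders): elements of odd order of
`H` commute; a subgroup of order `3` of `H` not centralized by a family of best offenders lies in a
factor `E_B = ffE 2 H B ≅ S₃`; a factor is determined by (any nontrivial part of) its plane.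
-/

set_option autoImplicit false
set_option linter.unusedSectionVars false

namespace Cfsg.Agent.Helper15.JComp

open Cfsg Subgroup Cfsg.Agent.Helper7
open scoped commutatorElement

section FFWorld

variable {Γ : Type*} [Group Γ]

theorem perm3_commute_of_pow_three :
    ∀ a b : Equiv.Perm (Fin 3), a ^ 3 = 1 → b ^ 3 = 1 → a * b = b * a := by decide

theorem perm3_pow_three_of_odd {a : Equiv.Perm (Fin 3)} (ha : Odd (orderOf a)) : a ^ 3 = 1 := by
  have h1 : orderOf a ∣ 2 * 3 := by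
    have := orderOf_dvd_card (x := a)
    rwa [Fintype.card_perm, Fintype.card_fin] at this
  have h2 : Nat.Coprime (orderOf a) 2 := Nat.coprime_two_right.mpr ha
  exact orderOf_dvd_iff_pow_eq_one.mp (h2.dvd_of_dvd_mul_left h1)

theorem perm3_commute_of_odd {a b : Equiv.Perm (Fin 3)} (ha : Odd (orderOf a))
    (hb : Odd (orderOf b)) : a * b = b * a :=
  perm3_commute_of_pow_three a b (perm3_pow_three_of_odd ha) (perm3_pow_three_of_odd hb)

/-- in `S₃ × ⋯ × S₃`, elements of odd order commute -/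
theorem pi_perm3_commute_of_odd {I : Type*} {a b : I → Equiv.Perm (Fin 3)} (ha : Odd (orderOf a))
    (hb : Odd (orderOf b)) : a * b = b * a := by
  funext i
  have h1 : orderOf (a i) ∣ orderOf a := by
    apply orderOf_dvd_of_pow_eq_one
    rw [← Pi.pow_apply, pow_orderOf_eq_one]; rfl
  have h2 : orderOf (b i) ∣ orderOf b := by
    apply orderOf_dvd_of_pow_eq_one
    rw [← Pi.pow_apply, pow_orderOf_eq_one]; rfl
  exact perm3_commute_of_odd (Odd.of_dvd_nat ha h1) (Odd.of_dvd_nat hb h2)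

variable [Finite Γ]

/-- elements of odd order of `H ≅ S₃ × ⋯ × S₃` commute -/
theorem ff_commute_of_odd {V H : Subgroup Γ} (hS : FFSetup 2 V H)
    (hS3 : H = ⨆ A : {A : Subgroup Γ // A ≤ H ∧ IsBestOffenderOn 2 V A}, (A : Subgroup Γ))
    {x y : Γ} (hx : x ∈ H) (hy : y ∈ H) (hxo : Odd (orderOf x)) (hyo : Odd (orderOf y)) :
    x * y = y * x := by
  haveI : Fact (Nat.Prime 2) := ⟨Nat.prime_two⟩
  by_cases hH1 : H = ⊥
  · rw [hH1, mem_bot] at hx hy
    rw [hx, hy]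
  obtain ⟨-, hE, hind, hsup, -, -⟩ := hS.structure_theorem hS3 hH1
    (fun E => ∃ B : Subgroup Γ, B ≤ H ∧ IsMinOffender 2 V B ∧ E = ffE 2 H B) (fun E => Iff.rfl)
  obtain ⟨e2⟩ := nonempty_mulEquiv_pi_of_iSupIndep
    (fun E : {E : Subgroup Γ // ∃ B : Subgroup Γ, B ≤ H ∧
      IsMinOffender 2 V B ∧ E = ffE 2 H B} => (E : Subgroup Γ))
    H hsup hind (fun E => (hE E).1)
  obtain ⟨s3⟩ := nonempty_SL2_zmod_two_mulEquiv_perm
  have e3 : (Π E : {E : Subgroup Γ // ∃ B : Subgroup Γ, B ≤ H ∧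
      IsMinOffender 2 V B ∧ E = ffE 2 H B}, ↥(E : Subgroup Γ)) ≃*
      ({E : Subgroup Γ // ∃ B : Subgroup Γ, B ≤ H ∧
      IsMinOffender 2 V B ∧ E = ffE 2 H B} → Equiv.Perm (Fin 3)) :=
    MulEquiv.piCongrRight (fun E => ((hE E).2.1.some).trans s3)
  set e := e2.trans e3 with he
  have h1 : orderOf (e ⟨x, hx⟩) = orderOf x := by
    rw [MulEquiv.orderOf_eq e]
    exact Subgroup.orderOf_mk x hx
  have h2 : orderOf (e ⟨y, hy⟩) = orderOf y := by
    rw [MulEquiv.orderOf_eq e]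
    exact Subgroup.orderOf_mk y hy
  have h3 := pi_perm3_commute_of_odd (h1 ▸ hxo) (h2 ▸ hyo)
  rw [← map_mul, ← map_mul] at h3
  exact congrArg Subtype.val (e.injective h3)

/-- `FFMin` is preserved by conjugation with elements normalizing `H` and `V` -/
theorem ffMin_map_conj {V H B : Subgroup Γ} (hB : FFMin 2 V H B) {x : Γ}
    (hxH : x ∈ normalizer (H : Set Γ)) (hxV : x ∈ normalizer (V : Set Γ)) :
    FFMin 2 V H (B.map (MulAut.conj x).toMonoidHom) := by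
  refine ⟨?_, (card_map_conj B x).trans hB.hAp, ?_⟩
  · exact (map_mono hB.hAH).trans_eq (Cfsg.Agent.Helper7.map_conj_eq_of_mem_normalizer hxH)
  · rw [commutator_map_conj hxV, card_map_conj]
    exact hB.hW

/-- conjugation by an element normalizing `H` permutes the factors -/
theorem map_conj_ffE {H B : Subgroup Γ} {x : Γ} (hxH : x ∈ normalizer (H : Set Γ)) :
    (ffE 2 H B).map (MulAut.conj x).toMonoidHom = ffE 2 H (B.map (MulAut.conj x).toMonoidHom) := by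
  have hQ : x ∈ normalizer ((ffQ 2 H : Subgroup Γ) : Set Γ) :=
    Cfsg.Agent.Lead.normalizer_le_normalizer_map_of_characteristic H (pPrimeCore 2 ↥H) hxH
  rw [Subgroup.map_sup, map_commutator, Cfsg.Agent.Helper7.map_conj_eq_of_mem_normalizer hQ]

/-- a factor is determined by any nontrivial part of its plane -/
theorem ff_map_conj_ffE_eq {V H : Subgroup Γ} (hS : FFSetup 2 V H)
    (hS3 : H = ⨆ A : {A : Subgroup Γ // A ≤ H ∧ IsBestOffenderOn 2 V A}, (A : Subgroup Γ))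
    {B : Subgroup Γ} (hB : FFMin 2 V H B) {x : Γ} (hxH : x ∈ normalizer (H : Set Γ))
    (hxV : x ∈ normalizer (V : Set Γ))
    (hne : ⁅V, ffE 2 H B⁆ ⊓ (⁅V, ffE 2 H B⁆).map (MulAut.conj x).toMonoidHom ≠ ⊥) :
    (ffE 2 H B).map (MulAut.conj x).toMonoidHom = ffE 2 H B := by
  haveI : Fact (Nat.Prime 2) := ⟨Nat.prime_two⟩
  have hB' := ffMin_map_conj hB hxH hxV
  rw [map_conj_ffE hxH]
  rw [← commutator_map_conj hxV, map_conj_ffE hxH] at hne
  set B' := B.map (MulAut.conj x).toMonoidHom with hB'def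
  have hQH : ffQ 2 H ≤ H := ffQ_le 2 H
  have hN1 : H ≤ normalizer ((⁅V, ffE 2 H B⁆ : Subgroup Γ) : Set Γ) :=
    Cfsg.Agent.Helper10.le_normalizer_commutator_of_le hS.hHV (hS.le_normalizer_ffE hS3 hB)
  have hN2 : H ≤ normalizer ((⁅V, ffE 2 H B'⁆ : Subgroup Γ) : Set Γ) :=
    Cfsg.Agent.Helper10.le_normalizer_commutator_of_le hS.hHV (hS.le_normalizer_ffE hS3 hB')
  have hN : ffQ 2 H ≤ normalizer ((⁅V, ffE 2 H B⁆ ⊓ ⁅V, ffE 2 H B'⁆ : Subgroup Γ) : Set Γ) :=
    hQH.trans (Cfsg.Agent.Helper10.le_normalizer_inf_of_le hN1 hN2)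
  have h1 := hS.commutator_ffE_irreducible hB inf_le_left hN hne
  have h2 := hS.commutator_ffE_irreducible hB' inf_le_right hN hne
  exact (hS.ffE_eq_of_commutator_eq hB hB' (h1.symm.trans h2)).symm

/-- a subgroup of order `3` of `H`, normalized but not centralized by a family of best offenders,
lies in a factor `E_B ≅ S₃` with `B` (of order 2) inside a member of the family -/
theorem ff_exists_factor {V H : Subgroup Γ} (hS : FFSetup 2 V H)
    (hS3 : H = ⨆ A : {A : Subgroup Γ // A ≤ H ∧ IsBestOffenderOn 2 V A}, (A : Subgroup Γ))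
    {Kb : Subgroup Γ} (hKH : Kb ≤ H) (hK3 : Nat.card Kb = 3)
    (𝒜 : Set (Subgroup Γ)) (h𝒜 : ∀ A ∈ 𝒜, A ≤ H ∧ IsBestOffenderOn 2 V A)
    (hN : sSup 𝒜 ≤ normalizer (Kb : Set Γ)) (hC : ¬ sSup 𝒜 ≤ centralizer (Kb : Set Γ)) :
    ∃ A ∈ 𝒜, ∃ B : Subgroup Γ, B ≤ A ∧ FFMin 2 V H B ∧ ⁅Kb, B⁆ = Kb ∧ ffE 2 H B = Kb ⊔ B := by
  haveI : Fact (Nat.Prime 2) := ⟨Nat.prime_two⟩
  haveI : Fact (Nat.Prime 3) := ⟨Nat.prime_three⟩
  obtain ⟨A, hA, hAC⟩ : ∃ A ∈ 𝒜, ¬ A ≤ centralizer (Kb : Set Γ) := by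
    by_contra h
    push Not at h
    exact hC (sSup_le h)
  obtain ⟨hAH, hAbo⟩ := h𝒜 A hA
  have hgen := hS.le_sSup_minOffender _ A rfl hAH hAbo
  obtain ⟨B, hBA, hBmin, hBC⟩ : ∃ B : Subgroup Γ, B ≤ A ∧ IsMinOffender 2 V B ∧
      ¬ B ≤ centralizer (Kb : Set Γ) := by
    by_contra h
    push Not at h
    apply hAC
    refine hgen.trans (sSup_le ?_)
    rintro B ⟨hBA, hB⟩
    exact h B hBA hB
  have hBH : B ≤ H := hBA.trans hAH
  have hBm : FFMin 2 V H B := IsMinOffender.ffMin hS hBH hBmin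
  have hBN : B ≤ normalizer (Kb : Set Γ) := hBA.trans ((le_sSup hA).trans hN)
  have hle : ⁅Kb, B⁆ ≤ Kb := Cfsg.Agent.Lead.commutator_le_of_le_normalizer hBN
  have hne : ⁅Kb, B⁆ ≠ ⊥ := by
    intro h
    rw [commutator_eq_bot_iff_le_centralizer] at h
    exact hBC (le_centralizer_iff.mp h)
  have hcomm : ⁅Kb, B⁆ = Kb := by
    rcases eq_bot_or_eq_of_le_of_card_prime hK3 hle with h | h
    · exact absurd h hne
    · exact h
  have hEn : H ≤ normalizer ((ffE 2 H B : Subgroup Γ) : Set Γ) := hS.le_normalizer_ffE hS3 hBm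
  have hBE : B ≤ ffE 2 H B := le_sup_right
  have hKE : Kb ≤ ffE 2 H B := by
    rw [← hcomm, commutator_comm]
    exact (commutator_mono hBE le_rfl).trans
      (Cfsg.Agent.Lead.commutator_le_of_le_normalizer (hKH.trans hEn))
  refine ⟨A, hA, B, hBA, hBm, hcomm, ?_⟩
  have hcardE : Nat.card (ffE 2 H B) = 6 := by
    obtain ⟨-, ⟨iso⟩⟩ := hS.ffE_mulEquiv hBm
    rw [Nat.card_congr iso.toEquiv, card_SL2_zmod 2]
    norm_num
  have hinf : Kb ⊓ B = ⊥ := by
    apply (Subgroup.disjoint_of_coprime_natCard ?_).eq_bot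
    rw [hK3, hBm.hAp]
    decide
  have hcard : Nat.card (Kb ⊔ B : Subgroup Γ) = 6 := by
    have := Cfsg.Agent.Helper17.card_sup_mul_card_inf Kb B hBN
    rw [hinf, Subgroup.card_bot, mul_one, hK3, hBm.hAp] at this
    exact this
  symm
  apply eq_of_le_of_card_ge (sup_le hKE hBE)
  rw [hcard, hcardE]

end FFWorld

section Bridge

variable {X : Type*} [Group X] [Finite X]

/-- a subgroup generated by pairwise commuting elements of odd order has odd order -/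
theorem odd_card_closure_of_commute (s : Set X) (hc : ∀ a ∈ s, ∀ b ∈ s, a * b = b * a)
    (ho : ∀ a ∈ s, Odd (orderOf a)) : Odd (Nat.card (closure s)) := by
  have hcomm : closure s ≤ centralizer ((closure s : Subgroup X) : Set X) := by
    rw [centralizer_closure, closure_le]
    intro a ha
    rw [SetLike.mem_coe, mem_centralizer_iff]
    intro y hy
    exact hc y hy a ha
  have hall : ∀ x ∈ closure s, Odd (orderOf x) := by
    intro x hx
    induction hx using closure_induction with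
    | mem x hx => exact ho x hx
    | one => simp
    | mul x y hx hy ihx ihy =>
      have hxy : Commute x y := (mem_centralizer_iff.mp (hcomm hy) x hx)
      exact Odd.of_dvd_nat (Odd.of_dvd_nat (ihx.mul ihy) (Nat.lcm_dvd_mul _ _))
        hxy.orderOf_mul_dvd_lcm
    | inv x hx ihx => rwa [orderOf_inv]
  by_contra hodd
  rw [Nat.not_odd_iff_even, even_iff_two_dvd] at hodd
  haveI : Fact (Nat.Prime 2) := ⟨Nat.prime_two⟩
  obtain ⟨x, hx⟩ := exists_prime_orderOf_dvd_card' 2 hodd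
  have := hall x x.2
  rw [← Subgroup.orderOf_coe] at hx
  rw [hx] at this
  exact absurd this (by decide)

/-- for `w ∈ [V, K]`, the image of `w` in `V ⋊ X / C_X(V)` lies in `[V, K̄]` -/
theorem ffInl_mem_commutator_map (V : Subgroup X) [V.Normal] (K : Subgroup X) {w : X}
    (hw : w ∈ ⁅V, K⁆) : ∃ hwV : w ∈ V, ffInl V ⟨w, hwV⟩ ∈ ⁅ffV V, K.map (ffIota V)⁆ := by
  have hle : ⁅V, K⁆ ≤ ((⁅ffV V, K.map (ffIota V)⁆).comap (ffInl V)).map V.subtype := by
    rw [commutator_le]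
    intro v hv k hk
    have hmem : ⁅v, k⁆ ∈ V := by
      rw [commutatorElement_def]
      have h1 : k * v⁻¹ * k⁻¹ ∈ V := Subgroup.Normal.conj_mem inferInstance _ (inv_mem hv) k
      have : v * k * v⁻¹ * k⁻¹ = v * (k * v⁻¹ * k⁻¹) := by group
      rw [this]
      exact mul_mem hv h1
    refine ⟨⟨⁅v, k⁆, hmem⟩, ?_, rfl⟩
    rw [SetLike.mem_coe, mem_comap]
    have h2 := ffIota_conj V k ⟨v, hv⟩⁻¹
    have e : ffInl V ⟨⁅v, k⁆, hmem⟩ = ⁅ffInl V ⟨v, hv⟩, ffIota V k⁆ := by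
      have e1 : (⟨⁅v, k⁆, hmem⟩ : ↥V) = ⟨v, hv⟩ *
          ⟨k * ((⟨v, hv⟩ : ↥V)⁻¹ : ↥V) * k⁻¹,
            Subgroup.Normal.conj_mem inferInstance _ ((⟨v, hv⟩ : ↥V)⁻¹ : ↥V).2 k⟩ := by
        apply Subtype.ext
        show ⁅v, k⁆ = v * (k * v⁻¹ * k⁻¹)
        rw [commutatorElement_def]; group
      rw [e1, map_mul, ← h2, commutatorElement_def, map_inv]
      group
    rw [e]
    exact commutator_mem_commutator ⟨⟨v, hv⟩, rfl⟩ ⟨k, hk, rfl⟩
  obtain ⟨⟨w', hw'V⟩, hw', rfl⟩ := hle hw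
  exact ⟨hw'V, hw'⟩

/-- **The bridge.**  `X` finite solvable, `V` a normal elementary abelian 2-subgroup with
`O₂(X / C_X(V)) = 1`, `𝒜` a family of elementary abelian 2-subgroups of `X` of largest order,
`K = [K, ⟨𝒜⟩]` generated by elements of odd order, of order `3 · 2^a`, not centralizing `V`.
Then `|K : C_K(V)| = 3`, and `K` lies in a "factor" `E = K ⟨b⟩ C_X(V)` with `b` in a member of `𝒜`,
normalized by `J(X)` and by every `n` with `[V, K] ∩ [V, K]ⁿ ≠ 1`. -/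
theorem ff_bridge [Group.IsSolvable X] (V : Subgroup X) [V.Normal] (hVel : IsElementaryAbelian 2 V)
    (hOp : pCore 2 (X ⧸ centralizer (V : Set X)) = ⊥)
    (𝒜 : Set (Subgroup X)) (h𝒜 : 𝒜 ⊆ maxElementaryAbelianSubgroups 2 X)
    (K : Subgroup X) (hKgen : closure {g : X | g ∈ K ∧ Odd (orderOf g)} = K)
    (hKJ : ⁅K, sSup 𝒜⁆ = K) (a : ℕ) (hKcard : Nat.card K = 3 * 2 ^ a)
    (hKC : ¬ K ≤ centralizer (V : Set X)) :
    (K ⊓ centralizer (V : Set X)).relIndex K = 3 ∧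
    ∃ E : Subgroup X, ∃ A ∈ 𝒜, ∃ b ∈ A,
      E = K ⊔ zpowers b ⊔ centralizer (V : Set X) ∧
      K ≤ ⁅K, zpowers b⁆ ⊔ centralizer (V : Set X) ∧
      b ∉ centralizer (V : Set X) ∧
      thompsonSubgroup 2 X ≤ normalizer (E : Set X) ∧
      ∀ n : X, ⁅V, K⁆ ⊓ (⁅V, K⁆).map (MulAut.conj n).toMonoidHom ≠ ⊥ →
        n ∈ normalizer (E : Set X) := by
  haveI : Fact (Nat.Prime 2) := ⟨Nat.prime_two⟩
  haveI : Fact (Nat.Prime 3) := ⟨Nat.prime_three⟩
  have hsep : IsPSolvable 2 X := Cfsg.Agent.Helper10.isPSolvable_of_isSolvable 2 inferInstance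
  obtain ⟨C, hC⟩ : ∃ C : Subgroup X, C = centralizer (V : Set X) := ⟨_, rfl⟩
  obtain ⟨Y, hY⟩ : ∃ Y : Subgroup X, Y = thompsonSubgroup 2 X := ⟨_, rfl⟩
  obtain ⟨J, hJ⟩ : ∃ J : Subgroup X, J = sSup 𝒜 := ⟨_, rfl⟩
  obtain ⟨Yb, hYb⟩ : ∃ Yb : Subgroup (FFGamma V), Yb = Y.map (ffIota V) := ⟨_, rfl⟩
  rw [← hC, ← hY]
  rw [← hJ] at hKJ
  have hker : (ffIota V).ker = C := hC ▸ ffIota_ker V
  have hS : FFSetup 2 (ffV V) Yb := by
    rw [hYb, hY]; exact ffSetup_thompson hsep V hVel hOp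
  have hS3 : Yb = ⨆ A : {A : Subgroup (FFGamma V) // A ≤ Yb ∧
      IsBestOffenderOn 2 (ffV V) A}, (A : Subgroup (FFGamma V)) := by
    rw [hYb, hY]; exact thompson_map_eq_iSup V hVel
  haveI hYc : Y.Characteristic := hY ▸ Cfsg.Agent.Helper26.thompsonSubgroup_characteristic 2
  have hYn : Y.Normal := inferInstance
  have hJY : J ≤ Y := by
    rw [hJ, hY]
    exact sSup_le (fun A hA => le_sSup (h𝒜 hA))
  have hKY : K ≤ Y := by
    rw [← hKJ]
    exact (commutator_mono le_rfl hJY).trans (commutator_le_right K Y)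
  have hJK : J ≤ normalizer (K : Set X) := by
    have := Cfsg.Agent.S2941.right_le_normalizer_commutator K J
    rwa [hKJ] at this
  -- the image of `K`
  obtain ⟨Kb, hKb⟩ : ∃ Kb : Subgroup (FFGamma V), Kb = K.map (ffIota V) := ⟨_, rfl⟩
  have hKbY : Kb ≤ Yb := by rw [hKb, hYb]; exact map_mono hKY
  have hKb1 : Kb ≠ ⊥ := by
    rw [hKb, Ne, Subgroup.map_eq_bot_iff, hker, hC]
    exact hKC
  have hKbodd : Odd (Nat.card Kb) := by
    have e : Kb = closure ((ffIota V) '' {g : X | g ∈ K ∧ Odd (orderOf g)}) := by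
      rw [hKb, ← MonoidHom.map_closure, hKgen]
    rw [e]
    apply odd_card_closure_of_commute
    · rintro _ ⟨x, ⟨hx, hxo⟩, rfl⟩ _ ⟨y, ⟨hy, hyo⟩, rfl⟩
      apply ff_commute_of_odd hS hS3
      · rw [hYb]; exact ⟨x, hKY hx, rfl⟩
      · rw [hYb]; exact ⟨y, hKY hy, rfl⟩
      · exact Odd.of_dvd_nat hxo (orderOf_map_dvd _ x)
      · exact Odd.of_dvd_nat hyo (orderOf_map_dvd _ y)
    · rintro _ ⟨x, ⟨hx, hxo⟩, rfl⟩
      exact Odd.of_dvd_nat hxo (orderOf_map_dvd _ x)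
  have hmul : Nat.card Kb * Nat.card ↥(K ⊓ C) = 3 * 2 ^ a := by
    rw [hKb, hC, card_map_ffIota_mul V K, hKcard]
  have hK3 : Nat.card Kb = 3 := by
    have h1 : Nat.card Kb ∣ 3 * 2 ^ a := Dvd.intro _ hmul
    have h2 : Nat.Coprime (Nat.card Kb) (2 ^ a) :=
      Nat.Coprime.pow_right _ (Nat.coprime_two_right.mpr hKbodd)
    have h3 : Nat.card Kb ∣ 3 := h2.dvd_of_dvd_mul_right h1
    rcases (Nat.dvd_prime Nat.prime_three).mp h3 with h | h
    · exact absurd (Subgroup.card_eq_one.mp h) hKb1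
    · exact h
  have hrel : (K ⊓ C).relIndex K = 3 := by
    have h1 := Cfsg.Agent.Helper26.card_mul_relIndex_of_le (inf_le_left : K ⊓ C ≤ K)
    rw [hKcard, ← hmul, hK3, mul_comm] at h1
    exact Nat.eq_of_mul_eq_mul_right Nat.card_pos h1
  refine ⟨hrel, ?_⟩
  -- the family of best offenders
  obtain ⟨𝒜b, h𝒜bdef⟩ : ∃ 𝒜b : Set (Subgroup (FFGamma V)),
      𝒜b = (fun A : Subgroup X => A.map (ffIota V)) '' 𝒜 := ⟨_, rfl⟩
  have h𝒜b : ∀ A ∈ 𝒜b, A ≤ Yb ∧ IsBestOffenderOn 2 (ffV V) A := by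
    rw [h𝒜bdef]
    rintro _ ⟨A, hA, rfl⟩
    refine ⟨?_, isBestOffenderOn_map_ffIota V (Cfsg.Agent.S0606.result V hVel A (h𝒜 hA))⟩
    rw [hYb]
    exact map_mono ((le_sSup hA : A ≤ sSup 𝒜).trans (hJ ▸ hJY))
  have hsup : sSup 𝒜b = J.map (ffIota V) := by
    apply le_antisymm
    · apply sSup_le
      rw [h𝒜bdef]
      rintro _ ⟨A, hA, rfl⟩
      exact map_mono (hJ ▸ (le_sSup hA : A ≤ sSup 𝒜))
    · rw [map_le_iff_le_comap, hJ]
      apply sSup_le
      intro A hA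
      rw [← map_le_iff_le_comap]
      apply le_sSup
      rw [h𝒜bdef]
      exact ⟨A, hA, rfl⟩
  have hN : sSup 𝒜b ≤ normalizer (Kb : Set (FFGamma V)) := by
    rw [hsup, hKb]
    exact (map_mono hJK).trans (le_normalizer_map _)
  have hcommKJ : ⁅Kb, sSup 𝒜b⁆ = Kb := by
    rw [hsup, hKb, ← map_commutator, hKJ]
  have hCb : ¬ sSup 𝒜b ≤ centralizer (Kb : Set (FFGamma V)) := by
    intro h
    have h1 : ⁅Kb, sSup 𝒜b⁆ = ⊥ := by
      rw [commutator_eq_bot_iff_le_centralizer]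
      exact le_centralizer_iff.mp h
    rw [hcommKJ] at h1
    exact hKb1 h1
  obtain ⟨A', hA', Bb, hBA, hBm, hcomm, hE⟩ := ff_exists_factor hS hS3 hKbY hK3 𝒜b h𝒜b hN hCb
  rw [h𝒜bdef] at hA'
  obtain ⟨A, hA, rfl⟩ := hA'
  -- a generator of `Bb`
  obtain ⟨bb, hbb, hbb1⟩ : ∃ bb ∈ Bb, bb ≠ 1 := by
    apply exists_mem_ne_one_of_ne_bot
    intro h
    have := hBm.hAp
    rw [h, Subgroup.card_bot] at this
    exact absurd this (by decide)
  obtain ⟨b, hbA, rfl⟩ := hBA hbb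
  have hBz : Bb = (zpowers b).map (ffIota V) := by
    rw [MonoidHom.map_zpowers]
    exact (eq_zpowers_of_card_prime hBm.hAp hbb hbb1).symm
  have hEmap : ffE 2 Yb Bb = (K ⊔ zpowers b).map (ffIota V) := by
    rw [hE, Subgroup.map_sup, hKb, hBz]
  obtain ⟨E, hEdef⟩ : ∃ E : Subgroup X, E = K ⊔ zpowers b ⊔ C := ⟨_, rfl⟩
  have hEcomap : E = (ffE 2 Yb Bb).comap (ffIota V) := by
    rw [hEmap, comap_map_eq, hker, hEdef]
  have hNE : (normalizer ((ffE 2 Yb Bb : Subgroup (FFGamma V)) : Set (FFGamma V))).comap (ffIota V) ≤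
      normalizer (E : Set X) := by
    rw [hEcomap]; exact le_normalizer_comap _
  refine ⟨E, A, hA, b, hbA, hEdef, ?_, ?_, ?_, ?_⟩
  · -- `K ≤ [K, ⟨b⟩] C`
    have h1 : K.map (ffIota V) = (⁅K, zpowers b⁆).map (ffIota V) := by
      rw [map_commutator, ← hKb, ← hBz, hcomm]
    have h2 : K ≤ (K.map (ffIota V)).comap (ffIota V) := le_comap_map _ _
    rw [h1, comap_map_eq, hker] at h2
    exact h2
  · intro hb
    apply hbb1
    rw [ffIota_eq_one_iff, ← hC]
    exact hb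
  · have h1 : Yb ≤ normalizer ((ffE 2 Yb Bb : Subgroup (FFGamma V)) : Set (FFGamma V)) :=
      hS.le_normalizer_ffE hS3 hBm
    refine le_trans ?_ hNE
    rw [← map_le_iff_le_comap, ← hYb]
    exact h1
  · intro n hne
    apply hNE
    rw [mem_comap, Subgroup.mem_normalizer_iff_map_conj_eq]
    have hxH : ffIota V n ∈ normalizer (Yb : Set (FFGamma V)) := by
      rw [hYb]
      apply le_normalizer_map (ffIota V)
      refine ⟨n, ?_, rfl⟩
      rw [normalizer_eq_top_iff.mpr hYn]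
      exact mem_top n
    have hxV : ffIota V n ∈ normalizer ((ffV V : Subgroup (FFGamma V)) : Set (FFGamma V)) := by
      rw [normalizer_eq_top_iff.mpr (inferInstance : (ffV V).Normal)]
      exact mem_top _
    apply ff_map_conj_ffE_eq hS hS3 hBm hxH hxV
    obtain ⟨y, hy, hy1⟩ := exists_mem_ne_one_of_ne_bot hne
    obtain ⟨hyK, hyn⟩ := mem_inf.mp hy
    obtain ⟨y', hy', hy'y⟩ := hyn
    have hKE : K.map (ffIota V) ≤ ffE 2 Yb Bb := by
      rw [hEmap]; exact map_mono le_sup_left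
    obtain ⟨hyV, hy2⟩ := ffInl_mem_commutator_map V K hyK
    obtain ⟨hy'V, hy'2⟩ := ffInl_mem_commutator_map V K hy'
    have hy2' := commutator_mono (le_refl (ffV V)) hKE hy2
    have hy'2' := commutator_mono (le_refl (ffV V)) hKE hy'2
    intro hbot
    have hmem : ffInl V ⟨y, hyV⟩ ∈ ⁅ffV V, ffE 2 Yb Bb⁆ ⊓
        (⁅ffV V, ffE 2 Yb Bb⁆).map (MulAut.conj (ffIota V n)).toMonoidHom := by
      refine mem_inf.mpr ⟨hy2', ⟨ffInl V ⟨y', hy'V⟩, hy'2', ?_⟩⟩
      have h1 := ffIota_conj V n ⟨y', hy'V⟩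
      show ffIota V n * ffInl V ⟨y', hy'V⟩ * (ffIota V n)⁻¹ = ffInl V ⟨y, hyV⟩
      rw [h1]
      congr 1
      apply Subtype.ext
      exact hy'y
    rw [hbot, mem_bot] at hmem
    have h3 : (⟨y, hyV⟩ : ↥V) = 1 := ffInl_injective V (by rw [hmem, map_one])
    exact hy1 (congrArg Subtype.val h3)

end Bridge

end Cfsg.Agent.Helper15.JComp
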