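import Cfsg.Agent.Helper15.JComp6
import Cfsg.Agent.Helper14.Subnormal2

/-!
# J-components, part 7: the local theory inside a solvable overgroup (type level)

`X` finite solvable with `C_X(O₂(X)) ≤ O₂(X)`, `T` a Sylow 2-subgroup, `V = ⟨Ω₁Z(S) | S Sylow⟩`,
`C = C_X(V) ≤ N_X(T)`.  For a `J(T)`-component `K` of `X`: `K` is subnormal, `N_X(W_K) ≤ N_X(K)`,
and `T ≤ N_X(K)` as soon as `Z(T) ∩ W_K ≠ 1`.
-/

set_option autoImplicit false
set_option linter.unusedSectionVars false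

namespace Cfsg.Agent.Helper15.JComp

open Cfsg Subgroup Cfsg.Agent.Helper7
open scoped commutatorElement

section Generic

variable {G : Type*} [Group G]

/-- `IsJComponent T K` depends on `T` only through `J(T)` -/
theorem isJComponent_congr {T T' K : Subgroup G}
    (h : thompsonSubgroupOf 2 T' = thompsonSubgroupOf 2 T) (hK : IsJComponent T K) :
    IsJComponent T' K := by
  unfold IsJComponent at hK ⊢
  rw [h]
  exact hK

/-- `N(P) ≤ N(J(P))` -/
theorem normalizer_le_normalizer_thompsonSubgroupOf (p : ℕ) (P : Subgroup G) :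
    normalizer (P : Set G) ≤ normalizer ((thompsonSubgroupOf p P : Subgroup G) : Set G) := by
  apply Cfsg.Agent.S2941.le_normalizer_of_conj_mem
  intro g hg x hx
  rw [thompsonSubgroupOf_eq_sSup_maxEA] at hx ⊢
  have hle : (sSup (maxEA p P)).map (MulAut.conj g).toMonoidHom ≤ sSup (maxEA p P) := by
    rw [map_le_iff_le_comap]
    apply sSup_le
    intro E hE
    rw [← map_le_iff_le_comap]
    have hmem : E.map (MulAut.conj g).toMonoidHom ∈ maxEA p P := by
      apply map_conj_mem_maxEA hE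
      rintro _ ⟨e, he, rfl⟩
      exact conj_mem_of_mem_normalizer hg (hE.1 he)
    exact le_sSup hmem
  exact hle ⟨x, hx, rfl⟩

/-- (helper6's S2941 without the ambient hypotheses) a subgroup normalized by `⟨K, J(T)⟩` and
normalizing `J(T)` normalizes the `J(T)`-component `K` -/
theorem jc_le_normalizer_of_normalizes {T K Q : Subgroup G} (hT : IsPGroup 2 T)
    (hK : IsJComponent T K)
    (hQ1 : K ⊔ thompsonSubgroupOf 2 T ≤ normalizer (Q : Set G))
    (hQ2 : Q ≤ normalizer ((thompsonSubgroupOf 2 T : Subgroup G) : Set G)) :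
    Q ≤ normalizer (K : Set G) := by
  obtain ⟨J, hJdef⟩ : ∃ J : Subgroup G, J = thompsonSubgroupOf 2 T := ⟨_, rfl⟩
  rw [← hJdef] at hQ1 hQ2
  obtain ⟨hgen, hcomm, -⟩ := hK
  rw [← hJdef] at hcomm
  have hJ2 : IsPGroup 2 ↥J := by
    rw [hJdef]; exact hT.to_le (Cfsg.Agent.S2941.thompsonSubgroupOf_le 2 T)
  have hJK : J ≤ normalizer (K : Set G) := by
    have := Cfsg.Agent.S2941.right_le_normalizer_commutator K J
    rwa [hcomm] at this
  have hKX : ∀ q ∈ Q, ∀ x ∈ K, q * x * q⁻¹ ∈ K ⊔ J := by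
    intro q hq x hx
    rw [← hcomm, Subgroup.commutator_def] at hx
    refine Cfsg.Agent.S2941.conj_closure_mem _ _ q ?_ x hx
    rintro _ ⟨k, hk, j, hj, rfl⟩
    have hkN : k ∈ normalizer (Q : Set G) := hQ1 (mem_sup_left hk)
    have hq' : k⁻¹ * q * k ∈ Q := by
      have := (mem_normalizer_iff.mp (inv_mem hkN) q).mp hq
      simpa using this
    have hr : k⁻¹ * q * k * q⁻¹ ∈ Q := mul_mem hq' (inv_mem hq)
    have hj' : q * j * q⁻¹ ∈ J := (mem_normalizer_iff.mp (hQ2 hq) j).mp hj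
    have hj'' : (k⁻¹ * q * k * q⁻¹) * (q * j * q⁻¹) * (k⁻¹ * q * k * q⁻¹)⁻¹ ∈ J :=
      (mem_normalizer_iff.mp (hQ2 hr) _).mp hj'
    have hkj'' : ⁅k, (k⁻¹ * q * k * q⁻¹) * (q * j * q⁻¹) * (k⁻¹ * q * k * q⁻¹)⁻¹⁆ ∈ K := by
      rw [← hcomm]
      exact commutator_mem_commutator hk hj''
    have e : q * ⁅k, j⁆ * q⁻¹ =
        ⁅k, (k⁻¹ * q * k * q⁻¹) * (q * j * q⁻¹) * (k⁻¹ * q * k * q⁻¹)⁻¹⁆ *
          ((k⁻¹ * q * k * q⁻¹) * (q * j * q⁻¹) * (k⁻¹ * q * k * q⁻¹)⁻¹) * (q * j * q⁻¹)⁻¹ := by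
      simp only [commutatorElement_def]; group
    rw [e]
    exact mul_mem (mul_mem (mem_sup_left hkj'') (mem_sup_right hj''))
      (inv_mem (mem_sup_right hj'))
  apply Cfsg.Agent.S2941.le_normalizer_of_conj_mem
  intro q hq x hx
  rw [← hgen] at hx
  refine Cfsg.Agent.S2941.conj_closure_mem _ _ q ?_ x hx
  rintro g ⟨hgK, hgodd⟩
  apply Cfsg.Agent.S2941.odd_mem_of_mem_sup K J hJ2 hJK _ (hKX q hq g hgK)
  have : orderOf (q * g * q⁻¹) = orderOf g :=
    orderOf_injective (MulAut.conj q).toMonoidHom (MulAut.conj q).injective g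
  rw [this]; exact hgodd

variable [Finite G]

/-- a nontrivial `K`-invariant subgroup of `W_K` is `W_K` -/
theorem jc_eq_wOf_of_le {T K U : Subgroup G} (hK : IsJComponent T K) (hUW : U ≤ wOf K)
    (hU1 : U ≠ ⊥) (hKU : K ≤ normalizer (U : Set G)) : U = wOf K := by
  by_contra hne
  have hnle : ¬ wOf K ≤ U := fun h => hne (le_antisymm hUW h)
  have h2 : Nat.card U ≤ 2 := card_le_two_of_lt (jc_card_wOf hK) hUW hnle
  obtain ⟨u, hu, hu1⟩ := exists_mem_ne_one_of_ne_bot hU1
  obtain ⟨k, hk, hkR⟩ := jc_exists_not_mem_pCoreOf hK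
  have hku : k * u * k⁻¹ ∈ U := conj_mem_of_mem_normalizer (hKU hk) hu
  have hku1 : k * u * k⁻¹ ≠ 1 := by
    intro h
    apply hu1
    calc u = k⁻¹ * (k * u * k⁻¹) * k := by group
      _ = 1 := by rw [h]; group
  have hcard2 : Nat.card U = 2 := by
    have h1 : Nat.card U ≠ 1 := fun h => hU1 (Subgroup.card_eq_one.mp h)
    have h0 : 0 < Nat.card U := Nat.card_pos
    omega
  have heq : k * u * k⁻¹ = u := by
    obtain ⟨y, -, hy⟩ := (Nat.card_eq_two_iff' (1 : U)).mp hcard2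
    have h1 := hy ⟨_, hku⟩ (fun h => hku1 (congrArg Subtype.val h))
    have h2 := hy ⟨_, hu⟩ (fun h => hu1 (congrArg Subtype.val h))
    exact congrArg Subtype.val (h1.trans h2.symm)
  have hc : k * u = u * k := by
    calc k * u = (k * u * k⁻¹) * k := by group
      _ = u * k := by rw [heq]
  exact hu1 (jc_eq_one_of_commute hK hk hkR (hUW hu) hc)

end Generic

section Local

variable {X : Type*} [Group X] [Finite X]

/-- the standing hypotheses of the local theory -/
structure LocalSetup (T K : Subgroup X) : Prop where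
  solv : Group.IsSolvable X
  hT2 : IsPGroup 2 T
  hTodd : Odd T.index
  hc : centralizer (pCore 2 X : Set X) ≤ pCore 2 X
  hCT : centralizer ((omegaZ 2 X : Subgroup X) : Set X) ≤ normalizer (T : Set X)
  hK : IsJComponent T K

namespace LocalSetup

variable {T K : Subgroup X}

theorem omegaZ_normal (h : LocalSetup T K) : (omegaZ 2 X).Normal := by
  haveI : Fact (Nat.Prime 2) := ⟨Nat.prime_two⟩
  exact (Cfsg.Agent.S0601.result h.hc).1

theorem omegaZ_el (h : LocalSetup T K) : IsElementaryAbelian 2 (omegaZ 2 X) := by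
  haveI : Fact (Nat.Prime 2) := ⟨Nat.prime_two⟩
  exact (Cfsg.Agent.S0601.result h.hc).2.1

theorem hOp (h : LocalSetup T K) :
    haveI := h.omegaZ_normal
    pCore 2 (X ⧸ centralizer ((omegaZ 2 X : Subgroup X) : Set X)) = ⊥ := by
  haveI : Fact (Nat.Prime 2) := ⟨Nat.prime_two⟩
  haveI := h.omegaZ_normal
  exact Cfsg.Agent.S0600.result (omegaZ 2 X) h.omegaZ_el (omegaZ_eq_iSup_inf 2 X)

theorem exists_sylow (h : LocalSetup T K) : ∃ TS : Sylow 2 X, (TS : Subgroup X) = T := by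
  haveI : Fact (Nat.Prime 2) := ⟨Nat.prime_two⟩
  have h2 : ¬ 2 ∣ T.index := fun hd => (Nat.not_even_iff_odd.mpr h.hTodd) (even_iff_two_dvd.mpr hd)
  exact ⟨h.hT2.toSylow h2, h.hT2.toSylow_coe h2⟩

theorem pCore_le_T (h : LocalSetup T K) : pCore 2 X ≤ T := by
  obtain ⟨TS, hTS⟩ := h.exists_sylow
  rw [← hTS]
  exact Cfsg.Agent.Helper14.pCore_le_sylow 2 TS

theorem omegaZ_le_centralizer_pCore (h : LocalSetup T K) :
    omegaZ 2 X ≤ centralizer (pCore 2 X : Set X) := by
  apply iSup_le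
  intro S
  refine (omegaOne_le 2 _).trans (inf_le_right.trans ?_)
  exact centralizer_le (Cfsg.Agent.Helper14.pCore_le_sylow 2 S)

theorem omegaZ_le_pCore (h : LocalSetup T K) : omegaZ 2 X ≤ pCore 2 X :=
  h.omegaZ_le_centralizer_pCore.trans h.hc

theorem pCore_le_C (h : LocalSetup T K) :
    pCore 2 X ≤ centralizer ((omegaZ 2 X : Subgroup X) : Set X) :=
  le_centralizer_iff.mp h.omegaZ_le_centralizer_pCore

theorem C_normal (h : LocalSetup T K) :
    (centralizer ((omegaZ 2 X : Subgroup X) : Set X)).Normal := by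
  haveI := h.omegaZ_normal
  infer_instance

/-- every 2-subgroup of `C` lies in `T` -/
theorem le_T_of_isPGroup (h : LocalSetup T K) {Q : Subgroup X} (hQ : IsPGroup 2 Q)
    (hQC : Q ≤ centralizer ((omegaZ 2 X : Subgroup X) : Set X)) : Q ≤ T := by
  obtain ⟨TS, hTS⟩ := h.exists_sylow
  have h1 : IsPGroup 2 ↥(Q ⊔ T) := hQ.to_sup_of_normal_right' h.hT2 (hQC.trans h.hCT)
  have h2 : Q ⊔ T = T := by
    have := TS.is_maximal' (Q := Q ⊔ T) h1 (by rw [hTS]; exact le_sup_right)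
    rw [this, hTS]
  rw [← h2]
  exact le_sup_left

/-- every 2-subgroup of `C` lies in `O₂(X)` -/
theorem le_pCore_of_isPGroup (h : LocalSetup T K) {Q : Subgroup X} (hQ : IsPGroup 2 Q)
    (hQC : Q ≤ centralizer ((omegaZ 2 X : Subgroup X) : Set X)) : Q ≤ pCore 2 X := by
  haveI := h.C_normal
  set C := centralizer ((omegaZ 2 X : Subgroup X) : Set X) with hC
  have hD2 : IsPGroup 2 ↥(T ⊓ C) := h.hT2.to_le inf_le_left
  have hDn : (T ⊓ C).Normal := by
    rw [← normalizer_eq_top_iff, eq_top_iff]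
    apply Cfsg.Agent.Helper14.le_normalizer_of_map_cj_le
    intro g _
    have h1 : (T ⊓ C).map (Cfsg.Agent.Helper14.cj g) ≤ C := by
      rintro _ ⟨x, hx, rfl⟩
      exact Subgroup.Normal.conj_mem inferInstance x hx.2 g
    exact le_inf (h.le_T_of_isPGroup (hD2.map _) h1) h1
  exact (le_inf (h.le_T_of_isPGroup hQ hQC) hQC).trans (Cfsg.Agent.Helper14.le_pCore 2 hDn hD2)

theorem commutator_C_T_le (h : LocalSetup T K) :
    ⁅centralizer ((omegaZ 2 X : Subgroup X) : Set X), T⁆ ≤ pCore 2 X := by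
  haveI := h.C_normal
  set C := centralizer ((omegaZ 2 X : Subgroup X) : Set X) with hC
  have h1 : ⁅C, T⁆ ≤ C := commutator_le_left C T
  have h2 : ⁅C, T⁆ ≤ T := by
    rw [commutator_comm]
    exact Cfsg.Agent.Lead.commutator_le_of_le_normalizer h.hCT
  exact h.le_pCore_of_isPGroup (h.hT2.to_le h2) h1

theorem C_le_normalizer_J (h : LocalSetup T K) :
    centralizer ((omegaZ 2 X : Subgroup X) : Set X) ≤
      normalizer ((thompsonSubgroupOf 2 T : Subgroup X) : Set X) :=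
  h.hCT.trans (normalizer_le_normalizer_thompsonSubgroupOf 2 T)

theorem C_le_normalizer_K (h : LocalSetup T K) :
    centralizer ((omegaZ 2 X : Subgroup X) : Set X) ≤ normalizer (K : Set X) := by
  haveI := h.C_normal
  apply jc_le_normalizer_of_normalizes h.hT2 h.hK _ h.C_le_normalizer_J
  rw [normalizer_eq_top_iff.mpr h.C_normal]
  exact le_top

theorem J_le_normalizer_K (h : LocalSetup T K) :
    thompsonSubgroupOf 2 T ≤ normalizer (K : Set X) := jc_thompson_le_normalizer h.hK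

theorem J_le_T (h : LocalSetup T K) : thompsonSubgroupOf 2 T ≤ T :=
  Cfsg.Agent.S2941.thompsonSubgroupOf_le 2 T

/-- `K` does not centralize `V` -/
theorem not_K_le_C (h : LocalSetup T K) :
    ¬ K ≤ centralizer ((omegaZ 2 X : Subgroup X) : Set X) := by
  intro hKC
  have h1 : K ≤ pCore 2 X := by
    have := h.hK.2.1
    rw [← this]
    exact (commutator_mono hKC h.J_le_T).trans h.commutator_C_T_le
  have h2 : IsPGroup 2 K := (Cfsg.Agent.Helper14.pCore_isPGroup 2).to_le h1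
  obtain ⟨n, hn⟩ := h2.exists_card_eq
  have h3 : (pCoreOf 2 K).relIndex K ∣ Nat.card K := relIndex_dvd_card _ _
  rw [jc_relIndex h.hK, hn] at h3
  have : (3 : ℕ) ∣ 2 := Nat.Prime.dvd_of_dvd_pow Nat.prime_three h3
  omega

theorem card_K (h : LocalSetup T K) : ∃ a : ℕ, Nat.card K = 3 * 2 ^ a := by
  obtain ⟨a, ha⟩ := (Cfsg.Agent.Helper14.pCoreOf_isPGroup 2 K).exists_card_eq
  refine ⟨a, ?_⟩
  have := Cfsg.Agent.Helper26.card_mul_relIndex_of_le (Cfsg.Agent.Helper14.pCoreOf_le 2 K)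
  rw [jc_relIndex h.hK, ha] at this
  rw [← this, mul_comm]

/-- elementary abelian subgroups of largest order of `T` are such for `X` -/
theorem maxEA_subset (h : LocalSetup T K) : maxEA 2 T ⊆ maxElementaryAbelianSubgroups 2 X := by
  haveI : Fact (Nat.Prime 2) := ⟨Nat.prime_two⟩
  obtain ⟨TS, hTS⟩ := h.exists_sylow
  obtain ⟨A₀, hA₀, hA₀T⟩ := Cfsg.Agent.Helper26.exists_mem_maxElementaryAbelianSubgroups_le_sylow TS
  rw [hTS] at hA₀T
  intro A hA
  have := Cfsg.Agent.Helper26.map_subtype_mem_maxElementaryAbelianSubgroups hA₀ hA₀T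
    (subgroupOf_mem_of_mem_maxEA hA)
  rwa [map_subgroupOf_eq_of_le hA.1] at this

/-- the output of the bridge -/
theorem exists_factor (h : LocalSetup T K) :
    (K ⊓ centralizer ((omegaZ 2 X : Subgroup X) : Set X)).relIndex K = 3 ∧
    ∃ E : Subgroup X, ∃ A ∈ maxEA 2 T, ∃ b ∈ A,
      E = K ⊔ zpowers b ⊔ centralizer ((omegaZ 2 X : Subgroup X) : Set X) ∧
      K ≤ ⁅K, zpowers b⁆ ⊔ centralizer ((omegaZ 2 X : Subgroup X) : Set X) ∧
      b ∉ centralizer ((omegaZ 2 X : Subgroup X) : Set X) ∧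
      thompsonSubgroup 2 X ≤ normalizer (E : Set X) ∧
      ∀ n : X, ⁅omegaZ 2 X, K⁆ ⊓ (⁅omegaZ 2 X, K⁆).map (MulAut.conj n).toMonoidHom ≠ ⊥ →
        n ∈ normalizer (E : Set X) := by
  haveI := h.solv
  haveI := h.omegaZ_normal
  obtain ⟨a, ha⟩ := h.card_K
  refine ff_bridge (omegaZ 2 X) h.omegaZ_el h.hOp (maxEA 2 T) h.maxEA_subset K h.hK.1 ?_ a ha
    h.not_K_le_C
  rw [← thompsonSubgroupOf_eq_sSup_maxEA]
  exact h.hK.2.1

theorem K_inf_C_le_pCore (h : LocalSetup T K) :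
    K ⊓ centralizer ((omegaZ 2 X : Subgroup X) : Set X) ≤ pCore 2 X := by
  obtain ⟨a, ha⟩ := h.card_K
  have h3 := h.exists_factor.1
  have h1 := Cfsg.Agent.Helper26.card_mul_relIndex_of_le
    (inf_le_left : K ⊓ centralizer ((omegaZ 2 X : Subgroup X) : Set X) ≤ K)
  rw [h3, ha, mul_comm] at h1
  have h2 : Nat.card ↥(K ⊓ centralizer ((omegaZ 2 X : Subgroup X) : Set X)) = 2 ^ a :=
    Nat.eq_of_mul_eq_mul_left (by norm_num) h1
  exact h.le_pCore_of_isPGroup (IsPGroup.of_card h2) inf_le_right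

/-- **`K` is subnormal in `X`.** -/
theorem isSubnormal (h : LocalSetup T K) : K.IsSubnormal := by
  haveI := h.C_normal
  obtain ⟨-, E, A, hA, b, hbA, hE, -, -, hYE, -⟩ := h.exists_factor
  set C := centralizer ((omegaZ 2 X : Subgroup X) : Set X) with hC
  set Y := thompsonSubgroup 2 X with hY
  haveI hYc : Y.Characteristic := Cfsg.Agent.Helper26.thompsonSubgroup_characteristic 2
  haveI hYn : Y.Normal := inferInstance
  have hbJ : b ∈ thompsonSubgroupOf 2 T := le_thompsonSubgroupOf_of_mem_maxEA hA hbA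
  have hJY : thompsonSubgroupOf 2 T ≤ Y := by
    rw [thompsonSubgroupOf_eq_sSup_maxEA]
    exact sSup_le (fun A hA => le_sSup (h.maxEA_subset hA))
  have hKY : K ≤ Y := by
    rw [← h.hK.2.1]
    exact (commutator_mono le_rfl hJY).trans (commutator_le_right K Y)
  -- the chain `K ⊴ K C ⊴ E ⊴ Y C ⊴ X`
  have hYCn : (Y ⊔ C).Normal := sup_normal Y C
  have h4 : (Y ⊔ C).IsSubnormal := hYCn.isSubnormal
  have hEYC : E ≤ Y ⊔ C := by
    rw [hE]
    refine sup_le (sup_le (hKY.trans le_sup_left) ?_) le_sup_right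
    rw [zpowers_le]
    exact le_sup_left (a := Y) (hJY hbJ)
  have hCE : C ≤ E := hE ▸ le_sup_right
  have h3 : E.IsSubnormal := by
    refine IsSubnormal.step E (Y ⊔ C) hEYC h4 ?_
    rw [normal_subgroupOf_iff_le_normalizer hEYC]
    exact sup_le hYE (hCE.trans le_normalizer)
  have hM1E : K ⊔ C ≤ E := by
    rw [hE]; exact sup_le (le_sup_left.trans le_sup_left) le_sup_right
  have hbN : zpowers b ≤ normalizer ((K ⊔ C : Subgroup X) : Set X) := by
    rw [zpowers_le]
    apply le_normalizer_sup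
    refine ⟨h.J_le_normalizer_K hbJ, ?_⟩
    rw [normalizer_eq_top_iff.mpr h.C_normal]
    exact mem_top b
  have h2 : (K ⊔ C).IsSubnormal := by
    refine IsSubnormal.step (K ⊔ C) E hM1E h3 ?_
    rw [normal_subgroupOf_iff_le_normalizer hM1E, hE]
    exact sup_le (sup_le (le_sup_left.trans le_normalizer) hbN) (le_sup_right.trans le_normalizer)
  refine IsSubnormal.step K (K ⊔ C) le_sup_left h2 ?_
  rw [normal_subgroupOf_iff_le_normalizer le_sup_left]
  exact sup_le le_normalizer h.C_le_normalizer_K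

theorem pCoreOf_le_pCore (h : LocalSetup T K) : pCoreOf 2 K ≤ pCore 2 X := by
  apply Cfsg.Agent.Helper14.le_pCore_of_isSubnormal _ (Cfsg.Agent.Helper14.pCoreOf_isPGroup 2 K)
  exact Subgroup.IsSubnormal.trans' (Subgroup.Normal.isSubnormal inferInstance) h.isSubnormal

theorem pCore_le_normalizer_K (h : LocalSetup T K) : pCore 2 X ≤ normalizer (K : Set X) :=
  h.pCore_le_C.trans h.C_le_normalizer_K

/-- `[V, K] = W_K` -/
theorem commutator_omegaZ_eq_wOf (h : LocalSetup T K) : ⁅omegaZ 2 X, K⁆ = wOf K := by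
  haveI hVn := h.omegaZ_normal
  haveI : IsMulCommutative (omegaZ 2 X) := h.omegaZ_el.1
  set V := omegaZ 2 X with hV
  set P := pCore 2 X with hP
  set R := pCoreOf 2 K with hR
  have hRK : R ≤ K := Cfsg.Agent.Helper14.pCoreOf_le 2 K
  have hKR : K ≤ normalizer (R : Set X) := Cfsg.Agent.Helper14.le_normalizer_pCoreOf 2 K
  have hRP : R ≤ P := h.pCoreOf_le_pCore
  have hRC : R ≤ centralizer (V : Set X) := hRP.trans h.pCore_le_C
  have hNV : ∀ A : Subgroup X, A ≤ normalizer (V : Set X) := by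
    intro A
    rw [normalizer_eq_top_iff.mpr hVn]
    exact le_top
  -- an element of odd order outside `R`
  obtain ⟨k, hk, hko, hkR⟩ : ∃ k ∈ K, Odd (orderOf k) ∧ k ∉ R := by
    by_contra hcon
    push Not at hcon
    obtain ⟨k', hk', hk'R⟩ := jc_exists_not_mem_pCoreOf h.hK
    apply hk'R
    have : K ≤ R := by
      rw [← h.hK.1, closure_le]
      rintro g ⟨hg, hgo⟩
      exact hcon g hg hgo
    exact this hk'
  set Q := zpowers k with hQ
  have hQK : Q ≤ K := by rw [hQ, zpowers_le]; exact hk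
  have hKle : K ≤ R ⊔ Q := by
    intro x hx
    obtain ⟨n, r, hr, hxe⟩ := exists_zpow_mul hRK hKR (jc_relIndex h.hK) hk hkR hx
    rw [hxe]
    exact mul_mem (mem_sup_right (zpow_mem (mem_zpowers k) n)) (mem_sup_left hr)
  have hVR : ⁅V, R⁆ = ⊥ := by
    rw [commutator_eq_bot_iff_le_centralizer]
    exact le_centralizer_iff.mp hRC
  have hVK : ⁅V, K⁆ = ⁅V, Q⁆ := by
    apply le_antisymm
    · refine (commutator_mono le_rfl hKle).trans ?_
      rw [commutator_sup_right_eq (hNV R) (hNV Q), hVR, bot_sup_eq]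
    · exact commutator_mono le_rfl hQK
  -- coprime action of `Q` on `V`
  have hcop : (Nat.card Q).Coprime (Nat.card V) := by
    obtain ⟨m, hm⟩ := (Cfsg.Agent.Helper26.isPGroup_of_isElementaryAbelian h.omegaZ_el).exists_card_eq
    rw [hm, hQ, Nat.card_zpowers]
    exact Nat.Coprime.pow_right _ (Nat.coprime_two_right.mpr hko)
  obtain ⟨-, hd2⟩ := Cfsg.Agent.Lead.coprime_abelian_decomp Q V (hNV Q) hcop
  set U := ⁅V, Q⁆ with hU
  have hUV : U ≤ V := Cfsg.Agent.Lead.commutator_le_of_le_normalizer (hNV Q)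
  have hVab : ∀ v ∈ V, ∀ w ∈ V, v * w = w * v := fun v hv w hw =>
    Cfsg.Agent.Helper26.isElementaryAbelian_commute h.omegaZ_el hv hw
  have hUU : U ≤ ⁅U, Q⁆ := by
    have h1 : ⁅(V ⊓ centralizer (Q : Set X)) ⊔ U, Q⁆ ≤ ⁅U, Q⁆ := by
      apply Cfsg.Agent.Helper10.commutator_sup_le_of_conj_mem
      · rw [hd2]
        intro g hg w hw
        have hwV : w ∈ V := hUV (commutator_mono hUV (le_refl Q) hw)
        rw [hVab g hg w hwV, mul_inv_cancel_right]
        exact hw
      · have : ⁅V ⊓ centralizer (Q : Set X), Q⁆ = ⊥ := by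
          rw [commutator_eq_bot_iff_le_centralizer]
          exact inf_le_right
        rw [this]; exact bot_le
      · exact le_rfl
    rw [hd2] at h1
    exact h1
  -- `U ≤ Ω₁Z(R)`
  have hPK : ⁅P, K⁆ ≤ R := by
    have h1 : ⁅P, K⁆ ≤ P := commutator_le_left P K
    have h2 : ⁅P, K⁆ ≤ K := by
      rw [commutator_comm]
      exact Cfsg.Agent.Lead.commutator_le_of_le_normalizer h.pCore_le_normalizer_K
    have h3 : K ≤ normalizer ((⁅P, K⁆ : Subgroup X) : Set X) :=
      Cfsg.Agent.Lead.le_normalizer_commutator_right P K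
    exact Cfsg.Agent.Helper14.le_pCoreOf 2 h2 h3 ((Cfsg.Agent.Helper14.pCore_isPGroup 2).to_le h1)
  have hUR : U ≤ R :=
    (commutator_mono h.omegaZ_le_pCore hQK).trans hPK
  have hUZ : U ≤ omegaCenterOf R := by
    intro u hu
    unfold omegaCenterOf omegaOne
    apply Subgroup.subset_closure
    refine ⟨mem_inf.mpr ⟨hUR hu, ?_⟩, h.omegaZ_el.2 u (hUV hu)⟩
    exact centralizer_le hRP (h.omegaZ_le_centralizer_pCore (hUV hu))
  have hUW : ⁅V, K⁆ ≤ wOf K := by
    rw [hVK]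
    exact hUU.trans (commutator_mono hUZ hQK)
  have hne : ⁅V, K⁆ ≠ ⊥ := by
    intro hbot
    rw [commutator_eq_bot_iff_le_centralizer] at hbot
    exact h.not_K_le_C (le_centralizer_iff.mp hbot)
  exact jc_eq_wOf_of_le h.hK hUW hne (Cfsg.Agent.Lead.le_normalizer_commutator_right V K)

/-- an element normalizing the factor `E = K ⟨b⟩ C` normalizes `K` -/
theorem mem_normalizer_K_of_mem_normalizer_E (h : LocalSetup T K) {E A : Subgroup X}
    (hA : A ∈ maxEA 2 T) {b : X} (hbA : b ∈ A)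
    (hE : E = K ⊔ zpowers b ⊔ centralizer ((omegaZ 2 X : Subgroup X) : Set X))
    (hKb : K ≤ ⁅K, zpowers b⁆ ⊔ centralizer ((omegaZ 2 X : Subgroup X) : Set X)) {n : X}
    (hn : n ∈ normalizer (E : Set X)) : n ∈ normalizer (K : Set X) := by
  haveI hCn := h.C_normal
  haveI hPn : (pCore 2 X).Normal := Cfsg.Agent.Helper14.pCore_normal 2
  set C := centralizer ((omegaZ 2 X : Subgroup X) : Set X) with hC
  set P := pCore 2 X with hP
  set B := zpowers b with hB
  set cn := (MulAut.conj n).toMonoidHom with hcn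
  have hbJ : b ∈ thompsonSubgroupOf 2 T := le_thompsonSubgroupOf_of_mem_maxEA hA hbA
  have hBT : B ≤ T := by rw [hB, zpowers_le]; exact hA.1 hbA
  have hB2 : IsPGroup 2 B := h.hT2.to_le hBT
  have hBK : B ≤ normalizer (K : Set X) := by
    rw [hB, zpowers_le]; exact h.J_le_normalizer_K hbJ
  have hNC : ∀ A : Subgroup X, A ≤ normalizer (C : Set X) := by
    intro A; rw [normalizer_eq_top_iff.mpr hCn]; exact le_top
  have hNP : ∀ A : Subgroup X, A ≤ normalizer (P : Set X) := by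
    intro A; rw [normalizer_eq_top_iff.mpr hPn]; exact le_top
  have hEK : E ≤ normalizer (K : Set X) := by
    rw [hE]; exact sup_le (sup_le le_normalizer hBK) h.C_le_normalizer_K
  have hEmap : E.map cn = E := mem_normalizer_iff_map_conj_eq.mp hn
  have hKE : K ≤ E := by rw [hE]; exact le_sup_left.trans le_sup_left
  have hBE : B ≤ E := by rw [hE]; exact le_sup_right.trans le_sup_left
  have hK'E : K.map cn ≤ E := hEmap ▸ map_mono hKE
  have hB'E : B.map cn ≤ E := hEmap ▸ map_mono hBE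
  have hCmap : C.map cn = C := mem_normalizer_iff_map_conj_eq.mp (hNC ⊤ (mem_top n))
  have hPmap : P.map cn = P := mem_normalizer_iff_map_conj_eq.mp (hNP ⊤ (mem_top n))
  -- `K' ≤ K C`
  have hBM : B ≤ normalizer ((K ⊔ C : Subgroup X) : Set X) :=
    (le_inf hBK (hNC B)).trans le_normalizer_sup
  have hEM : E = (K ⊔ C) ⊔ B := by rw [hE, sup_right_comm]
  have hgenmap : K.map cn = closure (cn '' {g : X | g ∈ K ∧ Odd (orderOf g)}) := by
    rw [← MonoidHom.map_closure, h.hK.1]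
  have hodd : ∀ x : X, orderOf (cn x) = orderOf x := fun x =>
    orderOf_injective cn (MulAut.conj n).injective x
  have hK'M : K.map cn ≤ K ⊔ C := by
    rw [hgenmap, closure_le]
    rintro _ ⟨x, ⟨hx, hxo⟩, rfl⟩
    apply Cfsg.Agent.S2941.odd_mem_of_mem_sup (K ⊔ C) B hB2 hBM
    · rw [← hEM]; exact hK'E ⟨x, hx, rfl⟩
    · rw [hodd]; exact hxo
  -- `[C, T'] ≤ P`
  have hCT' : ⁅C, T.map cn⁆ ≤ P := by
    have : ⁅C, T.map cn⁆ = (⁅C, T⁆).map cn := by rw [map_commutator, hCmap]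
    rw [this, ← hPmap]
    exact map_mono h.commutator_C_T_le
  -- `K ≤ [K, B] P`
  have hcKB : ⁅K, B⁆ ≤ K := Cfsg.Agent.Lead.commutator_le_of_le_normalizer hBK
  have hKBP : K ≤ ⁅K, B⁆ ⊔ P := by
    intro k hk
    obtain ⟨y, hy, c, hc, hyc⟩ := mem_sup_of_normal_right.mp (hKb hk)
    have hcK : c ∈ K := by
      have : c = y⁻¹ * k := by rw [← hyc]; group
      rw [this]
      exact mul_mem (inv_mem (hcKB hy)) hk
    rw [← hyc]
    exact mul_mem (mem_sup_left hy) (mem_sup_right (h.K_inf_C_le_pCore (mem_inf.mpr ⟨hcK, hc⟩)))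
  have hK'BP : K.map cn ≤ ⁅K.map cn, B.map cn⁆ ⊔ P := by
    have := map_mono (f := cn) hKBP
    rwa [Subgroup.map_sup, map_commutator, hPmap] at this
  have hKCN : K ⊔ C ≤ normalizer ((K ⊔ P : Subgroup X) : Set X) := by
    refine (le_inf ?_ (hNP _)).trans le_normalizer_sup
    exact sup_le le_normalizer h.C_le_normalizer_K
  have hcomm' : ⁅K.map cn, B.map cn⁆ ≤ K ⊔ P := by
    refine (commutator_mono hK'M le_rfl).trans ?_
    apply Cfsg.Agent.Helper10.commutator_sup_le_of_conj_mem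
    · intro g hg w hw
      exact conj_mem_of_mem_normalizer (hKCN hg) hw
    · exact (Cfsg.Agent.Lead.commutator_le_of_le_normalizer (hB'E.trans hEK)).trans le_sup_left
    · exact ((commutator_mono le_rfl (map_mono hBT)).trans hCT').trans le_sup_right
  have hK'KP : K.map cn ≤ K ⊔ P := hK'BP.trans (sup_le hcomm' le_sup_right)
  have hK'K : K.map cn ≤ K := by
    rw [hgenmap, closure_le]
    rintro _ ⟨x, ⟨hx, hxo⟩, rfl⟩
    apply Cfsg.Agent.S2941.odd_mem_of_mem_sup K P (Cfsg.Agent.Helper14.pCore_isPGroup 2)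
      h.pCore_le_normalizer_K
    · exact hK'KP ⟨x, hx, rfl⟩
    · rw [hodd]; exact hxo
  rw [mem_normalizer_iff_map_conj_eq]
  exact eq_of_le_of_card_ge hK'K (le_of_eq (card_map_conj K n).symm)

/-- **`N_X(W_K) ≤ N_X(K)`**, and more generally `n` normalizes `K` as soon as `W_K ∩ W_Kⁿ ≠ 1` -/
theorem mem_normalizer_of_wOf_inf_ne_bot (h : LocalSetup T K) {n : X}
    (hn : wOf K ⊓ (wOf K).map (MulAut.conj n).toMonoidHom ≠ ⊥) : n ∈ normalizer (K : Set X) := by
  obtain ⟨-, E, A, hA, b, hbA, hE, hKb, -, -, hplane⟩ := h.exists_factor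
  apply h.mem_normalizer_K_of_mem_normalizer_E hA hbA hE hKb
  apply hplane
  rw [h.commutator_omegaZ_eq_wOf]
  exact hn

theorem normalizer_wOf_le (h : LocalSetup T K) :
    normalizer ((wOf K : Subgroup X) : Set X) ≤ normalizer (K : Set X) := by
  intro n hn
  apply h.mem_normalizer_of_wOf_inf_ne_bot
  have hmap : (wOf K).map (MulAut.conj n).toMonoidHom = wOf K :=
    Cfsg.Agent.Helper14.mem_normalizer_iff_map_cj.mp hn
  rw [hmap, inf_idem]
  intro hbot
  have := jc_card_wOf h.hK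
  rw [hbot, Subgroup.card_bot] at this
  norm_num at this

/-- **`T ≤ N_X(K)` when `Z(T) ∩ W_K ≠ 1`** -/
theorem T_le_normalizer (h : LocalSetup T K)
    (hz : T ⊓ centralizer (T : Set X) ⊓ wOf K ≠ ⊥) : T ≤ normalizer (K : Set X) := by
  obtain ⟨z, hz, hz1⟩ := exists_mem_ne_one_of_ne_bot hz
  obtain ⟨hzZ, hzW⟩ := mem_inf.mp hz
  obtain ⟨-, hzc⟩ := mem_inf.mp hzZ
  intro t ht
  apply h.mem_normalizer_of_wOf_inf_ne_bot
  intro hbot
  have hmem : z ∈ wOf K ⊓ (wOf K).map (MulAut.conj t).toMonoidHom := by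
    refine mem_inf.mpr ⟨hzW, ⟨z, hzW, ?_⟩⟩
    show t * z * t⁻¹ = z
    rw [mem_centralizer_iff.mp hzc t ht]
    group
  rw [hbot, mem_bot] at hmem
  exact hz1 hmem

end LocalSetup

end Local

end Cfsg.Agent.Helper15.JComp
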