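import Cfsg.Agent.Helper15.JComp7

/-!
# J-components, part 8: the local theory inside an overgroup `L` (subgroup level)

From `hZ : C_G(Ω₁Z(S)) ≤ N_G(S)` for the Sylow 2-subgroups `S` of `G`: if `L` is solvable with Sylow
2-subgroup `T` and `C_G(O₂(L)) ≤ O₂(L)`, then the type `↥L` satisfies the standing hypotheses of
part 7 for every `J(T)`-component `K ≤ L`.
-/

set_option autoImplicit false
set_option linter.unusedSectionVars false

namespace Cfsg.Agent.Helper15.JComp

open Cfsg Subgroup Cfsg.Agent.Helper7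
open scoped commutatorElement

variable {G : Type*} [Group G] [Finite G]

theorem pCoreOf_le_of_isSylowTwoIn {T L : Subgroup G} (hTL : IsSylowTwoIn T L) :
    pCoreOf 2 L ≤ T := by
  haveI : Fact (Nat.Prime 2) := ⟨Nat.prime_two⟩
  have h2 : ¬ 2 ∣ (T.subgroupOf L).index := fun hd =>
    (Nat.not_even_iff_odd.mpr hTL.2.2) (even_iff_two_dvd.mpr hd)
  have hT2 : IsPGroup 2 (T.subgroupOf L) := hTL.2.1.comap_subtype
  have h1 := Cfsg.Agent.Helper14.pCore_le_sylow 2 (hT2.toSylow h2)
  rw [hT2.toSylow_coe h2] at h1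
  rintro _ ⟨x, hx, rfl⟩
  exact mem_subgroupOf.mp (h1 hx)

/-- the standing hypotheses of the local theory hold in `↥L` -/
theorem localSetup_of_overgroup
    (hZ : ∀ S : Sylow 2 G, centralizer ((omegaCenterOf (S : Subgroup G) : Subgroup G) : Set G) ≤
      normalizer ((S : Subgroup G) : Set G))
    {T L K : Subgroup G} (hsolv : Group.IsSolvable ↥L) (hTL : IsSylowTwoIn T L)
    (hCP : centralizer ((pCoreOf 2 L : Subgroup G) : Set G) ≤ pCoreOf 2 L)
    (hK : IsJComponent T K) (hKL : K ≤ L) :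
    LocalSetup (T.subgroupOf L) (K.subgroupOf L) := by
  haveI : Fact (Nat.Prime 2) := ⟨Nat.prime_two⟩
  have hT2 : IsPGroup 2 (T.subgroupOf L) := hTL.2.1.comap_subtype
  have hTodd : Odd (T.subgroupOf L).index := hTL.2.2
  have h2 : ¬ 2 ∣ (T.subgroupOf L).index := fun hd =>
    (Nat.not_even_iff_odd.mpr hTodd) (even_iff_two_dvd.mpr hd)
  have hPT : pCoreOf 2 L ≤ T := pCoreOf_le_of_isSylowTwoIn hTL
  refine ⟨hsolv, hT2, hTodd, ?_, ?_, ?_⟩
  · -- `C_X(O₂(X)) ≤ O₂(X)`
    intro x hx
    have h1 : (x : G) ∈ centralizer ((pCoreOf 2 L : Subgroup G) : Set G) := by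
      rw [mem_centralizer_iff]
      rintro _ ⟨y, hy, rfl⟩
      exact congrArg Subtype.val (mem_centralizer_iff.mp hx y hy)
    obtain ⟨x', hx', hxx'⟩ := hCP h1
    have : x' = x := Subtype.ext hxx'
    rw [← this]; exact hx'
  · -- `C_X(V) ≤ N_X(T)`
    intro c hc
    rw [← subgroupOf_normalizer_eq hTL.1, mem_subgroupOf]
    obtain ⟨S', hTS'⟩ := hTL.2.1.exists_le_sylow
    have hZV : omegaCenterOf (S' : Subgroup G) ≤ (omegaZ 2 ↥L).map L.subtype := by
      unfold omegaCenterOf omegaOne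
      rw [closure_le]
      rintro x ⟨hx1, hx2⟩
      obtain ⟨hxS, hxc⟩ := mem_inf.mp hx1
      have hxT : x ∈ T := by
        apply hPT
        apply hCP
        exact centralizer_le (hPT.trans hTS') hxc
      have hxL : x ∈ L := hTL.1 hxT
      refine ⟨⟨x, hxL⟩, ?_, rfl⟩
      refine (le_iSup (fun S : Sylow 2 ↥L => omegaOne 2
        ((S : Subgroup ↥L) ⊓ centralizer ((S : Subgroup ↥L) : Set ↥L))) (hT2.toSylow h2)) ?_
      unfold omegaOne
      apply Subgroup.subset_closure
      rw [hT2.toSylow_coe h2]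
      refine ⟨mem_inf.mpr ⟨mem_subgroupOf.mpr hxT, ?_⟩, Subtype.ext hx2⟩
      rw [mem_centralizer_iff]
      intro y hy
      apply Subtype.ext
      exact mem_centralizer_iff.mp hxc y (hTS' (mem_subgroupOf.mp hy))
    have hcc : (c : G) ∈ centralizer ((omegaCenterOf (S' : Subgroup G) : Subgroup G) : Set G) := by
      rw [mem_centralizer_iff]
      intro z hz
      obtain ⟨z', hz', rfl⟩ := hZV hz
      exact congrArg Subtype.val (mem_centralizer_iff.mp hc z' hz')
    have hcS : (c : G) ∈ normalizer ((S' : Subgroup G) : Set G) := hZ S' hcc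
    have hSL : (S' : Subgroup G) ⊓ L = T := by
      apply le_antisymm
      · have hQ2 : IsPGroup 2 (((S' : Subgroup G) ⊓ L).subgroupOf L) :=
          (S'.isPGroup'.to_le inf_le_left).comap_subtype
        have hle : ((hT2.toSylow h2 : Sylow 2 ↥L) : Subgroup ↥L) ≤
            ((S' : Subgroup G) ⊓ L).subgroupOf L := by
          rw [hT2.toSylow_coe h2]
          intro y hy
          rw [mem_subgroupOf] at hy ⊢
          exact mem_inf.mpr ⟨hTS' hy, y.2⟩
        have heq := (hT2.toSylow h2).is_maximal' hQ2 hle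
        rw [hT2.toSylow_coe h2] at heq
        intro y hy
        have : (⟨y, (mem_inf.mp hy).2⟩ : ↥L) ∈ ((S' : Subgroup G) ⊓ L).subgroupOf L :=
          mem_subgroupOf.mpr hy
        rw [heq] at this
        exact mem_subgroupOf.mp this
      · exact le_inf hTS' hTL.1
    rw [← hSL]
    exact le_normalizer_inf (mem_inf.mpr ⟨hcS, le_normalizer c.2⟩)
  · rw [← isJComponent_map_iff L.subtype_injective, map_subgroupOf_eq_of_le hTL.1,
      map_subgroupOf_eq_of_le hKL]
    exact hK

theorem wOf_subgroupOf {L K : Subgroup G} (hKL : K ≤ L) :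
    wOf (K.subgroupOf L) = (wOf K).subgroupOf L := by
  have h1 := wOf_map L.subtype_injective (K.subgroupOf L)
  rw [map_subgroupOf_eq_of_le hKL] at h1
  rw [h1]
  exact (comap_map_eq_self_of_injective L.subtype_injective _).symm

/-- the three main local results, at the level of subgroups of `G` -/
theorem jc_local
    (hZ : ∀ S : Sylow 2 G, centralizer ((omegaCenterOf (S : Subgroup G) : Subgroup G) : Set G) ≤
      normalizer ((S : Subgroup G) : Set G))
    {T L K : Subgroup G} (hsolv : Group.IsSolvable ↥L) (hTL : IsSylowTwoIn T L)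
    (hCP : centralizer ((pCoreOf 2 L : Subgroup G) : Set G) ≤ pCoreOf 2 L)
    (hK : IsJComponent T K) (hKL : K ≤ L) :
    (K.subgroupOf L).IsSubnormal ∧
    (T ⊓ centralizer (T : Set G) ⊓ wOf K ≠ ⊥ → T ≤ normalizer (K : Set G)) ∧
    L ⊓ normalizer ((wOf K : Subgroup G) : Set G) ≤ normalizer (K : Set G) := by
  have h := localSetup_of_overgroup hZ hsolv hTL hCP hK hKL
  have hWL : wOf K ≤ L := (wOf_le K).trans hKL
  refine ⟨h.isSubnormal, ?_, ?_⟩
  · intro hz
    obtain ⟨z, hz, hz1⟩ := exists_mem_ne_one_of_ne_bot hz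
    obtain ⟨hzZ, hzW⟩ := mem_inf.mp hz
    obtain ⟨hzT, hzc⟩ := mem_inf.mp hzZ
    have hzL : z ∈ L := hTL.1 hzT
    have h1 : T.subgroupOf L ≤ normalizer ((K.subgroupOf L : Subgroup ↥L) : Set ↥L) := by
      apply h.T_le_normalizer
      intro hbot
      have hmem : (⟨z, hzL⟩ : ↥L) ∈ T.subgroupOf L ⊓ centralizer ((T.subgroupOf L : Subgroup ↥L) : Set ↥L) ⊓
          wOf (K.subgroupOf L) := by
        refine mem_inf.mpr ⟨mem_inf.mpr ⟨mem_subgroupOf.mpr hzT, ?_⟩, ?_⟩
        · rw [mem_centralizer_iff]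
          intro y hy
          apply Subtype.ext
          exact mem_centralizer_iff.mp hzc y (mem_subgroupOf.mp hy)
        · rw [wOf_subgroupOf hKL]
          exact mem_subgroupOf.mpr hzW
      rw [hbot, mem_bot] at hmem
      exact hz1 (congrArg Subtype.val hmem)
    rw [← subgroupOf_normalizer_eq hKL] at h1
    intro t ht
    exact mem_subgroupOf.mp (h1 (mem_subgroupOf.mpr (show ((⟨t, hTL.1 ht⟩ : ↥L) : G) ∈ T from ht)))
  · intro n hn
    obtain ⟨hnL, hnW⟩ := mem_inf.mp hn
    have h1 := h.normalizer_wOf_le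
    rw [wOf_subgroupOf hKL, ← subgroupOf_normalizer_eq hWL, ← subgroupOf_normalizer_eq hKL] at h1
    exact mem_subgroupOf.mp (h1 (mem_subgroupOf.mpr (show ((⟨n, hnL⟩ : ↥L) : G) ∈ _ from hnW)))

/-- overgroups in `jOvergroups T` are solvable -/
theorem isSolvable_of_mem_jOvergroups
    (hN : ∀ N : Subgroup G, IsTwoLocal N → Group.IsSolvable ↥N) {T L : Subgroup G}
    (hLT : L ∈ jOvergroups T) : Group.IsSolvable ↥L := by
  obtain ⟨-, hJP, hCP⟩ := hLT
  have hP1 : pCoreOf 2 L ≠ ⊥ := by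
    intro hbot
    apply hJP
    rw [hbot] at hCP ⊢
    intro x _
    apply hCP
    rw [mem_centralizer_iff]
    intro y hy
    have hy' : y = 1 := hy
    rw [hy']; simp
  have hsolvN := hN _ ⟨pCoreOf 2 L, Cfsg.Agent.Helper14.pCoreOf_isPGroup 2 L, hP1, rfl⟩
  exact solvable_of_solvable_injective
    (f := Subgroup.inclusion (Cfsg.Agent.Helper14.le_normalizer_pCoreOf 2 L))
    (Subgroup.inclusion_injective _)

end Cfsg.Agent.Helper15.JComp
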