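import Cfsg.Agent.Helper15.JComp8

/-!
# J-components, part 9: `N_G(K) = N_G(W_K)` for components in `jComponentsZero T` (S2944)
-/

set_option autoImplicit false
set_option linter.unusedSectionVars false

namespace Cfsg.Agent.Helper15.JComp

open Cfsg Subgroup
open scoped commutatorElement Pointwise

variable {G : Type*} [Group G] [Finite G]

/-- a 2-subgroup of `N` lies in a Sylow 2-subgroup of `N` -/
theorem exists_isSylowTwoIn_ge {Q N : Subgroup G} (hQ : IsPGroup 2 Q) (hQN : Q ≤ N) :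
    ∃ S : Subgroup G, IsSylowTwoIn S N ∧ Q ≤ S := by
  haveI : Fact (Nat.Prime 2) := ⟨Nat.prime_two⟩
  obtain ⟨P, hP⟩ := (hQ.comap_subtype (K := N)).exists_le_sylow
  refine ⟨(P : Subgroup ↥N).map N.subtype, ⟨map_subtype_le _, P.isPGroup'.map _, ?_⟩, ?_⟩
  · have h1 : ((P : Subgroup ↥N).map N.subtype).relIndex N = (P : Subgroup ↥N).index := by
      unfold relIndex subgroupOf
      rw [comap_map_eq_self_of_injective N.subtype_injective]
    rw [h1, ← Nat.not_even_iff_odd, even_iff_two_dvd]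
    exact P.not_dvd_index
  · intro x hx
    exact ⟨⟨x, hQN hx⟩, hP (mem_subgroupOf.mpr hx), rfl⟩

/-- Sylow 2-subgroups of `N` are conjugate in `N` -/
theorem isSylowTwoIn_conj {S₁ S₂ N : Subgroup G} (h₁ : IsSylowTwoIn S₁ N) (h₂ : IsSylowTwoIn S₂ N) :
    ∃ n ∈ N, S₂ = S₁.map (MulAut.conj n).toMonoidHom := by
  haveI : Fact (Nat.Prime 2) := ⟨Nat.prime_two⟩
  have hd : ∀ {S : Subgroup G}, IsSylowTwoIn S N → ¬ 2 ∣ (S.subgroupOf N).index := fun h hd =>
    (Nat.not_even_iff_odd.mpr h.2.2) (even_iff_two_dvd.mpr hd)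
  have hp : ∀ {S : Subgroup G}, IsSylowTwoIn S N → IsPGroup 2 (S.subgroupOf N) := fun h =>
    h.2.1.comap_subtype
  obtain ⟨n, hn⟩ := MulAction.exists_smul_eq ↥N ((hp h₁).toSylow (hd h₁)) ((hp h₂).toSylow (hd h₂))
  refine ⟨n, n.2, ?_⟩
  have h3 := congrArg (fun P : Sylow 2 ↥N => (P : Subgroup ↥N)) hn
  simp only [Sylow.coe_subgroup_smul, IsPGroup.toSylow_coe] at h3
  ext x
  constructor
  · intro hx
    have hxN : x ∈ N := h₂.1 hx
    have : (⟨x, hxN⟩ : ↥N) ∈ S₂.subgroupOf N := mem_subgroupOf.mpr hx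
    rw [← h3, mem_smul_pointwise_iff_exists] at this
    obtain ⟨y, hy, hyx⟩ := this
    refine ⟨y, mem_subgroupOf.mp hy, ?_⟩
    have := congrArg Subtype.val hyx
    simpa [MulAut.smul_def, MulAut.conj_apply] using this
  · rintro ⟨y, hy, rfl⟩
    have hyN : y ∈ N := h₁.1 hy
    have : MulAut.conj n • (⟨y, hyN⟩ : ↥N) ∈ MulAut.conj n • S₁.subgroupOf N :=
      smul_mem_pointwise_smul _ _ _ (mem_subgroupOf.mpr hy)
    rw [h3, mem_subgroupOf] at this
    simpa [MulAut.smul_def, MulAut.conj_apply] using this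

/-- `J(S)` for a subgroup `S` containing `J(T')` with the same largest elementary abelian order -/
theorem thompson_eq_of_le_of_card_eq {T' S : Subgroup G}
    (hle : thompsonSubgroupOf 2 T' ≤ S)
    (hcard : ∀ A ∈ maxEA 2 T', ∀ E ∈ maxEA 2 S, Nat.card A = Nat.card E) :
    thompsonSubgroupOf 2 T' ≤ thompsonSubgroupOf 2 S := by
  obtain ⟨E, hE⟩ := maxEA_nonempty 2 S
  conv_lhs => rw [thompsonSubgroupOf_eq_sSup_maxEA]
  apply sSup_le
  intro A hA
  apply le_thompsonSubgroupOf_of_mem_maxEA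
  exact mem_maxEA_of_card_le hE ((le_thompsonSubgroupOf_of_mem_maxEA hA).trans hle) hA.2.1
    (le_of_eq (hcard A hA E hE).symm)

/-- **S2944.** -/
theorem jc_zero_normalizer_eq (hL : IsCharacteristicTwoType G)
    (hN : ∀ N : Subgroup G, IsTwoLocal N → Group.IsSolvable ↥N)
    (hZ : ∀ S : Sylow 2 G, centralizer ((omegaCenterOf (S : Subgroup G) : Subgroup G) : Set G) ≤
      normalizer ((S : Subgroup G) : Set G))
    {T K : Subgroup G} (hT : IsPGroup 2 T) (hK : K ∈ jComponentsZero T) :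
    normalizer (K : Set G) = normalizer ((wOf K : Subgroup G) : Set G) ∧
      ∀ g : G, thompsonSubgroupOf 2 (T.map (MulAut.conj g).toMonoidHom) ≤
          normalizer ((wOf K : Subgroup G) : Set G) →
        IsJComponent (T.map (MulAut.conj g).toMonoidHom) K := by
  obtain ⟨hK1, hK0⟩ := hK
  obtain ⟨N, hNdef⟩ : ∃ N : Subgroup G, N = normalizer ((wOf K : Subgroup G) : Set G) := ⟨_, rfl⟩
  obtain ⟨J, hJdef⟩ : ∃ J : Subgroup G, J = thompsonSubgroupOf 2 T := ⟨_, rfl⟩
  have hW2 : IsPGroup 2 (wOf K) := wOf_isPGroup K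
  have hW1 : wOf K ≠ ⊥ := by
    intro hbot
    have := jc_card_wOf hK1
    rw [hbot, Subgroup.card_bot] at this
    norm_num at this
  have hsolv : Group.IsSolvable ↥N := hN N ⟨wOf K, hW2, hW1, hNdef⟩
  have hJN : J ≤ N := by rw [hJdef, hNdef]; exact jc_thompson_le_normalizer_wOf hK1
  have hJ2 : IsPGroup 2 J := by rw [hJdef]; exact thompson_isPGroup hT
  obtain ⟨S₁, hS₁N, hJS₁⟩ := exists_isSylowTwoIn_ge hJ2 hJN
  have hJS₁eq : thompsonSubgroupOf 2 S₁ = thompsonSubgroupOf 2 T := by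
    apply hK0 S₁ (hJdef ▸ hJS₁)
    rw [← hNdef]; exact hS₁N
  have hK₁ : IsJComponent S₁ K := isJComponent_congr hJS₁eq hK1
  have hKN : K ≤ N := by
    rw [hNdef]; exact le_normalizer.trans (normalizer_le_normalizer_wOf K)
  have hWN : wOf K ≤ N := (wOf_le K).trans hKN
  have hWP : wOf K ≤ pCoreOf 2 N := by
    apply Cfsg.Agent.Helper14.le_pCoreOf 2 hWN _ hW2
    rw [hNdef]
  have hCP : centralizer ((pCoreOf 2 N : Subgroup G) : Set G) ≤ pCoreOf 2 N := by
    intro x hx
    have hxN : x ∈ N := by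
      rw [hNdef]
      exact centralizer_le_normalizer _ (centralizer_le hWP hx)
    have hchar : centralizer ((pCore 2 ↥N : Subgroup ↥N) : Set ↥N) ≤ pCore 2 ↥N := by
      have := hL.2 (wOf K) hW2 hW1
      rw [← hNdef] at this
      exact this
    have hx' : (⟨x, hxN⟩ : ↥N) ∈ centralizer ((pCore 2 ↥N : Subgroup ↥N) : Set ↥N) := by
      rw [mem_centralizer_iff]
      intro y hy
      apply Subtype.ext
      exact mem_centralizer_iff.mp hx y ⟨y, hy, rfl⟩
    exact ⟨⟨x, hxN⟩, hchar hx', rfl⟩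
  have hloc := (jc_local hZ hsolv hS₁N hCP hK₁ hKN).2.2
  have hNK : N ≤ normalizer (K : Set G) := by
    refine le_trans ?_ hloc
    rw [← hNdef, inf_idem]
  have hfirst : normalizer (K : Set G) = normalizer ((wOf K : Subgroup G) : Set G) :=
    le_antisymm (normalizer_le_normalizer_wOf K) (hNdef ▸ hNK)
  refine ⟨hfirst, ?_⟩
  intro g hg
  rw [← hNdef] at hg
  set cg := (MulAut.conj g).toMonoidHom with hcg
  have hcgi : Function.Injective cg := (MulAut.conj g).injective
  have hJ'2 : IsPGroup 2 (thompsonSubgroupOf 2 (T.map cg)) := thompson_isPGroup (hT.map cg)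
  obtain ⟨S₂, hS₂N, hJ'S₂⟩ := exists_isSylowTwoIn_ge hJ'2 hg
  obtain ⟨n, hn, hS₂⟩ := isSylowTwoIn_conj hS₁N hS₂N
  set cn := (MulAut.conj n).toMonoidHom with hcn
  have hcni : Function.Injective cn := (MulAut.conj n).injective
  -- the elementary abelian subgroups of largest order have the same order
  have hmax₁ : maxEA 2 S₁ = maxEA 2 T := maxEA_eq_of_thompson_eq hJS₁eq
  have hcard : ∀ A ∈ maxEA 2 (T.map cg), ∀ E ∈ maxEA 2 S₂, Nat.card A = Nat.card E := by
    intro A hA E hE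
    rw [hS₂] at hE
    have hA' := comap_mem_maxEA hcgi hA
    have hE' := comap_mem_maxEA hcni hE
    rw [hmax₁] at hE'
    rw [← card_comap_of_le_map hcgi hA.1, ← card_comap_of_le_map hcni hE.1]
    exact card_eq_of_mem_maxEA hA' hE'
  have hle : thompsonSubgroupOf 2 (T.map cg) ≤ thompsonSubgroupOf 2 S₂ :=
    thompson_eq_of_le_of_card_eq hJ'S₂ hcard
  have hJeq : thompsonSubgroupOf 2 (T.map cg) = thompsonSubgroupOf 2 S₂ := by
    apply eq_of_le_of_card_ge hle
    rw [hS₂, thompsonSubgroupOf_map hcni, thompsonSubgroupOf_map hcgi, hJS₁eq,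
      card_map_of_injective hcni, card_map_of_injective hcgi]
  have hKn : K.map cn = K := Cfsg.Agent.Helper14.mem_normalizer_iff_map_cj.mp (hNK hn)
  have hK₂ : IsJComponent S₂ K := by
    rw [hS₂, ← hKn]
    exact (isJComponent_map_iff hcni).mpr hK₁
  exact isJComponent_congr hJeq hK₂

end Cfsg.Agent.Helper15.JComp
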