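import Mathlib
import Cfsg.Agent.Helper18.K2P.Defs
import Cfsg.Agent.Helper18.K2P.Defs2
import Cfsg.Agent.Helper18.K2P.QB
import Cfsg.Agent.Helper18.K2P.BASIS
import Cfsg.Agent.Helper8.K2PROT
import Cfsg.Agent.Helper11.K2PAROTNOTH
import Cfsg.Agent.Helper9.K2PNOFRAME

set_option autoImplicit false
set_option linter.unusedSectionVars false
set_option linter.unusedVariables false

/-! # K2P, chapter A, piece A-BLOCKINV (helper15): under `¬ SiegF` and `hI`, every 2×2 block of an element of `M`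
outside `StabD` is injective.  Route: `departures/helper18_k2p_route.md`, step A4. -/

namespace Cfsg.Agent.K2P

open Matrix Cfsg.Agent.OC2P Cfsg.Agent.Helper28.Sg Cfsg.Agent.Helper28.Spin
  Cfsg.Agent.Helper12.OrthGen Cfsg.Agent.K2M

variable {F : Type*} [Field F] [Fintype F] {t : ℕ} {Q : QuadraticForm F (Fin t × Fin 2 → F)}
  {q : QuadraticForm F (Fin 2 → F)} {e f : Fin 2 → F} {M : Subgroup (OG Q)}

/-- a nonzero square `ν` with `ν² ≠ 1` (`7 ≤ card F`) -/
theorem A.BLOCKINV.aux_nu (hq : 7 ≤ Fintype.card F) :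
    ∃ ν : F, ν ≠ 0 ∧ IsSquare ν ∧ ν ^ 2 ≠ 1 := by
  classical
  obtain ⟨g, hg⟩ := IsCyclic.exists_generator (α := Fˣ)
  have hord : orderOf g = Fintype.card F - 1 := by
    rw [orderOf_eq_card_of_forall_mem_zpowers hg, Nat.card_eq_fintype_card, Fintype.card_units]
  refine ⟨((g : Fˣ) : F) ^ 2, pow_ne_zero _ (Units.ne_zero g), ⟨(g : F), by ring⟩, ?_⟩
  intro h
  have h4 : g ^ 4 = 1 := by
    apply Units.ext
    rw [Units.val_pow_eq_pow_val, Units.val_one]
    calc ((g : Fˣ) : F) ^ 4 = (((g : Fˣ) : F) ^ 2) ^ 2 := by ring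
      _ = 1 := h
  have hdvd := orderOf_dvd_of_pow_eq_one h4
  have hle := Nat.le_of_dvd (by norm_num) hdvd
  omega

/-- the partner vector: `polar q (perpV r) r = 0`, and `perpV r ≠ 0` for `r ≠ 0` -/
noncomputable def A.BLOCKINV.perpV (q : QuadraticForm F (Fin 2 → F)) (e f : Fin 2 → F) (r : Fin 2 → F) :
    Fin 2 → F :=
  (QuadraticMap.polar ⇑q r f) • e - (QuadraticMap.polar ⇑q r e) • f

theorem A.BLOCKINV.aux_ee (bp : BP Q q e f) : QuadraticMap.polar ⇑q e e = 0 := by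
  have h := Cfsg.Agent.Helper28.Spin.polar_self' q e
  rw [bp.qe, mul_zero] at h
  exact h

theorem A.BLOCKINV.aux_ff (bp : BP Q q e f) : QuadraticMap.polar ⇑q f f = 0 := by
  have h := Cfsg.Agent.Helper28.Spin.polar_self' q f
  rw [bp.qf, mul_zero] at h
  exact h

theorem A.BLOCKINV.aux_fe (bp : BP Q q e f) : QuadraticMap.polar ⇑q f e = 1 := by
  rw [QuadraticMap.polar_comm]; exact bp.ef

theorem A.BLOCKINV.perpV_polar (bp : BP Q q e f) (r : Fin 2 → F) :
    QuadraticMap.polar ⇑q (A.BLOCKINV.perpV q e f r) r = 0 := by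
  unfold A.BLOCKINV.perpV
  rw [QuadraticMap.polar_sub_left, QuadraticMap.polar_smul_left, QuadraticMap.polar_smul_left,
    QuadraticMap.polar_comm (⇑q) e r, QuadraticMap.polar_comm (⇑q) f r]
  simp only [smul_eq_mul]
  ring

theorem A.BLOCKINV.perpV_ne (bp : BP Q q e f) {r : Fin 2 → F} (hr : r ≠ 0) :
    A.BLOCKINV.perpV q e f r ≠ 0 := by
  intro h
  apply hr
  have h1 : QuadraticMap.polar ⇑q (A.BLOCKINV.perpV q e f r) f = 0 := by
    rw [h, QuadraticMap.polar_zero_left]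
  have h2 : QuadraticMap.polar ⇑q (A.BLOCKINV.perpV q e f r) e = 0 := by
    rw [h, QuadraticMap.polar_zero_left]
  unfold A.BLOCKINV.perpV at h1 h2
  rw [QuadraticMap.polar_sub_left, QuadraticMap.polar_smul_left, QuadraticMap.polar_smul_left,
    A.BLOCKINV.aux_ff bp, bp.ef] at h1
  rw [QuadraticMap.polar_sub_left, QuadraticMap.polar_smul_left, QuadraticMap.polar_smul_left,
    A.BLOCKINV.aux_ee bp, A.BLOCKINV.aux_fe bp] at h2
  simp only [smul_eq_mul, mul_one, mul_zero, sub_zero, zero_sub, neg_eq_zero] at h1 h2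
  rw [BASIS.eq bp r, h1, h2, zero_smul, zero_smul, add_zero]

/-- A-BLOCKINV -/
theorem A.BLOCKINV (bp : BP Q q e f) (ht : 3 ≤ t) (hq : 7 ≤ Fintype.card F) (hM : HasMO M)
    (hS : ¬ SiegF Q q e f M) (hI : ∀ a, InA M a → IsBlk a) {m : OG Q} (hm : m ∈ M)
    (hmN : ¬ StabD Q m) (c i : Fin t) {y : Fin 2 → F} (hy0 : y ≠ 0) :
    bproj c (mt Q m *ᵥ binj i y) ≠ 0 := by
  intro hzero
  obtain ⟨ν, hν0, hνsq, hν2⟩ := A.BLOCKINV.aux_nu (F := F) hq
  obtain ⟨g, hgM, hg⟩ := ROT.one bp ht hM i hν0 hνsq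
  have he0 : e ≠ 0 := by
    intro h
    have := bp.ef
    rw [h, QuadraticMap.polar_zero_left] at this
    exact zero_ne_one this
  -- `ρ' := m g m⁻¹ ∈ M` does not permute the blocks
  have hρM : m * g * m⁻¹ ∈ M := M.mul_mem (M.mul_mem hm hgM) (M.inv_mem hm)
  have hρN : ¬ StabD Q (m * g * m⁻¹) := by
    intro hst
    have hblk := A.ROTNOTH bp ht hν0 hν2 hg hst
    exact hmN (A.NOFRAME bp ht hq hM hS hI hm he0 hblk)
  -- the linear map `φ y' := bproj c (m (binj i y'))`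
  set φ : (Fin 2 → F) → (Fin 2 → F) := fun y' => bproj c (mt Q m *ᵥ binj i y') with hφ
  have hφadd : ∀ y₁ y₂, φ (y₁ + y₂) = φ y₁ + φ y₂ := by
    intro y₁ y₂
    simp only [hφ]
    rw [QB.binj_add, Matrix.mulVec_add, QB.bproj_add]
  have hφsmul : ∀ (a : F) y₁, φ (a • y₁) = a • φ y₁ := by
    intro a y₁
    simp only [hφ]
    rw [QB.binj_smul, Matrix.mulVec_smul, QB.bproj_smul]
  have hφy : φ y = 0 := hzero
  -- coordinates of `y`
  set α := QuadraticMap.polar ⇑q y f with hα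
  set β := QuadraticMap.polar ⇑q y e with hβ
  have hy : y = α • e + β • f := BASIS.eq bp y
  have hrel : α • φ e + β • φ f = 0 := by
    rw [← hφsmul, ← hφsmul, ← hφadd, ← hy]; exact hφy
  -- a vector `r` spanning the range of `φ`
  obtain ⟨r, hr⟩ : ∃ r : Fin 2 → F, ∀ y', ∃ s : F, φ y' = s • r := by
    by_cases hα0 : α = 0
    · have hβ0 : β ≠ 0 := by
        intro hβ0
        apply hy0
        rw [hy, hα0, hβ0, zero_smul, zero_smul, add_zero]
      have hf : φ f = 0 := by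
        rw [hα0, zero_smul, zero_add] at hrel
        rcases smul_eq_zero.mp hrel with h | h
        · exact absurd h hβ0
        · exact h
      refine ⟨φ e, fun y' => ⟨QuadraticMap.polar ⇑q y' f, ?_⟩⟩
      conv_lhs => rw [BASIS.eq bp y']
      rw [hφadd, hφsmul, hφsmul, hf, smul_zero, add_zero]
    · have he : φ e = (-(α⁻¹ * β)) • φ f := by
        have h1 : α • φ e = -(β • φ f) := eq_neg_of_add_eq_zero_left hrel
        have h2 : φ e = α⁻¹ • (α • φ e) := by
          rw [smul_smul, inv_mul_cancel₀ hα0, one_smul]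
        rw [h2, h1, smul_neg, smul_smul, neg_smul]
      refine ⟨φ f, fun y' => ⟨QuadraticMap.polar ⇑q y' f * (-(α⁻¹ * β)) + QuadraticMap.polar ⇑q y' e, ?_⟩⟩
      conv_lhs => rw [BASIS.eq bp y']
      rw [hφadd, hφsmul, hφsmul, he, smul_smul, ← add_smul]
  -- a nonzero `z` with `polar q z (φ y') = 0` for all `y'`
  obtain ⟨z, hz0, hz⟩ : ∃ z : Fin 2 → F, z ≠ 0 ∧ ∀ y', QuadraticMap.polar ⇑q z (φ y') = 0 := by
    by_cases hr0 : r = 0
    · refine ⟨e, he0, fun y' => ?_⟩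
      obtain ⟨s, hs⟩ := hr y'
      rw [hs, hr0, smul_zero, QuadraticMap.polar_zero_right]
    · refine ⟨A.BLOCKINV.perpV q e f r, A.BLOCKINV.perpV_ne bp hr0, fun y' => ?_⟩
      obtain ⟨s, hs⟩ := hr y'
      rw [hs, QuadraticMap.polar_smul_right, A.BLOCKINV.perpV_polar bp, smul_zero]
  -- `ρ'` fixes the block vector `binj c z`
  have hproj : bproj i (mt Q m⁻¹ *ᵥ binj c z) = 0 := by
    apply bp.ndq.1
    intro y'
    show QuadraticMap.polar ⇑q (bproj i (mt Q m⁻¹ *ᵥ binj c z)) y' = 0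
    rw [← QB.B_binj_right bp.toBM0, ← B_isom Q m, mt_mulVec_inv, QB.B_binj_left bp.toBM0]
    exact hz y'
  have hfix : mt Q (m * g * m⁻¹) *ᵥ binj c z = binj c z := by
    rw [mt_mul_mulVec, mt_mul_mulVec, hg, hproj]
    have h0 : rotV q e f ν (0 : Fin 2 → F) - 0 = 0 := by
      unfold rotV
      simp
    rw [h0, QB.binj_zero, add_zero, mt_mulVec_inv]
  have hblk : IsBlk (mt Q (m * g * m⁻¹) *ᵥ binj c z) := by
    rw [hfix]
    exact ⟨c, binj_mem c z⟩
  exact hρN (A.NOFRAME bp ht hq hM hS hI hρM hz0 hblk)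

end Cfsg.Agent.K2P
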