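import Mathlib
import Cfsg.Agent.Helper15.KChar1
import Cfsg.Agent.Helper10.IndFunctor2
import Cfsg.Agent.Helper26.PStableQuot

set_option autoImplicit false
set_option linter.unusedSectionVars false
set_option linter.style.haveILetI false

/-! S3073: the predicate `NPCGood` and the reduction steps. -/

namespace Cfsg.Agent.Helper15

open Subgroup Cfsg Cfsg.Agent.Lead.TNC

universe u

variable {p : ℕ} [Fact p.Prime]

/-- `K ≤ S` decides `p`-nilpotency of every finite group with Sylow `p`-subgroup `≅ S`. -/
def NPCGood (p : ℕ) [Fact p.Prime] (S : Type u) [Group S] (K : Subgroup S) : Prop :=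
  ∀ (G : Type u) [Group G] [Finite G] (P : Sylow p G) (f : S →* G), Function.Injective f →
    f.range = (P : Subgroup G) →
    HasNormalPComplement p ↥(normalizer ((K.map f : Subgroup G) : Set G)) →
    HasNormalPComplement p G

/-- the inner induction hypothesis: groups of order `< n` -/
def NPCInner (p : ℕ) [Fact p.Prime] (S : Type u) [Group S] (K : Subgroup S) (n : ℕ) : Prop :=
  ∀ (G : Type u) [Group G] [Finite G] (P : Sylow p G) (f : S →* G), Function.Injective f →
    f.range = (P : Subgroup G) → Nat.card G < n →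
    HasNormalPComplement p ↥(normalizer ((K.map f : Subgroup G) : Set G)) →
    HasNormalPComplement p G

section Steps

variable {S : Type u} [Group S] (K : Subgroup S) {G : Type u} [Group G] [Finite G]
  (P : Sylow p G) (f : S →* G) (hf : Function.Injective f) (hr : f.range = (P : Subgroup G))

include hf hr

/-- proper subgroups containing `P` -/
theorem npc_sub_step (IH : NPCInner p S K (Nat.card G))
    (hN : HasNormalPComplement p ↥(normalizer ((K.map f : Subgroup G) : Set G)))
    (M : Subgroup G) (hPM : (P : Subgroup G) ≤ M) (hM : M ≠ ⊤) :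
    HasNormalPComplement p ↥M := by
  have hfM : ∀ s, f s ∈ M := fun s => hPM (hr ▸ ⟨s, rfl⟩)
  refine IH ↥M (P.subtype hPM) (f.codRestrict M hfM) ?_ ?_ (card_lt_of_ne_top hM) ?_
  · intro a b h
    apply hf
    exact congrArg Subtype.val h
  · ext x
    rw [Sylow.coe_subtype, mem_subgroupOf, ← hr]
    constructor
    · rintro ⟨s, rfl⟩
      exact ⟨s, rfl⟩
    · rintro ⟨s, hs⟩
      exact ⟨s, Subtype.ext hs⟩
  · apply npc_normalizer_of_map M (K.map (f.codRestrict M hfM))
    rw [Subgroup.map_map]
    exact hN

/-- quotients by nontrivial normal `p'`-subgroups -/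
theorem npc_quot_step (IH : NPCInner p S K (Nat.card G))
    (hN : HasNormalPComplement p ↥(normalizer ((K.map f : Subgroup G) : Set G)))
    (O : Subgroup G) [hOn : O.Normal] (hO : (Nat.card O).Coprime p) (hO1 : O ≠ ⊥) :
    HasNormalPComplement p G := by
  apply npc_of_quotient O hO
  have hsurj := QuotientGroup.mk'_surjective O
  have hKP : K.map f ≤ (P : Subgroup G) := by
    rw [← hr]; exact map_le_range f K
  have hKp : IsPGroup p (K.map f : Subgroup G) := P.2.to_le hKP
  refine IH (G ⧸ O) (P.mapSurjective hsurj) ((QuotientGroup.mk' O).comp f) ?_ ?_ ?_ ?_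
  · intro a b h
    apply hf
    have ha : f a ∈ (P : Subgroup G) := hr ▸ ⟨a, rfl⟩
    have hb : f b ∈ (P : Subgroup G) := hr ▸ ⟨b, rfl⟩
    exact Cfsg.Agent.Helper26.psq_injOn hO P.2 ha hb h
  · rw [Sylow.coe_mapSurjective, ← hr, MonoidHom.range_eq_map, MonoidHom.range_eq_map,
      Subgroup.map_map]
  · have h1 := Subgroup.card_eq_card_quotient_mul_card_subgroup O
    have h2 : 1 < Nat.card O := (Subgroup.one_lt_card_iff_ne_bot O).mpr hO1
    have h3 : 0 < Nat.card (G ⧸ O) := Nat.card_pos
    rw [h1]
    nlinarith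
  · rw [← Subgroup.map_map]
    exact Cfsg.Agent.Helper10.npc_normalizer_map_mk_of_coprime O hO hKp hN

end Steps

/-- the endgame: a normal subgroup `C` with a normal `p`-complement -/
theorem npc_endgame {G : Type u} [Group G] [Finite G] (P : Sylow p G) (C : Subgroup G)
    [hCn : C.Normal] (hC : HasNormalPComplement p ↥C) (K' : Subgroup G)
    (hK' : normalizer (((P : Subgroup G) ⊓ C : Subgroup G) : Set G) ≤ normalizer (K' : Set G))
    (hN : HasNormalPComplement p ↥(normalizer (K' : Set G)))
    (hquot : ∀ O : Subgroup G, O.Normal → (Nat.card O).Coprime p → O ≠ ⊥ →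
      HasNormalPComplement p G) : HasNormalPComplement p G := by
  have hpp : p.Prime := Fact.out
  obtain ⟨Q, N₀, hN₀, hc⟩ := hC
  haveI := hN₀
  have hNeq : N₀ = pResidual p ↥C := Cfsg.Agent.Helper9.normal_complement_eq_pResidual Q N₀ hc
  have hOn : ((pResidual p ↥C).map C.subtype).Normal := inferInstance
  have hcard : Nat.card ((pResidual p ↥C).map C.subtype) = Nat.card (pResidual p ↥C) :=
    Subgroup.card_map_of_injective C.subtype_injective
  have hOc : (Nat.card ((pResidual p ↥C).map C.subtype)).Coprime p := by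
    rw [hcard, ← hNeq, ← hc.index_eq_card]
    exact ((Nat.Prime.coprime_iff_not_dvd hpp).mpr Q.not_dvd_index).symm
  by_cases hO1 : (pResidual p ↥C).map C.subtype = ⊥
  · have h0 : pResidual p ↥C = ⊥ := by
      rwa [Subgroup.map_eq_bot_iff_of_injective _ C.subtype_injective] at hO1
    have hQtop : (Q : Subgroup ↥C) = ⊤ := by
      rw [hNeq, h0] at hc
      exact isComplement'_bot_left.mp hc
    have hCp : IsPGroup p ↥C := by
      intro c
      obtain ⟨k, hk⟩ := Q.2 ⟨c, hQtop ▸ mem_top c⟩
      exact ⟨k, congrArg Subtype.val hk⟩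
    have hCP : C ≤ (P : Subgroup G) := hCp.le_sylow_of_normal P
    have htop : normalizer (K' : Set G) = ⊤ := by
      rw [eq_top_iff]
      refine le_trans ?_ hK'
      rw [inf_eq_right.mpr hCP, normalizer_eq_top]
    exact npc_of_top (npc_of_eq htop hN)
  · exact hquot _ hOn hOc hO1

end Cfsg.Agent.Helper15
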