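import Mathlib
import Cfsg.Agent.Helper15.KChar2
import Cfsg.Agent.Helper14.Irreducible

set_option autoImplicit false
set_option linter.unusedSectionVars false
set_option linter.style.haveILetI false

/-! S3073: the functor `Z(J(S))` on an abstract `p`-group, and the two recursive cases. -/

namespace Cfsg.Agent.Helper15

open Subgroup Cfsg Cfsg.Agent.Lead.TNC

universe u

variable {p : ℕ} [Fact p.Prime]

/-- `Z(J(S))` for an abstract group `S` -/
def zjTop (S : Type u) [Group S] : Subgroup S := centerThompsonAOf (⊤ : Subgroup S)

theorem zjTop_map_equiv (p : ℕ) [Fact p.Prime] {S : Type u} [Group S] (φ : S ≃* S) :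
    (zjTop S).map φ.toMonoidHom = zjTop S := by
  have h := (zjAFunctor.{u} p).map φ.toMonoidHom (⊤ : Subgroup S) φ.injective.injOn
  have h2 : (⊤ : Subgroup S).map φ.toMonoidHom = ⊤ := by
    rw [← MonoidHom.range_eq_map]
    exact MonoidHom.range_eq_top.mpr φ.surjective
  rw [h2] at h
  exact h.symm

theorem zjTop_characteristic (p : ℕ) [Fact p.Prime] (S : Type u) [Group S] :
    (zjTop S).Characteristic := by
  rw [characteristic_iff_map_eq]
  exact zjTop_map_equiv p

theorem zjTop_commute {S : Type u} [Group S] {x y : S} (hx : x ∈ zjTop S) (hy : y ∈ zjTop S) :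
    x * y = y * x := by
  have h1 : x ∈ centralizer (thompsonSubgroupAOf (⊤ : Subgroup S) : Set S) := hx.2
  exact (mem_centralizer_iff.mp h1 y hy.1).symm

theorem zjTop_le_centralizer (S : Type u) [Group S] :
    zjTop S ≤ centralizer (zjTop S : Set S) := by
  intro x hx
  rw [mem_centralizer_iff]
  intro y hy
  exact zjTop_commute hy hx

theorem zjTop_ne_bot {S : Type u} [Group S] [Finite S] [Nontrivial S] (hS : IsPGroup p S) :
    zjTop S ≠ ⊥ := by
  apply (zjAFunctor.{u} p).ne_bot (⊤ : Subgroup S)
  · intro x
    obtain ⟨k, hk⟩ := hS (x : S)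
    exact ⟨k, Subtype.ext hk⟩
  · exact top_ne_bot

/-- transport of `Z(J(·))` along an embedding onto `P` -/
theorem centerThompsonAOf_eq_map_zjTop (p : ℕ) [Fact p.Prime] {S G : Type u} [Group S] [Group G]
    (f : S →* G) (hf : Function.Injective f) {P : Subgroup G} (hr : f.range = P) :
    centerThompsonAOf P = (zjTop S).map f := by
  have h := (zjAFunctor.{u} p).map f (⊤ : Subgroup S) hf.injOn
  rw [← MonoidHom.range_eq_map, hr] at h
  exact h

/-- strong induction principle for `NPCGood` -/
theorem npcGood_of_core {S : Type u} [Group S] (K : Subgroup S)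
    (core : ∀ (G : Type u) [Group G] [Finite G] (P : Sylow p G) (f : S →* G),
      Function.Injective f → f.range = (P : Subgroup G) → NPCInner p S K (Nat.card G) →
      HasNormalPComplement p ↥(normalizer ((K.map f : Subgroup G) : Set G)) →
      HasNormalPComplement p G) : NPCGood p S K := by
  have key : ∀ m : ℕ, NPCInner p S K m := by
    intro m
    induction m with
    | zero =>
      intro G _ _ P f _ _ hlt _
      exact absurd hlt (Nat.not_lt_zero _)
    | succ m ihm =>
      intro G _ _ P f hf hr hlt hN
      apply core G P f hf hr _ hN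
      intro G' _ _ P' f' hf' hr' hlt' hN'
      exact ihm G' P' f' hf' hr' (by omega) hN'
  intro G _ _ P f hf hr hN
  exact key (Nat.card G + 1) G P f hf hr (Nat.lt_succ_self _) hN

section Common

variable {S : Type u} [Group S] (K : Subgroup S) {G : Type u} [Group G] [Finite G]
  (P : Sylow p G) (f : S →* G) (hf : Function.Injective f) (hr : f.range = (P : Subgroup G))

include hf hr

/-- if `N_G(Z(J(P)))` is proper, we are done by induction and Glauberman's theorem -/
theorem npc_of_normalizer_zj_ne_top (hp2 : p ≠ 2) (IH : NPCInner p S K (Nat.card G))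
    (hN : HasNormalPComplement p ↥(normalizer ((K.map f : Subgroup G) : Set G)))
    (hne : normalizer (((zjTop S).map f : Subgroup G) : Set G) ≠ ⊤) :
    HasNormalPComplement p G := by
  have hZ' := centerThompsonAOf_eq_map_zjTop p f hf hr
  have hPN : (P : Subgroup G) ≤ normalizer (((zjTop S).map f : Subgroup G) : Set G) := by
    rw [← hZ']
    exact le_normalizer.trans ((zjAFunctor.{u} p).normalizer_le (P : Subgroup G))
  have h1 := npc_sub_step K P f hf hr IH hN _ hPN hne
  apply glauberman_npc hp2 G P
  rw [hZ']
  exact h1

end Common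

end Cfsg.Agent.Helper15
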