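import Mathlib
import Cfsg.Agent.Helper15.KChar3

set_option autoImplicit false
set_option linter.unusedSectionVars false
set_option linter.style.haveILetI false

/-! S3073: case A (`C_S(Z(J(S))) < S`). -/

namespace Cfsg.Agent.Helper15

open Subgroup Cfsg Cfsg.Agent.Lead.TNC

universe u

variable {p : ℕ} [Fact p.Prime]

section CaseA

variable {S : Type u} [Group S] (K₁ : Subgroup ↥(centralizer (zjTop S : Set S)))

theorem caseA_characteristic (p : ℕ) [Fact p.Prime] (hK₁c : K₁.Characteristic) :
    (K₁.map (centralizer (zjTop S : Set S)).subtype).Characteristic := by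
  haveI := zjTop_characteristic p S
  exact characteristic_map_subtype _ inferInstance K₁ hK₁c

theorem caseA_zj_le (hK₁s : centralizer (K₁ : Set ↥(centralizer (zjTop S : Set S))) ≤ K₁) :
    zjTop S ≤ K₁.map (centralizer (zjTop S : Set S)).subtype := by
  intro z hz
  have hz1 : z ∈ centralizer (zjTop S : Set S) := zjTop_le_centralizer S hz
  refine ⟨⟨z, hz1⟩, hK₁s ?_, rfl⟩
  rw [mem_centralizer_iff]
  intro y _
  apply Subtype.ext
  exact (mem_centralizer_iff.mp y.2 z hz).symm

theorem caseA_centralizer_le
    (hK₁s : centralizer (K₁ : Set ↥(centralizer (zjTop S : Set S))) ≤ K₁) :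
    centralizer ((K₁.map (centralizer (zjTop S : Set S)).subtype : Subgroup S) : Set S) ≤
      K₁.map (centralizer (zjTop S : Set S)).subtype := by
  intro x hx
  have hx1 : x ∈ centralizer (zjTop S : Set S) := by
    rw [mem_centralizer_iff]
    intro z hz
    exact mem_centralizer_iff.mp hx z (caseA_zj_le K₁ hK₁s hz)
  refine ⟨⟨x, hx1⟩, hK₁s ?_, rfl⟩
  rw [mem_centralizer_iff]
  intro y hy
  apply Subtype.ext
  exact mem_centralizer_iff.mp hx y ⟨y, hy, rfl⟩

theorem caseA_core (hp2 : p ≠ 2) (hK₁c : K₁.Characteristic)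
    (hK₁g : NPCGood p ↥(centralizer (zjTop S : Set S)) K₁)
    (G : Type u) [Group G] [Finite G] (P : Sylow p G) (f : S →* G)
    (hf : Function.Injective f) (hr : f.range = (P : Subgroup G))
    (IH : NPCInner p S (K₁.map (centralizer (zjTop S : Set S)).subtype) (Nat.card G))
    (hN : HasNormalPComplement p ↥(normalizer
      (((K₁.map (centralizer (zjTop S : Set S)).subtype).map f : Subgroup G) : Set G))) :
    HasNormalPComplement p G := by
  by_cases hNtop : normalizer (((zjTop S).map f : Subgroup G) : Set G) = ⊤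
  swap
  · exact npc_of_normalizer_zj_ne_top _ P f hf hr hp2 IH hN hNtop
  haveI hZn : ((zjTop S).map f : Subgroup G).Normal := normalizer_eq_top_iff.mp hNtop
  obtain ⟨S₁, hS₁⟩ : ∃ S₁ : Subgroup S, S₁ = centralizer (zjTop S : Set S) := ⟨_, rfl⟩
  obtain ⟨C, hCdef⟩ : ∃ C : Subgroup G, C = centralizer (((zjTop S).map f : Subgroup G) : Set G) :=
    ⟨_, rfl⟩
  haveI hCn : C.Normal := by rw [hCdef]; infer_instance
  have hfC : ∀ s : ↥(centralizer (zjTop S : Set S)),
      (f.comp (centralizer (zjTop S : Set S)).subtype) s ∈ C := by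
    intro s
    rw [hCdef, mem_centralizer_iff]
    rintro _ ⟨z, hz, rfl⟩
    show f z * f s = f s * f z
    rw [← map_mul, ← map_mul, mem_centralizer_iff.mp s.2 z hz]
  have hinj₀ : Function.Injective (f.comp (centralizer (zjTop S : Set S)).subtype) :=
    hf.comp (centralizer (zjTop S : Set S)).subtype_injective
  have hSyl := Cfsg.Agent.Helper14.sylow_inf_normal_isSylowIn P C
  have hmapmap : K₁.map (f.comp (centralizer (zjTop S : Set S)).subtype) =
      (K₁.map (centralizer (zjTop S : Set S)).subtype).map f := (Subgroup.map_map _ _ _).symm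
  have hrange₀ : (f.comp (centralizer (zjTop S : Set S)).subtype).range =
      (P : Subgroup G) ⊓ C := by
    ext x
    constructor
    · rintro ⟨s, rfl⟩
      exact ⟨hr ▸ ⟨(s : S), rfl⟩, hfC s⟩
    · rintro ⟨hxP, hxC⟩
      rw [← hr] at hxP
      obtain ⟨s, rfl⟩ := hxP
      have hs : s ∈ centralizer (zjTop S : Set S) := by
        rw [mem_centralizer_iff]
        intro z hz
        apply hf
        rw [map_mul, map_mul]
        rw [hCdef] at hxC
        exact mem_centralizer_iff.mp hxC (f z) ⟨z, hz, rfl⟩
      exact ⟨⟨s, hs⟩, rfl⟩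
  -- `C` has a normal `p`-complement
  have hCnpc : HasNormalPComplement p ↥C := by
    refine hK₁g ↥C hSyl.toSylow
      ((f.comp (centralizer (zjTop S : Set S)).subtype).codRestrict C hfC) ?_ ?_ ?_
    · intro a b h
      apply hinj₀
      exact congrArg Subtype.val h
    · ext x
      show x ∈ _ ↔ x ∈ ((P : Subgroup G) ⊓ C).subgroupOf C
      rw [mem_subgroupOf, ← hrange₀]
      constructor
      · rintro ⟨s, rfl⟩
        exact ⟨s, rfl⟩
      · rintro ⟨s, hs⟩
        exact ⟨s, Subtype.ext hs⟩
    · apply npc_normalizer_of_map C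
      rw [Subgroup.map_map]
      have : C.subtype.comp ((f.comp (centralizer (zjTop S : Set S)).subtype).codRestrict C hfC) =
          f.comp (centralizer (zjTop S : Set S)).subtype := rfl
      rw [this, hmapmap]
      exact hN
  refine npc_endgame P C hCnpc _ ?_ hN ?_
  · rw [← hrange₀, ← hmapmap]
    exact normalizer_range_le_normalizer_map _ hinj₀ K₁ hK₁c
  · intro O hOn hOc hO1
    haveI := hOn
    exact npc_quot_step _ P f hf hr IH hN O hOc hO1

end CaseA

end Cfsg.Agent.Helper15
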