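import Mathlib
import Cfsg.Agent.Helper15.KChar4

set_option autoImplicit false
set_option linter.unusedSectionVars false
set_option linter.style.haveILetI false

/-! S3073: case B (`Z(J(S))` central in `S`), and the existence theorem. -/

namespace Cfsg.Agent.Helper15

open Subgroup Cfsg Cfsg.Agent.Lead.TNC

universe u

variable {p : ℕ} [Fact p.Prime]

section CaseB

variable {S : Type u} [Group S] [hZn : (zjTop S).Normal] (Kb : Subgroup (S ⧸ zjTop S))

theorem caseB_characteristic (p : ℕ) [Fact p.Prime] (hKbc : Kb.Characteristic) :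
    (Kb.comap (QuotientGroup.mk' (zjTop S))).Characteristic := by
  haveI := zjTop_characteristic p S
  exact characteristic_comap_mk (zjTop S) Kb hKbc

theorem caseB_centralizer_le (hKbs : centralizer (Kb : Set (S ⧸ zjTop S)) ≤ Kb) :
    centralizer ((Kb.comap (QuotientGroup.mk' (zjTop S)) : Subgroup S) : Set S) ≤
      Kb.comap (QuotientGroup.mk' (zjTop S)) := by
  intro x hx
  rw [mem_comap]
  apply hKbs
  rw [mem_centralizer_iff]
  intro yb hyb
  obtain ⟨y, rfl⟩ := QuotientGroup.mk'_surjective (zjTop S) yb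
  rw [← map_mul, ← map_mul, mem_centralizer_iff.mp hx y hyb]

theorem caseB_zj_le : zjTop S ≤ Kb.comap (QuotientGroup.mk' (zjTop S)) := by
  intro z hz
  rw [mem_comap]
  have : QuotientGroup.mk' (zjTop S) z = 1 := (QuotientGroup.eq_one_iff z).mpr hz
  rw [this]
  exact one_mem _

theorem caseB_core (hp2 : p ≠ 2) (hcase : centralizer (zjTop S : Set S) = ⊤)
    (hKbc : Kb.Characteristic) (hKbg : NPCGood p (S ⧸ zjTop S) Kb)
    (G : Type u) [Group G] [Finite G] (P : Sylow p G) (f : S →* G)
    (hf : Function.Injective f) (hr : f.range = (P : Subgroup G))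
    (IH : NPCInner p S (Kb.comap (QuotientGroup.mk' (zjTop S))) (Nat.card G))
    (hN : HasNormalPComplement p ↥(normalizer
      (((Kb.comap (QuotientGroup.mk' (zjTop S))).map f : Subgroup G) : Set G))) :
    HasNormalPComplement p G := by
  by_cases hNtop : normalizer (((zjTop S).map f : Subgroup G) : Set G) = ⊤
  swap
  · exact npc_of_normalizer_zj_ne_top _ P f hf hr hp2 IH hN hNtop
  haveI hZ'n : ((zjTop S).map f : Subgroup G).Normal := normalizer_eq_top_iff.mp hNtop
  obtain ⟨C, hCdef⟩ : ∃ C : Subgroup G, C = centralizer (((zjTop S).map f : Subgroup G) : Set G) :=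
    ⟨_, rfl⟩
  haveI hCn : C.Normal := by rw [hCdef]; infer_instance
  have hKc := caseB_characteristic Kb p hKbc
  have hPC : (P : Subgroup G) ≤ C := by
    rw [← hr, hCdef]
    rintro _ ⟨s, rfl⟩
    rw [mem_centralizer_iff]
    rintro _ ⟨z, hz, rfl⟩
    rw [← map_mul, ← map_mul]
    have hs : s ∈ centralizer (zjTop S : Set S) := hcase ▸ mem_top s
    rw [mem_centralizer_iff.mp hs z hz]
  by_cases hCtop : C = ⊤
  · -- `Z(J(P))` is central in `G`
    have hcentral : (zjTop S).map f ≤ center G := by
      intro z hz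
      rw [mem_center_iff]
      intro g
      have hg : g ∈ C := hCtop ▸ mem_top g
      rw [hCdef] at hg
      exact (mem_centralizer_iff.mp hg z hz).symm
    apply npc_of_quotient_central ((zjTop S).map f) hcentral
    have hsurj := QuotientGroup.mk'_surjective ((zjTop S).map f)
    have hle : zjTop S ≤ ((zjTop S).map f).comap f := fun z hz => ⟨z, hz, rfl⟩
    refine hKbg (G ⧸ (zjTop S).map f) (P.mapSurjective hsurj)
      (QuotientGroup.map (zjTop S) ((zjTop S).map f) f hle) ?_ ?_ ?_
    · rw [injective_iff_map_eq_one]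
      intro x hx
      obtain ⟨s, rfl⟩ := QuotientGroup.mk'_surjective (zjTop S) x
      have h1 : QuotientGroup.mk' ((zjTop S).map f) (f s) = 1 := hx
      rw [QuotientGroup.mk'_apply, QuotientGroup.eq_one_iff] at h1
      obtain ⟨z, hz, hzs⟩ := h1
      have : z = s := hf hzs
      rw [QuotientGroup.mk'_apply, QuotientGroup.eq_one_iff, ← this]
      exact hz
    · rw [Sylow.coe_mapSurjective, ← hr]
      ext y
      constructor
      · rintro ⟨x, rfl⟩
        obtain ⟨s, rfl⟩ := QuotientGroup.mk'_surjective (zjTop S) x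
        exact ⟨f s, ⟨s, rfl⟩, rfl⟩
      · rintro ⟨_, ⟨s, rfl⟩, rfl⟩
        exact ⟨QuotientGroup.mk' (zjTop S) s, rfl⟩
    · have hKeq : Kb.map (QuotientGroup.map (zjTop S) ((zjTop S).map f) f hle) =
          ((Kb.comap (QuotientGroup.mk' (zjTop S))).map f).map
            (QuotientGroup.mk' ((zjTop S).map f)) := by
        ext y
        constructor
        · rintro ⟨x, hx, rfl⟩
          obtain ⟨s, rfl⟩ := QuotientGroup.mk'_surjective (zjTop S) x
          exact ⟨f s, ⟨s, hx, rfl⟩, rfl⟩
        · rintro ⟨_, ⟨s, hs, rfl⟩, rfl⟩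
          exact ⟨QuotientGroup.mk' (zjTop S) s, hs, rfl⟩
      rw [hKeq]
      apply npc_normalizer_of_comap (QuotientGroup.mk' ((zjTop S).map f)) hsurj
      rw [Subgroup.comap_map_eq_self]
      · exact hN
      · rw [QuotientGroup.ker_mk']
        exact Subgroup.map_mono (caseB_zj_le Kb)
  · have hCnpc : HasNormalPComplement p ↥C := npc_sub_step _ P f hf hr IH hN C hPC hCtop
    refine npc_endgame P C hCnpc _ ?_ hN ?_
    · rw [inf_eq_left.mpr hPC, ← hr]
      exact normalizer_range_le_normalizer_map f hf _ hKc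
    · intro O hOn hOc hO1
      haveI := hOn
      exact npc_quot_step _ P f hf hr IH hN O hOc hO1

end CaseB

/-- **Existence of the characteristic subgroup `K`.** -/
theorem exists_npcGood (hp2 : p ≠ 2) : ∀ (n : ℕ) (S : Type u) [Group S] [Finite S],
    IsPGroup p S → Nat.card S = n →
    ∃ K : Subgroup S, K.Characteristic ∧ centralizer (K : Set S) ≤ K ∧ NPCGood p S K := by
  intro n
  induction n using Nat.strong_induction_on with
  | _ n ih =>
    intro S _ _ hS hn
    by_cases htriv : Subsingleton S
    · refine ⟨⊤, inferInstance, le_top, ?_⟩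
      intro G _ _ P f hf hr _
      apply npc_of_sylow_eq_bot P
      rw [← hr, eq_bot_iff]
      rintro _ ⟨s, rfl⟩
      rw [mem_bot, Subsingleton.elim s 1, map_one]
    · haveI hnt : Nontrivial S := not_subsingleton_iff_nontrivial.mp htriv
      haveI hZc := zjTop_characteristic p S
      have hZ1 : zjTop S ≠ ⊥ := zjTop_ne_bot hS
      by_cases hcase : centralizer (zjTop S : Set S) = ⊤
      · -- case B
        have hlt : Nat.card (S ⧸ zjTop S) < n := by
          rw [← hn, Subgroup.card_eq_card_quotient_mul_card_subgroup (zjTop S)]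
          have h2 : 1 < Nat.card (zjTop S) := (Subgroup.one_lt_card_iff_ne_bot _).mpr hZ1
          have h3 : 0 < Nat.card (S ⧸ zjTop S) := Nat.card_pos
          nlinarith
        obtain ⟨Kb, hKbc, hKbs, hKbg⟩ := ih _ hlt (S ⧸ zjTop S) (hS.to_quotient (zjTop S)) rfl
        refine ⟨Kb.comap (QuotientGroup.mk' (zjTop S)), caseB_characteristic Kb p hKbc,
          caseB_centralizer_le Kb hKbs, ?_⟩
        apply npcGood_of_core
        intro G _ _ P f hf hr IH hN
        exact caseB_core Kb hp2 hcase hKbc hKbg G P f hf hr IH hN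
      · -- case A
        have hlt : Nat.card ↥(centralizer (zjTop S : Set S)) < n := by
          rw [← hn]
          exact card_lt_of_ne_top hcase
        obtain ⟨K₁, hK₁c, hK₁s, hK₁g⟩ := ih _ hlt ↥(centralizer (zjTop S : Set S))
          (hS.to_subgroup _) rfl
        refine ⟨K₁.map (centralizer (zjTop S : Set S)).subtype, caseA_characteristic K₁ p hK₁c,
          caseA_centralizer_le K₁ hK₁s, ?_⟩
        apply npcGood_of_core
        intro G _ _ P f hf hr IH hN
        exact caseA_core K₁ hp2 hK₁c hK₁g G P f hf hr IH hN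

end Cfsg.Agent.Helper15
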