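import Mathlib
import Cfsg.Agent.Helper15.O7920n

set_option autoImplicit false
set_option linter.unusedSectionVars false
set_option maxHeartbeats 1000000

/-!
Simple groups of order 7920: the elements of order `3`.
-/

namespace Cfsg.Agent.Helper15.O7920

open Cfsg Cfsg.Agent.Helper24 Cfsg.Agent.Helper5 Subgroup Cfsg.Agent.Helper15.BrP

universe u

variable {G : Type u} [Group G] [Finite G] [IsSimpleGroup G]

/-- The centralizer of an element of order `3` has order prime to `5`. -/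
theorem not_5_dvd_card_centralizer_three (hcard : Nat.card G = 7920) (t : G)
    (ht : orderOf t = 3) : ¬ 5 ∣ Nat.card (centralizer ({t} : Set G)) := by
  classical
  have : Fintype (IrrCharacter G) := Fintype.ofFinite _
  intro h
  obtain ⟨z, hz⟩ := exists_prime_orderOf_dvd_card' (G := centralizer ({t} : Set G)) 5 h
  have hz' : orderOf (z : G) = 5 := by rw [Subgroup.orderOf_coe]; exact hz
  obtain ⟨Q', hQ'⟩ := exists_sylow_eq_zpowers (p := 5) (card_sylow5 hcard) (z : G) hz'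
  obtain ⟨P⟩ : Nonempty (Sylow 11 G) := inferInstance
  obtain ⟨E⟩ := exists_mdata hcard P Q'
  have hc : Commute t (z : G) := by
    have := mem_centralizer_singleton_iff.mp z.2
    exact this.symm
  have htC : t ∈ centralizer ((Q' : Subgroup G) : Set G) := by
    rw [hQ', Subgroup.mem_centralizer_iff]
    intro g hg
    obtain ⟨k, rfl⟩ := mem_zpowers_iff.mp hg
    exact ((hc.zpow_right k).eq).symm
  have h2 := orderOf_dvd_natCard (⟨t, htC⟩ : centralizer ((Q' : Subgroup G) : Set G))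
  rw [Subgroup.orderOf_mk, ht, E.hC5] at h2
  omega

/-- The centralizer of an element of order `3` has order prime to `11`. -/
theorem not_11_dvd_card_centralizer_three (hcard : Nat.card G = 7920) (t : G)
    (ht : orderOf t = 3) : ¬ 11 ∣ Nat.card (centralizer ({t} : Set G)) := by
  intro h
  obtain ⟨z, hz⟩ := exists_prime_orderOf_dvd_card' (G := centralizer ({t} : Set G)) 11 h
  have hz' : orderOf (z : G) = 11 := by rw [Subgroup.orderOf_coe]; exact hz
  obtain ⟨P', hP'⟩ := exists_sylow_eq_zpowers (p := 11) (card_sylow11 hcard) (z : G) hz'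
  obtain ⟨-, hC, -⟩ := sylow11_data hcard P'
  have hc : Commute t (z : G) := by
    have := mem_centralizer_singleton_iff.mp z.2
    exact this.symm
  have htC : t ∈ centralizer ((P' : Subgroup G) : Set G) := by
    rw [hP', Subgroup.mem_centralizer_iff]
    intro g hg
    obtain ⟨k, rfl⟩ := mem_zpowers_iff.mp hg
    exact ((hc.zpow_right k).eq).symm
  have h2 := orderOf_dvd_natCard (⟨t, htC⟩ : centralizer ((P' : Subgroup G) : Set G))
  rw [Subgroup.orderOf_mk, ht, hC] at h2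
  omega

/-- The centralizer of an element of order `3` has order dividing `144`. -/
theorem card_centralizer_three_dvd (hcard : Nat.card G = 7920) (t : G)
    (ht : orderOf t = 3) : Nat.card (centralizer ({t} : Set G)) ∣ 144 := by
  have h1 : Nat.card (centralizer ({t} : Set G)) ∣ 144 * (5 * 11) := by
    have := Subgroup.card_subgroup_dvd_card (centralizer ({t} : Set G))
    rwa [hcard] at this
  have h5 := not_5_dvd_card_centralizer_three hcard t ht
  have h11 := not_11_dvd_card_centralizer_three hcard t ht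
  have hc5 : Nat.Coprime (Nat.card (centralizer ({t} : Set G))) 5 :=
    ((Nat.Prime.coprime_iff_not_dvd (by norm_num)).mpr h5).symm
  have hc11 : Nat.Coprime (Nat.card (centralizer ({t} : Set G))) 11 :=
    ((Nat.Prime.coprime_iff_not_dvd (by norm_num)).mpr h11).symm
  have hc55 : Nat.Coprime (Nat.card (centralizer ({t} : Set G))) (5 * 11) :=
    Nat.Coprime.mul_right hc5 hc11
  exact Nat.Coprime.dvd_of_dvd_mul_right hc55 h1

/-- The values of the characters at a nonidentity element of a Sylow `11`-subgroup. -/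
theorem vals11 [Fintype (IrrCharacter G)] (hcard : Nat.card G = 7920)
    {P : Sylow 11 G} {Q : Sylow 5 G} (E : MData P Q) (x : G) (hxP : x ∈ (P : Subgroup G))
    (hx1 : x ≠ 1) :
    (∀ χ ∈ E.D.X, (χ : G → ℂ) x = (E.D.sg χ : ℂ)) ∧
      (E.χ11 : G → ℂ) x = 0 ∧ (E.χ44 : G → ℂ) x = 0 ∧ (E.ψ₀ : G → ℂ) x = 0 ∧
      (E.θ₁ : G → ℂ) x * (starRingEnd ℂ) ((E.θ₁ : G → ℂ) x) +
        (E.θ₂ : G → ℂ) x * (starRingEnd ℂ) ((E.θ₂ : G → ℂ) x) = 6 ∧
      (centralizer ({x} : Set G)).index = 720 := by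
  classical
  have : Fintype G := Fintype.ofFinite G
  have hP := card_sylow11 hcard P
  obtain ⟨-, hC, -⟩ := sylow11_data hcard P
  have hX : ∀ χ ∈ E.D.X, (χ : G → ℂ) x = (E.D.sg χ : ℂ) := by
    intro χ hχ
    have := E.D.hval χ hχ x hxP hx1 1 (one_mem _) (by rw [orderOf_one]; norm_num)
    rwa [mul_one] at this
  have hvan := vanish11 hcard P E.D
  have h11 := (hvan E.χ11 E.hn1.1 E.hn1.2).1 x hxP hx1
  have h44 := (hvan E.χ44 E.hn4.1 E.hn4.2).1 x hxP hx1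
  have h55 := (hvan E.ψ₀ E.hn5.1 E.hn5.2).1 x hxP hx1
  have hCx := card_centralizer_singleton P hP hC x hxP hx1
  have hcent := sum_irr_mul_conj x x
  rw [if_pos (IsConj.refl x), E.hsU, hCx, hX _ E.D.htriv, hX _ E.hma, hX _ E.hm1, hX _ E.hm2,
    hX _ E.hm3, h11, h44, h55, E.D.hsgtriv, E.hsa, E.hs1, E.hs2, E.hs3] at hcent
  refine ⟨hX, h11, h44, h55, ?_, ?_⟩
  · simp only [map_intCast, map_one, map_neg, map_zero] at hcent
    push_cast at hcent
    linear_combination hcent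
  · have := Subgroup.card_mul_index (centralizer ({x} : Set G))
    rw [hCx, hcard] at this
    omega

/-- The values of the characters at an element of order `3`. -/
theorem three_elem [Fintype (IrrCharacter G)] (hcard : Nat.card G = 7920)
    {P : Sylow 11 G} {Q : Sylow 5 G} (E : MData P Q) (t : G) (ht : orderOf t = 2)
    (α β γ : IrrCharacter G)
    (hU : ∀ f : IrrCharacter G → ℂ, ∑ χ : IrrCharacter G, f χ = f (trivIrr G) + f E.χa + f α +
      f β + f γ + f E.θ₁ + f E.θ₂ + f E.χ11 + f E.χ44 + f E.ψ₀)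
    (hX : ∀ f : IrrCharacter G → ℂ, ∑ χ ∈ E.D.X, f χ = f (trivIrr G) + f E.χa + f α + f β + f γ)
    (hdα : irrDeg α = 10) (hdβ : irrDeg β = 10) (hdγ : irrDeg γ = 10)
    (hsα : E.D.sg α = -1) (hsβ : E.D.sg β = -1) (hsγ : E.D.sg γ = -1)
    (hmα : α ∈ E.D.X) (hmβ : β ∈ E.D.X) (hmγ : γ ∈ E.D.X)
    (htα : (α : G → ℂ) t = 2) (htβ : (β : G → ℂ) t = -2) (htγ : (γ : G → ℂ) t = -2)
    (z : G) (hz : orderOf z = 3) :
    Nat.card (centralizer ({z} : Set G)) = 18 ∧ (α : G → ℂ) z = 1 ∧ (β : G → ℂ) z = 1 ∧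
      (γ : G → ℂ) z = 1 ∧ (E.χa : G → ℂ) z = 0 ∧ (E.θ₁ : G → ℂ) z = -2 ∧
      (E.θ₂ : G → ℂ) z = -2 ∧ (E.χ11 : G → ℂ) z = 2 ∧ (E.χ44 : G → ℂ) z = -1 ∧
      (E.ψ₀ : G → ℂ) z = 1 := by
  classical
  have : Fintype G := Fintype.ofFinite G
  obtain ⟨hta, htθ₁, htθ₂, ht11, ht44, ht55, -⟩ := inv_vals_full hcard E t ht
  have hP := card_sylow11 hcard P
  obtain ⟨x, hxP, hx⟩ := exists_gen P hP
  have hx1 : x ≠ 1 := by intro h; rw [h, orderOf_one] at hx; omega
  obtain ⟨hxX, hx11, hx44, hx55, hxθ, hxidx⟩ := vals11 hcard E x hxP hx1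
  obtain ⟨hxX', hx11', hx44', hx55', -, hxidx'⟩ :=
    vals11 hcard E x⁻¹ (inv_mem hxP) (inv_ne_one.mpr hx1)
  have hax : (E.χa : G → ℂ) x = 1 := by rw [hxX _ E.hma, E.hsa]; norm_num
  have hαx : (α : G → ℂ) x = -1 := by rw [hxX _ hmα, hsα]; norm_num
  have hβx : (β : G → ℂ) x = -1 := by rw [hxX _ hmβ, hsβ]; norm_num
  have hγx : (γ : G → ℂ) x = -1 := by rw [hxX _ hmγ, hsγ]; norm_num
  have hax' : (E.χa : G → ℂ) x⁻¹ = 1 := by rw [hxX' _ E.hma, E.hsa]; norm_num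
  have hαx' : (α : G → ℂ) x⁻¹ = -1 := by rw [hxX' _ hmα, hsα]; norm_num
  have hβx' : (β : G → ℂ) x⁻¹ = -1 := by rw [hxX' _ hmβ, hsβ]; norm_num
  have hγx' : (γ : G → ℂ) x⁻¹ = -1 := by rw [hxX' _ hmγ, hsγ]; norm_num
  have hθ₁x' : (E.θ₁ : G → ℂ) x⁻¹ = (starRingEnd ℂ) ((E.θ₁ : G → ℂ) x) :=
    Cfsg.Agent.Helper24.irr_inv E.θ₁ x
  have hθ₂x' : (E.θ₂ : G → ℂ) x⁻¹ = (starRingEnd ℂ) ((E.θ₂ : G → ℂ) x) :=
    Cfsg.Agent.Helper24.irr_inv E.θ₂ x
  have htidx : (centralizer ({t} : Set G)).index = 165 := by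
    have := Subgroup.card_mul_index (centralizer ({t} : Set G))
    rw [card_centralizer_involution hcard t ht, hcard] at this
    omega
  -- the inverse
  set w := z⁻¹ with hw
  have hwo : orderOf w = 3 := by rw [hw, orderOf_inv, hz]
  have hz1 : z ≠ 1 := by intro h; rw [h, orderOf_one] at hz; omega
  have hconj : ∀ χ : IrrCharacter G, (starRingEnd ℂ) ((χ : G → ℂ) z) = (χ : G → ℂ) w :=
    fun χ => (Cfsg.Agent.Helper24.irr_inv χ z).symm
  have hBa : (E.χa : G → ℂ) w = 0 :=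
    irr_eq_zero_of_defect_zero E.χa 3 2 45 Nat.prime_three (by rw [hcard]; norm_num)
      (by rw [hcard]; norm_num) (by rw [irrDeg_spec, E.hda]) (by norm_num) w
      (by rw [hwo])
  -- relations on regular elements
  have hreg1 := E.D.hreg E.θ₁ E.hmθ₁ w (by rw [hwo]; norm_num)
  have hreg2 := E.D.hreg E.θ₂ E.hmθ₂ w (by rw [hwo]; norm_num)
  rw [hX, E.heps, E.D.hsgtriv, E.hsa, hsα, hsβ, hsγ, trivIrr_apply] at hreg1 hreg2
  have hθeq : (E.θ₂ : G → ℂ) w = (E.θ₁ : G → ℂ) w := by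
    push_cast at hreg1 hreg2
    linear_combination hreg2 - hreg1
  have hreg5 := E.F.hreg w (by rw [hwo]; norm_num)
  rw [E.hsB, E.F.hsgtriv, E.hsθ₁, E.hsθ₂, E.hs11, E.hs44, trivIrr_apply, hθeq] at hreg5
  -- column orthogonality
  have hcol1 := sum_irr_mul_conj (1 : G) z
  rw [if_neg (by rw [isConj_one_right]; exact hz1), hU] at hcol1
  simp only [hconj, irrDeg_spec, irrDeg_triv, E.hda, hdα, hdβ, hdγ, E.hdθ₁, E.hdθ₂, E.hd11,
    E.hd44, E.hd55, trivIrr_apply, hθeq] at hcol1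
  have hnc : ¬ IsConj t z := by
    intro h
    obtain ⟨c, hc⟩ := h
    have := hc.orderOf_eq
    rw [ht, hz] at this
    omega
  have hcolt := sum_irr_mul_conj t z
  rw [if_neg hnc, hU] at hcolt
  simp only [hconj, trivIrr_apply, hta, htα, htβ, htγ, htθ₁, htθ₂, ht11, ht44, ht55,
    hθeq] at hcolt
  -- class multiplication
  have hN1 := card_factorizations_gen x x⁻¹ z
  rw [hU, hxidx, hxidx', hcard] at hN1
  simp only [hconj, trivIrr_apply, hax, hαx, hβx, hγx, hax', hαx', hβx', hγx', hθ₁x', hθ₂x',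
    hx11, hx44, hx55, hx11', hx44', hx55', irrDeg_spec, irrDeg_triv, E.hda, hdα, hdβ, hdγ,
    E.hdθ₁, E.hdθ₂, E.hd11, E.hd44, E.hd55, hθeq] at hN1
  have hM := card_factorizations t z
  rw [hU, htidx, hcard] at hM
  simp only [hconj, trivIrr_apply, hta, htα, htβ, htγ, htθ₁, htθ₂, ht11, ht44, ht55,
    irrDeg_spec, irrDeg_triv, E.hda, hdα, hdβ, hdγ, E.hdθ₁, E.hdθ₂, E.hd11, E.hd44, E.hd55,
    hθeq] at hM
  have hN3 := card_factorizations_gen t x z
  rw [hU, htidx, hxidx, hcard] at hN3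
  simp only [hconj, trivIrr_apply, hta, htα, htβ, htγ, htθ₁, htθ₂, ht11, ht44, ht55,
    hax, hαx, hβx, hγx, hx11, hx44, hx55,
    irrDeg_spec, irrDeg_triv, E.hda, hdα, hdβ, hdγ, E.hdθ₁, E.hdθ₂, E.hd11, E.hd44, E.hd55,
    hθeq] at hN3
  simp only [map_one] at hcol1 hcolt hN1 hM hN3
  push_cast at hreg1 hreg5 hcol1 hcolt hN1 hM hN3
  -- normalized relations
  have R1 : (E.θ₁ : G → ℂ) w = 1 + (E.χa : G → ℂ) w - (α : G → ℂ) w - (β : G → ℂ) w -
      (γ : G → ℂ) w := by linear_combination hreg1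
  have R2 : 1 + (E.θ₁ : G → ℂ) w + (E.θ₁ : G → ℂ) w + (E.χ11 : G → ℂ) w -
      (E.χ44 : G → ℂ) w = 0 := by linear_combination hreg5
  have R3 : 1 + 45 * (E.χa : G → ℂ) w + 10 * (α : G → ℂ) w + 10 * (β : G → ℂ) w +
      10 * (γ : G → ℂ) w + 16 * (E.θ₁ : G → ℂ) w + 16 * (E.θ₁ : G → ℂ) w +
      11 * (E.χ11 : G → ℂ) w + 44 * (E.χ44 : G → ℂ) w + 55 * (E.ψ₀ : G → ℂ) w = 0 := by
    linear_combination hcol1
  have R4 : 1 - 3 * (E.χa : G → ℂ) w + 2 * (α : G → ℂ) w - 2 * (β : G → ℂ) w -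
      2 * (γ : G → ℂ) w + 3 * (E.χ11 : G → ℂ) w + 4 * (E.χ44 : G → ℂ) w -
      (E.ψ₀ : G → ℂ) w = 0 := by linear_combination hcolt
  obtain ⟨kθ, kv, hθk, hvk, hN1k, hMk, hN3k⟩ := three_stageI ((E.χa : G → ℂ) w)
    ((α : G → ℂ) w) ((β : G → ℂ) w) ((γ : G → ℂ) w) ((E.θ₁ : G → ℂ) w) ((E.χ11 : G → ℂ) w)
    ((E.χ44 : G → ℂ) w) ((E.ψ₀ : G → ℂ) w)
    ((E.θ₁ : G → ℂ) x * (starRingEnd ℂ) ((E.θ₁ : G → ℂ) x))
    ((E.θ₂ : G → ℂ) x * (starRingEnd ℂ) ((E.θ₂ : G → ℂ) x)) _ _ _ hBa R1 R2 R3 R4 hxθ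
    (by linear_combination hN1) (by linear_combination hM) (by linear_combination hN3)
    (irr_isIntegral _ _) (irr_isIntegral _ _)
  -- the order of the centralizer
  have hcdvd := card_centralizer_three_dvd hcard z hz
  have hzw : ∀ χ : IrrCharacter G, (χ : G → ℂ) z = (starRingEnd ℂ) ((χ : G → ℂ) w) := by
    intro χ
    have := Cfsg.Agent.Helper24.irr_inv χ w
    rwa [hw, inv_inv] at this
  have hnorm := sum_irr_mul_conj z z
  rw [if_pos (IsConj.refl z), hU] at hnorm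
  simp only [hconj] at hnorm
  have hnsq : ∀ χ : IrrCharacter G, (χ : G → ℂ) z * (χ : G → ℂ) w =
      ((Complex.normSq ((χ : G → ℂ) w) : ℝ) : ℂ) := by
    intro χ
    rw [hzw, Complex.normSq_eq_conj_mul_self]
  have hbound : 2 * kθ ^ 2 ≤ 144 := by
    have h1 : ((Nat.card (centralizer ({z} : Set G)) : ℝ) : ℂ) =
        ((Complex.normSq ((trivIrr G : G → ℂ) w) + Complex.normSq ((E.χa : G → ℂ) w) +
          Complex.normSq ((α : G → ℂ) w) + Complex.normSq ((β : G → ℂ) w) +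
          Complex.normSq ((γ : G → ℂ) w) + Complex.normSq ((E.θ₁ : G → ℂ) w) +
          Complex.normSq ((E.θ₂ : G → ℂ) w) + Complex.normSq ((E.χ11 : G → ℂ) w) +
          Complex.normSq ((E.χ44 : G → ℂ) w) + Complex.normSq ((E.ψ₀ : G → ℂ) w) : ℝ) : ℂ) := by
      push_cast
      rw [← hnsq, ← hnsq, ← hnsq, ← hnsq, ← hnsq, ← hnsq, ← hnsq, ← hnsq, ← hnsq, ← hnsq]
      exact hnorm.symm
    have h2 := Complex.ofReal_injective h1
    have h3 : Complex.normSq ((E.θ₁ : G → ℂ) w) = (kθ : ℝ) ^ 2 := by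
      rw [hθk, Complex.normSq_apply]
      simp only [Complex.intCast_re, Complex.intCast_im]
      ring
    have h4 : Complex.normSq ((E.θ₂ : G → ℂ) w) = (kθ : ℝ) ^ 2 := by
      rw [hθeq]; exact h3
    have h5 : (Nat.card (centralizer ({z} : Set G)) : ℝ) ≤ 144 := by
      have := Nat.le_of_dvd (by norm_num) hcdvd
      exact_mod_cast this
    have h6 : (2 * (kθ : ℝ) ^ 2) ≤ 144 := by
      have := Complex.normSq_nonneg ((trivIrr G : G → ℂ) w)
      have := Complex.normSq_nonneg ((E.χa : G → ℂ) w)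
      have := Complex.normSq_nonneg ((α : G → ℂ) w)
      have := Complex.normSq_nonneg ((β : G → ℂ) w)
      have := Complex.normSq_nonneg ((γ : G → ℂ) w)
      have := Complex.normSq_nonneg ((E.χ11 : G → ℂ) w)
      have := Complex.normSq_nonneg ((E.χ44 : G → ℂ) w)
      have := Complex.normSq_nonneg ((E.ψ₀ : G → ℂ) w)
      linarith
    exact_mod_cast h6
  have hcongθ : (kθ - 16) % 3 = 0 := by
    have := int_val_order_three E.θ₁ w hwo kθ hθk
    rw [E.hdθ₁] at this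
    exact_mod_cast this
  have hMpos := three_stageI_pos kθ kv _ _ _ hN1k hMk hN3k hcongθ hbound
  -- the element is real
  have hreal : IsConj z z⁻¹ := by
    obtain ⟨⟨s, hs1, hs2⟩⟩ := (Nat.card_pos_iff.mp hMpos).1
    have ho1 : orderOf s = 2 := by
      obtain ⟨c, hc⟩ := hs1
      rw [← hc.orderOf_eq, ht]
    have ho2 : orderOf (s⁻¹ * z) = 2 := by
      obtain ⟨c, hc⟩ := hs2
      rw [← hc.orderOf_eq, ht]
    have h1 : s * s = 1 := by rw [← sq, ← ho1]; exact pow_orderOf_eq_one s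
    have h2 : s⁻¹ * z * (s⁻¹ * z) = 1 := by rw [← sq, ← ho2]; exact pow_orderOf_eq_one _
    have hs : s⁻¹ = s := inv_eq_of_mul_eq_one_right h1
    rw [hs] at h2
    rw [isConj_iff]
    refine ⟨s, ?_⟩
    rw [hs]
    apply eq_inv_of_mul_eq_one_left
    rw [← h2]; group
  -- integral values
  have hwz : ∀ χ : IrrCharacter G, (χ : G → ℂ) w = (χ : G → ℂ) z := fun χ =>
    (IsClassFunction.eq_of_isConj (isClassFunction_irr χ) hreal).symm
  obtain ⟨ka, hka⟩ := real_vals_order_three z hz hreal E.χa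
  obtain ⟨kα, hkα⟩ := real_vals_order_three z hz hreal α
  obtain ⟨kβ, hkβ⟩ := real_vals_order_three z hz hreal β
  obtain ⟨kγ, hkγ⟩ := real_vals_order_three z hz hreal γ
  obtain ⟨kθ₁, hkθ₁⟩ := real_vals_order_three z hz hreal E.θ₁
  obtain ⟨k11, hk11⟩ := real_vals_order_three z hz hreal E.χ11
  obtain ⟨k44, hk44⟩ := real_vals_order_three z hz hreal E.χ44
  obtain ⟨k55, hk55⟩ := real_vals_order_three z hz hreal E.ψ₀
  have hkθ₂ : (E.θ₂ : G → ℂ) z = (kθ₁ : ℂ) := by rw [← hwz, hθeq, hwz, hkθ₁]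
  have hka0 : ka = 0 := by
    have := hBa
    rw [hwz, hka] at this
    exact_mod_cast this
  subst hka0
  simp only [hwz, hka, hkα, hkβ, hkγ, hkθ₁, hk11, hk44, hk55] at R1 R2 R3 R4
  have I1 : kθ₁ = 1 - kα - kβ - kγ := by
    have : ((kθ₁ : ℤ) : ℂ) = ((1 - kα - kβ - kγ : ℤ) : ℂ) := by
      push_cast at R1 ⊢
      linear_combination R1
    exact_mod_cast this
  have I2 : 1 + kθ₁ + kθ₁ + k11 - k44 = 0 := by
    have : ((1 + kθ₁ + kθ₁ + k11 - k44 : ℤ) : ℂ) = ((0 : ℤ) : ℂ) := by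
      push_cast at R2 ⊢
      linear_combination R2
    exact_mod_cast this
  have I3 : 1 + 10 * kα + 10 * kβ + 10 * kγ + 16 * kθ₁ + 16 * kθ₁ + 11 * k11 + 44 * k44 +
      55 * k55 = 0 := by
    have : ((1 + 10 * kα + 10 * kβ + 10 * kγ + 16 * kθ₁ + 16 * kθ₁ + 11 * k11 + 44 * k44 +
        55 * k55 : ℤ) : ℂ) = ((0 : ℤ) : ℂ) := by
      push_cast at R3 ⊢
      linear_combination R3
    exact_mod_cast this
  have I4 : 1 + 2 * kα - 2 * kβ - 2 * kγ + 3 * k11 + 4 * k44 - k55 = 0 := by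
    have : ((1 + 2 * kα - 2 * kβ - 2 * kγ + 3 * k11 + 4 * k44 - k55 : ℤ) : ℂ) =
        ((0 : ℤ) : ℂ) := by
      push_cast at R4 ⊢
      linear_combination R4
    exact_mod_cast this
  -- the norm
  simp only [hwz, hka, hkα, hkβ, hkγ, hkθ₁, hkθ₂, hk11, hk44, hk55, trivIrr_apply] at hnorm
  have Ic : (Nat.card (centralizer ({z} : Set G)) : ℤ) = 1 + kα ^ 2 + kβ ^ 2 + kγ ^ 2 +
      k11 ^ 2 + kθ₁ ^ 2 + kθ₁ ^ 2 + k44 ^ 2 + k55 ^ 2 := by
    have : (((Nat.card (centralizer ({z} : Set G)) : ℤ)) : ℂ) = ((1 + kα ^ 2 + kβ ^ 2 + kγ ^ 2 +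
        k11 ^ 2 + kθ₁ ^ 2 + kθ₁ ^ 2 + k44 ^ 2 + k55 ^ 2 : ℤ) : ℂ) := by
      push_cast at hnorm ⊢
      linear_combination -hnorm
    exact_mod_cast this
  have hcdZ : (Nat.card (centralizer ({z} : Set G)) : ℤ) ∣ 144 := by exact_mod_cast hcdvd
  -- congruences
  have C1 : (kθ₁ - 16) % 3 = 0 := by
    have := int_val_order_three E.θ₁ z hz kθ₁ hkθ₁
    rw [E.hdθ₁] at this
    exact_mod_cast this
  have C2 : (k44 - 44) % 3 = 0 := by
    have := int_val_order_three E.χ44 z hz k44 hk44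
    rw [E.hd44] at this
    exact_mod_cast this
  have C3 : (kβ - 10) % 3 = 0 := by
    have := int_val_order_three β z hz kβ hkβ
    rw [hdβ] at this
    exact_mod_cast this
  -- class multiplication
  have hNz := card_factorizations z z
  rw [hU, hcard] at hNz
  simp only [hconj, hwz, hka, hkα, hkβ, hkγ, hkθ₁, hkθ₂, hk11, hk44, hk55, trivIrr_apply,
    irrDeg_spec, E.hda, hdα, hdβ, hdγ, E.hdθ₁, E.hdθ₂, E.hd11, E.hd44, E.hd55, map_intCast,
    map_one, map_zero] at hNz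
  have hidx : ((centralizer ({z} : Set G)).index : ℂ) *
      (Nat.card (centralizer ({z} : Set G)) : ℂ) = 7920 := by
    have := Subgroup.card_mul_index (centralizer ({z} : Set G))
    rw [hcard] at this
    have h2 : (((centralizer ({z} : Set G)).index * Nat.card (centralizer ({z} : Set G)) : ℕ) : ℂ)
        = ((7920 : ℕ) : ℂ) := by rw [mul_comm, this]
    push_cast at h2
    exact h2
  have IN : (Nat.card {a : G // IsConj z a ∧ IsConj z (a⁻¹ * z)} : ℤ) *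
      (Nat.card (centralizer ({z} : Set G)) : ℤ) ^ 2 = 9 * (880 + 88 * (kα ^ 3 + kβ ^ 3 +
        kγ ^ 3) + 80 * k11 ^ 3 + 110 * kθ₁ ^ 3 + 20 * k44 ^ 3 + 16 * k55 ^ 3) := by
    have : (((Nat.card {a : G // IsConj z a ∧ IsConj z (a⁻¹ * z)} : ℤ) *
        (Nat.card (centralizer ({z} : Set G)) : ℤ) ^ 2 : ℤ) : ℂ) = ((9 * (880 + 88 * (kα ^ 3 +
          kβ ^ 3 + kγ ^ 3) + 80 * k11 ^ 3 + 110 * kθ₁ ^ 3 + 20 * k44 ^ 3 + 16 * k55 ^ 3) : ℤ) :
            ℂ) := by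
      push_cast at hNz ⊢
      linear_combination ((Nat.card (centralizer ({z} : Set G)) : ℂ) ^ 2 / 7920) * hNz +
        ((1 + (kα : ℂ) ^ 3 / 10 + (kβ : ℂ) ^ 3 / 10 + (kγ : ℂ) ^ 3 / 10 + (kθ₁ : ℂ) ^ 3 / 16 +
          (kθ₁ : ℂ) ^ 3 / 16 + (k11 : ℂ) ^ 3 / 11 + (k44 : ℂ) ^ 3 / 44 + (k55 : ℂ) ^ 3 / 55) /
            7920) * (((centralizer ({z} : Set G)).index : ℂ) *
              (Nat.card (centralizer ({z} : Set G)) : ℂ) + 7920) * hidx
    exact_mod_cast this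
  obtain ⟨hc18, eα, eβ, eγ, e11, eθ, e44, e55⟩ := three_stageII kα kβ kγ k11 kθ₁ k44 k55 _ _
    I1 I2 I3 I4 Ic hcdZ C1 C2 C3 IN (by positivity)
  refine ⟨by exact_mod_cast hc18, by rw [hkα, eα]; norm_num, by rw [hkβ, eβ]; norm_num,
    by rw [hkγ, eγ]; norm_num, by rw [hka]; norm_num, by rw [hkθ₁, eθ]; norm_num,
    by rw [hkθ₂, eθ]; norm_num, by rw [hk11, e11]; norm_num, by rw [hk44, e44]; norm_num,
    by rw [hk55, e55]; norm_num⟩

/-- The values of the characters at an element of order `3`, in terms of the original data. -/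
theorem three_vals [Fintype (IrrCharacter G)] (hcard : Nat.card G = 7920)
    {P : Sylow 11 G} {Q : Sylow 5 G} (E : MData P Q) (z : G) (hz : orderOf z = 3) :
    Nat.card (centralizer ({z} : Set G)) = 18 ∧ (E.χ1 : G → ℂ) z = 1 ∧ (E.χ2 : G → ℂ) z = 1 ∧
      (E.χ3 : G → ℂ) z = 1 ∧ (E.χa : G → ℂ) z = 0 ∧ (E.θ₁ : G → ℂ) z = -2 ∧
      (E.θ₂ : G → ℂ) z = -2 ∧ (E.χ11 : G → ℂ) z = 2 ∧ (E.χ44 : G → ℂ) z = -1 ∧
      (E.ψ₀ : G → ℂ) z = 1 := by
  classical
  have h2 : 2 ∣ Nat.card G := by rw [hcard]; norm_num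
  obtain ⟨t, ht⟩ := exists_prime_orderOf_dvd_card' (G := G) 2 h2
  obtain ⟨-, -, -, -, -, -, hc⟩ := inv_vals_full hcard E t ht
  rcases hc with ⟨e1, e2, e3⟩ | ⟨e1, e2, e3⟩ | ⟨e1, e2, e3⟩
  · obtain ⟨h0, h1, h2, h3, h4⟩ := three_elem hcard E t ht E.χ1 E.χ2 E.χ3 E.hsU E.hsX
      E.hd1 E.hd2 E.hd3 E.hs1 E.hs2 E.hs3 E.hm1 E.hm2 E.hm3 e1 e2 e3 z hz
    exact ⟨h0, h1, h2, h3, h4⟩
  · obtain ⟨h0, h1, h2, h3, h4⟩ := three_elem hcard E t ht E.χ2 E.χ1 E.χ3
      (fun f => by rw [E.hsU f]; ring) (fun f => by rw [E.hsX f]; ring)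
      E.hd2 E.hd1 E.hd3 E.hs2 E.hs1 E.hs3 E.hm2 E.hm1 E.hm3 e2 e1 e3 z hz
    exact ⟨h0, h2, h1, h3, h4⟩
  · obtain ⟨h0, h1, h2, h3, h4⟩ := three_elem hcard E t ht E.χ3 E.χ1 E.χ2
      (fun f => by rw [E.hsU f]; ring) (fun f => by rw [E.hsX f]; ring)
      E.hd3 E.hd1 E.hd2 E.hs3 E.hs1 E.hs2 E.hm3 E.hm1 E.hm2 e3 e1 e2 z hz
    exact ⟨h0, h2, h3, h1, h4⟩

/-- The centralizer of an element of order `3` has order `18`. -/
theorem card_centralizer_three (hcard : Nat.card G = 7920) (z : G) (hz : orderOf z = 3) :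
    Nat.card (centralizer ({z} : Set G)) = 18 := by
  classical
  have : Fintype (IrrCharacter G) := Fintype.ofFinite _
  obtain ⟨P⟩ : Nonempty (Sylow 11 G) := inferInstance
  obtain ⟨Q⟩ : Nonempty (Sylow 5 G) := inferInstance
  obtain ⟨E⟩ := exists_mdata hcard P Q
  exact (three_vals hcard E z hz).1

/-- Any two elements of order `3` are conjugate. -/
theorem isConj_of_order_three (hcard : Nat.card G = 7920) (z z' : G) (hz : orderOf z = 3)
    (hz' : orderOf z' = 3) : IsConj z z' := by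
  classical
  have : Fintype G := Fintype.ofFinite G
  have : Fintype (IrrCharacter G) := Fintype.ofFinite _
  obtain ⟨P⟩ : Nonempty (Sylow 11 G) := inferInstance
  obtain ⟨Q⟩ : Nonempty (Sylow 5 G) := inferInstance
  obtain ⟨E⟩ := exists_mdata hcard P Q
  obtain ⟨-, a1, a2, a3, a4, a5, a6, a7, a8, a9⟩ := three_vals hcard E z hz
  obtain ⟨-, b1, b2, b3, b4, b5, b6, b7, b8, b9⟩ := three_vals hcard E z' hz'
  by_contra hnc
  have hcol := sum_irr_mul_conj z z'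
  rw [if_neg hnc, E.hsU, a1, a2, a3, a4, a5, a6, a7, a8, a9, b1, b2, b3, b4, b5, b6, b7, b8, b9,
    trivIrr_apply, trivIrr_apply] at hcol
  simp only [map_one, map_zero, map_neg, map_ofNat] at hcol
  norm_num at hcol

end Cfsg.Agent.Helper15.O7920
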