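import Mathlib
import Cfsg.Agent.Helper15.O7920o

set_option autoImplicit false
set_option linter.unusedSectionVars false
set_option maxHeartbeats 1000000

/-!
Simple groups of order 7920: the normalizer of a Sylow `3`-subgroup has order `144`.
-/

namespace Cfsg.Agent.Helper15.O7920

open Cfsg Subgroup

universe u

theorem card_mul_relIndex_of_le {G : Type u} [Group G] {H K : Subgroup G} (h : H ≤ K) :
    Nat.card H * H.relIndex K = Nat.card K := by
  rw [← relIndex_bot_left, ← relIndex_bot_left]
  exact relIndex_mul_relIndex ⊥ H K bot_le h

variable {G : Type u} [Group G] [Finite G] [IsSimpleGroup G]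

theorem card_sylow3 (hcard : Nat.card G = 7920) (P : Sylow 3 G) :
    Nat.card (P : Subgroup G) = 9 := by
  have hG' : Nat.card G = 880 * 3 ^ 2 := by rw [hcard]; norm_num
  have := (Cfsg.Agent.Helper11.sylow_card_of_card_eq_pow 880 2 hG' (by norm_num) P).1
  rw [this]; norm_num

/-- The normalizer of a Sylow `3`-subgroup has order `144`. -/
theorem card_normalizer_sylow3 (hcard : Nat.card G = 7920) (P : Sylow 3 G) :
    Nat.card (normalizer ((P : Subgroup G) : Set G)) = 144 := by
  classical
  have hP9 := card_sylow3 hcard P
  haveI hcomm : IsMulCommutative (P : Subgroup G) :=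
    IsPGroup.isMulCommutative_of_card_eq_prime_sq (p := 3) (by rw [hP9]; norm_num)
  obtain ⟨z', hz'⟩ := exists_prime_orderOf_dvd_card' (G := (P : Subgroup G)) 3
    (by rw [hP9]; norm_num)
  have hz : orderOf (z' : G) = 3 := by rw [Subgroup.orderOf_coe]; exact hz'
  have hzP : (z' : G) ∈ (P : Subgroup G) := z'.2
  have hC18 := card_centralizer_three hcard (z' : G) hz
  have hPC : (P : Subgroup G) ≤ centralizer ({(z' : G)} : Set G) := by
    intro y hy
    rw [mem_centralizer_singleton_iff]
    have := congrArg Subtype.val (hcomm.is_comm.comm (⟨y, hy⟩ : (P : Subgroup G)) z')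
    simpa using this
  -- the centralizer of `z` normalizes `P`
  have hCN : centralizer ({(z' : G)} : Set G) ≤ normalizer ((P : Subgroup G) : Set G) := by
    have hidx : ((P : Subgroup G).subgroupOf (centralizer ({(z' : G)} : Set G))).index = 2 := by
      have := card_mul_relIndex_of_le hPC
      rw [hP9, hC18] at this
      rw [← relIndex]
      omega
    haveI := Subgroup.normal_of_index_eq_two hidx
    exact Subgroup.le_normalizer_of_normal_subgroupOf hPC
  -- no involution centralizes `P`
  have hCP : Nat.card (centralizer ((P : Subgroup G) : Set G)) = 9 := by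
    have h1 : (P : Subgroup G) ≤ centralizer ((P : Subgroup G) : Set G) := P.le_centralizer
    have h2 : centralizer ((P : Subgroup G) : Set G) ≤ centralizer ({(z' : G)} : Set G) :=
      centralizer_le (by intro y hy; rw [Set.mem_singleton_iff] at hy; rw [hy]; exact hzP)
    have d1 := Subgroup.card_dvd_of_le h1
    have d2 := Subgroup.card_dvd_of_le h2
    rw [hP9] at d1
    rw [hC18] at d2
    have hne : ¬ 2 ∣ Nat.card (centralizer ((P : Subgroup G) : Set G)) := by
      intro h
      obtain ⟨u, hu⟩ := exists_prime_orderOf_dvd_card'
        (G := centralizer ((P : Subgroup G) : Set G)) 2 h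
      have hu' : orderOf (u : G) = 2 := by rw [Subgroup.orderOf_coe]; exact hu
      have h48 := card_centralizer_involution hcard (u : G) hu'
      have hle : (P : Subgroup G) ≤ centralizer ({(u : G)} : Set G) := by
        intro y hy
        rw [mem_centralizer_singleton_iff]
        exact (mem_centralizer_iff.mp u.2 y hy)
      have := Subgroup.card_dvd_of_le hle
      rw [hP9, h48] at this
      omega
    obtain ⟨a, ha⟩ := d1
    obtain ⟨b, hb⟩ := d2
    have hab : a * b = 2 := by
      have : 18 = 9 * (a * b) := by rw [← mul_assoc, ← ha, ← hb]
      omega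
    have ha1 : a = 1 := by
      have ha2 : a ∣ 2 := Dvd.intro _ hab
      have := Nat.le_of_dvd (by norm_num) ha2
      interval_cases a
      · omega
      · rfl
      · exfalso; apply hne; rw [ha]; norm_num
    rw [ha, ha1]
  have hCPN : centralizer ((P : Subgroup G) : Set G) ≤ normalizer ((P : Subgroup G) : Set G) :=
    centralizer_le_normalizer _
  by_cases hcyc : IsCyclic (P : Subgroup G)
  · -- the cyclic case is impossible
    exfalso
    have key := card_dvd_of_injective _
      (QuotientGroup.kerLift_injective (P : Subgroup G).normalizerMonoidHom)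
    rw [normalizerMonoidHom_ker, ← index, ← relIndex] at key
    rw [hcyc.card_mulAut, hP9] at key
    have hφ : Nat.totient 9 = 6 := by decide
    rw [hφ] at key
    have hN := card_mul_relIndex_of_le hCPN
    rw [hCP] at hN
    have h18 := Subgroup.card_dvd_of_le hCN
    rw [hC18] at h18
    have hNdvd := Subgroup.card_subgroup_dvd_card (normalizer ((P : Subgroup G) : Set G))
    rw [hcard] at hNdvd
    have hr : (centralizer ((P : Subgroup G) : Set G)).relIndex
        (normalizer ((P : Subgroup G) : Set G)) = 2 := by
      have hle := Nat.le_of_dvd (by norm_num) key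
      rw [← hN] at h18 hNdvd
      generalize (centralizer ((P : Subgroup G) : Set G)).relIndex
        (normalizer ((P : Subgroup G) : Set G)) = r at key hle h18 hNdvd
      interval_cases r
      all_goals first | rfl | (exfalso; revert key h18 hNdvd; norm_num)
    rw [hr] at hN
    have hidxN := Subgroup.card_mul_index (normalizer ((P : Subgroup G) : Set G))
    rw [← hN, hcard] at hidxN
    have h440 : (normalizer ((P : Subgroup G) : Set G)).index = 440 := by omega
    have hsyl := card_sylow_modEq_one 3 G
    have hidx := Sylow.card_eq_index_normalizer P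
    change _ = (normalizer ((P : Subgroup G) : Set G)).index at hidx
    rw [hidx, h440] at hsyl
    exact absurd hsyl (by decide)
  · -- every nonidentity element of `P` has order `3`
    have hord : ∀ y : (P : Subgroup G), y ≠ 1 → orderOf y = 3 := by
      intro y hy
      have hdvd : orderOf y ∣ 9 := by rw [← hP9]; exact orderOf_dvd_natCard y
      have hle := Nat.le_of_dvd (by norm_num) hdvd
      have h9 : orderOf y ≠ 9 := by
        intro h
        exact hcyc (isCyclic_of_orderOf_eq_card y (by rw [h, hP9]))
      have h1 : orderOf y ≠ 1 := by
        intro h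
        exact hy (orderOf_eq_one_iff.mp h)
      interval_cases h : orderOf y <;> first | rfl | omega
    -- the orbit of `z`
    have horb : MulAction.orbit (normalizer ((P : Subgroup G) : Set G)) z' =
        ({1} : Set (P : Subgroup G))ᶜ := by
      ext y
      rw [Set.mem_compl_iff, Set.mem_singleton_iff]
      constructor
      · rintro ⟨n, rfl⟩ h
        have h' : (n : G) * (z' : G) * (n : G)⁻¹ = 1 := congrArg Subtype.val h
        have hz1 : (z' : G) = 1 := by
          have := congrArg (fun v => (n : G)⁻¹ * v * (n : G)) h'
          simpa [mul_assoc] using this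
        rw [hz1, orderOf_one] at hz
        omega
      · intro hy
        have hy3 := hord y hy
        have hc := isConj_of_order_three hcard (z' : G) (y : G) hz
          (by rw [Subgroup.orderOf_coe]; exact hy3)
        obtain ⟨g, hg⟩ := isConj_iff.mp hc
        obtain ⟨n, hn, hn'⟩ := P.conj_eq_normalizer_conj_of_mem (z' : G) g⁻¹ hzP
          (by rw [inv_inv, hg]; exact y.2)
        refine ⟨⟨n⁻¹, inv_mem hn⟩, ?_⟩
        apply Subtype.ext
        show n⁻¹ * (z' : G) * n⁻¹⁻¹ = (y : G)
        rw [inv_inv, ← hn', inv_inv, hg]
    have hncard : (MulAction.orbit (normalizer ((P : Subgroup G) : Set G)) z').ncard = 8 := by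
      rw [horb, Set.ncard_compl, Set.ncard_singleton, hP9]
    have hstab : Nat.card (MulAction.stabilizer (normalizer ((P : Subgroup G) : Set G)) z') =
        18 := by
      have hst : MulAction.stabilizer (normalizer ((P : Subgroup G) : Set G)) z' =
          (centralizer ({(z' : G)} : Set G)).subgroupOf
            (normalizer ((P : Subgroup G) : Set G)) := by
        ext n
        rw [MulAction.mem_stabilizer_iff, mem_subgroupOf, mem_centralizer_singleton_iff]
        constructor
        · intro h
          have h' : (n : G) * (z' : G) * (n : G)⁻¹ = (z' : G) := congrArg Subtype.val h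
          exact mul_inv_eq_iff_eq_mul.mp h'
        · intro h
          apply Subtype.ext
          show (n : G) * (z' : G) * (n : G)⁻¹ = (z' : G)
          rw [h, mul_inv_cancel_right]
      rw [hst, Nat.card_congr (subgroupOfEquivOfLe hCN).toEquiv, hC18]
    have hfin := Subgroup.card_mul_index
      (MulAction.stabilizer (normalizer ((P : Subgroup G) : Set G)) z')
    rw [MulAction.index_stabilizer, hncard, hstab] at hfin
    omega

end Cfsg.Agent.Helper15.O7920
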