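import Mathlib
import Cfsg.Agent.Helper15.O7920p

set_option autoImplicit false
set_option linter.unusedSectionVars false
set_option linter.unusedVariables false
set_option maxHeartbeats 1000000

/-!
Simple groups of order 7920: local structure around a Sylow `3`-subgroup
(self-centralizing, trivial intersections, exponent three).
-/

namespace Cfsg.Agent.Helper15.M11U

open Cfsg Subgroup Cfsg.Agent.Helper15.O7920

universe u

variable {G : Type u} [Group G] [Finite G] [IsSimpleGroup G]

theorem sylow3_comm (hcard : Nat.card G = 7920) (P : Sylow 3 G) {a b : G}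
    (ha : a ∈ (P : Subgroup G)) (hb : b ∈ (P : Subgroup G)) : a * b = b * a := by
  have hP9 := card_sylow3 hcard P
  haveI hcomm : IsMulCommutative (P : Subgroup G) :=
    IsPGroup.isMulCommutative_of_card_eq_prime_sq (p := 3) (by rw [hP9]; norm_num)
  have := congrArg Subtype.val (hcomm.is_comm.comm (⟨a, ha⟩ : (P : Subgroup G)) ⟨b, hb⟩)
  simpa using this

theorem sylow3_le_centralizer (hcard : Nat.card G = 7920) (P : Sylow 3 G) :
    (P : Subgroup G) ≤ centralizer ((P : Subgroup G) : Set G) := by
  intro a ha
  rw [mem_centralizer_iff]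
  intro b hb
  exact sylow3_comm hcard P hb ha

/-- The centralizer of a Sylow `3`-subgroup has order `9`. -/
theorem card_centralizer_sylow3 (hcard : Nat.card G = 7920) (P : Sylow 3 G) :
    Nat.card (centralizer ((P : Subgroup G) : Set G)) = 9 := by
  classical
  have hP9 := card_sylow3 hcard P
  obtain ⟨z', hz'⟩ := exists_prime_orderOf_dvd_card' (G := (P : Subgroup G)) 3
    (by rw [hP9]; norm_num)
  have hz : orderOf (z' : G) = 3 := by rw [Subgroup.orderOf_coe]; exact hz'
  have hzP : (z' : G) ∈ (P : Subgroup G) := z'.2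
  have hC18 := card_centralizer_three hcard (z' : G) hz
  have h1 : (P : Subgroup G) ≤ centralizer ((P : Subgroup G) : Set G) :=
    sylow3_le_centralizer hcard P
  have h2 : centralizer ((P : Subgroup G) : Set G) ≤ centralizer ({(z' : G)} : Set G) :=
    centralizer_le (by intro y hy; rw [Set.mem_singleton_iff] at hy; rw [hy]; exact hzP)
  have d1 := Subgroup.card_dvd_of_le h1
  have d2 := Subgroup.card_dvd_of_le h2
  rw [hP9] at d1
  rw [hC18] at d2
  have hne : ¬ 2 ∣ Nat.card (centralizer ((P : Subgroup G) : Set G)) := by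
    intro h
    obtain ⟨u, hu⟩ := exists_prime_orderOf_dvd_card'
      (G := centralizer ((P : Subgroup G) : Set G)) 2 h
    have hu' : orderOf (u : G) = 2 := by rw [Subgroup.orderOf_coe]; exact hu
    have h48 := card_centralizer_involution hcard (u : G) hu'
    have hle : (P : Subgroup G) ≤ centralizer ({(u : G)} : Set G) := by
      intro y hy
      rw [mem_centralizer_singleton_iff]
      exact (mem_centralizer_iff.mp u.2 y hy)
    have := Subgroup.card_dvd_of_le hle
    rw [hP9, h48] at this
    omega
  obtain ⟨a, ha⟩ := d1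
  obtain ⟨b, hb⟩ := d2
  have hab : a * b = 2 := by
    have : 18 = 9 * (a * b) := by rw [← mul_assoc, ← ha, ← hb]
    omega
  have ha1 : a = 1 := by
    have ha2 : a ∣ 2 := Dvd.intro _ hab
    have := Nat.le_of_dvd (by norm_num) ha2
    interval_cases a
    · omega
    · rfl
    · exfalso; apply hne; rw [ha]; norm_num
  rw [ha, ha1]

theorem centralizer_sylow3 (hcard : Nat.card G = 7920) (P : Sylow 3 G) :
    centralizer ((P : Subgroup G) : Set G) = (P : Subgroup G) := by
  symm
  apply Subgroup.eq_of_le_of_card_ge (sylow3_le_centralizer hcard P)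
  rw [card_centralizer_sylow3 hcard P, card_sylow3 hcard P]

theorem mem_sylow3_of_centralizes (hcard : Nat.card G = 7920) (P : Sylow 3 G) {g : G}
    (hg : ∀ u ∈ (P : Subgroup G), g * u = u * g) : g ∈ (P : Subgroup G) := by
  rw [← centralizer_sylow3 hcard P, mem_centralizer_iff]
  intro u hu
  exact (hg u hu).symm

/-- A Sylow `3`-subgroup is not cyclic. -/
theorem sylow3_not_cyclic (hcard : Nat.card G = 7920) (P : Sylow 3 G) :
    ¬ IsCyclic (P : Subgroup G) := by
  classical
  intro hcyc
  have hP9 := card_sylow3 hcard P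
  have hCP := card_centralizer_sylow3 hcard P
  have hCPN : centralizer ((P : Subgroup G) : Set G) ≤ normalizer ((P : Subgroup G) : Set G) :=
    centralizer_le_normalizer _
  have key := card_dvd_of_injective _
    (QuotientGroup.kerLift_injective (P : Subgroup G).normalizerMonoidHom)
  rw [normalizerMonoidHom_ker, ← index, ← relIndex] at key
  rw [hcyc.card_mulAut, hP9] at key
  have hφ : Nat.totient 9 = 6 := by decide
  rw [hφ] at key
  have hN := card_mul_relIndex_of_le hCPN
  rw [hCP, card_normalizer_sylow3 hcard P] at hN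
  have : (centralizer ((P : Subgroup G) : Set G)).relIndex
      (normalizer ((P : Subgroup G) : Set G)) = 16 := by omega
  rw [this] at key
  omega

theorem pow_three_of_mem_sylow3 (hcard : Nat.card G = 7920) (P : Sylow 3 G) {y : G}
    (hy : y ∈ (P : Subgroup G)) : y ^ 3 = 1 := by
  have hP9 := card_sylow3 hcard P
  by_cases h1 : y = 1
  · rw [h1, one_pow]
  have hdvd : orderOf (⟨y, hy⟩ : (P : Subgroup G)) ∣ 9 := by
    rw [← hP9]; exact orderOf_dvd_natCard _
  have hle := Nat.le_of_dvd (by norm_num) hdvd
  have h9 : orderOf (⟨y, hy⟩ : (P : Subgroup G)) ≠ 9 := by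
    intro h
    exact sylow3_not_cyclic hcard P (isCyclic_of_orderOf_eq_card _ (by rw [h, hP9]))
  have hne1 : orderOf (⟨y, hy⟩ : (P : Subgroup G)) ≠ 1 := by
    intro h
    apply h1
    have := orderOf_eq_one_iff.mp h
    exact congrArg Subtype.val this
  have h3 : orderOf (⟨y, hy⟩ : (P : Subgroup G)) = 3 := by
    interval_cases h : orderOf (⟨y, hy⟩ : (P : Subgroup G)) <;> first | rfl | omega
  have h3' : orderOf y = 3 := by
    rw [← h3, ← Subgroup.orderOf_coe]
  rw [← h3']
  exact pow_orderOf_eq_one y

theorem orderOf_of_mem_sylow3 (hcard : Nat.card G = 7920) (P : Sylow 3 G) {y : G}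
    (hy : y ∈ (P : Subgroup G)) (h1 : y ≠ 1) : orderOf y = 3 :=
  orderOf_eq_prime (pow_three_of_mem_sylow3 hcard P hy) h1

/-- An element of order `3` normalizing a Sylow `3`-subgroup lies in it. -/
theorem mem_of_mem_normalizer (Q : Sylow 3 G) {y : G} (hy3 : y ^ 3 = 1)
    (hy : y ∈ normalizer ((Q : Subgroup G) : Set G)) : y ∈ (Q : Subgroup G) := by
  have hp : IsPGroup 3 (zpowers y) := by
    rw [IsPGroup]
    rintro ⟨w, hw⟩
    obtain ⟨k, rfl⟩ := mem_zpowers_iff.mp hw
    refine ⟨1, ?_⟩
    apply Subtype.ext
    simp only [pow_one, SubmonoidClass.mk_pow, OneMemClass.coe_one]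
    rw [← zpow_natCast, ← zpow_mul, mul_comm, zpow_mul, zpow_natCast, hy3, one_zpow]
  have h := hp.inf_normalizer_sylow Q
  have : y ∈ zpowers y ⊓ normalizer ((Q : Subgroup G) : Set G) :=
    ⟨mem_zpowers y, hy⟩
  have h' : y ∈ zpowers y ⊓ (Q : Subgroup G) := by
    rw [← h]; exact this
  exact h'.2

/-- Distinct Sylow `3`-subgroups intersect trivially. -/
theorem sylow3_TI (hcard : Nat.card G = 7920) (P Q : Sylow 3 G) {y : G}
    (hyP : y ∈ (P : Subgroup G)) (hyQ : y ∈ (Q : Subgroup G)) (h1 : y ≠ 1) : P = Q := by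
  classical
  have hy3 := orderOf_of_mem_sylow3 hcard P hyP h1
  have hC18 := card_centralizer_three hcard y hy3
  have hP9 := card_sylow3 hcard P
  have hQ9 := card_sylow3 hcard Q
  have hPC : (P : Subgroup G) ≤ centralizer ({y} : Set G) := by
    intro a ha
    rw [mem_centralizer_singleton_iff]
    exact sylow3_comm hcard P ha hyP
  have hQC : (Q : Subgroup G) ≤ centralizer ({y} : Set G) := by
    intro a ha
    rw [mem_centralizer_singleton_iff]
    exact sylow3_comm hcard Q ha hyQ
  have hCN : centralizer ({y} : Set G) ≤ normalizer ((P : Subgroup G) : Set G) := by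
    have hidx : ((P : Subgroup G).subgroupOf (centralizer ({y} : Set G))).index = 2 := by
      have := card_mul_relIndex_of_le hPC
      rw [hP9, hC18] at this
      rw [← relIndex]
      omega
    haveI := Subgroup.normal_of_index_eq_two hidx
    exact Subgroup.le_normalizer_of_normal_subgroupOf hPC
  -- every element of `Q` normalizes `P`, hence lies in `P`
  have hQP : (Q : Subgroup G) ≤ (P : Subgroup G) := by
    intro a ha
    exact mem_of_mem_normalizer P (pow_three_of_mem_sylow3 hcard Q ha) (hCN (hQC ha))
  have : (Q : Subgroup G) = (P : Subgroup G) :=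
    Subgroup.eq_of_le_of_card_ge hQP (by rw [hP9, hQ9])
  exact (Sylow.ext this).symm

end Cfsg.Agent.Helper15.M11U
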