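import Mathlib
import Cfsg.Agent.Helper15.M11a

set_option autoImplicit false
set_option linter.unusedSectionVars false
set_option linter.unusedVariables false
set_option linter.style.haveILetI false
set_option maxHeartbeats 1000000

/-!
Simple groups of order 7920: involutions inverting a Sylow `3`-subgroup.
-/

namespace Cfsg.Agent.Helper15.M11U

open Cfsg Subgroup Cfsg.Agent.Helper15.O7920
open scoped Pointwise

universe u

section General

variable {G : Type u} [Group G]

/-- `z` inverts every element of `P` by conjugation. -/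
def Inverts (z : G) (P : Subgroup G) : Prop := ∀ u ∈ P, z * u * z⁻¹ = u⁻¹

theorem mem_smul_sylow {p : ℕ} (g x : G) (P : Sylow p G) :
    x ∈ ((g • P : Sylow p G) : Subgroup G) ↔ g⁻¹ * x * g ∈ (P : Subgroup G) := by
  rw [Sylow.smul_def, Sylow.pointwise_smul_def, mem_pointwise_smul_iff_inv_smul_mem,
    MulAut.smul_def, ← map_inv, MulAut.conj_apply, inv_inv]

theorem conj_mem_smul_sylow {p : ℕ} (g : G) (P : Sylow p G) {x : G}
    (hx : x ∈ (P : Subgroup G)) : g * x * g⁻¹ ∈ ((g • P : Sylow p G) : Subgroup G) := by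
  rw [mem_smul_sylow]
  have : g⁻¹ * (g * x * g⁻¹) * g = x := by group
  rw [this]; exact hx

theorem Inverts.mem_normalizer {z : G} {P : Subgroup G} (h : Inverts z P) :
    z ∈ normalizer (P : Set G) := by
  rw [mem_normalizer_iff]
  intro u
  constructor
  · intro hu
    rw [h u hu]
    exact inv_mem hu
  · intro hu
    have h1 := h _ (inv_mem hu)
    have : u = (z * u * z⁻¹)⁻¹ := by
      have h2 : z⁻¹ * (z * (z * u * z⁻¹)⁻¹ * z⁻¹) * z = z⁻¹ * (z * u * z⁻¹)⁻¹⁻¹ * z := by
        rw [h1]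
      rw [inv_inv] at h2
      have h3 : z⁻¹ * (z * (z * u * z⁻¹)⁻¹ * z⁻¹) * z = (z * u * z⁻¹)⁻¹ := by group
      have h4 : z⁻¹ * (z * u * z⁻¹) * z = u := by group
      rw [h3, h4] at h2
      exact h2.symm
    rw [this]
    exact inv_mem hu

theorem Inverts.conj_inv {z : G} {P : Subgroup G} (h : Inverts z P) {u : G} (hu : u ∈ P) :
    z⁻¹ * u * z = u⁻¹ := by
  have h1 := h _ (inv_mem hu)
  rw [inv_inv] at h1
  calc z⁻¹ * u * z = z⁻¹ * (z * u⁻¹ * z⁻¹) * z := by rw [h1]
    _ = u⁻¹ := by group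

theorem Inverts.smul {p : ℕ} {z : G} {P : Sylow p G} (h : Inverts z (P : Subgroup G)) (g : G) :
    Inverts (g * z * g⁻¹) ((g • P : Sylow p G) : Subgroup G) := by
  intro u hu
  rw [mem_smul_sylow] at hu
  have h1 := h _ hu
  calc g * z * g⁻¹ * u * (g * z * g⁻¹)⁻¹ = g * (z * (g⁻¹ * u * g) * z⁻¹) * g⁻¹ := by group
    _ = g * (g⁻¹ * u * g)⁻¹ * g⁻¹ := by rw [h1]
    _ = u⁻¹ := by group

end General

variable {G : Type u} [Group G] [Finite G] [IsSimpleGroup G]

theorem sylow3_ne_bot (hcard : Nat.card G = 7920) (P : Sylow 3 G) :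
    ∃ u ∈ (P : Subgroup G), u ≠ 1 := by
  have hP9 := card_sylow3 hcard P
  by_contra h
  push Not at h
  have : (P : Subgroup G) = ⊥ := (Subgroup.eq_bot_iff_forall _).mpr h
  rw [this, Subgroup.card_bot] at hP9
  omega

/-- An element inverting a Sylow `3`-subgroup is an involution. -/
theorem Inverts.orderOf_eq_two (hcard : Nat.card G = 7920) {P : Sylow 3 G} {z : G}
    (h : Inverts z (P : Subgroup G)) : orderOf z = 2 := by
  have hsq : z * z ∈ (P : Subgroup G) := by
    apply mem_sylow3_of_centralizes hcard P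
    intro u hu
    have h1 := h u hu
    have h2 := h _ (inv_mem hu)
    rw [inv_inv] at h2
    have : z * z * u * (z * z)⁻¹ = u := by
      calc z * z * u * (z * z)⁻¹ = z * (z * u * z⁻¹) * z⁻¹ := by group
        _ = u := by rw [h1, h2]
    calc z * z * u = z * z * u * (z * z)⁻¹ * (z * z) := by group
      _ = u * (z * z) := by rw [this]
  have h1 := h _ hsq
  have h4 : (z * z) * (z * z) = 1 := by
    have : z * (z * z) * z⁻¹ = z * z := by group
    rw [this] at h1
    calc (z * z) * (z * z) = (z * z) * (z * z)⁻¹ := congrArg ((z * z) * ·) h1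
      _ = 1 := mul_inv_cancel _
  have h3 := pow_three_of_mem_sylow3 hcard P hsq
  have hzz : z * z = 1 := by
    rw [pow_three, h4, mul_one] at h3
    exact h3
  have hz1 : z ≠ 1 := by
    intro hz
    obtain ⟨u, hu, hu1⟩ := sylow3_ne_bot hcard P
    have h5 := h u hu
    rw [hz] at h5
    simp only [one_mul, inv_one, mul_one] at h5
    have h6 := pow_three_of_mem_sylow3 hcard P hu
    apply hu1
    have h7 : u * u = 1 := by
      calc u * u = u * u⁻¹ := congrArg (u * ·) h5
        _ = 1 := mul_inv_cancel u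
    rw [pow_three, h7, mul_one] at h6
    exact h6
  exact orderOf_eq_prime (by rw [pow_two]; exact hzz) hz1

theorem Inverts.mul_self (hcard : Nat.card G = 7920) {P : Sylow 3 G} {z : G}
    (h : Inverts z (P : Subgroup G)) : z * z = 1 := by
  have := h.orderOf_eq_two hcard
  rw [← pow_two, ← this]
  exact pow_orderOf_eq_one z

theorem Inverts.inv_eq (hcard : Nat.card G = 7920) {P : Sylow 3 G} {z : G}
    (h : Inverts z (P : Subgroup G)) : z⁻¹ = z :=
  inv_eq_of_mul_eq_one_left (h.mul_self hcard)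

theorem Inverts.mul_left (hcard : Nat.card G = 7920) {P : Sylow 3 G} {z : G}
    (h : Inverts z (P : Subgroup G)) {u : G} (hu : u ∈ (P : Subgroup G)) :
    Inverts (u * z) (P : Subgroup G) := by
  intro a ha
  have h1 := h a ha
  calc u * z * a * (u * z)⁻¹ = u * (z * a * z⁻¹) * u⁻¹ := by group
    _ = u * a⁻¹ * u⁻¹ := by rw [h1]
    _ = a⁻¹ * u * u⁻¹ := by rw [sylow3_comm hcard P hu (inv_mem ha)]
    _ = a⁻¹ := by group

theorem Inverts.exists_eq_mul (hcard : Nat.card G = 7920) {P : Sylow 3 G} {z w : G}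
    (h : Inverts z (P : Subgroup G)) (hw : Inverts w (P : Subgroup G)) :
    ∃ u ∈ (P : Subgroup G), w = u * z := by
  refine ⟨w * z⁻¹, ?_, by group⟩
  apply mem_sylow3_of_centralizes hcard P
  intro a ha
  have h1 := h.conj_inv ha
  have h2 := hw _ (inv_mem ha)
  rw [inv_inv] at h2
  calc w * z⁻¹ * a = w * (z⁻¹ * a * z) * w⁻¹ * (w * z⁻¹) := by group
    _ = a * (w * z⁻¹) := by rw [h1, h2]

/-- Two distinct Sylow `3`-subgroups have at most one common inverting involution. -/
theorem Inverts.unique (hcard : Nat.card G = 7920) {P Q : Sylow 3 G} (hPQ : P ≠ Q) {z w : G}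
    (hzP : Inverts z (P : Subgroup G)) (hzQ : Inverts z (Q : Subgroup G))
    (hwP : Inverts w (P : Subgroup G)) (hwQ : Inverts w (Q : Subgroup G)) : z = w := by
  obtain ⟨u, hu, hu'⟩ := hzP.exists_eq_mul hcard hwP
  obtain ⟨v, hv, hv'⟩ := hzQ.exists_eq_mul hcard hwQ
  have huv : u = v := by
    have : u * z = v * z := by rw [← hu', ← hv']
    exact mul_right_cancel this
  by_cases h1 : u = 1
  · rw [hu', h1, one_mul]
  · exfalso
    exact hPQ (sylow3_TI hcard P Q hu (huv ▸ hv) h1)

end Cfsg.Agent.Helper15.M11U
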