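import Mathlib
import Cfsg.Agent.Helper15.M11b

set_option autoImplicit false
set_option linter.unusedSectionVars false
set_option linter.unusedVariables false
set_option linter.style.haveILetI false
set_option maxHeartbeats 1000000

/-!
Simple groups of order 7920: existence of an involution inverting a Sylow `3`-subgroup.
-/

namespace Cfsg.Agent.Helper15.M11U

open Cfsg Subgroup Cfsg.Agent.Helper15.O7920
open scoped Pointwise

universe u

variable {G : Type u} [Group G] [Finite G] [IsSimpleGroup G]

theorem card_sylow3_set (hcard : Nat.card G = 7920) : Nat.card (Sylow 3 G) = 55 := by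
  obtain ⟨P⟩ : Nonempty (Sylow 3 G) := inferInstance
  rw [Sylow.card_eq_index_normalizer P]
  have h := Subgroup.card_mul_index (normalizer ((P : Subgroup G) : Set G))
  rw [card_normalizer_sylow3 hcard P, hcard] at h
  change (normalizer ((P : Subgroup G) : Set G)).index = 55
  omega

theorem card_sylow2 (hcard : Nat.card G = 7920) (S : Sylow 2 G) :
    Nat.card (S : Subgroup G) = 16 := by
  have hG' : Nat.card G = 495 * 2 ^ 4 := by rw [hcard]; norm_num
  have := (Cfsg.Agent.Helper11.sylow_card_of_card_eq_pow 495 4 hG' (by norm_num) S).1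
  rw [this]; norm_num

theorem exists_sylow3_normalized (hcard : Nat.card G = 7920) (S : Sylow 2 G) :
    ∃ P : Sylow 3 G, (S : Subgroup G) ≤ normalizer ((P : Subgroup G) : Set G) := by
  have h := (S.isPGroup').card_modEq_card_fixedPoints (Sylow 3 G)
  rw [card_sylow3_set hcard] at h
  have hne : Nat.card (MulAction.fixedPoints (S : Subgroup G) (Sylow 3 G)) ≠ 0 := by
    intro h0
    rw [h0] at h
    exact absurd h (by decide)
  have : Nonempty (MulAction.fixedPoints (S : Subgroup G) (Sylow 3 G)) := by
    by_contra hcon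
    rw [not_nonempty_iff] at hcon
    exact hne Nat.card_of_isEmpty
  obtain ⟨P, hP⟩ := this
  refine ⟨P, fun s hs => ?_⟩
  apply Sylow.smul_eq_iff_mem_normalizer.mp
  exact hP ⟨s, hs⟩

theorem exists_central_involution (hcard : Nat.card G = 7920) (S : Sylow 2 G) :
    ∃ z ∈ (S : Subgroup G), orderOf z = 2 ∧ ∀ s ∈ (S : Subgroup G), s * z = z * s := by
  have hS16 := card_sylow2 hcard S
  haveI : Nontrivial (S : Subgroup G) := by
    rw [← Finite.one_lt_card_iff_nontrivial, hS16]; norm_num
  haveI := (S.isPGroup').center_nontrivial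
  have hpc : IsPGroup 2 (center (S : Subgroup G)) := (S.isPGroup').to_subgroup _
  obtain ⟨k, hk⟩ := IsPGroup.iff_card.mp hpc
  have hk0 : k ≠ 0 := by
    intro h0
    rw [h0, pow_zero] at hk
    have := Finite.one_lt_card_iff_nontrivial.mpr ‹Nontrivial (center (S : Subgroup G))›
    omega
  have h2 : 2 ∣ Nat.card (center (S : Subgroup G)) := by
    rw [hk]; exact dvd_pow_self 2 hk0
  obtain ⟨z0, hz0⟩ := exists_prime_orderOf_dvd_card' (G := center (S : Subgroup G)) 2 h2
  refine ⟨((z0 : (S : Subgroup G)) : G), (z0 : (S : Subgroup G)).2, ?_, ?_⟩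
  · rw [Subgroup.orderOf_coe, Subgroup.orderOf_coe]; exact hz0
  · intro s hs
    have := mem_center_iff.mp z0.2 ⟨s, hs⟩
    exact congrArg Subtype.val this

theorem centralizer_zpowers_eq (u : G) :
    centralizer ((zpowers u : Subgroup G) : Set G) = centralizer ({u} : Set G) := by
  ext g
  rw [mem_centralizer_iff, mem_centralizer_singleton_iff]
  constructor
  · intro h
    exact (h u (mem_zpowers u)).symm
  · intro h a ha
    obtain ⟨k, rfl⟩ := mem_zpowers_iff.mp ha
    have hc : Commute g u := h
    exact ((hc.zpow_right k).eq).symm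

/-- The normalizer of a subgroup of order `3` has order dividing `36`. -/
theorem card_normalizer_order_three (hcard : Nat.card G = 7920) (u : G) (hu : orderOf u = 3) :
    Nat.card (normalizer ((zpowers u : Subgroup G) : Set G)) ∣ 36 := by
  classical
  have hA3 : Nat.card (zpowers u) = 3 := by rw [Nat.card_zpowers, hu]
  haveI : IsCyclic (zpowers u) := inferInstance
  have key := card_dvd_of_injective _
    (QuotientGroup.kerLift_injective (zpowers u).normalizerMonoidHom)
  rw [normalizerMonoidHom_ker, ← index, ← relIndex] at key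
  rw [IsCyclic.card_mulAut, hA3] at key
  have hφ : Nat.totient 3 = 2 := by decide
  rw [hφ] at key
  have hCN : centralizer ((zpowers u : Subgroup G) : Set G) ≤
      normalizer ((zpowers u : Subgroup G) : Set G) := centralizer_le_normalizer _
  have hN := card_mul_relIndex_of_le hCN
  rw [centralizer_zpowers_eq, card_centralizer_three hcard u hu] at hN
  rw [← hN]
  obtain ⟨c, hc⟩ := key
  rw [centralizer_zpowers_eq] at hc
  exact ⟨c, by rw [mul_assoc, ← hc]; norm_num⟩



theorem inverts_of_central (hcard : Nat.card G = 7920) (S : Sylow 2 G) (P : Sylow 3 G)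
    (hSP : (S : Subgroup G) ≤ normalizer ((P : Subgroup G) : Set G)) {z : G}
    (hzS : z ∈ (S : Subgroup G)) (hz2 : orderOf z = 2)
    (hzc : ∀ s ∈ (S : Subgroup G), s * z = z * s) : Inverts z (P : Subgroup G) := by
  classical
  have hzz : z * z = 1 := by
    rw [← pow_two, ← hz2]; exact pow_orderOf_eq_one z
  have hzinv : z⁻¹ = z := inv_eq_of_mul_eq_one_left hzz
  have hzN : z ∈ normalizer ((P : Subgroup G) : Set G) := hSP hzS
  have hP9 := card_sylow3 hcard P
  -- step 1: `z` has no nontrivial fixed point on `P`
  have step1 : ∀ u ∈ (P : Subgroup G), z * u = u * z → u = 1 := by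
    intro u hu hcomm
    by_contra hu1
    have hu3 := orderOf_of_mem_sylow3 hcard P hu hu1
    set B : Subgroup G := (P : Subgroup G) ⊓ centralizer ({z} : Set G) with hB
    have huB : u ∈ B :=
      Subgroup.mem_inf.mpr ⟨hu, mem_centralizer_singleton_iff.mpr hcomm.symm⟩
    have hBP : B ≤ (P : Subgroup G) := inf_le_left
    have hSB : (S : Subgroup G) ≤ normalizer (B : Set G) := by
      intro s hs
      rw [mem_normalizer_iff]
      intro h
      have hsN := mem_normalizer_iff.mp (hSP hs) h
      have hsz := hzc s hs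
      have hsz' : s⁻¹ * z = z * s⁻¹ := by
        calc s⁻¹ * z = s⁻¹ * (z * s) * s⁻¹ := by group
          _ = s⁻¹ * (s * z) * s⁻¹ := by rw [hsz]
          _ = z * s⁻¹ := by group
      constructor
      · intro h12
        obtain ⟨h1, h2⟩ := Subgroup.mem_inf.mp h12
        refine Subgroup.mem_inf.mpr ⟨hsN.mp h1, ?_⟩
        rw [mem_centralizer_singleton_iff] at h2 ⊢
        calc s * h * s⁻¹ * z = s * h * (s⁻¹ * z) := by group
          _ = s * (h * z) * s⁻¹ := by rw [hsz']; group
          _ = s * (z * h) * s⁻¹ := by rw [h2]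
          _ = (s * z) * h * s⁻¹ := by group
          _ = z * (s * h * s⁻¹) := by rw [hsz]; group
      · intro h12
        obtain ⟨h1, h2⟩ := Subgroup.mem_inf.mp h12
        refine Subgroup.mem_inf.mpr ⟨hsN.mpr h1, ?_⟩
        rw [mem_centralizer_singleton_iff] at h2 ⊢
        have : s * (h * z) * s⁻¹ = s * (z * h) * s⁻¹ := by
          calc s * (h * z) * s⁻¹ = s * h * (z * s⁻¹) := by group
            _ = s * h * (s⁻¹ * z) := by rw [hsz']
            _ = s * h * s⁻¹ * z := by group
            _ = z * (s * h * s⁻¹) := h2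
            _ = (z * s) * h * s⁻¹ := by group
            _ = s * (z * h) * s⁻¹ := by rw [← hsz]; group
        have h3 : s⁻¹ * (s * (h * z) * s⁻¹) * s = s⁻¹ * (s * (z * h) * s⁻¹) * s := by
          rw [this]
        calc h * z = s⁻¹ * (s * (h * z) * s⁻¹) * s := by group
          _ = s⁻¹ * (s * (z * h) * s⁻¹) * s := h3
          _ = z * h := by group
    have hBcard : Nat.card B = 3 := by
      have hd : Nat.card B ∣ 9 := by rw [← hP9]; exact Subgroup.card_dvd_of_le hBP
      have hle := Nat.le_of_dvd (by norm_num) hd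
      have h1 : Nat.card B ≠ 1 := by
        intro h
        have := (Subgroup.card_eq_one.mp h)
        rw [this] at huB
        exact hu1 (Subgroup.mem_bot.mp huB)
      have h9 : Nat.card B ≠ 9 := by
        intro h
        have hBe : B = (P : Subgroup G) := Subgroup.eq_of_le_of_card_ge hBP (by rw [h, hP9])
        have hzP : z ∈ (P : Subgroup G) := by
          apply mem_sylow3_of_centralizes hcard P
          intro a ha
          have : a ∈ B := by rw [hBe]; exact ha
          exact (mem_centralizer_singleton_iff.mp (Subgroup.mem_inf.mp this).2).symm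
        have := pow_three_of_mem_sylow3 hcard P hzP
        have hd2 : orderOf z ∣ 3 := orderOf_dvd_of_pow_eq_one this
        rw [hz2] at hd2
        omega
      interval_cases hc : Nat.card B <;> first | rfl | omega | (exfalso; revert hd; norm_num)
    have hBz : zpowers u = B := by
      apply Subgroup.eq_of_le_of_card_ge
      · rw [zpowers_le]; exact huB
      · rw [hBcard, Nat.card_zpowers, hu3]
    have h36 := card_normalizer_order_three hcard u hu3
    rw [hBz] at h36
    have h16 := Subgroup.card_dvd_of_le hSB
    rw [card_sylow2 hcard S] at h16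
    have := Nat.dvd_trans h16 h36
    omega
  intro a ha
  have hza : z * a * z⁻¹ ∈ (P : Subgroup G) := (mem_normalizer_iff.mp hzN a).mp ha
  have hb : a * (z * a * z⁻¹) = 1 := by
    apply step1 _ (mul_mem ha hza)
    have hc := sylow3_comm hcard P ha hza
    calc z * (a * (z * a * z⁻¹)) = (z * a * z⁻¹) * (z * z * a * z⁻¹) := by group
      _ = (z * a * z⁻¹) * (a * z⁻¹) := by rw [hzz, one_mul]
      _ = ((z * a * z⁻¹) * a) * z⁻¹ := by group
      _ = a * (z * a * z⁻¹) * z := by rw [← hc, hzinv]
  exact (eq_inv_of_mul_eq_one_right hb)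

theorem exists_inverts (hcard : Nat.card G = 7920) (P : Sylow 3 G) :
    ∃ z : G, Inverts z (P : Subgroup G) := by
  obtain ⟨S⟩ : Nonempty (Sylow 2 G) := inferInstance
  obtain ⟨P', hP'⟩ := exists_sylow3_normalized hcard S
  obtain ⟨z, hzS, hz2, hzc⟩ := exists_central_involution hcard S
  have h := inverts_of_central hcard S P' hP' hzS hz2 hzc
  obtain ⟨g, hg⟩ := MulAction.exists_smul_eq G P' P
  refine ⟨g * z * g⁻¹, ?_⟩
  rw [← hg]
  exact h.smul g

end Cfsg.Agent.Helper15.M11U
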