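import Mathlib
import Cfsg.Agent.Helper15.M11c

set_option autoImplicit false
set_option linter.unusedSectionVars false
set_option linter.unusedVariables false
set_option linter.style.haveILetI false
set_option maxHeartbeats 1000000

/-!
Simple groups of order 7920: the inverting involutions of a Sylow `3`-subgroup and the three
Sylow `3`-subgroups inverted by such an involution.
-/

namespace Cfsg.Agent.Helper15.M11U

open Cfsg Subgroup Cfsg.Agent.Helper15.O7920
open scoped Pointwise

universe u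

/-- Counting a subgroup `N = A B` with `A ∩ B = 1`. -/
theorem card_mul_of_factor {G : Type u} [Group G] (A B N : Subgroup G) (hA : A ≤ N) (hB : B ≤ N)
    (hAB : ∀ x, x ∈ A → x ∈ B → x = 1) (hN : ∀ n ∈ N, ∃ a ∈ A, ∃ b ∈ B, n = a * b) :
    Nat.card A * Nat.card B = Nat.card N := by
  rw [← Nat.card_prod]
  apply Nat.card_congr
  refine Equiv.ofBijective (fun x : A × B => (⟨x.1 * x.2, mul_mem (hA x.1.2) (hB x.2.2)⟩ : N))
    ⟨?_, ?_⟩
  · rintro ⟨⟨a, ha⟩, ⟨b, hb⟩⟩ ⟨⟨a', ha'⟩, ⟨b', hb'⟩⟩ h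
    have h' : a * b = a' * b' := congrArg Subtype.val h
    have h1 : a'⁻¹ * a = b' * b⁻¹ := by
      calc a'⁻¹ * a = a'⁻¹ * (a * b) * b⁻¹ := by group
        _ = a'⁻¹ * (a' * b') * b⁻¹ := by rw [h']
        _ = b' * b⁻¹ := by group
    have h2 : a'⁻¹ * a = 1 :=
      hAB _ (mul_mem (inv_mem ha') ha) (by rw [h1]; exact mul_mem hb' (inv_mem hb))
    have h3 : b' * b⁻¹ = 1 := by rw [← h1, h2]
    have ea : a = a' := by
      calc a = a' * (a'⁻¹ * a) := by group
        _ = a' := by rw [h2, mul_one]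
    have eb : b = b' := by
      calc b = (b' * b⁻¹)⁻¹ * b' := by group
        _ = b' := by rw [h3, inv_one, one_mul]
    subst ea eb
    rfl
  · rintro ⟨n, hn⟩
    obtain ⟨a, ha, b, hb, rfl⟩ := hN n hn
    exact ⟨(⟨a, ha⟩, ⟨b, hb⟩), rfl⟩

variable {G : Type u} [Group G] [Finite G] [IsSimpleGroup G]

theorem mem_normalizer_of_mem_sylow {p : ℕ} (P : Sylow p G) {v : G}
    (hv : v ∈ (P : Subgroup G)) : v ∈ normalizer ((P : Subgroup G) : Set G) :=
  le_normalizer hv

theorem smul_sylow_of_mem {p : ℕ} (P : Sylow p G) {v : G} (hv : v ∈ (P : Subgroup G)) :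
    v • P = P :=
  Sylow.smul_eq_iff_mem_normalizer.mpr (le_normalizer hv)

/-- `v z v⁻¹ = v² z` when `z` inverts `v`. -/
theorem Inverts.conj_by_mem {z : G} {P : Subgroup G} (h : Inverts z P) {v : G} (hv : v ∈ P) :
    v * z * v⁻¹ = v * v * z := by
  have h1 := h _ (inv_mem hv)
  rw [inv_inv] at h1
  calc v * z * v⁻¹ = v * (z * v⁻¹ * z⁻¹) * z := by group
    _ = v * v * z := by rw [h1]

/-- No nonidentity element of `P` commutes with an inverting involution. -/
theorem Inverts.eq_one_of_comm (hcard : Nat.card G = 7920) {P : Sylow 3 G} {z : G}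
    (h : Inverts z (P : Subgroup G)) {u : G} (hu : u ∈ (P : Subgroup G))
    (hc : z * u = u * z) : u = 1 := by
  have h1 := h u hu
  have h2 : z * u * z⁻¹ = u := by rw [hc]; group
  have h3 : u = u⁻¹ := by rw [← h1, h2]
  have h6 := pow_three_of_mem_sylow3 hcard P hu
  have h7 : u * u = 1 := by
    calc u * u = u * u⁻¹ := congrArg (u * ·) h3
      _ = 1 := mul_inv_cancel u
  rw [pow_three, h7, mul_one] at h6
  exact h6

/-- The pairs (inverting involution, Sylow `3`-subgroup) form a single orbit. -/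
theorem Inverts.exists_conj (hcard : Nat.card G = 7920) {P Q : Sylow 3 G} {z w : G}
    (hz : Inverts z (P : Subgroup G)) (hw : Inverts w (Q : Subgroup G)) :
    ∃ g : G, g * z * g⁻¹ = w ∧ g • P = Q := by
  obtain ⟨g0, hg0⟩ := MulAction.exists_smul_eq G P Q
  have hz' : Inverts (g0 * z * g0⁻¹) (Q : Subgroup G) := by
    rw [← hg0]; exact hz.smul g0
  obtain ⟨v, hv, hv'⟩ := hz'.exists_eq_mul hcard hw
  have hv3 := pow_three_of_mem_sylow3 hcard Q hv
  refine ⟨v⁻¹ * g0, ?_, ?_⟩
  · have h1 := hz'.conj_by_mem (inv_mem hv)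
    rw [inv_inv] at h1
    have h2 : v⁻¹ * v⁻¹ = v := by
      calc v⁻¹ * v⁻¹ = v ^ 3 * (v⁻¹ * v⁻¹) := by rw [hv3, one_mul]
        _ = v := by rw [pow_three]; group
    calc v⁻¹ * g0 * z * (v⁻¹ * g0)⁻¹ = v⁻¹ * (g0 * z * g0⁻¹) * v := by group
      _ = v⁻¹ * v⁻¹ * (g0 * z * g0⁻¹) := h1
      _ = w := by rw [h2, hv']
  · rw [mul_smul, hg0]
    exact smul_sylow_of_mem Q (inv_mem hv)

/-- The centralizer of an inverting involution in the Sylow normalizer has order `16`. -/
theorem Inverts.card_centralizer_inf_normalizer (hcard : Nat.card G = 7920) {P : Sylow 3 G}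
    {z : G} (hz : Inverts z (P : Subgroup G)) :
    Nat.card (centralizer ({z} : Set G) ⊓ normalizer ((P : Subgroup G) : Set G) : Subgroup G)
      = 16 := by
  have key := card_mul_of_factor (P : Subgroup G)
    (centralizer ({z} : Set G) ⊓ normalizer ((P : Subgroup G) : Set G))
    (normalizer ((P : Subgroup G) : Set G)) le_normalizer inf_le_right ?_ ?_
  · rw [card_sylow3 hcard P, card_normalizer_sylow3 hcard P] at key
    omega
  · intro x hxP hxC
    have := mem_centralizer_singleton_iff.mp (Subgroup.mem_inf.mp hxC).1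
    exact hz.eq_one_of_comm hcard hxP this.symm
  · intro n hn
    have hnP : n • P = P := Sylow.smul_eq_iff_mem_normalizer.mpr hn
    have h1 : Inverts (n * z * n⁻¹) (P : Subgroup G) := by
      have := hz.smul n
      rwa [hnP] at this
    obtain ⟨a, ha, ha'⟩ := hz.exists_eq_mul hcard h1
    have ha3 := pow_three_of_mem_sylow3 hcard P ha
    have h2 := hz.conj_by_mem (inv_mem ha)
    rw [inv_inv] at h2
    have h3 : a⁻¹ * a⁻¹ = a := by
      calc a⁻¹ * a⁻¹ = a ^ 3 * (a⁻¹ * a⁻¹) := by rw [ha3, one_mul]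
        _ = a := by rw [pow_three]; group
    rw [h3, ← ha'] at h2
    -- `h2 : a⁻¹ * z * a = n * z * n⁻¹`
    refine ⟨a⁻¹, inv_mem ha, a * n, Subgroup.mem_inf.mpr ⟨?_, mul_mem (le_normalizer ha) hn⟩,
      by group⟩
    rw [mem_centralizer_singleton_iff]
    calc a * n * z = a * (n * z * n⁻¹) * n := by group
      _ = a * (a⁻¹ * z * a) * n := by rw [h2]
      _ = z * (a * n) := by group

/-- An inverting involution has centralizer of order `48`. -/
theorem Inverts.card_centralizer (hcard : Nat.card G = 7920) {P : Sylow 3 G}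
    {z : G} (hz : Inverts z (P : Subgroup G)) :
    Nat.card (centralizer ({z} : Set G)) = 48 :=
  card_centralizer_involution hcard z (hz.orderOf_eq_two hcard)

end Cfsg.Agent.Helper15.M11U
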