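import Mathlib
import Cfsg.Agent.Helper15.M11d

set_option autoImplicit false
set_option linter.unusedSectionVars false
set_option linter.unusedVariables false
set_option linter.style.haveILetI false
set_option maxHeartbeats 1000000

/-!
Simple groups of order 7920: an inverting involution inverts exactly three Sylow `3`-subgroups,
permuted transitively by its centralizer.
-/

namespace Cfsg.Agent.Helper15.M11U

open Cfsg Subgroup Cfsg.Agent.Helper15.O7920
open scoped Pointwise

universe u v

theorem stabilizer_subgroup_eq {G : Type u} {X : Type v} [Group G] [MulAction G X]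
    (H : Subgroup G) (x : X) :
    MulAction.stabilizer H x = (MulAction.stabilizer G x).subgroupOf H := by
  ext c
  rw [MulAction.mem_stabilizer_iff, mem_subgroupOf, MulAction.mem_stabilizer_iff]
  rfl

theorem card_stabilizer_subgroup {G : Type u} {X : Type v} [Group G] [MulAction G X]
    (H : Subgroup G) (x : X) :
    Nat.card (MulAction.stabilizer H x) =
      Nat.card (MulAction.stabilizer G x ⊓ H : Subgroup G) := by
  rw [stabilizer_subgroup_eq, ← inf_subgroupOf_right]
  exact Nat.card_congr (subgroupOfEquivOfLe inf_le_right).toEquiv

/-- Orbit-stabilizer for the action of a subgroup. -/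
theorem card_orbit_subgroup {G : Type u} {X : Type v} [Group G] [Finite G] [MulAction G X]
    (H : Subgroup G) (x : X) :
    (MulAction.orbit H x).ncard * Nat.card (MulAction.stabilizer G x ⊓ H : Subgroup G) =
      Nat.card H := by
  rw [← card_stabilizer_subgroup, ← MulAction.index_stabilizer, mul_comm]
  exact Subgroup.card_mul_index _

variable {G : Type u} [Group G] [Finite G] [IsSimpleGroup G]

/-- The Sylow `3`-subgroups inverted by `z` form one orbit under the centralizer of `z`. -/
theorem Inverts.orbit_centralizer (hcard : Nat.card G = 7920) {P : Sylow 3 G}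
    {z : G} (hz : Inverts z (P : Subgroup G)) :
    MulAction.orbit (centralizer ({z} : Set G)) P =
      {Q : Sylow 3 G | Inverts z (Q : Subgroup G)} := by
  ext Q
  constructor
  · rintro ⟨c, rfl⟩
    have hc := mem_centralizer_singleton_iff.mp c.2
    have h1 := hz.smul (c : G)
    have h2 : (c : G) * z * (c : G)⁻¹ = z := by rw [hc]; group
    rw [h2] at h1
    exact h1
  · intro hQ
    obtain ⟨g, hg, hgP⟩ := hz.exists_conj hcard (Q := Q) (w := z) hQ
    refine ⟨⟨g, ?_⟩, hgP⟩
    rw [mem_centralizer_singleton_iff]
    calc g * z = g * z * g⁻¹ * g := by group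
      _ = z * g := by rw [hg]

/-- An inverting involution inverts exactly three Sylow `3`-subgroups. -/
theorem Inverts.ncard_inverted (hcard : Nat.card G = 7920) {P : Sylow 3 G}
    {z : G} (hz : Inverts z (P : Subgroup G)) :
    {Q : Sylow 3 G | Inverts z (Q : Subgroup G)}.ncard = 3 := by
  rw [← hz.orbit_centralizer hcard]
  have h := card_orbit_subgroup (centralizer ({z} : Set G)) P
  rw [Sylow.stabilizer_eq_normalizer, inf_comm] at h
  change _ * Nat.card (centralizer ({z} : Set G) ⊓ normalizer ((P : Subgroup G) : Set G) :
    Subgroup G) = _ at h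
  rw [hz.card_centralizer_inf_normalizer hcard, hz.card_centralizer hcard] at h
  omega

end Cfsg.Agent.Helper15.M11U
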