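import Mathlib
import Cfsg.Agent.Helper15.M11e
import Cfsg.Agent.Helper24.TwoTransitive

set_option autoImplicit false
set_option linter.unusedSectionVars false
set_option linter.unusedVariables false
set_option linter.style.haveILetI false
set_option maxHeartbeats 1000000

/-!
Simple groups of order 7920: the action on the `55` Sylow `3`-subgroups has rank three.
-/

namespace Cfsg.Agent.Helper15.M11U

open Cfsg Subgroup Cfsg.Agent.Helper15.O7920 Cfsg.Agent.Helper24 Cfsg.Agent.Helper15.BrP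
open scoped Pointwise

universe u

variable {G : Type u} [Group G] [Finite G] [IsSimpleGroup G]

/-- The values of the ten irreducible characters at a nonidentity element of a
Sylow `5`-subgroup. -/
theorem vals5 [Fintype (IrrCharacter G)] (hcard : Nat.card G = 7920)
    {P : Sylow 11 G} {Q : Sylow 5 G} (E : MData P Q) (x : G) (hxQ : x ∈ (Q : Subgroup G))
    (hx1 : x ≠ 1) :
    (E.θ₁ : G → ℂ) x = 1 ∧ (E.θ₂ : G → ℂ) x = 1 ∧ (E.χ11 : G → ℂ) x = 1 ∧
      (E.χ44 : G → ℂ) x = -1 ∧ (E.χa : G → ℂ) x = 0 ∧ (E.χ1 : G → ℂ) x = 0 ∧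
      (E.χ2 : G → ℂ) x = 0 ∧ (E.χ3 : G → ℂ) x = 0 ∧ (E.ψ₀ : G → ℂ) x = 0 := by
  classical
  have : Fintype G := Fintype.ofFinite G
  have hQ := card_sylow5 hcard Q
  have hB : ∀ χ ∈ E.F.B, (χ : G → ℂ) x = (E.F.sg χ : ℂ) := by
    intro χ hχ
    have := E.F.hval χ hχ x hxQ hx1 1 (one_mem _) (by rw [orderOf_one]; norm_num)
    rwa [mul_one] at this
  have h1 := hB _ E.hmθ₁B
  have h2 := hB _ E.hmθ₂B
  have h3 := hB _ E.hm11
  have h4 := hB _ E.hm44
  rw [E.hsθ₁] at h1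
  rw [E.hsθ₂] at h2
  rw [E.hs11] at h3
  rw [E.hs44] at h4
  push_cast at h1 h2 h3 h4
  have hCx := card_centralizer_singleton Q hQ E.hC5 x hxQ hx1
  have hcent := sum_irr_mul_conj x x
  rw [if_pos (IsConj.refl x), E.hsU, hCx, h1, h2, h3, h4, trivIrr_apply] at hcent
  simp only [Int.cast_one, Int.cast_neg, map_one, map_neg, mul_one, mul_neg, neg_neg] at hcent
  simp only [Complex.mul_conj] at hcent
  have hre : Complex.normSq ((E.χa : G → ℂ) x) + Complex.normSq ((E.χ1 : G → ℂ) x) +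
      Complex.normSq ((E.χ2 : G → ℂ) x) + Complex.normSq ((E.χ3 : G → ℂ) x) +
      Complex.normSq ((E.ψ₀ : G → ℂ) x) = 0 := by
    have := congrArg Complex.re hcent
    simp only [Complex.add_re, Complex.one_re, Complex.ofReal_re, Complex.natCast_re] at this
    push_cast at this
    linarith
  have hnn := fun z : ℂ => Complex.normSq_nonneg z
  have ha : Complex.normSq ((E.χa : G → ℂ) x) = 0 := by
    linarith [hnn ((E.χa : G → ℂ) x), hnn ((E.χ1 : G → ℂ) x), hnn ((E.χ2 : G → ℂ) x),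
      hnn ((E.χ3 : G → ℂ) x), hnn ((E.ψ₀ : G → ℂ) x)]
  have hb : Complex.normSq ((E.χ1 : G → ℂ) x) = 0 := by
    linarith [hnn ((E.χa : G → ℂ) x), hnn ((E.χ1 : G → ℂ) x), hnn ((E.χ2 : G → ℂ) x),
      hnn ((E.χ3 : G → ℂ) x), hnn ((E.ψ₀ : G → ℂ) x)]
  have hc : Complex.normSq ((E.χ2 : G → ℂ) x) = 0 := by
    linarith [hnn ((E.χa : G → ℂ) x), hnn ((E.χ1 : G → ℂ) x), hnn ((E.χ2 : G → ℂ) x),
      hnn ((E.χ3 : G → ℂ) x), hnn ((E.ψ₀ : G → ℂ) x)]
  have hd : Complex.normSq ((E.χ3 : G → ℂ) x) = 0 := by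
    linarith [hnn ((E.χa : G → ℂ) x), hnn ((E.χ1 : G → ℂ) x), hnn ((E.χ2 : G → ℂ) x),
      hnn ((E.χ3 : G → ℂ) x), hnn ((E.ψ₀ : G → ℂ) x)]
  have he : Complex.normSq ((E.ψ₀ : G → ℂ) x) = 0 := by
    linarith [hnn ((E.χa : G → ℂ) x), hnn ((E.χ1 : G → ℂ) x), hnn ((E.χ2 : G → ℂ) x),
      hnn ((E.χ3 : G → ℂ) x), hnn ((E.ψ₀ : G → ℂ) x)]
  exact ⟨h1, h2, h3, h4, Complex.normSq_eq_zero.mp ha, Complex.normSq_eq_zero.mp hb,
    Complex.normSq_eq_zero.mp hc, Complex.normSq_eq_zero.mp hd, Complex.normSq_eq_zero.mp he⟩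


theorem exists_mem_sylow5_ne_one (hcard : Nat.card G = 7920) (Q : Sylow 5 G) :
    ∃ x ∈ (Q : Subgroup G), x ≠ 1 ∧ orderOf x = 5 := by
  have hQ := card_sylow5 hcard Q
  obtain ⟨x, hx⟩ := exists_prime_orderOf_dvd_card' (G := (Q : Subgroup G)) 5 (by rw [hQ])
  have hx' : orderOf (x : G) = 5 := by rw [Subgroup.orderOf_coe]; exact hx
  refine ⟨x, x.2, ?_, hx'⟩
  intro h
  rw [h, orderOf_one] at hx'
  omega

/-- The decomposition of the permutation character on the Sylow `3`-subgroups. -/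
theorem permChar_coeffs [Fintype G] [Fintype (IrrCharacter G)] (hcard : Nat.card G = 7920)
    {P : Sylow 11 G} {Q : Sylow 5 G} (E : MData P Q) (n : IrrCharacter G → ℕ)
    (hn : (fun g : G => (Nat.card (MulAction.fixedBy (Sylow 3 G) g) : ℂ)) =
      ∑ ψ : IrrCharacter G, (n ψ : ℂ) • (ψ : G → ℂ)) :
    n (trivIrr G) = 1 ∧ n E.χa = 0 ∧ n E.χ1 + n E.χ2 + n E.χ3 = 1 ∧ n E.θ₁ = 0 ∧ n E.θ₂ = 0 ∧
      n E.χ11 = 0 ∧ n E.χ44 = 1 ∧ n E.ψ₀ = 0 := by
  classical
  have hval : ∀ g : G, (Nat.card (MulAction.fixedBy (Sylow 3 G) g) : ℂ) =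
      (n (trivIrr G) : ℂ) * (trivIrr G : G → ℂ) g + (n E.χa : ℂ) * (E.χa : G → ℂ) g +
      (n E.χ1 : ℂ) * (E.χ1 : G → ℂ) g + (n E.χ2 : ℂ) * (E.χ2 : G → ℂ) g +
      (n E.χ3 : ℂ) * (E.χ3 : G → ℂ) g + (n E.θ₁ : ℂ) * (E.θ₁ : G → ℂ) g +
      (n E.θ₂ : ℂ) * (E.θ₂ : G → ℂ) g + (n E.χ11 : ℂ) * (E.χ11 : G → ℂ) g +
      (n E.χ44 : ℂ) * (E.χ44 : G → ℂ) g + (n E.ψ₀ : ℂ) * (E.ψ₀ : G → ℂ) g := by
    intro g
    have := congrFun hn g
    simp only [Finset.sum_apply, Pi.smul_apply, smul_eq_mul] at this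
    rw [this, E.hsU]
  -- the trivial character has multiplicity one
  have h0 : n (trivIrr G) = 1 := by
    have h1 : classInner (fun g : G => (Nat.card (MulAction.fixedBy (Sylow 3 G) g) : ℂ))
        (trivIrr G : G → ℂ) = n (trivIrr G) := by
      rw [hn]; exact classInner_sum_irr _ _
    have h2 : classInner (fun g : G => (Nat.card (MulAction.fixedBy (Sylow 3 G) g) : ℂ))
        (trivIrr G : G → ℂ) = 1 := by
      unfold classInner
      simp only [trivIrr_apply, map_one, mul_one]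
      rw [sum_card_fixedBy_complex]
      have hone : Nat.card (MulAction.orbitRel.Quotient G (Sylow 3 G)) = 1 := by
        rw [Nat.card_eq_one_iff_unique]
        exact ⟨(MulAction.pretransitive_iff_subsingleton_quotient G (Sylow 3 G)).mp inferInstance,
          (nonempty_quotient_iff _).mpr inferInstance⟩
      rw [hone]
      have hG : (Nat.card G : ℂ) ≠ 0 := by
        have : Nat.card G ≠ 0 := Nat.card_pos.ne'
        exact_mod_cast this
      field_simp
      simp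
    rw [h1] at h2
    exact_mod_cast h2
  -- value at the identity
  have e1 := hval 1
  have hfix1 : MulAction.fixedBy (Sylow 3 G) (1 : G) = Set.univ := by
    ext x; simp
  rw [hfix1, Nat.card_coe_set_eq, Set.ncard_univ, card_sylow3_set hcard, trivIrr_apply,
    irrDeg_spec, irrDeg_spec, irrDeg_spec, irrDeg_spec, irrDeg_spec, irrDeg_spec, irrDeg_spec,
    irrDeg_spec, irrDeg_spec, E.hda, E.hd1, E.hd2, E.hd3, E.hdθ₁, E.hdθ₂, E.hd11, E.hd44,
    E.hd55] at e1
  -- value at an element of order five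
  obtain ⟨x, hxQ, hx1, hx5⟩ := exists_mem_sylow5_ne_one hcard Q
  have e5 := hval x
  have hfix5 : MulAction.fixedBy (Sylow 3 G) x = ∅ := by
    ext R
    simp only [MulAction.mem_fixedBy, Set.mem_empty_iff_false, iff_false]
    intro hR
    have hxN : x ∈ normalizer ((R : Subgroup G) : Set G) :=
      Sylow.smul_eq_iff_mem_normalizer.mp hR
    have hd := orderOf_dvd_natCard (⟨x, hxN⟩ : normalizer ((R : Subgroup G) : Set G))
    rw [card_normalizer_sylow3 hcard R] at hd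
    have : orderOf (⟨x, hxN⟩ : normalizer ((R : Subgroup G) : Set G)) = 5 := by
      rw [← hx5, ← Subgroup.orderOf_coe]
    rw [this] at hd
    omega
  obtain ⟨v1, v2, v3, v4, v5, v6, v7, v8, v9⟩ := vals5 hcard E x hxQ hx1
  rw [hfix5, Nat.card_coe_set_eq, Set.ncard_empty, trivIrr_apply, v1, v2, v3, v4, v5, v6, v7,
    v8, v9] at e5
  have e1' : (55 : ℤ) = n (trivIrr G) + n E.χa * 45 + n E.χ1 * 10 + n E.χ2 * 10 +
      n E.χ3 * 10 + n E.θ₁ * 16 + n E.θ₂ * 16 + n E.χ11 * 11 + n E.χ44 * 44 + n E.ψ₀ * 55 := by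
    have : ((55 : ℤ) : ℂ) = ((n (trivIrr G) + n E.χa * 45 + n E.χ1 * 10 + n E.χ2 * 10 +
      n E.χ3 * 10 + n E.θ₁ * 16 + n E.θ₂ * 16 + n E.χ11 * 11 + n E.χ44 * 44 +
      n E.ψ₀ * 55 : ℤ) : ℂ) := by
      push_cast
      push_cast at e1
      linear_combination e1
    exact_mod_cast this
  have e5' : (0 : ℤ) = n (trivIrr G) + n E.θ₁ + n E.θ₂ + n E.χ11 - n E.χ44 := by
    have : ((0 : ℤ) : ℂ) = ((n (trivIrr G) + n E.θ₁ + n E.θ₂ + n E.χ11 - n E.χ44 : ℤ) : ℂ) := by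
      push_cast
      push_cast at e5
      linear_combination e5
    exact_mod_cast this
  omega


/-- The action of `G` on its Sylow `3`-subgroups has rank three. -/
theorem rank_three (hcard : Nat.card G = 7920) :
    Nat.card (MulAction.orbitRel.Quotient G (Sylow 3 G × Sylow 3 G)) = 3 := by
  classical
  have : Fintype G := Fintype.ofFinite G
  have : Fintype (IrrCharacter G) := Fintype.ofFinite _
  obtain ⟨P⟩ : Nonempty (Sylow 11 G) := inferInstance
  obtain ⟨Q⟩ : Nonempty (Sylow 5 G) := inferInstance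
  obtain ⟨E⟩ := exists_mdata hcard P Q
  have hπ : IsCharacter G (fun g : G => (Nat.card (MulAction.fixedBy (Sylow 3 G) g) : ℂ)) :=
    isCharacter_permChar (Sylow 3 G)
  obtain ⟨n, hn⟩ := IsCharacter.exists_nat_coeff hπ
  obtain ⟨k0, ka, k123, kθ₁, kθ₂, k11, k44, k55⟩ := permChar_coeffs hcard E n hn
  have hnorm := classInner_permChar_sub_one (G := G) (Sylow 3 G)
  have hsub : (fun g : G => (Nat.card (MulAction.fixedBy (Sylow 3 G) g) : ℂ) - 1) =
      (fun g : G => (Nat.card (MulAction.fixedBy (Sylow 3 G) g) : ℂ)) - (trivIrr G : G → ℂ) := by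
    funext g; rfl
  rw [hsub, classInner_sub_left, classInner_sub_right, classInner_sub_right,
    classInner_irr_self] at hnorm
  have h1 : classInner (fun g : G => (Nat.card (MulAction.fixedBy (Sylow 3 G) g) : ℂ))
      (trivIrr G : G → ℂ) = 1 := by
    rw [hn, classInner_sum_irr, k0]; simp
  have h2 : classInner (trivIrr G : G → ℂ)
      (fun g : G => (Nat.card (MulAction.fixedBy (Sylow 3 G) g) : ℂ)) = 1 := by
    rw [hn, classInner_irr_sum, k0]; simp
  have h3 : classInner (fun g : G => (Nat.card (MulAction.fixedBy (Sylow 3 G) g) : ℂ))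
      (fun g : G => (Nat.card (MulAction.fixedBy (Sylow 3 G) g) : ℂ)) = 3 := by
    rw [hn, classInner_sum_sum, E.hsU]
    simp only [Complex.conj_natCast]
    rw [k0, ka, kθ₁, kθ₂, k11, k44, k55]
    have hsq : (n E.χ1 : ℂ) * n E.χ1 + (n E.χ2 : ℂ) * n E.χ2 + (n E.χ3 : ℂ) * n E.χ3 = 1 := by
      have : n E.χ1 * n E.χ1 + n E.χ2 * n E.χ2 + n E.χ3 * n E.χ3 = 1 := by
        have h1' : n E.χ1 ≤ 1 := by omega
        have h2' : n E.χ2 ≤ 1 := by omega
        have h3' : n E.χ3 ≤ 1 := by omega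
        interval_cases n E.χ1 <;> interval_cases n E.χ2 <;> interval_cases n E.χ3 <;> omega
      exact_mod_cast this
    push_cast
    linear_combination hsq
  rw [h1, h2, h3] at hnorm
  have : (Nat.card (MulAction.orbitRel.Quotient G (Sylow 3 G × Sylow 3 G)) : ℂ) = 3 := by
    linear_combination -hnorm
  exact_mod_cast this

end Cfsg.Agent.Helper15.M11U
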