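import Mathlib
import Cfsg.Agent.Helper15.M11f

set_option autoImplicit false
set_option linter.unusedSectionVars false
set_option linter.unusedVariables false
set_option linter.style.haveILetI false
set_option maxHeartbeats 1000000

/-!
Simple groups of order 7920: the graph on the Sylow `3`-subgroups (adjacent = inverted by a
common involution); valency `18` and transitivity on adjacent / non-adjacent pairs.
-/

namespace Cfsg.Agent.Helper15.M11U

open Cfsg Subgroup Cfsg.Agent.Helper15.O7920
open scoped Pointwise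

universe u v

/-- If a group has exactly `k` orbits and an invariant function takes `k` values, its fibres are
the orbits. -/
theorem exists_smul_eq_of_invariant {G : Type u} {X : Type v} [Group G] [MulAction G X] {k : ℕ}
    (hk : Nat.card (MulAction.orbitRel.Quotient G X) = k) (f : X → Fin k)
    (hf : ∀ (g : G) (x : X), f (g • x) = f x) (hsurj : Function.Surjective f) {x y : X}
    (hxy : f x = f y) : ∃ g : G, g • x = y := by
  have hk0 : k ≠ 0 := by
    intro h0
    subst h0
    exact (f x).elim0
  haveI : Finite (MulAction.orbitRel.Quotient G X) := by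
    apply Nat.finite_of_card_ne_zero
    rw [hk]; exact hk0
  let fbar : MulAction.orbitRel.Quotient G X → Fin k :=
    Quotient.lift f (by
      rintro a b ⟨g, rfl⟩
      exact hf g b)
  have hsurj' : Function.Surjective fbar := by
    intro i
    obtain ⟨a, ha⟩ := hsurj i
    exact ⟨Quotient.mk'' a, ha⟩
  have hbij := hsurj'.bijective_of_nat_card_le (by rw [hk, Nat.card_fin])
  have : (Quotient.mk'' y : MulAction.orbitRel.Quotient G X) = Quotient.mk'' x := by
    apply hbij.1
    exact hxy.symm
  have h2 := Quotient.exact this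
  obtain ⟨g, hg⟩ := (MulAction.orbitRel_apply.mp h2)
  exact ⟨g, hg⟩

variable {G : Type u} [Group G] [Finite G] [IsSimpleGroup G]

/-- Adjacency of Sylow `3`-subgroups: distinct and inverted by a common element. -/
def Adj (P Q : Sylow 3 G) : Prop :=
  P ≠ Q ∧ ∃ z : G, Inverts z (P : Subgroup G) ∧ Inverts z (Q : Subgroup G)

theorem Adj.symm {P Q : Sylow 3 G} (h : Adj P Q) : Adj Q P :=
  ⟨h.1.symm, by obtain ⟨z, h1, h2⟩ := h.2; exact ⟨z, h2, h1⟩⟩

theorem Adj.smul {P Q : Sylow 3 G} (h : Adj P Q) (g : G) : Adj (g • P) (g • Q) := by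
  refine ⟨fun he => h.1 (smul_left_cancel g he), ?_⟩
  obtain ⟨z, h1, h2⟩ := h.2
  exact ⟨g * z * g⁻¹, h1.smul g, h2.smul g⟩

theorem adj_smul_iff {P Q : Sylow 3 G} (g : G) : Adj (g • P) (g • Q) ↔ Adj P Q := by
  constructor
  · intro h
    have := h.smul g⁻¹
    rwa [inv_smul_smul, inv_smul_smul] at this
  · intro h; exact h.smul g

/-- The set of elements inverting a Sylow `3`-subgroup has nine elements. -/
theorem ncard_inverting (hcard : Nat.card G = 7920) (P : Sylow 3 G) :
    {w : G | Inverts w (P : Subgroup G)}.ncard = 9 := by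
  obtain ⟨z, hz⟩ := exists_inverts hcard P
  have : {w : G | Inverts w (P : Subgroup G)} = (fun u => u * z) '' ((P : Subgroup G) : Set G) := by
    ext w
    constructor
    · intro hw
      obtain ⟨u, hu, rfl⟩ := hz.exists_eq_mul hcard hw
      exact ⟨u, hu, rfl⟩
    · rintro ⟨u, hu, rfl⟩
      exact hz.mul_left hcard hu
  rw [this, Set.ncard_image_of_injective _ (mul_left_injective z), ← Nat.card_coe_set_eq]
  exact card_sylow3 hcard P

/-- Every Sylow `3`-subgroup has exactly eighteen neighbours. -/
theorem ncard_adj (hcard : Nat.card G = 7920) (P : Sylow 3 G) :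
    {Q : Sylow 3 G | Adj P Q}.ncard = 18 := by
  classical
  haveI : Fintype G := Fintype.ofFinite G
  haveI : Fintype (Sylow 3 G) := Fintype.ofFinite _
  have hI : (Finset.univ.filter (fun w : G => Inverts w (P : Subgroup G))).card = 9 := by
    rw [← ncard_inverting hcard P, Set.ncard_eq_toFinset_card']
    congr 1
    ext w; simp
  have h3 : ∀ w : G, Inverts w (P : Subgroup G) →
      ((Finset.univ.filter (fun Q : Sylow 3 G => Inverts w (Q : Subgroup G))).erase P).card = 2 := by
    intro w hw
    rw [Finset.card_erase_of_mem (by simp [hw])]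
    have e : {Q : Sylow 3 G | Inverts w (Q : Subgroup G)}.ncard =
        (Finset.univ.filter (fun Q : Sylow 3 G => Inverts w (Q : Subgroup G))).card := by
      rw [Set.ncard_eq_toFinset_card']
      congr 1
      ext Q; simp
    rw [← e, hw.ncard_inverted hcard]
  have hN : (Finset.univ.filter (fun Q : Sylow 3 G => Adj P Q)) =
      (Finset.univ.filter (fun w : G => Inverts w (P : Subgroup G))).biUnion
        (fun w => (Finset.univ.filter
          (fun Q : Sylow 3 G => Inverts w (Q : Subgroup G))).erase P) := by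
    ext Q
    simp only [Finset.mem_filter, Finset.mem_univ, true_and, Finset.mem_biUnion,
      Finset.mem_erase]
    constructor
    · rintro ⟨hne, z, h1, h2⟩
      exact ⟨z, h1, hne.symm, h2⟩
    · rintro ⟨z, h1, hne, h2⟩
      exact ⟨hne.symm, z, h1, h2⟩
  have hcardN : (Finset.univ.filter (fun Q : Sylow 3 G => Adj P Q)).card = 18 := by
    rw [hN, Finset.card_biUnion]
    · rw [Finset.sum_congr rfl (fun w hw => h3 w (by simpa using hw))]
      rw [Finset.sum_const, hI]
      rfl
    · intro w hw w' hw' hne
      simp only [Finset.coe_filter, Finset.mem_univ, true_and, Set.mem_ofPred_eq] at hw hw'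
      rw [Function.onFun, Finset.disjoint_left]
      intro Q hQ hQ'
      simp only [Finset.mem_erase, Finset.mem_filter, Finset.mem_univ, true_and] at hQ hQ'
      exact hne (Inverts.unique hcard hQ.1.symm hw hQ.2 hw' hQ'.2)
  rw [← hcardN, Set.ncard_eq_toFinset_card']
  congr 1
  ext Q; simp


theorem exists_adj (hcard : Nat.card G = 7920) (P : Sylow 3 G) : ∃ Q : Sylow 3 G, Adj P Q := by
  have h := ncard_adj hcard P
  have hne : {Q : Sylow 3 G | Adj P Q}.Nonempty := by
    rw [← Set.ncard_pos]; omega
  exact hne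

theorem exists_nonadj (hcard : Nat.card G = 7920) (P : Sylow 3 G) :
    ∃ Q : Sylow 3 G, P ≠ Q ∧ ¬ Adj P Q := by
  by_contra hcon
  push Not at hcon
  have hsub : (Set.univ : Set (Sylow 3 G)) ⊆ insert P {Q : Sylow 3 G | Adj P Q} := by
    intro Q _
    by_cases h : P = Q
    · exact Or.inl h.symm
    · exact Or.inr (hcon Q h)
  have h1 := Set.ncard_le_ncard hsub (Set.toFinite _)
  have h2 := Set.ncard_insert_le P {Q : Sylow 3 G | Adj P Q}
  rw [Set.ncard_univ, card_sylow3_set hcard] at h1
  rw [ncard_adj hcard P] at h2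
  omega

open Classical in
/-- The three types of pairs of Sylow `3`-subgroups. -/
noncomputable def pairType (x : Sylow 3 G × Sylow 3 G) : Fin 3 :=
  if x.1 = x.2 then 0 else if Adj x.1 x.2 then 1 else 2

theorem pairType_smul (g : G) (x : Sylow 3 G × Sylow 3 G) : pairType (g • x) = pairType x := by
  classical
  unfold pairType
  have h1 : (g • x).1 = (g • x).2 ↔ x.1 = x.2 := by
    rw [Prod.smul_fst, Prod.smul_snd]
    exact ⟨fun h => smul_left_cancel g h, fun h => by rw [h]⟩
  have h2 : Adj (g • x).1 (g • x).2 ↔ Adj x.1 x.2 := by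
    rw [Prod.smul_fst, Prod.smul_snd]
    exact adj_smul_iff g
  exact if_congr h1 rfl (if_congr h2 rfl rfl)

theorem pairType_surjective (hcard : Nat.card G = 7920) :
    Function.Surjective (pairType (G := G)) := by
  obtain ⟨P⟩ : Nonempty (Sylow 3 G) := inferInstance
  obtain ⟨Q, hQ⟩ := exists_adj hcard P
  obtain ⟨R, hR1, hR2⟩ := exists_nonadj hcard P
  intro i
  fin_cases i
  · exact ⟨(P, P), by simp [pairType]⟩
  · exact ⟨(P, Q), by simp [pairType, hQ.1, hQ]⟩
  · exact ⟨(P, R), by simp [pairType, hR1, hR2]⟩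

/-- `G` is transitive on ordered pairs of adjacent Sylow `3`-subgroups. -/
theorem trans_adj (hcard : Nat.card G = 7920) {P Q P' Q' : Sylow 3 G} (h : Adj P Q)
    (h' : Adj P' Q') : ∃ g : G, g • P = P' ∧ g • Q = Q' := by
  have key := exists_smul_eq_of_invariant (rank_three hcard) pairType pairType_smul
    (pairType_surjective hcard) (x := (P, Q)) (y := (P', Q'))
    (by simp [pairType, h.1, h, h'.1, h'])
  obtain ⟨g, hg⟩ := key
  rw [Prod.smul_mk, Prod.mk.injEq] at hg
  exact ⟨g, hg⟩

/-- `G` is transitive on ordered pairs of distinct non-adjacent Sylow `3`-subgroups. -/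
theorem trans_nonadj (hcard : Nat.card G = 7920) {P Q P' Q' : Sylow 3 G} (hne : P ≠ Q)
    (h : ¬ Adj P Q) (hne' : P' ≠ Q') (h' : ¬ Adj P' Q') :
    ∃ g : G, g • P = P' ∧ g • Q = Q' := by
  have key := exists_smul_eq_of_invariant (rank_three hcard) pairType pairType_smul
    (pairType_surjective hcard) (x := (P, Q)) (y := (P', Q'))
    (by simp [pairType, hne, h, hne', h'])
  obtain ⟨g, hg⟩ := key
  rw [Prod.smul_mk, Prod.mk.injEq] at hg
  exact ⟨g, hg⟩

/-- The neighbours of `P` form one orbit under the normalizer of `P`. -/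
theorem orbit_normalizer_of_adj (hcard : Nat.card G = 7920) {P Q : Sylow 3 G} (h : Adj P Q) :
    MulAction.orbit (normalizer ((P : Subgroup G) : Set G)) Q = {Q' : Sylow 3 G | Adj P Q'} := by
  ext Q'
  constructor
  · rintro ⟨n, rfl⟩
    have hn : (n : G) • P = P := Sylow.smul_eq_iff_mem_normalizer.mpr n.2
    have := h.smul (n : G)
    rw [hn] at this
    exact this
  · intro hQ'
    obtain ⟨g, hgP, hgQ⟩ := trans_adj hcard h hQ'
    exact ⟨⟨g, Sylow.smul_eq_iff_mem_normalizer.mp hgP⟩, hgQ⟩

/-- The joint normalizer of two adjacent Sylow `3`-subgroups has order `8`. -/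
theorem card_normalizer_inf_of_adj (hcard : Nat.card G = 7920) {P Q : Sylow 3 G} (h : Adj P Q) :
    Nat.card (normalizer ((P : Subgroup G) : Set G) ⊓ normalizer ((Q : Subgroup G) : Set G) :
      Subgroup G) = 8 := by
  have key := card_orbit_subgroup (normalizer ((P : Subgroup G) : Set G)) Q
  rw [orbit_normalizer_of_adj hcard h, ncard_adj hcard P, Sylow.stabilizer_eq_normalizer,
    inf_comm] at key
  change _ * Nat.card (normalizer ((P : Subgroup G) : Set G) ⊓
    normalizer ((Q : Subgroup G) : Set G) : Subgroup G) = _ at key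
  rw [card_normalizer_sylow3 hcard P] at key
  omega

end Cfsg.Agent.Helper15.M11U
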