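import Mathlib
import Cfsg.Agent.Helper15.M11g

set_option autoImplicit false
set_option linter.unusedSectionVars false
set_option linter.unusedVariables false
set_option linter.style.haveILetI false
set_option maxHeartbeats 1000000

/-!
Simple groups of order 7920: the joint normalizer `D` of two adjacent Sylow `3`-subgroups has a
unique involution and acts regularly on the nonidentity elements of each of them.
-/

namespace Cfsg.Agent.Helper15.M11U

open Cfsg Subgroup Cfsg.Agent.Helper15.O7920
open scoped Pointwise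

universe u

variable {G : Type u} [Group G] [Finite G] [IsSimpleGroup G]

theorem exists_sylow3_mem (y : G) (hy : y ^ 3 = 1) : ∃ P : Sylow 3 G, y ∈ (P : Subgroup G) := by
  have hp : IsPGroup 3 (zpowers y) := by
    rw [IsPGroup]
    rintro ⟨w, hw⟩
    obtain ⟨k, rfl⟩ := mem_zpowers_iff.mp hw
    refine ⟨1, ?_⟩
    apply Subtype.ext
    simp only [pow_one, SubmonoidClass.mk_pow, OneMemClass.coe_one]
    rw [← zpow_natCast, ← zpow_mul, mul_comm, zpow_mul, zpow_natCast, hy, one_zpow]
  obtain ⟨P, hP⟩ := hp.exists_le_sylow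
  exact ⟨P, hP (mem_zpowers y)⟩

/-- Two commuting involutions centralizing an element of order three are equal. -/
theorem eq_of_involutions_centralizing (hcard : Nat.card G = 7920) {y s z : G}
    (hy : orderOf y = 3) (hs : orderOf s = 2) (hz : orderOf z = 2) (hys : y * s = s * y)
    (hyz : y * z = z * y) (hsz : s * z = z * s) : s = z := by
  have hy3 : y ^ 3 = 1 := by rw [← hy]; exact pow_orderOf_eq_one y
  obtain ⟨P, hyP⟩ := exists_sylow3_mem y hy3
  have hC18 := card_centralizer_three hcard y hy
  have hP9 := card_sylow3 hcard P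
  have hPC : (P : Subgroup G) ≤ centralizer ({y} : Set G) := by
    intro a ha
    rw [mem_centralizer_singleton_iff]
    exact sylow3_comm hcard P ha hyP
  have hidx : ((P : Subgroup G).subgroupOf (centralizer ({y} : Set G))).index = 2 := by
    have := card_mul_relIndex_of_le hPC
    rw [hP9, hC18] at this
    rw [← relIndex]
    omega
  have hsC : s ∈ centralizer ({y} : Set G) := mem_centralizer_singleton_iff.mpr hys.symm
  have hzC : z ∈ centralizer ({y} : Set G) := mem_centralizer_singleton_iff.mpr hyz.symm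
  have hnot : ∀ t : G, orderOf t = 2 → t ∉ (P : Subgroup G) := by
    intro t ht htP
    have h3 := pow_three_of_mem_sylow3 hcard P htP
    have := orderOf_dvd_of_pow_eq_one h3
    rw [ht] at this
    omega
  have key := Subgroup.mul_mem_iff_of_index_two hidx
    (a := (⟨s, hsC⟩ : centralizer ({y} : Set G))) (b := ⟨z, hzC⟩)
  have hmem : s * z ∈ (P : Subgroup G) := by
    have : (⟨s, hsC⟩ : centralizer ({y} : Set G)) * ⟨z, hzC⟩ ∈
        (P : Subgroup G).subgroupOf (centralizer ({y} : Set G)) := by
      rw [key]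
      constructor
      · intro h; exact absurd (mem_subgroupOf.mp h) (hnot s hs)
      · intro h; exact absurd (mem_subgroupOf.mp h) (hnot z hz)
    exact mem_subgroupOf.mp this
  have h3 := pow_three_of_mem_sylow3 hcard P hmem
  have hss : s * s = 1 := by rw [← pow_two, ← hs]; exact pow_orderOf_eq_one s
  have hzz : z * z = 1 := by rw [← pow_two, ← hz]; exact pow_orderOf_eq_one z
  have h2 : (s * z) * (s * z) = 1 := by
    calc (s * z) * (s * z) = s * (z * s) * z := by group
      _ = s * (s * z) * z := by rw [hsz]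
      _ = (s * s) * (z * z) := by group
      _ = 1 := by rw [hss, hzz, one_mul]
  rw [pow_three, h2, mul_one] at h3
  calc s = s * (z * z) := by rw [hzz, mul_one]
    _ = (s * z) * z := by group
    _ = z := by rw [h3, one_mul]

/-- The third Sylow `3`-subgroup inverted by `z`. -/
theorem exists_third (hcard : Nat.card G = 7920) {P Q : Sylow 3 G} {z : G} (hPQ : P ≠ Q)
    (hP : Inverts z (P : Subgroup G)) (hQ : Inverts z (Q : Subgroup G)) :
    ∃ R : Sylow 3 G, Inverts z (R : Subgroup G) ∧ R ≠ P ∧ R ≠ Q := by
  by_contra hcon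
  push Not at hcon
  have hsub : {T : Sylow 3 G | Inverts z (T : Subgroup G)} ⊆ {P, Q} := by
    intro T hT
    by_cases h : T = P
    · exact Or.inl h
    · exact Or.inr (hcon T hT h)
  have h1 := Set.ncard_le_ncard hsub (Set.toFinite _)
  rw [hP.ncard_inverted hcard, Set.ncard_pair hPQ] at h1
  omega

theorem third_unique (hcard : Nat.card G = 7920) {P Q R R' : Sylow 3 G} {z : G} (hPQ : P ≠ Q)
    (hP : Inverts z (P : Subgroup G)) (hQ : Inverts z (Q : Subgroup G))
    (hR : Inverts z (R : Subgroup G)) (hRP : R ≠ P) (hRQ : R ≠ Q)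
    (hR' : Inverts z (R' : Subgroup G)) (hRP' : R' ≠ P) (hRQ' : R' ≠ Q) : R = R' := by
  by_contra hne
  have hsub : ({P, Q, R, R'} : Set (Sylow 3 G)) ⊆ {T : Sylow 3 G | Inverts z (T : Subgroup G)} := by
    intro T hT
    rcases hT with rfl | rfl | rfl | rfl
    · exact hP
    · exact hQ
    · exact hR
    · exact hR'
  have h1 := Set.ncard_le_ncard hsub (Set.toFinite _)
  rw [hP.ncard_inverted hcard] at h1
  have h4 : ({P, Q, R, R'} : Set (Sylow 3 G)).ncard = 4 := by
    rw [Set.ncard_insert_of_notMem, Set.ncard_insert_of_notMem, Set.ncard_pair hne]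
    · simp only [Set.mem_insert_iff, Set.mem_singleton_iff, not_or]
      exact ⟨hRQ.symm, hRQ'.symm⟩
    · simp only [Set.mem_insert_iff, Set.mem_singleton_iff, not_or]
      exact ⟨hPQ, hRP.symm, hRP'.symm⟩
  omega


/-- A subgroup normalizing `P` and centralizing an involution `s` which fixes a nonidentity
element of `P` has order dividing `36`. -/
theorem card_dvd_of_centralizing_reflection (hcard : Nat.card G = 7920) (P : Sylow 3 G)
    (T : Subgroup G) (hTP : T ≤ normalizer ((P : Subgroup G) : Set G)) {s : G}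
    (hs2 : orderOf s = 2) (hsc : ∀ t ∈ T, t * s = s * t) {u : G} (hu : u ∈ (P : Subgroup G))
    (hu1 : u ≠ 1) (hcomm : s * u = u * s) : Nat.card T ∣ 36 := by
  classical
  have hP9 := card_sylow3 hcard P
  have hu3 := orderOf_of_mem_sylow3 hcard P hu hu1
  set B : Subgroup G := (P : Subgroup G) ⊓ centralizer ({s} : Set G) with hB
  have huB : u ∈ B :=
    Subgroup.mem_inf.mpr ⟨hu, mem_centralizer_singleton_iff.mpr hcomm.symm⟩
  have hBP : B ≤ (P : Subgroup G) := inf_le_left
  have hSB : T ≤ normalizer (B : Set G) := by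
    intro t ht
    rw [mem_normalizer_iff]
    intro h
    have hsN := mem_normalizer_iff.mp (hTP ht) h
    have hsz := hsc t ht
    have hsz' : t⁻¹ * s = s * t⁻¹ := by
      calc t⁻¹ * s = t⁻¹ * (s * t) * t⁻¹ := by group
        _ = t⁻¹ * (t * s) * t⁻¹ := by rw [hsz]
        _ = s * t⁻¹ := by group
    constructor
    · intro h12
      obtain ⟨h1, h2⟩ := Subgroup.mem_inf.mp h12
      refine Subgroup.mem_inf.mpr ⟨hsN.mp h1, ?_⟩
      rw [mem_centralizer_singleton_iff] at h2 ⊢
      calc t * h * t⁻¹ * s = t * h * (t⁻¹ * s) := by group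
        _ = t * (h * s) * t⁻¹ := by rw [hsz']; group
        _ = t * (s * h) * t⁻¹ := by rw [h2]
        _ = (t * s) * h * t⁻¹ := by group
        _ = s * (t * h * t⁻¹) := by rw [hsz]; group
    · intro h12
      obtain ⟨h1, h2⟩ := Subgroup.mem_inf.mp h12
      refine Subgroup.mem_inf.mpr ⟨hsN.mpr h1, ?_⟩
      rw [mem_centralizer_singleton_iff] at h2 ⊢
      have : t * (h * s) * t⁻¹ = t * (s * h) * t⁻¹ := by
        calc t * (h * s) * t⁻¹ = t * h * (s * t⁻¹) := by group
          _ = t * h * (t⁻¹ * s) := by rw [hsz']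
          _ = t * h * t⁻¹ * s := by group
          _ = s * (t * h * t⁻¹) := h2
          _ = (s * t) * h * t⁻¹ := by group
          _ = t * (s * h) * t⁻¹ := by rw [← hsz]; group
      have h3 : t⁻¹ * (t * (h * s) * t⁻¹) * t = t⁻¹ * (t * (s * h) * t⁻¹) * t := by
        rw [this]
      calc h * s = t⁻¹ * (t * (h * s) * t⁻¹) * t := by group
        _ = t⁻¹ * (t * (s * h) * t⁻¹) * t := h3
        _ = s * h := by group
  have hBcard : Nat.card B = 3 := by
    have hd : Nat.card B ∣ 9 := by rw [← hP9]; exact Subgroup.card_dvd_of_le hBP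
    have hle := Nat.le_of_dvd (by norm_num) hd
    have h1 : Nat.card B ≠ 1 := by
      intro h
      have := (Subgroup.card_eq_one.mp h)
      rw [this] at huB
      exact hu1 (Subgroup.mem_bot.mp huB)
    have h9 : Nat.card B ≠ 9 := by
      intro h
      have hBe : B = (P : Subgroup G) := Subgroup.eq_of_le_of_card_ge hBP (by rw [h, hP9])
      have hzP : s ∈ (P : Subgroup G) := by
        apply mem_sylow3_of_centralizes hcard P
        intro a ha
        have : a ∈ B := by rw [hBe]; exact ha
        exact (mem_centralizer_singleton_iff.mp (Subgroup.mem_inf.mp this).2).symm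
      have := pow_three_of_mem_sylow3 hcard P hzP
      have hd2 : orderOf s ∣ 3 := orderOf_dvd_of_pow_eq_one this
      rw [hs2] at hd2
      omega
    interval_cases hc : Nat.card B <;> first | rfl | omega
  have hBz : zpowers u = B := by
    apply Subgroup.eq_of_le_of_card_ge
    · rw [zpowers_le]; exact huB
    · rw [hBcard, Nat.card_zpowers, hu3]
  have h36 := card_normalizer_order_three hcard u hu3
  rw [hBz] at h36
  exact Nat.dvd_trans (Subgroup.card_dvd_of_le hSB) h36

/-- An involution normalizing `P` without nontrivial fixed points inverts `P`. -/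
theorem inverts_of_fixed_point_free (hcard : Nat.card G = 7920) (P : Sylow 3 G) {s : G}
    (hss : s * s = 1) (hsN : s ∈ normalizer ((P : Subgroup G) : Set G))
    (hfree : ∀ u ∈ (P : Subgroup G), s * u = u * s → u = 1) : Inverts s (P : Subgroup G) := by
  have hsinv : s⁻¹ = s := inv_eq_of_mul_eq_one_left hss
  intro a ha
  have hza : s * a * s⁻¹ ∈ (P : Subgroup G) := (mem_normalizer_iff.mp hsN a).mp ha
  have hb : a * (s * a * s⁻¹) = 1 := by
    apply hfree _ (mul_mem ha hza)
    have hc := sylow3_comm hcard P ha hza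
    calc s * (a * (s * a * s⁻¹)) = (s * a * s⁻¹) * (s * s * a * s⁻¹) := by group
      _ = (s * a * s⁻¹) * (a * s⁻¹) := by rw [hss, one_mul]
      _ = ((s * a * s⁻¹) * a) * s⁻¹ := by group
      _ = a * (s * a * s⁻¹) * s := by rw [← hc, hsinv]
  exact (eq_inv_of_mul_eq_one_right hb)

end Cfsg.Agent.Helper15.M11U
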