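import Mathlib
import Cfsg.Agent.Helper15.M11h

set_option autoImplicit false
set_option linter.unusedSectionVars false
set_option linter.unusedVariables false
set_option linter.style.haveILetI false
set_option maxHeartbeats 1000000

/-!
Simple groups of order 7920: lines (three Sylow `3`-subgroups inverted by a common involution)
and the joint normalizer `D` of two points on a line.
-/

namespace Cfsg.Agent.Helper15.M11U

open Cfsg Subgroup Cfsg.Agent.Helper15.O7920
open scoped Pointwise

universe u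

variable {G : Type u} [Group G] [Finite G] [IsSimpleGroup G]

/-- Three distinct Sylow `3`-subgroups inverted by `z`. -/
structure Line (P Q R : Sylow 3 G) (z : G) : Prop where
  hP : Inverts z (P : Subgroup G)
  hQ : Inverts z (Q : Subgroup G)
  hR : Inverts z (R : Subgroup G)
  hPQ : P ≠ Q
  hRP : R ≠ P
  hRQ : R ≠ Q

theorem Line.swap {P Q R : Sylow 3 G} {z : G} (L : Line P Q R z) : Line Q P R z :=
  ⟨L.hQ, L.hP, L.hR, L.hPQ.symm, L.hRQ, L.hRP⟩

theorem Line.rot {P Q R : Sylow 3 G} {z : G} (L : Line P Q R z) : Line P R Q z :=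
  ⟨L.hP, L.hR, L.hQ, L.hRP.symm, L.hPQ.symm, L.hRQ.symm⟩

theorem Line.adj {P Q R : Sylow 3 G} {z : G} (L : Line P Q R z) : Adj P Q :=
  ⟨L.hPQ, z, L.hP, L.hQ⟩

theorem Line.smul {P Q R : Sylow 3 G} {z : G} (L : Line P Q R z) (g : G) :
    Line (g • P) (g • Q) (g • R) (g * z * g⁻¹) :=
  ⟨L.hP.smul g, L.hQ.smul g, L.hR.smul g, fun h => L.hPQ (smul_left_cancel g h),
    fun h => L.hRP (smul_left_cancel g h), fun h => L.hRQ (smul_left_cancel g h)⟩

theorem exists_line (hcard : Nat.card G = 7920) {P Q : Sylow 3 G} (h : Adj P Q) :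
    ∃ (R : Sylow 3 G) (z : G), Line P Q R z := by
  obtain ⟨hne, z, hP, hQ⟩ := h
  obtain ⟨R, hR, h1, h2⟩ := exists_third hcard hne hP hQ
  exact ⟨R, z, hP, hQ, hR, hne, h1, h2⟩

/-- Every Sylow `3`-subgroup inverted by `z` is on the line. -/
theorem Line.mem (hcard : Nat.card G = 7920) {P Q R : Sylow 3 G} {z : G} (L : Line P Q R z)
    {T : Sylow 3 G} (hT : Inverts z (T : Subgroup G)) : T = P ∨ T = Q ∨ T = R := by
  by_cases h1 : T = P
  · exact Or.inl h1
  by_cases h2 : T = Q
  · exact Or.inr (Or.inl h2)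
  exact Or.inr (Or.inr (third_unique hcard L.hPQ L.hP L.hQ hT h1 h2 L.hR L.hRP L.hRQ))

/-- The line through two adjacent points is unique. -/
theorem Line.unique (hcard : Nat.card G = 7920) {P Q R R' : Sylow 3 G} {z z' : G}
    (L : Line P Q R z) (L' : Line P Q R' z') : z = z' ∧ R = R' := by
  have hz : z = z' := Inverts.unique hcard L.hPQ L.hP L.hQ L'.hP L'.hQ
  subst hz
  exact ⟨rfl, third_unique hcard L.hPQ L.hP L.hQ L.hR L.hRP L.hRQ L'.hR L'.hRP L'.hRQ⟩

/-- Elements normalizing `P` and `Q` centralize `z`. -/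
theorem Line.comm_of_mem (hcard : Nat.card G = 7920) {P Q R : Sylow 3 G} {z : G}
    (L : Line P Q R z) {d : G} (hdP : d • P = P) (hdQ : d • Q = Q) : d * z = z * d := by
  have h1 := L.hP.smul d
  have h2 := L.hQ.smul d
  rw [hdP] at h1
  rw [hdQ] at h2
  have := Inverts.unique hcard L.hPQ h1 h2 L.hP L.hQ
  calc d * z = d * z * d⁻¹ * d := by group
    _ = z * d := by rw [this]

/-- Elements normalizing `P` and `Q` normalize the third point. -/
theorem Line.smul_third (hcard : Nat.card G = 7920) {P Q R : Sylow 3 G} {z : G}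
    (L : Line P Q R z) {d : G} (hdP : d • P = P) (hdQ : d • Q = Q) : d • R = R := by
  have hc := L.comm_of_mem hcard hdP hdQ
  have L' := L.smul d
  have hz : d * z * d⁻¹ = z := by rw [hc]; group
  rw [hdP, hdQ, hz] at L'
  exact (L.unique hcard L').2.symm

/-- The centralizer of `z` normalizes `D = N(P) ∩ N(Q)`. -/
theorem Line.conj_mem (hcard : Nat.card G = 7920) {P Q R : Sylow 3 G} {z : G}
    (L : Line P Q R z) {d c : G} (hdP : d • P = P) (hdQ : d • Q = Q) (hc : c * z = z * c) :
    (c * d * c⁻¹) • P = P ∧ (c * d * c⁻¹) • Q = Q := by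
  have hdR := L.smul_third hcard hdP hdQ
  have hfix : ∀ T : Sylow 3 G, Inverts z (T : Subgroup G) → d • T = T := by
    intro T hT
    rcases L.mem hcard hT with rfl | rfl | rfl
    · exact hdP
    · exact hdQ
    · exact hdR
  have hcinv : c⁻¹ * z * c⁻¹⁻¹ = z := by
    rw [inv_inv]
    calc c⁻¹ * z * c = c⁻¹ * (z * c) := by group
      _ = c⁻¹ * (c * z) := by rw [hc]
      _ = z := by group
  have hmove : ∀ T : Sylow 3 G, Inverts z (T : Subgroup G) → (c * d * c⁻¹) • T = T := by
    intro T hT
    have h1 := hT.smul c⁻¹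
    rw [hcinv] at h1
    rw [mul_smul, mul_smul, hfix _ h1, smul_inv_smul]
  exact ⟨hmove P L.hP, hmove Q L.hQ⟩


theorem dvd_card_of_free_perm {α : Type*} [Fintype α] (p : ℕ) [Fact p.Prime]
    (σ : Equiv.Perm α) (hσ : σ ^ p = 1) (hfree : ∀ a, σ a ≠ a) : p ∣ Fintype.card α := by
  by_contra h
  obtain ⟨a, ha⟩ := Equiv.Perm.exists_fixed_point_of_prime (n := 1) h (σ := σ)
    (by rwa [pow_one])
  exact hfree a ha

/-- A permutation of a finset induced by a map of the ambient type with a two-sided inverse. -/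
def permOfMaps {α : Type*} (S : Finset α) (f g : α → α) (hf : ∀ x ∈ S, f x ∈ S)
    (hg : ∀ x ∈ S, g x ∈ S) (hgf : ∀ x, g (f x) = x) (hfg : ∀ x, f (g x) = x) :
    Equiv.Perm {x // x ∈ S} where
  toFun x := ⟨f x.1, hf x.1 x.2⟩
  invFun x := ⟨g x.1, hg x.1 x.2⟩
  left_inv x := Subtype.ext (hgf x.1)
  right_inv x := Subtype.ext (hfg x.1)

theorem exists_order_three_centralizing (hcard : Nat.card G = 7920) {P : Sylow 3 G} {z : G}
    (hz : Inverts z (P : Subgroup G)) : ∃ y : G, orderOf y = 3 ∧ y * z = z * y := by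
  have h48 := hz.card_centralizer hcard
  obtain ⟨y, hy⟩ := exists_prime_orderOf_dvd_card' (G := centralizer ({z} : Set G)) 3
    (by rw [h48]; norm_num)
  refine ⟨y, by rw [Subgroup.orderOf_coe]; exact hy, ?_⟩
  exact mem_centralizer_singleton_iff.mp y.2

/-- The only involution normalizing two adjacent Sylow `3`-subgroups is the one inverting
both. -/
theorem Line.involution_eq (hcard : Nat.card G = 7920) {P Q R : Sylow 3 G} {z : G}
    (L : Line P Q R z) {s : G} (hss : s * s = 1) (hs1 : s ≠ 1) (hsP : s • P = P)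
    (hsQ : s • Q = Q) : s = z := by
  classical
  by_contra hsz
  haveI : Fintype G := Fintype.ofFinite G
  have hs2 : orderOf s = 2 := orderOf_eq_prime (by rw [pow_two]; exact hss) hs1
  have hzz : z * z = 1 := L.hP.mul_self hcard
  have hz2 : orderOf z = 2 := L.hP.orderOf_eq_two hcard
  have hz1 : z ≠ 1 := by
    intro h; rw [h, orderOf_one] at hz2; omega
  obtain ⟨y, hy3, hyz⟩ := exists_order_three_centralizing hcard L.hP
  have hy3' : y ^ 3 = 1 := by rw [← hy3]; exact pow_orderOf_eq_one y
  have hyyy : y * y * y = 1 := by rw [← pow_three']; exact hy3'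
  have hyinv : y⁻¹ * z = z * y⁻¹ := by
    calc y⁻¹ * z = y⁻¹ * (z * y) * y⁻¹ := by group
      _ = y⁻¹ * (y * z) * y⁻¹ := by rw [hyz]
      _ = z * y⁻¹ := by group
  -- the finite set `D`
  set Dset : Finset G := Finset.univ.filter (fun d => d • P = P ∧ d • Q = Q) with hDset
  have hDmem : ∀ d, d ∈ Dset ↔ d • P = P ∧ d • Q = Q := by
    intro d; simp [hDset]
  have hDcard : Dset.card = 8 := by
    rw [← card_normalizer_inf_of_adj hcard L.adj, Nat.card_eq_fintype_card]
    symm
    apply Fintype.card_of_subtype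
    intro d
    rw [hDmem, Subgroup.mem_inf, Sylow.smul_eq_iff_mem_normalizer,
      Sylow.smul_eq_iff_mem_normalizer]
    rfl
  set Rset : Finset G := Dset.filter (fun d => d * d = 1 ∧ d ≠ 1 ∧ d ≠ z) with hRset
  have hRmem : ∀ d, d ∈ Rset ↔ (d • P = P ∧ d • Q = Q) ∧ d * d = 1 ∧ d ≠ 1 ∧ d ≠ z := by
    intro d; simp [hRset, hDmem]
  have hsR : s ∈ Rset := (hRmem s).mpr ⟨⟨hsP, hsQ⟩, hss, hs1, hsz⟩
  -- three divides `|R|`
  have h3 : 3 ∣ Rset.card := by
    let σ : Equiv.Perm {x // x ∈ Rset} := permOfMaps Rset (fun d => y * d * y⁻¹)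
      (fun d => y⁻¹ * d * y)
      (by
        intro d hd
        rw [hRmem] at hd ⊢
        obtain ⟨⟨h1, h2⟩, h3, h4, h5⟩ := hd
        refine ⟨L.conj_mem hcard h1 h2 hyz, ?_, ?_, ?_⟩
        · calc y * d * y⁻¹ * (y * d * y⁻¹) = y * (d * d) * y⁻¹ := by group
            _ = 1 := by rw [h3]; group
        · intro h
          apply h4
          calc d = y⁻¹ * (y * d * y⁻¹) * y := by group
            _ = 1 := by rw [h]; group
        · intro h
          apply h5
          calc d = y⁻¹ * (y * d * y⁻¹) * y := by group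
            _ = y⁻¹ * z * y := by rw [h]
            _ = z := by rw [hyinv]; group)
      (by
        intro d hd
        rw [hRmem] at hd ⊢
        obtain ⟨⟨h1, h2⟩, h3, h4, h5⟩ := hd
        have := L.conj_mem hcard h1 h2 hyinv
        rw [inv_inv] at this
        refine ⟨this, ?_, ?_, ?_⟩
        · calc y⁻¹ * d * y * (y⁻¹ * d * y) = y⁻¹ * (d * d) * y := by group
            _ = 1 := by rw [h3]; group
        · intro h
          apply h4
          calc d = y * (y⁻¹ * d * y) * y⁻¹ := by group
            _ = 1 := by rw [h]; group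
        · intro h
          apply h5
          calc d = y * (y⁻¹ * d * y) * y⁻¹ := by group
            _ = y * z * y⁻¹ := by rw [h]
            _ = z := by rw [hyz]; group)
      (by intro d; group) (by intro d; group)
    have hσ : σ ^ 3 = 1 := by
      ext x
      show ((σ ^ 3) x : G) = x
      rw [pow_three, Equiv.Perm.mul_apply, Equiv.Perm.mul_apply]
      show y * (y * (y * (x : G) * y⁻¹) * y⁻¹) * y⁻¹ = x
      calc y * (y * (y * (x : G) * y⁻¹) * y⁻¹) * y⁻¹
          = (y * y * y) * (x : G) * (y * y * y)⁻¹ := by group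
        _ = x := by rw [hyyy]; group
    have hfree : ∀ a, σ a ≠ a := by
      intro a ha
      have ha' : y * (a : G) * y⁻¹ = a := congrArg Subtype.val ha
      obtain ⟨⟨h1, h2⟩, h3, h4, h5⟩ := (hRmem a).mp a.2
      have ha2 : orderOf (a : G) = 2 := orderOf_eq_prime (by rw [pow_two]; exact h3) h4
      have hya : y * (a : G) = a * y := by
        calc y * (a : G) = y * a * y⁻¹ * y := by group
          _ = a * y := by rw [ha']
      exact h5 (eq_of_involutions_centralizing hcard hy3 ha2 hz2 hya hyz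
        (L.comm_of_mem hcard h1 h2))
    have := dvd_card_of_free_perm 3 σ hσ hfree
    rwa [Fintype.card_coe] at this
  -- two divides `|R|`
  have h2 : 2 ∣ Rset.card := by
    have hmap : ∀ d ∈ Rset, z * d ∈ Rset := by
      intro d hd
      rw [hRmem] at hd ⊢
      obtain ⟨⟨h1, h2⟩, h3, h4, h5⟩ := hd
      have hdz := L.comm_of_mem hcard h1 h2
      have hzP : z • P = P := Sylow.smul_eq_iff_mem_normalizer.mpr L.hP.mem_normalizer
      have hzQ : z • Q = Q := Sylow.smul_eq_iff_mem_normalizer.mpr L.hQ.mem_normalizer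
      refine ⟨⟨by rw [mul_smul, h1, hzP], by rw [mul_smul, h2, hzQ]⟩, ?_, ?_, ?_⟩
      · calc z * d * (z * d) = z * (d * z) * d := by group
          _ = z * (z * d) * d := by rw [hdz]
          _ = (z * z) * (d * d) := by group
          _ = 1 := by rw [hzz, h3, one_mul]
      · intro h
        apply h5
        calc d = z * (z * d) := by rw [← mul_assoc, hzz, one_mul]
          _ = z := by rw [h, mul_one]
      · intro h
        apply h4
        calc d = z * (z * d) := by rw [← mul_assoc, hzz, one_mul]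
          _ = 1 := by rw [h, hzz]
    let σ : Equiv.Perm {x // x ∈ Rset} := permOfMaps Rset (fun d => z * d) (fun d => z * d)
      hmap hmap (by intro d; rw [← mul_assoc, hzz, one_mul])
      (by intro d; rw [← mul_assoc, hzz, one_mul])
    have hσ : σ ^ 2 = 1 := by
      ext x
      show ((σ ^ 2) x : G) = x
      rw [pow_two, Equiv.Perm.mul_apply]
      show z * (z * (x : G)) = x
      rw [← mul_assoc, hzz, one_mul]
    have hfree : ∀ a, σ a ≠ a := by
      intro a ha
      have ha' : z * (a : G) = a := congrArg Subtype.val ha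
      exact hz1 (mul_right_cancel (ha'.trans (one_mul _).symm))
    have := dvd_card_of_free_perm 2 σ hσ hfree
    rwa [Fintype.card_coe] at this
  have h6 : 6 ≤ Rset.card := by
    have hpos : 0 < Rset.card := Finset.card_pos.mpr ⟨s, hsR⟩
    omega
  -- every element of `D` squares to one
  have hexp : ∀ d ∈ Dset, d * d = 1 := by
    intro d hd
    by_contra hdd
    have hd1 : d ≠ 1 := by intro h; rw [h, one_mul] at hdd; exact hdd rfl
    have hdz : d ≠ z := by intro h; rw [h] at hdd; exact hdd hzz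
    have h1D : (1 : G) ∈ Dset := (hDmem 1).mpr ⟨one_smul _ _, one_smul _ _⟩
    have hzD : z ∈ Dset := (hDmem z).mpr
      ⟨Sylow.smul_eq_iff_mem_normalizer.mpr L.hP.mem_normalizer,
        Sylow.smul_eq_iff_mem_normalizer.mpr L.hQ.mem_normalizer⟩
    have hsub : Rset ⊆ ((Dset.erase 1).erase z).erase d := by
      intro x hx
      have hx' := (hRmem x).mp hx
      simp only [Finset.mem_erase]
      refine ⟨?_, hx'.2.2.2, hx'.2.2.1, (hDmem x).mpr hx'.1⟩
      intro h; rw [h] at hx'; exact hdd hx'.2.1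
    have hc := Finset.card_le_card hsub
    rw [Finset.card_erase_of_mem, Finset.card_erase_of_mem, Finset.card_erase_of_mem h1D,
      hDcard] at hc
    · omega
    · simp only [Finset.mem_erase]; exact ⟨hz1, hzD⟩
    · simp only [Finset.mem_erase]; exact ⟨hdz, hd1, hd⟩
  -- hence `D` centralizes `s`
  have hcomm : ∀ d ∈ Dset, d * s = s * d := by
    intro d hd
    have hsD : s ∈ Dset := (hDmem s).mpr ⟨hsP, hsQ⟩
    have hds : d * s ∈ Dset := by
      rw [hDmem] at hd ⊢
      exact ⟨by rw [mul_smul, hsP, hd.1], by rw [mul_smul, hsQ, hd.2]⟩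
    have e1 := hexp d hd
    have e2 := hexp _ hds
    calc d * s = d * (d * s * (d * s)) * s := by rw [e2, mul_one]
      _ = (d * d) * s * d * (s * s) := by group
      _ = s * d := by rw [e1, hss, one_mul, mul_one]
  -- a fixed point of `s` on `P` or on `Q`
  have hTP : (normalizer ((P : Subgroup G) : Set G) ⊓ normalizer ((Q : Subgroup G) : Set G)) ≤
      normalizer ((P : Subgroup G) : Set G) := inf_le_left
  have hTQ : (normalizer ((P : Subgroup G) : Set G) ⊓ normalizer ((Q : Subgroup G) : Set G)) ≤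
      normalizer ((Q : Subgroup G) : Set G) := inf_le_right
  have hTc : ∀ t ∈ (normalizer ((P : Subgroup G) : Set G) ⊓
      normalizer ((Q : Subgroup G) : Set G) : Subgroup G), t * s = s * t := by
    intro t ht
    apply hcomm
    rw [hDmem]
    obtain ⟨h1, h2⟩ := Subgroup.mem_inf.mp ht
    exact ⟨Sylow.smul_eq_iff_mem_normalizer.mpr h1, Sylow.smul_eq_iff_mem_normalizer.mpr h2⟩
  have h8 := card_normalizer_inf_of_adj hcard L.adj
  by_cases hfP : ∀ u ∈ (P : Subgroup G), s * u = u * s → u = 1
  · by_cases hfQ : ∀ u ∈ (Q : Subgroup G), s * u = u * s → u = 1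
    · have i1 := inverts_of_fixed_point_free hcard P hss
        (Sylow.smul_eq_iff_mem_normalizer.mp hsP) hfP
      have i2 := inverts_of_fixed_point_free hcard Q hss
        (Sylow.smul_eq_iff_mem_normalizer.mp hsQ) hfQ
      exact hsz (Inverts.unique hcard L.hPQ i1 i2 L.hP L.hQ)
    · push Not at hfQ
      obtain ⟨u, hu, hus, hu1⟩ := hfQ
      have := card_dvd_of_centralizing_reflection hcard Q _ hTQ hs2 hTc hu hu1 hus
      rw [h8] at this
      omega
  · push Not at hfP
    obtain ⟨u, hu, hus, hu1⟩ := hfP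
    have := card_dvd_of_centralizing_reflection hcard P _ hTP hs2 hTc hu hu1 hus
    rw [h8] at this
    omega

end Cfsg.Agent.Helper15.M11U
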