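import Mathlib
import Cfsg.Agent.Helper15.M11i

set_option autoImplicit false
set_option linter.unusedSectionVars false
set_option linter.unusedVariables false
set_option linter.style.haveILetI false
set_option maxHeartbeats 1000000

/-!
Simple groups of order 7920: `D = N(P) ∩ N(Q)` acts regularly on the nonidentity elements
of `P`.
-/

namespace Cfsg.Agent.Helper15.M11U

open Cfsg Subgroup Cfsg.Agent.Helper15.O7920
open scoped Pointwise

universe u

variable {G : Type u} [Group G] [Finite G] [IsSimpleGroup G]

/-- Nonidentity elements of `D` fix no nonidentity element of `P`. -/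
theorem Line.eq_one_of_fix (hcard : Nat.card G = 7920) {P Q R : Sylow 3 G} {z : G}
    (L : Line P Q R z) {d : G} (hdP : d • P = P) (hdQ : d • Q = Q) (hd1 : d ≠ 1) {u : G}
    (hu : u ∈ (P : Subgroup G)) (hc : d * u = u * d) : u = 1 := by
  have hdD : d ∈ (normalizer ((P : Subgroup G) : Set G) ⊓
      normalizer ((Q : Subgroup G) : Set G) : Subgroup G) :=
    Subgroup.mem_inf.mpr ⟨Sylow.smul_eq_iff_mem_normalizer.mp hdP,
      Sylow.smul_eq_iff_mem_normalizer.mp hdQ⟩
  have h8 := card_normalizer_inf_of_adj hcard L.adj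
  have hord : orderOf d ∣ 8 := by
    have := orderOf_dvd_natCard (⟨d, hdD⟩ : (normalizer ((P : Subgroup G) : Set G) ⊓
      normalizer ((Q : Subgroup G) : Set G) : Subgroup G))
    rw [h8] at this
    rwa [← Subgroup.orderOf_coe] at this
  have hne1 : orderOf d ≠ 1 := fun h => hd1 (orderOf_eq_one_iff.mp h)
  have h2 : 2 ∣ orderOf d := by
    have hle := Nat.le_of_dvd (by norm_num) hord
    interval_cases h : orderOf d <;> first | omega | (exfalso; revert hord; norm_num)
  have hpos : orderOf d ≠ 0 := by
    intro h; rw [h] at hord; omega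
  set s := d ^ (orderOf d / 2) with hs
  have hs2 : orderOf s = 2 := orderOf_pow_orderOf_div hpos h2
  have hss : s * s = 1 := by rw [← pow_two, ← hs2]; exact pow_orderOf_eq_one s
  have hs1 : s ≠ 1 := by
    intro h; rw [h, orderOf_one] at hs2; omega
  have hpowfix : ∀ (T : Sylow 3 G), d • T = T → ∀ k : ℕ, (d ^ k) • T = T := by
    intro T hT k
    induction k with
    | zero => rw [pow_zero, one_smul]
    | succ k ih => rw [pow_succ, mul_smul, hT, ih]
  have hsz := L.involution_eq hcard hss hs1 (hpowfix P hdP _) (hpowfix Q hdQ _)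
  have hcs : s * u = u * s := by
    have : Commute d u := hc
    exact (this.pow_left _).eq
  rw [hsz] at hcs
  exact L.hP.eq_one_of_comm hcard hu hcs

/-- `D` is transitive on the nonidentity elements of `P`. -/
theorem Line.exists_conj (hcard : Nat.card G = 7920) {P Q R : Sylow 3 G} {z : G}
    (L : Line P Q R z) {u u' : G} (hu : u ∈ (P : Subgroup G)) (hu1 : u ≠ 1)
    (hu' : u' ∈ (P : Subgroup G)) (hu1' : u' ≠ 1) :
    ∃ d : G, d • P = P ∧ d • Q = Q ∧ d * u * d⁻¹ = u' := by
  classical
  haveI : Fintype G := Fintype.ofFinite G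
  set Dset : Finset G := Finset.univ.filter (fun d => d • P = P ∧ d • Q = Q) with hDset
  have hDmem : ∀ d, d ∈ Dset ↔ d • P = P ∧ d • Q = Q := by
    intro d; simp [hDset]
  have hDcard : Dset.card = 8 := by
    rw [← card_normalizer_inf_of_adj hcard L.adj, Nat.card_eq_fintype_card]
    symm
    apply Fintype.card_of_subtype
    intro d
    rw [hDmem, Subgroup.mem_inf, Sylow.smul_eq_iff_mem_normalizer,
      Sylow.smul_eq_iff_mem_normalizer]
    rfl
  set Pset : Finset G := Finset.univ.filter (fun x => x ∈ (P : Subgroup G) ∧ x ≠ 1) with hPset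
  have hPcard : Pset.card = 8 := by
    have h9 : (Finset.univ.filter (fun x => x ∈ (P : Subgroup G))).card = 9 := by
      rw [← card_sylow3 hcard P, Nat.card_eq_fintype_card]
      symm
      apply Fintype.card_of_subtype
      intro x; simp
    have : Pset = (Finset.univ.filter (fun x => x ∈ (P : Subgroup G))).erase 1 := by
      ext x; simp [hPset, and_comm]
    rw [this, Finset.card_erase_of_mem (by simp), h9]
  have hinj : Set.InjOn (fun d => d * u * d⁻¹) (Dset : Set G) := by
    intro d hd d' hd' h
    simp only at h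
    rw [Finset.mem_coe, hDmem] at hd hd'
    have hfix : (d'⁻¹ * d) * u = u * (d'⁻¹ * d) := by
      calc (d'⁻¹ * d) * u = d'⁻¹ * (d * u * d⁻¹) * d := by group
        _ = d'⁻¹ * (d' * u * d'⁻¹) * d := by rw [h]
        _ = u * (d'⁻¹ * d) := by group
    by_contra hne
    have hne' : d'⁻¹ * d ≠ 1 := by
      intro h1
      apply hne
      calc d = d' * (d'⁻¹ * d) := by group
        _ = d' := by rw [h1, mul_one]
    have hP' : (d'⁻¹ * d) • P = P := by
      rw [mul_smul, hd.1, inv_smul_eq_iff, hd'.1]
    have hQ' : (d'⁻¹ * d) • Q = Q := by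
      rw [mul_smul, hd.2, inv_smul_eq_iff, hd'.2]
    exact hu1 (L.eq_one_of_fix hcard hP' hQ' hne' hu hfix)
  have hsub : Dset.image (fun d => d * u * d⁻¹) ⊆ Pset := by
    intro x hx
    obtain ⟨d, hd, rfl⟩ := Finset.mem_image.mp hx
    rw [hDmem] at hd
    simp only [hPset, Finset.mem_filter, Finset.mem_univ, true_and]
    constructor
    · have := conj_mem_smul_sylow d P hu
      rwa [hd.1] at this
    · intro h
      apply hu1
      calc u = d⁻¹ * (d * u * d⁻¹) * d := by group
        _ = 1 := by rw [h]; group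
  have hcardimg : (Dset.image (fun d => d * u * d⁻¹)).card = 8 := by
    rw [Finset.card_image_of_injOn hinj, hDcard]
  have heq := Finset.eq_of_subset_of_card_le hsub (by rw [hcardimg, hPcard])
  have hmem : u' ∈ Pset := by simp [hPset, hu', hu1']
  rw [← heq] at hmem
  obtain ⟨d, hd, rfl⟩ := Finset.mem_image.mp hmem
  rw [hDmem] at hd
  exact ⟨d, hd.1, hd.2, rfl⟩

end Cfsg.Agent.Helper15.M11U
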