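import Mathlib
import Cfsg.Agent.Helper15.M11j

set_option autoImplicit false
set_option linter.unusedSectionVars false
set_option linter.unusedVariables false
set_option linter.style.haveILetI false
set_option maxHeartbeats 1000000

/-!
Simple groups of order 7920: the neighbourhood of a Sylow `3`-subgroup `P` consists of the two
`P`-orbits of the other two points of a line through `P`; the two global dichotomies.
-/

namespace Cfsg.Agent.Helper15.M11U

open Cfsg Subgroup Cfsg.Agent.Helper15.O7920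
open scoped Pointwise

universe u

variable {G : Type u} [Group G] [Finite G] [IsSimpleGroup G]

/-- A nonidentity element of `P` moves every other Sylow `3`-subgroup. -/
theorem smul_ne_of_mem (hcard : Nat.card G = 7920) {P Q : Sylow 3 G} (hPQ : P ≠ Q) {u : G}
    (hu : u ∈ (P : Subgroup G)) (hu1 : u ≠ 1) : u • Q ≠ Q := by
  intro h
  have hN : u ∈ normalizer ((Q : Subgroup G) : Set G) := Sylow.smul_eq_iff_mem_normalizer.mp h
  have hQ := mem_of_mem_normalizer Q (pow_three_of_mem_sylow3 hcard P hu) hN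
  exact hPQ (sylow3_TI hcard P Q hu hQ hu1)

theorem smul_injOn_of_mem (hcard : Nat.card G = 7920) {P Q : Sylow 3 G} (hPQ : P ≠ Q) {u u' : G}
    (hu : u ∈ (P : Subgroup G)) (hu' : u' ∈ (P : Subgroup G)) (h : u • Q = u' • Q) : u = u' := by
  by_contra hne
  have h1 : (u'⁻¹ * u) • Q = Q := by rw [mul_smul, h, inv_smul_smul]
  have h2 : u'⁻¹ * u ≠ 1 := by
    intro h3
    apply hne
    calc u = u' * (u'⁻¹ * u) := by group
      _ = u' := by rw [h3, mul_one]
  exact smul_ne_of_mem hcard hPQ (mul_mem (inv_mem hu') hu) h2 h1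

/-- Every neighbour of `P` is a `P`-translate of one of the two other points of a line
through `P`. -/
theorem Line.nbr_form (hcard : Nat.card G = 7920) {P Q R : Sylow 3 G} {z : G}
    (L : Line P Q R z) {T : Sylow 3 G} (hT : Adj P T) :
    ∃ u ∈ (P : Subgroup G), T = u • Q ∨ T = u • R := by
  obtain ⟨hne, w, hwP, hwT⟩ := hT
  obtain ⟨v, hv, hv'⟩ := L.hP.exists_eq_mul hcard hwP
  have hv3 := pow_three_of_mem_sylow3 hcard P hv
  have h1 := L.hP.conj_by_mem (inv_mem hv)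
  have h2 : v⁻¹ * v⁻¹ = v := by
    calc v⁻¹ * v⁻¹ = v ^ 3 * (v⁻¹ * v⁻¹) := by rw [hv3, one_mul]
      _ = v := by rw [pow_three]; group
  rw [h2, ← hv'] at h1
  have L' := L.smul v⁻¹
  rw [h1, smul_sylow_of_mem P (inv_mem hv)] at L'
  refine ⟨v⁻¹, inv_mem hv, ?_⟩
  rcases L'.mem hcard hwT with h | h | h
  · exact absurd h.symm hne
  · exact Or.inl h
  · exact Or.inr h

theorem smul_smul_conj {p : ℕ} (d u : G) (Q : Sylow p G) :
    d • u • Q = (d * u * d⁻¹) • d • Q := by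
  rw [← mul_smul, ← mul_smul]
  congr 1
  group

/-- `D` moves any nonidentity `P`-translate to any other. -/
theorem Line.exists_move (hcard : Nat.card G = 7920) {P Q R : Sylow 3 G} {z : G}
    (L : Line P Q R z) {u u' : G} (hu : u ∈ (P : Subgroup G)) (hu1 : u ≠ 1)
    (hu' : u' ∈ (P : Subgroup G)) (hu1' : u' ≠ 1) :
    ∃ d : G, d • P = P ∧ d • Q = Q ∧ d • R = R ∧ d • u • Q = u' • Q ∧ d • u • R = u' • R := by
  obtain ⟨d, hdP, hdQ, hd⟩ := L.exists_conj hcard hu hu1 hu' hu1'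
  have hdR := L.smul_third hcard hdP hdQ
  refine ⟨d, hdP, hdQ, hdR, ?_, ?_⟩
  · rw [smul_smul_conj, hd, hdQ]
  · rw [smul_smul_conj, hd, hdR]

/-- First dichotomy: translates of `Q` under `P` are all adjacent to `Q`, or none is. -/
def CaseA (G : Type u) [Group G] : Prop :=
  ∀ P Q : Sylow 3 G, Adj P Q → ∀ u ∈ (P : Subgroup G), u ≠ 1 → Adj Q (u • Q)

/-- Second dichotomy: translates of the third point under `P` are all adjacent to `Q`,
or none is. -/
def CaseB (G : Type u) [Group G] : Prop :=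
  ∀ (P Q R : Sylow 3 G) (z : G), Line P Q R z → ∀ u ∈ (P : Subgroup G), u ≠ 1 → Adj Q (u • R)

theorem caseA_of_exists (hcard : Nat.card G = 7920) {P₀ Q₀ : Sylow 3 G} (h₀ : Adj P₀ Q₀)
    {u₀ : G} (hu₀ : u₀ ∈ (P₀ : Subgroup G)) (hu₀1 : u₀ ≠ 1) (hadj : Adj Q₀ (u₀ • Q₀)) :
    CaseA G := by
  intro P Q hPQ u hu hu1
  obtain ⟨g, hgP, hgQ⟩ := trans_adj hcard h₀ hPQ
  obtain ⟨R, z, L⟩ := exists_line hcard hPQ
  have hu1' : g * u₀ * g⁻¹ ∈ (P : Subgroup G) := by
    have := conj_mem_smul_sylow g P₀ hu₀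
    rwa [hgP] at this
  have hne : g * u₀ * g⁻¹ ≠ 1 := by
    intro h
    apply hu₀1
    calc u₀ = g⁻¹ * (g * u₀ * g⁻¹) * g := by group
      _ = 1 := by rw [h]; group
  have h1 : Adj Q ((g * u₀ * g⁻¹) • Q) := by
    have := hadj.smul g
    rwa [smul_smul_conj, hgQ] at this
  obtain ⟨d, hdP, hdQ, hdR, hd1, hd2⟩ := L.exists_move hcard hu1' hne hu hu1
  have := h1.smul d
  rwa [hdQ, hd1] at this

theorem caseB_of_exists (hcard : Nat.card G = 7920) {P₀ Q₀ R₀ : Sylow 3 G} {z₀ : G}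
    (L₀ : Line P₀ Q₀ R₀ z₀)
    {u₀ : G} (hu₀ : u₀ ∈ (P₀ : Subgroup G)) (hu₀1 : u₀ ≠ 1) (hadj : Adj Q₀ (u₀ • R₀)) :
    CaseB G := by
  intro P Q R z L u hu hu1
  obtain ⟨g, hgP, hgQ⟩ := trans_adj hcard L₀.adj L.adj
  have L' := L₀.smul g
  rw [hgP, hgQ] at L'
  have hgR : g • R₀ = R := ((L'.unique hcard L).2)
  have hu1' : g * u₀ * g⁻¹ ∈ (P : Subgroup G) := by
    have := conj_mem_smul_sylow g P₀ hu₀
    rwa [hgP] at this
  have hne : g * u₀ * g⁻¹ ≠ 1 := by
    intro h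
    apply hu₀1
    calc u₀ = g⁻¹ * (g * u₀ * g⁻¹) * g := by group
      _ = 1 := by rw [h]; group
  have h1 : Adj Q ((g * u₀ * g⁻¹) • R) := by
    have := hadj.smul g
    rwa [smul_smul_conj, hgQ, hgR] at this
  obtain ⟨d, hdP, hdQ, hdR, hd1, hd2⟩ := L.exists_move hcard hu1' hne hu hu1
  have := h1.smul d
  rwa [hdQ, hd2] at this

theorem not_caseA (hcard : Nat.card G = 7920) (h : ¬ CaseA G) {P Q : Sylow 3 G} (hPQ : Adj P Q)
    {u : G} (hu : u ∈ (P : Subgroup G)) (hu1 : u ≠ 1) : ¬ Adj Q (u • Q) :=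
  fun hadj => h (caseA_of_exists hcard hPQ hu hu1 hadj)

theorem not_caseB (hcard : Nat.card G = 7920) (h : ¬ CaseB G) {P Q R : Sylow 3 G} {z : G}
    (L : Line P Q R z) {u : G} (hu : u ∈ (P : Subgroup G)) (hu1 : u ≠ 1) : ¬ Adj Q (u • R) :=
  fun hadj => h (caseB_of_exists hcard L hu hu1 hadj)

end Cfsg.Agent.Helper15.M11U
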