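import Mathlib
import Cfsg.Agent.Helper15.M11k

set_option autoImplicit false
set_option linter.unusedSectionVars false
set_option linter.unusedVariables false
set_option linter.style.haveILetI false
set_option maxHeartbeats 1000000

/-!
Simple groups of order 7920: common neighbours in the graph on the Sylow `3`-subgroups.
-/

namespace Cfsg.Agent.Helper15.M11U

open Cfsg Subgroup Cfsg.Agent.Helper15.O7920
open scoped Pointwise

universe u

variable {G : Type u} [Group G] [Finite G] [IsSimpleGroup G]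

/-- The common neighbours of two Sylow `3`-subgroups. -/
def Lam (P Q : Sylow 3 G) : Set (Sylow 3 G) := {T | Adj P T ∧ Adj Q T}

theorem mem_lam {P Q T : Sylow 3 G} : T ∈ Lam P Q ↔ Adj P T ∧ Adj Q T := Iff.rfl

theorem lam_smul (g : G) (P Q : Sylow 3 G) :
    Lam (g • P) (g • Q) = (fun T => g • T) '' Lam P Q := by
  ext T
  constructor
  · rintro ⟨h1, h2⟩
    refine ⟨g⁻¹ • T, ⟨?_, ?_⟩, smul_inv_smul g T⟩
    · have := h1.smul g⁻¹
      rwa [inv_smul_smul] at this
    · have := h2.smul g⁻¹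
      rwa [inv_smul_smul] at this
  · rintro ⟨T', ⟨h1, h2⟩, rfl⟩
    exact ⟨h1.smul g, h2.smul g⟩

theorem ncard_lam_smul (g : G) (P Q : Sylow 3 G) :
    (Lam (g • P) (g • Q)).ncard = (Lam P Q).ncard := by
  rw [lam_smul, Set.ncard_image_of_injective _ (MulAction.injective g)]

theorem ncard_lam_adj (hcard : Nat.card G = 7920) {P Q P' Q' : Sylow 3 G} (h : Adj P Q)
    (h' : Adj P' Q') : (Lam P Q).ncard = (Lam P' Q').ncard := by
  obtain ⟨g, rfl, rfl⟩ := trans_adj hcard h h'
  exact (ncard_lam_smul g P Q).symm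

theorem ncard_lam_nonadj (hcard : Nat.card G = 7920) {P Q P' Q' : Sylow 3 G} (hne : P ≠ Q)
    (h : ¬ Adj P Q) (hne' : P' ≠ Q') (h' : ¬ Adj P' Q') :
    (Lam P Q).ncard = (Lam P' Q').ncard := by
  obtain ⟨g, rfl, rfl⟩ := trans_nonadj hcard hne h hne' h'
  exact (ncard_lam_smul g P Q).symm

theorem Line.adj_PR {P Q R : Sylow 3 G} {z : G} (L : Line P Q R z) : Adj P R := L.rot.adj

theorem Line.adj_QR {P Q R : Sylow 3 G} {z : G} (L : Line P Q R z) : Adj Q R := L.swap.rot.adj

theorem Line.third_mem_lam {P Q R : Sylow 3 G} {z : G} (L : Line P Q R z) : R ∈ Lam P Q :=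
  ⟨L.adj_PR, L.adj_QR⟩

theorem not_adj_self (P : Sylow 3 G) : ¬ Adj P P := fun h => h.1 rfl

/-- A `P`-translate of `Q` is never the third point of the line. -/
theorem Line.smul_ne_third (hcard : Nat.card G = 7920) {P Q R : Sylow 3 G} {z : G}
    (L : Line P Q R z) {u : G} (hu : u ∈ (P : Subgroup G)) : u • Q ≠ R := by
  intro h
  have L' := L.smul u
  rw [smul_sylow_of_mem P hu, h] at L'
  have hz := (L'.unique hcard L.rot).1
  have hc : z * u = u * z := by
    calc z * u = (u * z * u⁻¹) * u := by rw [hz]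
      _ = u * z := by group
  have hu1 := L.hP.eq_one_of_comm hcard hu hc
  rw [hu1, one_smul] at h
  exact L.hRQ h.symm

theorem adj_smul_of_mem {P Q : Sylow 3 G} (h : Adj P Q) {u : G} (hu : u ∈ (P : Subgroup G)) :
    Adj P (u • Q) := by
  have := h.smul u
  rwa [smul_sylow_of_mem P hu] at this

end Cfsg.Agent.Helper15.M11U
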