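import Mathlib
import Cfsg.Agent.Helper15.M11l

set_option autoImplicit false
set_option linter.unusedSectionVars false
set_option linter.unusedVariables false
set_option linter.style.haveILetI false
set_option maxHeartbeats 1000000

/-!
Simple groups of order 7920: the graph on the Sylow `3`-subgroups is not a union of cliques.
-/

namespace Cfsg.Agent.Helper15.M11U

open Cfsg Subgroup Cfsg.Agent.Helper15.O7920
open scoped Pointwise

universe u

variable {G : Type u} [Group G] [Finite G] [IsSimpleGroup G]

/-- The closed neighbourhood. -/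
def ClNbr (P : Sylow 3 G) : Set (Sylow 3 G) := insert P {T | Adj P T}

theorem mem_clNbr {P T : Sylow 3 G} : T ∈ ClNbr P ↔ T = P ∨ Adj P T := Iff.rfl

theorem smul_clNbr (g : G) (P : Sylow 3 G) : g • ClNbr P = ClNbr (g • P) := by
  ext T
  rw [Set.mem_smul_set_iff_inv_smul_mem, mem_clNbr, mem_clNbr]
  constructor
  · rintro (h | h)
    · left; rw [← h, smul_inv_smul]
    · right
      have := h.smul g
      rwa [smul_inv_smul] at this
  · rintro (h | h)
    · left; rw [h, inv_smul_smul]
    · right
      have := h.smul g⁻¹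
      rwa [inv_smul_smul] at this

theorem ncard_clNbr (hcard : Nat.card G = 7920) (P : Sylow 3 G) : (ClNbr P).ncard = 19 := by
  unfold ClNbr
  rw [Set.ncard_insert_of_notMem (by exact not_adj_self P) (Set.toFinite _), ncard_adj hcard P]

theorem not_caseA_and_caseB (hcard : Nat.card G = 7920) (hA : CaseA G) (hB : CaseB G) :
    False := by
  have step1 : ∀ P Q : Sylow 3 G, Adj P Q → ∀ T, Adj P T → T ≠ Q → Adj Q T := by
    intro P Q hPQ T hT hTQ
    obtain ⟨R, z, L⟩ := exists_line hcard hPQ
    obtain ⟨u, hu, h | h⟩ := L.nbr_form hcard hT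
    · have hu1 : u ≠ 1 := by
        intro h1; rw [h1, one_smul] at h; exact hTQ h
      rw [h]; exact hA P Q hPQ u hu hu1
    · by_cases hu1 : u = 1
      · rw [h, hu1, one_smul]; exact L.adj_QR
      · rw [h]; exact hB P Q R z L u hu hu1
  have step2' : ∀ P Q : Sylow 3 G, Adj P Q → ClNbr P ⊆ ClNbr Q := by
    intro P Q hPQ T hT
    rcases hT with rfl | hT
    · exact Or.inr hPQ.symm
    · by_cases hTQ : T = Q
      · exact Or.inl hTQ
      · exact Or.inr (step1 P Q hPQ T hT hTQ)
  have step2 : ∀ P Q : Sylow 3 G, Adj P Q → ClNbr P = ClNbr Q :=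
    fun P Q hPQ => Set.Subset.antisymm (step2' P Q hPQ) (step2' Q P hPQ.symm)
  obtain ⟨P⟩ : Nonempty (Sylow 3 G) := inferInstance
  set H : Subgroup G := MulAction.stabilizer G (ClNbr P) with hH
  have horb : MulAction.orbit H P = ClNbr P := by
    ext B
    constructor
    · rintro ⟨h, rfl⟩
      have hh : (h : G) • ClNbr P = ClNbr P := MulAction.mem_stabilizer_iff.mp h.2
      have : (h : G) • P ∈ (h : G) • ClNbr P := Set.smul_mem_smul_set (Or.inl rfl)
      rw [hh] at this
      exact this
    · intro hB
      obtain ⟨g, hg⟩ := MulAction.exists_smul_eq G P B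
      have hgK : g • ClNbr P = ClNbr P := by
        rw [smul_clNbr, hg]
        rcases hB with rfl | hB
        · rfl
        · exact (step2 P B hB).symm
      exact ⟨⟨g, MulAction.mem_stabilizer_iff.mpr hgK⟩, hg⟩
  have key := card_orbit_subgroup H P
  rw [horb, ncard_clNbr hcard P] at key
  have h1 : 19 ∣ Nat.card H := Dvd.intro _ key
  have h2 : Nat.card H ∣ 7920 := by
    rw [← hcard]; exact Subgroup.card_subgroup_dvd_card H
  have := Nat.dvd_trans h1 h2
  omega

end Cfsg.Agent.Helper15.M11U
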