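import Mathlib
import Cfsg.Agent.Helper15.M11m
import Cfsg.Agent.Helper27.Srg55
import Cfsg.Agent.Helper27.SrgId

set_option autoImplicit false
set_option linter.unusedSectionVars false
set_option linter.unusedVariables false
set_option linter.style.haveILetI false
set_option maxHeartbeats 1000000

/-!
Simple groups of order 7920: the strongly regular graph on the Sylow `3`-subgroups; exclusion of
the parameter sets `(55,18,1,8)` and of the locally complete bipartite case.
-/

namespace Cfsg.Agent.Helper15.M11U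

open Cfsg Subgroup Cfsg.Agent.Helper15.O7920
open scoped Pointwise

universe u

variable {G : Type u} [Group G] [Finite G] [IsSimpleGroup G]

/-- The parameters of the strongly regular graph. -/
theorem srg_consequences (hcard : Nat.card G = 7920) (l m : ℕ)
    (hl : ∀ P Q : Sylow 3 G, Adj P Q → (Lam P Q).ncard = l)
    (hm : ∀ P Q : Sylow 3 G, P ≠ Q → ¬ Adj P Q → (Lam P Q).ncard = m) :
    18 * 18 = 18 + 18 * l + 36 * m ∧ ¬ (l = 1 ∧ m = 8) := by
  classical
  haveI : Fintype (Sylow 3 G) := Fintype.ofFinite _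
  have hV : Fintype.card (Sylow 3 G) = 55 := by
    rw [← Nat.card_eq_fintype_card, card_sylow3_set hcard]
  have hk : ∀ a : Sylow 3 G, (Finset.univ.filter (fun c => Adj a c)).card = 18 := by
    intro a
    rw [← ncard_adj hcard a, Set.ncard_eq_toFinset_card']
    congr 1
    ext c; simp
  have hconv : ∀ a b : Sylow 3 G, (Finset.univ.filter (fun c => Adj a c ∧ Adj b c)).card =
      (Lam a b).ncard := by
    intro a b
    rw [Set.ncard_eq_toFinset_card']
    congr 1
    ext c
    simp only [Finset.mem_filter, Finset.mem_univ, true_and, Set.mem_toFinset]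
    rfl
  have hl' : ∀ a b : Sylow 3 G, Adj a b →
      (Finset.univ.filter (fun c => Adj a c ∧ Adj b c)).card = l := by
    intro a b hab; rw [hconv, hl a b hab]
  have hm' : ∀ a b : Sylow 3 G, a ≠ b → ¬ Adj a b →
      (Finset.univ.filter (fun c => Adj a c ∧ Adj b c)).card = m := by
    intro a b hne hab; rw [hconv, hm a b hne hab]
  have hsymm : ∀ a b : Sylow 3 G, Adj a b → Adj b a := fun a b h => h.symm
  have hirr : ∀ a : Sylow 3 G, ¬ Adj a a := not_adj_self
  constructor
  · have := Cfsg.Agent.Helper27.SrgId.srg_identity (fun a b : Sylow 3 G => Adj a b) hsymm hirr 18 l m hk hl' hm'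
    rw [hV] at this
    exact this
  · rintro ⟨rfl, rfl⟩
    exact Cfsg.Agent.Helper27.Srg55.no_srg_55_18_1_8 (fun a b : Sylow 3 G => Adj a b) hsymm hirr
      hV hk hl' hm'

/-- Existence of the two constants. -/
theorem exists_srg_params (hcard : Nat.card G = 7920) :
    ∃ l m : ℕ, (∀ P Q : Sylow 3 G, Adj P Q → (Lam P Q).ncard = l) ∧
      (∀ P Q : Sylow 3 G, P ≠ Q → ¬ Adj P Q → (Lam P Q).ncard = m) := by
  obtain ⟨P⟩ : Nonempty (Sylow 3 G) := inferInstance
  obtain ⟨Q, hQ⟩ := exists_adj hcard P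
  obtain ⟨R, hR1, hR2⟩ := exists_nonadj hcard P
  exact ⟨(Lam P Q).ncard, (Lam P R).ncard, fun A B hAB => ncard_lam_adj hcard hAB hQ,
    fun A B hne hAB => ncard_lam_nonadj hcard hne hAB hR1 hR2⟩

/-- The case where every edge lies in a unique triangle is impossible. -/
theorem not_not_caseA_and_not_caseB (hcard : Nat.card G = 7920) (hA : ¬ CaseA G)
    (hB : ¬ CaseB G) : False := by
  obtain ⟨l, m, hl, hm⟩ := exists_srg_params hcard
  obtain ⟨P⟩ : Nonempty (Sylow 3 G) := inferInstance
  obtain ⟨Q, hPQ⟩ := exists_adj hcard P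
  obtain ⟨R, z, L⟩ := exists_line hcard hPQ
  have hLam : Lam P Q = {R} := by
    ext T
    rw [Set.mem_singleton_iff]
    constructor
    · rintro ⟨h1, h2⟩
      obtain ⟨u, hu, h | h⟩ := L.nbr_form hcard h1
      · exfalso
        by_cases hu1 : u = 1
        · rw [h, hu1, one_smul] at h2; exact not_adj_self Q h2
        · rw [h] at h2; exact not_caseA hcard hA hPQ hu hu1 h2
      · by_cases hu1 : u = 1
        · rw [h, hu1, one_smul]
        · exfalso
          rw [h] at h2; exact not_caseB hcard hB L hu hu1 h2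
    · rintro rfl
      exact L.third_mem_lam
  have hl1 : l = 1 := by
    rw [← hl P Q hPQ, hLam, Set.ncard_singleton]
  obtain ⟨h1, h2⟩ := srg_consequences hcard l m hl hm
  apply h2
  refine ⟨hl1, ?_⟩
  rw [hl1] at h1
  omega


/-- The locally complete bipartite case is impossible. -/
theorem not_not_caseA_and_caseB (hcard : Nat.card G = 7920) (hA : ¬ CaseA G)
    (hB : CaseB G) : False := by
  obtain ⟨l, m, hl, hm⟩ := exists_srg_params hcard
  obtain ⟨P⟩ : Nonempty (Sylow 3 G) := inferInstance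
  obtain ⟨Q, hPQ⟩ := exists_adj hcard P
  obtain ⟨R, z, L⟩ := exists_line hcard hPQ
  set O2 : Set (Sylow 3 G) := (fun u : G => u • R) '' ((P : Subgroup G) : Set G) with hO2
  have hO2card : O2.ncard = 9 := by
    rw [hO2, Set.InjOn.ncard_image, ← Nat.card_coe_set_eq]
    · exact card_sylow3 hcard P
    · intro u hu u' hu' h
      exact smul_injOn_of_mem hcard L.hRP.symm hu hu' h
  have hadjQ : ∀ u ∈ (P : Subgroup G), Adj Q (u • R) := by
    intro u hu
    by_cases hu1 : u = 1
    · rw [hu1, one_smul]; exact L.adj_QR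
    · exact hB P Q R z L u hu hu1
  have hLam : Lam P Q = O2 := by
    ext T
    constructor
    · rintro ⟨h1, h2⟩
      obtain ⟨u, hu, h | h⟩ := L.nbr_form hcard h1
      · exfalso
        by_cases hu1 : u = 1
        · rw [h, hu1, one_smul] at h2; exact not_adj_self Q h2
        · rw [h] at h2; exact not_caseA hcard hA hPQ hu hu1 h2
      · exact ⟨u, hu, h.symm⟩
    · rintro ⟨u, hu, rfl⟩
      exact ⟨adj_smul_of_mem L.adj_PR hu, hadjQ u hu⟩
  have hl9 : l = 9 := by rw [← hl P Q hPQ, hLam, hO2card]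
  obtain ⟨h1, -⟩ := srg_consequences hcard l m hl hm
  have hm4 : m = 4 := by rw [hl9] at h1; omega
  obtain ⟨u₀, hu₀, hu₀1⟩ := sylow3_ne_bot hcard P
  have hne : Q ≠ u₀ • Q := (smul_ne_of_mem hcard hPQ.1 hu₀ hu₀1).symm
  have hnadj : ¬ Adj Q (u₀ • Q) := not_caseA hcard hA hPQ hu₀ hu₀1
  have h4 := hm Q (u₀ • Q) hne hnadj
  rw [hm4] at h4
  have hsub : insert P O2 ⊆ Lam Q (u₀ • Q) := by
    intro T hT
    rcases hT with rfl | ⟨u, hu, rfl⟩
    · refine ⟨hPQ.symm, ?_⟩
      have := hPQ.symm.smul u₀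
      rwa [smul_sylow_of_mem T hu₀] at this
    · refine ⟨hadjQ u hu, ?_⟩
      have h5 := (hadjQ (u₀⁻¹ * u) (mul_mem (inv_mem hu₀) hu)).smul u₀
      rwa [← mul_smul, mul_inv_cancel_left] at h5
  have hPO2 : P ∉ O2 := by
    rintro ⟨u, hu, h⟩
    have := adj_smul_of_mem L.adj_PR hu
    simp only at h
    rw [h] at this
    exact not_adj_self P this
  have h10 : (insert P O2).ncard = 10 := by
    rw [Set.ncard_insert_of_notMem hPO2 (Set.toFinite _), hO2card]
  have := Set.ncard_le_ncard hsub (Set.toFinite _)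
  omega

end Cfsg.Agent.Helper15.M11U
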