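import Mathlib
import Cfsg.Agent.Helper15.M11m

set_option autoImplicit false
set_option linter.unusedSectionVars false
set_option linter.unusedVariables false
set_option linter.style.haveILetI false
set_option maxHeartbeats 1000000

/-!
Simple groups of order 7920: in the triangular-graph case there is a subgroup of index `11`.
-/

namespace Cfsg.Agent.Helper15.M11U

open Cfsg Subgroup Cfsg.Agent.Helper15.O7920
open scoped Pointwise

universe u

theorem smul_set_eq_of_forall_mem {G : Type*} {X : Type*} [Group G] [MulAction G X] (g : G)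
    (C : Set X) (hfin : C.Finite) (h : ∀ T ∈ C, g • T ∈ C) : g • C = C := by
  apply Set.eq_of_subset_of_ncard_le
  · rintro T ⟨T', hT', rfl⟩
    exact h T' hT'
  · have : g • C = (fun T => g • T) '' C := rfl
    rw [this, Set.ncard_image_of_injective _ (MulAction.injective g)]
  · exact hfin

variable {G : Type u} [Group G] [Finite G] [IsSimpleGroup G]

/-- In the good case, nontrivial `P`-translates of `Q` are nontrivial `Q`-translates of `P`. -/
theorem Line.translate_eq (hcard : Nat.card G = 7920) (hA : CaseA G) (hB : ¬ CaseB G)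
    {P Q R : Sylow 3 G} {z : G} (L : Line P Q R z) {u : G} (hu : u ∈ (P : Subgroup G))
    (hu1 : u ≠ 1) : ∃ v ∈ (Q : Subgroup G), v ≠ 1 ∧ u • Q = v • P := by
  have h1 : Adj P (u • Q) := adj_smul_of_mem L.adj hu
  have h2 : Adj Q (u • Q) := hA P Q L.adj u hu hu1
  obtain ⟨v, hv, h | h⟩ := L.swap.nbr_form hcard h2
  · refine ⟨v, hv, ?_, h⟩
    intro hv1
    rw [hv1, one_smul] at h
    rw [h] at h1
    exact not_adj_self P h1
  · exfalso
    by_cases hv1 : v = 1
    · rw [hv1, one_smul] at h
      exact L.smul_ne_third hcard hu h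
    · rw [h] at h1
      exact not_caseB hcard hB L.swap hv hv1 h1

theorem exists_index11_of_good (hcard : Nat.card G = 7920) (hA : CaseA G) (hB : ¬ CaseB G) :
    ∃ H : Subgroup G, H.index = 11 := by
  obtain ⟨P⟩ : Nonempty (Sylow 3 G) := inferInstance
  obtain ⟨Q, hPQ⟩ := exists_adj hcard P
  obtain ⟨R, z, L⟩ := exists_line hcard hPQ
  set C : Set (Sylow 3 G) := insert P ((fun u : G => u • Q) '' ((P : Subgroup G) : Set G)) with hC
  have hCfin : C.Finite := Set.toFinite _
  have hmemC : ∀ u ∈ (P : Subgroup G), u • Q ∈ C := fun u hu => Or.inr ⟨u, hu, rfl⟩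
  have hPC : P ∈ C := Or.inl rfl
  have himg : ((fun u : G => u • Q) '' ((P : Subgroup G) : Set G)).ncard = 9 := by
    rw [Set.InjOn.ncard_image, ← Nat.card_coe_set_eq]
    · exact card_sylow3 hcard P
    · intro u hu u' hu' h
      exact smul_injOn_of_mem hcard hPQ.1 hu hu' h
  have hPnot : P ∉ (fun u : G => u • Q) '' ((P : Subgroup G) : Set G) := by
    rintro ⟨u, hu, h⟩
    have := adj_smul_of_mem hPQ hu
    simp only at h
    rw [h] at this
    exact not_adj_self P this
  have hCcard : C.ncard = 10 := by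
    rw [hC, Set.ncard_insert_of_notMem hPnot (Set.toFinite _), himg]
  -- invariance under `Q`
  have hvP : ∀ v ∈ (Q : Subgroup G), v • P ∈ C := by
    intro v hv
    by_cases hv1 : v = 1
    · rw [hv1, one_smul]; exact hPC
    · obtain ⟨u, hu, -, h⟩ := L.swap.translate_eq hcard hA hB hv hv1
      rw [h]; exact hmemC u hu
  have hQinv : ∀ v ∈ (Q : Subgroup G), ∀ T ∈ C, v • T ∈ C := by
    intro v hv T hT
    rcases hT with rfl | ⟨u, hu, rfl⟩
    · exact hvP v hv
    · by_cases hu1 : u = 1
      · simp only [hu1, one_smul]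
        rw [smul_sylow_of_mem Q hv]
        have := hmemC 1 (one_mem _)
        rwa [one_smul] at this
      · obtain ⟨v', hv', -, h⟩ := L.translate_eq hcard hA hB hu hu1
        simp only
        rw [h, ← mul_smul]
        exact hvP _ (mul_mem hv hv')
  have hPinv : ∀ u' ∈ (P : Subgroup G), ∀ T ∈ C, u' • T ∈ C := by
    intro u' hu' T hT
    rcases hT with rfl | ⟨u, hu, rfl⟩
    · rw [smul_sylow_of_mem T hu']; exact hPC
    · simp only
      rw [← mul_smul]
      exact hmemC _ (mul_mem hu' hu)
  have hDinv : ∀ d : G, d • P = P → d • Q = Q → ∀ T ∈ C, d • T ∈ C := by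
    intro d hdP hdQ T hT
    rcases hT with rfl | ⟨u, hu, rfl⟩
    · rw [hdP]; exact hPC
    · simp only
      rw [smul_smul_conj, hdQ]
      apply hmemC
      have := conj_mem_smul_sylow d P hu
      rwa [hdP] at this
  set H : Subgroup G := MulAction.stabilizer G C with hH
  have hmemH : ∀ g : G, (∀ T ∈ C, g • T ∈ C) → g ∈ H := by
    intro g hg
    exact MulAction.mem_stabilizer_iff.mpr (smul_set_eq_of_forall_mem g C hCfin hg)
  have hH_smul : ∀ g ∈ H, ∀ T ∈ C, g • T ∈ C := by
    intro g hg T hT
    have hh : g • C = C := MulAction.mem_stabilizer_iff.mp hg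
    have : g • T ∈ g • C := Set.smul_mem_smul_set hT
    rwa [hh] at this
  have hPH : (P : Subgroup G) ≤ H := fun u hu => hmemH u (hPinv u hu)
  have hQH : (Q : Subgroup G) ≤ H := fun v hv => hmemH v (hQinv v hv)
  have hDH : (normalizer ((P : Subgroup G) : Set G) ⊓ normalizer ((Q : Subgroup G) : Set G)) ≤
      H := by
    intro d hd
    obtain ⟨h1, h2⟩ := Subgroup.mem_inf.mp hd
    exact hmemH d (hDinv d (Sylow.smul_eq_iff_mem_normalizer.mpr h1)
      (Sylow.smul_eq_iff_mem_normalizer.mpr h2))
  -- the orbit of `P` under `H` is `C`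
  have horb : MulAction.orbit H P = C := by
    ext B
    constructor
    · rintro ⟨h, rfl⟩
      exact hH_smul h h.2 P hPC
    · intro hB
      rcases hB with rfl | ⟨u, hu, rfl⟩
      · exact MulAction.mem_orbit_self _
      · obtain ⟨u₀, hu₀, hu₀1⟩ := sylow3_ne_bot hcard P
        obtain ⟨v, hv, -, h⟩ := L.translate_eq hcard hA hB hu₀ hu₀1
        refine ⟨⟨u * u₀⁻¹ * v, mul_mem (mul_mem (hPH hu) (hPH (inv_mem hu₀))) (hQH hv)⟩, ?_⟩
        show (u * u₀⁻¹ * v) • P = u • Q
        rw [mul_smul, ← h, ← mul_smul]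
        congr 1
        group
  have key := card_orbit_subgroup H P
  rw [horb, hCcard, Sylow.stabilizer_eq_normalizer] at key
  -- divisibility
  have h9 : 9 ∣ Nat.card (normalizer (P : Set G) ⊓ H : Subgroup G) := by
    rw [← card_sylow3 hcard P]
    exact Subgroup.card_dvd_of_le (le_inf le_normalizer hPH)
  have h8 : 8 ∣ Nat.card (normalizer (P : Set G) ⊓ H : Subgroup G) := by
    rw [← card_normalizer_inf_of_adj hcard hPQ]
    exact Subgroup.card_dvd_of_le (le_inf inf_le_left hDH)
  have h72 : 72 ∣ Nat.card (normalizer (P : Set G) ⊓ H : Subgroup G) := by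
    have : Nat.Coprime 9 8 := by norm_num
    exact this.mul_dvd_of_dvd_of_dvd h9 h8
  have h720 : 720 ∣ Nat.card H := by
    rw [← key]
    obtain ⟨c, hc⟩ := h72
    rw [hc]
    exact ⟨c, by ring⟩
  have hidx := Subgroup.card_mul_index H
  rw [hcard] at hidx
  have hne_top : H.index ≠ 1 := by
    intro h1
    have htop : H = ⊤ := Subgroup.index_eq_one.mp h1
    have hlt : C.ncard < (Set.univ : Set (Sylow 3 G)).ncard := by
      rw [hCcard, Set.ncard_univ, card_sylow3_set hcard]; norm_num
    obtain ⟨T, -, hT⟩ := Set.exists_mem_notMem_of_ncard_lt_ncard hlt hCfin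
    obtain ⟨g, hg⟩ := MulAction.exists_smul_eq G P T
    have hgH : g ∈ H := by rw [htop]; exact Subgroup.mem_top g
    exact hT (hg ▸ hH_smul g hgH P hPC)
  refine ⟨H, ?_⟩
  obtain ⟨c, hc⟩ := h720
  rw [hc] at hidx
  have h11 : c * H.index = 11 := by
    have : 720 * (c * H.index) = 720 * 11 := by rw [← mul_assoc]; omega
    omega
  have hdvd : H.index ∣ 11 := Dvd.intro_left _ h11
  rcases (Nat.dvd_prime (by norm_num : Nat.Prime 11)).mp hdvd with h | h
  · exact absurd h hne_top
  · exact h

end Cfsg.Agent.Helper15.M11U
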