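import Mathlib
import Cfsg.Agent.Helper15.M11n
import Cfsg.Agent.Helper15.M11o

set_option autoImplicit false
set_option linter.unusedSectionVars false
set_option linter.unusedVariables false
set_option maxHeartbeats 1000000

/-!
A simple group of order 7920 has a subgroup of index `11`.
-/

namespace Cfsg.Agent.Helper15.M11U

open Cfsg Subgroup

universe u

variable {G : Type u} [Group G] [Finite G] [IsSimpleGroup G]

/-- A simple group of order `7920` has a subgroup of index `11`. -/
theorem exists_index11 (hcard : Nat.card G = 7920) : ∃ H : Subgroup G, H.index = 11 := by
  classical
  by_cases hA : CaseA G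
  · by_cases hB : CaseB G
    · exact (not_caseA_and_caseB hcard hA hB).elim
    · exact exists_index11_of_good hcard hA hB
  · by_cases hB : CaseB G
    · exact (not_not_caseA_and_caseB hcard hA hB).elim
    · exact (not_not_caseA_and_not_caseB hcard hA hB).elim

end Cfsg.Agent.Helper15.M11U
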