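import Mathlib
import Cfsg.Prelude.Def_Solvable
import Cfsg.Agent.Helper4.McLDefs

set_option autoImplicit false

/-! S5075, piece ELEMFULL: from the elementary transvections of a pair of dual families to all
transvections with centre in the span of the vectors and axis given by the span of the
functionals. -/

namespace Cfsg.Agent.S5075P

variable {p : ℕ} [Fact p.Prime] {V : Type*} [AddCommGroup V] [Module (ZMod p) V]
variable {G : Subgroup (V ≃ₗ[ZMod p] V)}

theorem ELEMFULL_sum_right {ι : Type*} (s : Finset ι) (v : V)
    (g : ι → Module.Dual (ZMod p) V) (h : ∀ i ∈ s, InI G v (g i)) : InI G v (∑ i ∈ s, g i) := by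
  classical
  induction s using Finset.induction_on with
  | empty =>
    rw [Finset.sum_empty]
    exact inI_zero_right G v
  | insert a s ha ih =>
    rw [Finset.sum_insert ha]
    exact (h a (Finset.mem_insert_self a s)).add_right
      (ih (fun i hi => h i (Finset.mem_insert_of_mem hi)))

/-- step (A): centre a basis vector -/
theorem ELEMFULL_basis {ι : Type*} [Fintype ι] [DecidableEq ι] (b : ι → V)
    (f : ι → Module.Dual (ZMod p) V) (hbf : ∀ i j, f i (b j) = if i = j then 1 else 0)
    (hI : ∀ i j, i ≠ j → InI G (b j) (f i)) (j : ι) (a : ι → ZMod p)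
    (h0 : (∑ i, a i • f i) (b j) = 0) : InI G (b j) (∑ i, a i • f i) := by
  have haj : a j = 0 := by
    rw [LinearMap.sum_apply] at h0
    simp only [LinearMap.smul_apply, hbf, smul_eq_mul, mul_ite, mul_one, mul_zero] at h0
    rw [Finset.sum_ite_eq' Finset.univ j, if_pos (Finset.mem_univ j)] at h0
    exact h0
  apply ELEMFULL_sum_right
  intro i _
  by_cases hij : i = j
  · subst hij
    rw [haj, zero_smul]
    exact inI_zero_right G _
  · exact (hI i j hij).smul_right (a i)

theorem ELEMFULL_apply_sum {ι : Type*} [Fintype ι] [DecidableEq ι] (b : ι → V)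
    (f : ι → Module.Dual (ZMod p) V) (hbf : ∀ i j, f i (b j) = if i = j then 1 else 0)
    (c : ι → ZMod p) (k : ι) : f k (∑ j, c j • b j) = c k := by
  rw [map_sum]
  simp only [map_smul, hbf, smul_eq_mul, mul_ite, mul_one, mul_zero]
  rw [Finset.sum_ite_eq Finset.univ k, if_pos (Finset.mem_univ k)]

/-- step (B): induction on the size of the support -/
theorem ELEMFULL_aux {ι : Type*} [Fintype ι] [DecidableEq ι] (b : ι → V)
    (f : ι → Module.Dual (ZMod p) V) (hbf : ∀ i j, f i (b j) = if i = j then 1 else 0)
    (hI : ∀ i j, i ≠ j → InI G (b j) (f i)) :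
    ∀ (n : ℕ) (c : ι → ZMod p), (Finset.univ.filter (fun j => c j ≠ 0)).card = n →
      ∀ a : ι → ZMod p, (∑ i, a i • f i) (∑ j, c j • b j) = 0 →
        InI G (∑ j, c j • b j) (∑ i, a i • f i) := by
  intro n
  induction n with
  | zero =>
    intro c hc a _
    have hc0 : ∀ j, c j = 0 := by
      intro j
      by_contra hj
      have : j ∈ Finset.univ.filter (fun j => c j ≠ 0) :=
        Finset.mem_filter.mpr ⟨Finset.mem_univ j, hj⟩
      rw [Finset.card_eq_zero.mp hc] at this
      exact absurd this (Finset.notMem_empty j)
    have : ∑ j, c j • b j = 0 := by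
      apply Finset.sum_eq_zero
      intro j _
      rw [hc0 j, zero_smul]
    rw [this]
    exact inI_zero_left G _
  | succ n ih =>
    intro c hc a h0
    -- pick `j` in the support
    have hne : (Finset.univ.filter (fun j => c j ≠ 0)).Nonempty := by
      rw [← Finset.card_pos, hc]
      exact Nat.succ_pos n
    obtain ⟨j, hj⟩ := hne
    have hcj : c j ≠ 0 := (Finset.mem_filter.mp hj).2
    -- the modified coefficient vector
    set c' : ι → ZMod p := Function.update c j 0 with hc'
    have hsupp : (Finset.univ.filter (fun i => c' i ≠ 0)) =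
        (Finset.univ.filter (fun i => c i ≠ 0)).erase j := by
      ext i
      simp only [Finset.mem_filter, Finset.mem_univ, true_and, Finset.mem_erase, hc']
      by_cases hij : i = j
      · subst hij
        simp
      · rw [Function.update_of_ne hij]
        simp [hij]
    have hcard : (Finset.univ.filter (fun i => c' i ≠ 0)).card = n := by
      rw [hsupp, Finset.card_erase_of_mem hj, hc]
      rfl
    have hx : ∑ i, c i • b i = ∑ i, c' i • b i + c j • b j := by
      have h1 : ∀ i, c i • b i = c' i • b i + (if i = j then c j • b j else 0) := by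
        intro i
        by_cases hij : i = j
        · subst hij
          simp [hc']
        · rw [hc', Function.update_of_ne hij, if_neg hij, add_zero]
      rw [Finset.sum_congr rfl (fun i _ => h1 i), Finset.sum_add_distrib,
        Finset.sum_ite_eq' Finset.univ j, if_pos (Finset.mem_univ j)]
    by_cases hk : ∃ k, k ≠ j ∧ c k ≠ 0
    · obtain ⟨k, hkj, hck⟩ := hk
      -- `ψ = (c j / c k) f k`, `ξ' = ξ + ξ (b j) • ψ`
      set ξ := ∑ i, a i • f i with hξ
      set x' := ∑ i, c' i • b i with hx'
      have hξbj : ξ (b j) = a j := by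
        rw [hξ, LinearMap.sum_apply]
        simp only [LinearMap.smul_apply, hbf, smul_eq_mul, mul_ite, mul_one, mul_zero]
        rw [Finset.sum_ite_eq' Finset.univ j, if_pos (Finset.mem_univ j)]
      -- coefficients of `ξ'`
      set a' : ι → ZMod p := fun i => a i + (if i = k then a j * (c j / c k) else 0) with ha'
      have hξ' : ∑ i, a' i • f i = ξ + a j • ((c j / c k) • f k) := by
        have h1 : ∀ i, a' i • f i = a i • f i + (if i = k then (a j * (c j / c k)) • f k else 0) := by
          intro i
          by_cases hik : i = k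
          · subst hik
            simp [ha', add_smul]
          · simp [ha', hik]
        rw [Finset.sum_congr rfl (fun i _ => h1 i), Finset.sum_add_distrib,
          Finset.sum_ite_eq' Finset.univ k, if_pos (Finset.mem_univ k), smul_smul]
      have hfk' : f k x' = c k := by
        rw [hx', ELEMFULL_apply_sum b f hbf c' k, hc', Function.update_of_ne hkj]
      have hψx' : ((c j / c k) • f k) x' = c j := by
        rw [LinearMap.smul_apply, hfk', smul_eq_mul, div_mul_cancel₀ _ hck]
      have hψbj : ((c j / c k) • f k) (b j) = 0 := by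
        rw [LinearMap.smul_apply, hbf, if_neg hkj, smul_zero]
      have h0' : (∑ i, a' i • f i) x' = 0 := by
        rw [hξ', LinearMap.add_apply, LinearMap.smul_apply, hψx']
        have h2 : ξ (x' + c j • b j) = 0 := by rw [← hx]; exact h0
        rw [map_add, map_smul, hξbj] at h2
        rw [smul_eq_mul] at h2 ⊢
        linear_combination h2
      have hind : InI G x' (∑ i, a' i • f i) := ih c' hcard a' h0'
      have hA : InI G (b j) ((c j / c k) • f k) := (hI k j hkj).smul_right _
      have hconj := hind.conj_tv hA
      rw [hψx', hξ', LinearMap.add_apply, LinearMap.smul_apply, hψbj, smul_zero, add_zero, hξbj,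
        add_sub_cancel_right, ← hx] at hconj
      exact hconj
    · -- the support is `{j}`
      have hc0 : ∀ i, i ≠ j → c i = 0 := by
        intro i hij
        by_contra hci
        exact hk ⟨i, hij, hci⟩
      have hx'0 : ∑ i, c' i • b i = 0 := by
        apply Finset.sum_eq_zero
        intro i _
        by_cases hij : i = j
        · subst hij
          simp [hc']
        · rw [hc', Function.update_of_ne hij, hc0 i hij, zero_smul]
      rw [hx, hx'0, zero_add] at h0 ⊢
      have h1 : (∑ i, a i • f i) (b j) = 0 := by
        rw [map_smul, smul_eq_mul] at h0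
        exact (mul_eq_zero.mp h0).resolve_left hcj
      exact (ELEMFULL_basis b f hbf hI j a h1).smul_left (c j)

/-! ### ELEMFULL -/
theorem elem_full {ι : Type*} [Fintype ι] [DecidableEq ι] (b : ι → V)
    (f : ι → Module.Dual (ZMod p) V) (hbf : ∀ i j, f i (b j) = if i = j then 1 else 0)
    (hI : ∀ i j, i ≠ j → InI G (b j) (f i)) :
    ∀ x ∈ Submodule.span (ZMod p) (Set.range b), ∀ ξ ∈ Submodule.span (ZMod p) (Set.range f),
      ξ x = 0 → InI G x ξ := by
  intro x hx ξ hξ h0
  obtain ⟨c, rfl⟩ := (Submodule.mem_span_range_iff_exists_fun (ZMod p)).mp hx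
  obtain ⟨a, rfl⟩ := (Submodule.mem_span_range_iff_exists_fun (ZMod p)).mp hξ
  exact ELEMFULL_aux b f hbf hI _ c rfl a h0

end Cfsg.Agent.S5075P
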