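import Mathlib
import Cfsg.Prelude.Def_Solvable
import Cfsg.Agent.Helper4.McLDefs

set_option autoImplicit false

/-! S5075, piece SL2FULL: an opposite pair generates the full `SL₂` on the plane it spans. -/

namespace Cfsg.Agent.S5075P

variable {p : ℕ} [Fact p.Prime] {V : Type*} [AddCommGroup V] [Module (ZMod p) V]
variable {G : Subgroup (V ≃ₗ[ZMod p] V)}

/-! ### SL2FULL -/
theorem sl2_full {v w : V} {φ ψ : Module.Dual (ZMod p) V} (h : Opp G v φ w ψ) (a b c d : ZMod p)
    (h0 : (a • φ + b • ψ) (c • v + d • w) = 0) : InI G (c • v + d • w) (a • φ + b • ψ) := by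
  obtain ⟨hv, hw, hφw, hψv⟩ := h
  have hφv : φ v = 0 := hv.1
  have hψw : ψ w = 0 := hw.1
  have h0' : a * d * φ w + b * c * ψ v = 0 := by
    have := h0
    simp only [LinearMap.add_apply, LinearMap.smul_apply, map_add, map_smul, smul_eq_mul, hφv,
      hψw] at this
    linear_combination this
  by_cases hc : c = 0
  · subst hc
    rw [zero_smul, zero_add]
    have had : a * d = 0 := by
      have h1 : a * d * φ w = 0 := by linear_combination h0'
      exact (mul_eq_zero.mp h1).resolve_right hφw
    rcases mul_eq_zero.mp had with ha | hd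
    · subst ha
      rw [zero_smul, zero_add]
      exact (hw.smul_left d).smul_right b
    · subst hd
      rw [zero_smul]
      exact inI_zero_left G _
  · have h1 : InI G (v + ((d / (c * ψ v)) • ψ) v • w) (φ - φ w • ((d / (c * ψ v)) • ψ)) :=
      hv.conj_tv (hw.smul_right (d / (c * ψ v)))
    have h2 := (h1.smul_left c).smul_right a
    have e1 : c • (v + ((d / (c * ψ v)) • ψ) v • w) = c • v + d • w := by
      rw [smul_add, LinearMap.smul_apply, smul_eq_mul, smul_smul]
      congr 2
      field_simp
    have e2 : a • (φ - φ w • ((d / (c * ψ v)) • ψ)) = a • φ + b • ψ := by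
      rw [smul_sub, smul_smul, smul_smul, sub_eq_add_neg, ← neg_smul]
      congr 2
      field_simp
      linear_combination -h0'
    rwa [e1, e2] at h2

end Cfsg.Agent.S5075P
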