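import Mathlib
import Cfsg.Prelude.Def_Solvable
import Cfsg.Agent.Helper4.McLDefs

set_option autoImplicit false

/-! S5075, piece SL2Z: an opposite pair yields the element `-1` of the `SL₂` on its plane. -/

namespace Cfsg.Agent.S5075P

variable {p : ℕ} [Fact p.Prime] {V : Type*} [AddCommGroup V] [Module (ZMod p) V]
variable {G : Subgroup (V ≃ₗ[ZMod p] V)}

/-! ### SL2Z -/
theorem sl2_z {v w : V} {φ ψ : Module.Dual (ZMod p) V} (h : Opp G v φ w ψ) :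
    ∃ z ∈ G, ∀ x, z x = x - (2 * ψ x / ψ v) • v - (2 * φ x / φ w) • w := by
  obtain ⟨hv, hw, hφw, hψv⟩ := h
  have hφv : φ v = 0 := hv.1
  have hψw : ψ w = 0 := hw.1
  have hu : InI G v ((φ w)⁻¹ • φ) := hv.smul_right _
  have hl : InI G w ((-(ψ v)⁻¹) • ψ) := hw.smul_right _
  have hua : ∀ x, tv v ((φ w)⁻¹ • φ) x = x + ((φ w)⁻¹ * φ x) • v := by
    intro x
    rw [tv_apply hu.1]
    rfl
  have hla : ∀ x, tv w ((-(ψ v)⁻¹) • ψ) x = x + (-(ψ v)⁻¹ * ψ x) • w := by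
    intro x
    rw [tv_apply hl.1]
    rfl
  have hn : ∀ x, (tv v ((φ w)⁻¹ • φ) * tv w ((-(ψ v)⁻¹) • ψ) * tv v ((φ w)⁻¹ • φ)) x =
      x + ((φ w)⁻¹ * φ x - (ψ v)⁻¹ * ψ x) • v - ((φ w)⁻¹ * φ x + (ψ v)⁻¹ * ψ x) • w := by
    intro x
    rw [LinearEquiv.mul_apply, LinearEquiv.mul_apply, hua x, hla, hua]
    simp only [map_add, map_smul, smul_eq_mul, hφv, mul_zero, add_zero]
    match_scalars <;> field_simp <;> ring
  refine ⟨(tv v ((φ w)⁻¹ • φ) * tv w ((-(ψ v)⁻¹) • ψ) * tv v ((φ w)⁻¹ • φ)) *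
    (tv v ((φ w)⁻¹ • φ) * tv w ((-(ψ v)⁻¹) • ψ) * tv v ((φ w)⁻¹ • φ)), ?_, ?_⟩
  · exact G.mul_mem (G.mul_mem (G.mul_mem hu.2 hl.2) hu.2) (G.mul_mem (G.mul_mem hu.2 hl.2) hu.2)
  · intro x
    rw [LinearEquiv.mul_apply, hn x, hn]
    simp only [map_add, map_sub, map_smul, smul_eq_mul, hφv, hψw, mul_zero, add_zero, sub_zero]
    match_scalars <;> field_simp <;> ring

end Cfsg.Agent.S5075P
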