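import Mathlib
import Cfsg.Prelude.Def_Solvable
import Cfsg.Agent.Helper4.McLDefs
import Cfsg.Agent.Helper15.McLSL2FULL
import Cfsg.Agent.Helper15.McLSL2Z

set_option autoImplicit false

/-! S5075, piece SEEDSP: an opposite pair gives a full symplectic plane. -/

namespace Cfsg.Agent.S5075P

variable {p : ℕ} [Fact p.Prime] {V : Type*} [AddCommGroup V] [Module (ZMod p) V]
variable {G : Subgroup (V ≃ₗ[ZMod p] V)}

/-! ### SEEDSP  (uses SL2FULL, SL2Z) -/
theorem seedSP [Finite V] (hp : p ≠ 2) {v w : V} {φ ψ : Module.Dual (ZMod p) V}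
    (h : Opp G v φ w ψ) (c : ZMod p) (hc : c ≠ 0) :
    ∃ (π : V →ₗ[ZMod p] V) (B : LinearMap.BilinForm (ZMod p) V), SPfull G π B ∧
      Module.finrank (ZMod p) ↥(LinearMap.range π) = 2 ∧
      (∀ x, π x = (ψ x / ψ v) • v + (φ x / φ w) • w) ∧
      (∀ x y, B x y = c * (ψ x * φ y - φ x * ψ y)) := by
  have hv := h.1
  have hw := h.2.1
  have hφw : φ w ≠ 0 := h.2.2.1
  have hψv : ψ v ≠ 0 := h.2.2.2
  have hφv : φ v = 0 := hv.1
  have hψw : ψ w = 0 := hw.1
  let π : V →ₗ[ZMod p] V := (ψ v)⁻¹ • ψ.smulRight v + (φ w)⁻¹ • φ.smulRight w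
  let B : LinearMap.BilinForm (ZMod p) V := c • (ψ.smulRight φ - φ.smulRight ψ)
  have hπ : ∀ x, π x = (ψ x / ψ v) • v + (φ x / φ w) • w := by
    intro x
    simp only [π, LinearMap.add_apply, LinearMap.smul_apply, LinearMap.smulRight_apply, smul_smul]
    rw [div_eq_inv_mul, div_eq_inv_mul]
  have hB : ∀ x y, B x y = c * (ψ x * φ y - φ x * ψ y) := by
    intro x y
    simp only [B, LinearMap.smul_apply, LinearMap.sub_apply, LinearMap.smulRight_apply,
      smul_eq_mul]
  have hψπ : ∀ x, ψ (π x) = ψ x := by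
    intro x
    rw [hπ, map_add, map_smul, map_smul, hψw, smul_zero, add_zero, smul_eq_mul,
      div_mul_cancel₀ _ hψv]
  have hφπ : ∀ x, φ (π x) = φ x := by
    intro x
    rw [hπ, map_add, map_smul, map_smul, hφv, smul_zero, zero_add, smul_eq_mul,
      div_mul_cancel₀ _ hφw]
  have hπv : π v = v := by
    rw [hπ, hφv, zero_div, zero_smul, add_zero, div_self hψv, one_smul]
  have hπw : π w = w := by
    rw [hπ, hψw, zero_div, zero_smul, zero_add, div_self hφw, one_smul]
  refine ⟨π, B, ?_, ?_, hπ, hB⟩
  · refine ⟨?_, ?_, ?_, ?_, ?_, ?_⟩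
    · apply LinearMap.ext
      intro x
      rw [LinearMap.comp_apply, hπ (π x), hψπ, hφπ, ← hπ]
    · intro x
      rw [hB]
      ring
    · intro x y
      rw [hB, hB, hψπ, hφπ]
    · intro m hm hall
      have h1 := hall v
      have h2 := hall w
      rw [hB, hφv] at h1
      rw [hB, hψw] at h2
      have hφm : φ m = 0 := by
        have : c * (φ m * ψ v) = 0 := by linear_combination -h1
        rcases mul_eq_zero.mp this with h | h
        · exact absurd h hc
        · exact (mul_eq_zero.mp h).resolve_right hψv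
      have hψm : ψ m = 0 := by
        have : c * (ψ m * φ w) = 0 := by linear_combination h2
        rcases mul_eq_zero.mp this with h | h
        · exact absurd h hc
        · exact (mul_eq_zero.mp h).resolve_right hφw
      rw [← hm, hπ, hφm, hψm, zero_div, zero_div, zero_smul, zero_smul, add_zero]
    · intro m hm
      have h0 : ((c * ψ m) • φ + (-(c * φ m)) • ψ) ((ψ m / ψ v) • v + (φ m / φ w) • w) = 0 := by
        simp only [LinearMap.add_apply, LinearMap.smul_apply, map_add, map_smul, smul_eq_mul, hφv,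
          hψw]
        field_simp
        ring
      have h1 := sl2_full h (c * ψ m) (-(c * φ m)) (ψ m / ψ v) (φ m / φ w) h0
      rw [← hπ, hm] at h1
      have e : B m = (c * ψ m) • φ + (-(c * φ m)) • ψ := by
        apply LinearMap.ext
        intro y
        rw [hB]
        simp only [LinearMap.add_apply, LinearMap.smul_apply, smul_eq_mul]
        ring
      rw [e]
      exact h1
    · obtain ⟨z, hzG, hz⟩ := sl2_z h
      refine ⟨z, hzG, fun x => ?_⟩
      rw [hz, hπ, smul_add, smul_smul, smul_smul, mul_div_assoc, mul_div_assoc, sub_sub]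
  · have hrange : LinearMap.range π = Submodule.span (ZMod p) (Set.range ![v, w]) := by
      apply le_antisymm
      · rintro _ ⟨x, rfl⟩
        rw [hπ]
        apply Submodule.add_mem
        · exact Submodule.smul_mem _ _ (Submodule.subset_span ⟨0, rfl⟩)
        · exact Submodule.smul_mem _ _ (Submodule.subset_span ⟨1, rfl⟩)
      · rw [Submodule.span_le]
        rintro _ ⟨i, rfl⟩
        fin_cases i
        · exact ⟨v, hπv⟩
        · exact ⟨w, hπw⟩
    have hli : LinearIndependent (ZMod p) ![v, w] := by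
      rw [LinearIndependent.pair_iff]
      intro s t hst
      have h1 := congrArg φ hst
      have h2 := congrArg ψ hst
      rw [map_add, map_smul, map_smul, map_zero, smul_eq_mul, smul_eq_mul] at h1 h2
      rw [hφv, mul_zero, zero_add] at h1
      rw [hψw, mul_zero, add_zero] at h2
      exact ⟨(mul_eq_zero.mp h2).resolve_right hψv, (mul_eq_zero.mp h1).resolve_right hφw⟩
    rw [hrange, finrank_span_eq_card hli]
    rfl

end Cfsg.Agent.S5075P
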