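import Mathlib

set_option autoImplicit false

/-!
Toolkit for "no simple group of order n" arguments (helper15):
* `sylow_count_inf_normalizer`: Sylow counting inside a subgroup `M ≥ P`.
* `mem_centralizer_of_coprime_card_mulAut`: coprime elements of `N(H)` centralize `H`.
* `four_dvd_index_sub_card_fixedBy`: parity lemma for involutions acting on cosets.
-/

namespace Cfsg.Agent.Helper15.NoSimp

open Subgroup

theorem relIndex_mul_card' {G : Type*} [Group G] {H K : Subgroup G} (h : H ≤ K) :
    H.relIndex K * Nat.card ↥H = Nat.card ↥K := by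
  have h1 := (H.subgroupOf K).index_mul_card
  rwa [Nat.card_congr (Subgroup.subgroupOfEquivOfLe h).toEquiv] at h1

/-- Sylow counting in a subgroup: if the Sylow `p`-subgroup `P` of `G` lies in `M`, then
`|M| = k * |M ⊓ N_G(P)|` with `k ≡ 1 (mod p)` (`k` is the number of Sylow `p`-subgroups of `M`). -/
theorem sylow_count_inf_normalizer {G : Type*} [Group G] [Finite G] {p : ℕ} [Fact p.Prime]
    (P : Sylow p G) (M : Subgroup G) (hPM : (P : Subgroup G) ≤ M) :
    ∃ k : ℕ, k % p = 1 ∧
      k * Nat.card ↥(M ⊓ normalizer ((P : Subgroup G) : Set G)) = Nat.card ↥M := by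
  have hp : p.Prime := Fact.out
  let P' : Sylow p ↥M := P.subtype hPM
  refine ⟨Nat.card (Sylow p ↥M), ?_, ?_⟩
  · have h := card_sylow_modEq_one p ↥M
    unfold Nat.ModEq at h
    rw [h, Nat.mod_eq_of_lt hp.one_lt]
  · rw [P'.card_eq_index_normalizer]
    have h1 : normalizer (P' : Set ↥M)
        = (normalizer ((P : Subgroup G) : Set G)).subgroupOf M := by
      change normalizer ((P' : Subgroup ↥M) : Set ↥M) = _
      rw [Sylow.coe_subtype]
      exact (subgroupOf_normalizer_eq hPM).symm
    rw [h1]
    change (normalizer ((P : Subgroup G) : Set G)).relIndex M * _ = _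
    rw [← inf_relIndex_right, inf_comm]
    exact relIndex_mul_card' inf_le_left

/-- An element of `N(H)` whose order is coprime to `|Aut H|` centralizes `H`. -/
theorem mem_centralizer_of_coprime_card_mulAut {G : Type*} [Group G] [Finite G] (H : Subgroup G)
    (g : G) (hg : g ∈ normalizer (H : Set G))
    (hcop : Nat.Coprime (orderOf g) (Nat.card (MulAut ↥H))) : g ∈ centralizer (H : Set G) := by
  let g' : ↥(normalizer (H : Set G)) := ⟨g, hg⟩
  have h1 : orderOf (H.normalizerMonoidHom g') ∣ orderOf g := by
    have : orderOf g' = orderOf g := Subgroup.orderOf_mk g hg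
    rw [← this]
    exact orderOf_map_dvd _ _
  have h2 : orderOf (H.normalizerMonoidHom g') ∣ Nat.card (MulAut ↥H) := orderOf_dvd_natCard _
  have h3 : orderOf (H.normalizerMonoidHom g') = 1 :=
    Nat.eq_one_of_dvd_coprimes hcop h1 h2
  have h4 : g' ∈ H.normalizerMonoidHom.ker := by
    rw [MonoidHom.mem_ker]
    exact orderOf_eq_one_iff.mp h3
  rw [normalizerMonoidHom_ker] at h4
  exact h4

/-- Parity lemma: if `G` has no nontrivial homomorphism to `ℤˣ` (e.g. `G` simple non-abelian),
an involution `t` acting on the cosets of `H` moves a number of cosets divisible by `4`. -/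
theorem four_dvd_index_sub_card_fixedBy {G : Type*} [Group G] [Finite G]
    (hsign : ∀ f : G →* ℤˣ, ∀ g, f g = 1) (H : Subgroup G) (t : G) (ht : t * t = 1) :
    ∃ k : ℕ, H.index = Nat.card (MulAction.fixedBy (G ⧸ H) t) + 4 * k := by
  classical
  haveI : Fintype (G ⧸ H) := Fintype.ofFinite _
  set σ : Equiv.Perm (G ⧸ H) := MulAction.toPermHom G (G ⧸ H) t with hσ
  have hsg : Equiv.Perm.sign σ = 1 :=
    hsign (Equiv.Perm.sign.comp (MulAction.toPermHom G (G ⧸ H))) t
  have hsq : σ ^ 2 = 1 := by
    rw [hσ, ← map_pow, pow_two, ht, map_one]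
  have hfix : Nat.card (MulAction.fixedBy (G ⧸ H) t) = Fintype.card (Function.fixedPoints σ) := by
    rw [Nat.card_eq_fintype_card]
    apply Fintype.card_congr
    exact Equiv.setCongr (by ext x; simp [MulAction.mem_fixedBy, Function.mem_fixedPoints_iff, hσ,
      Function.IsFixedPt])
  have hidx : H.index = Fintype.card (G ⧸ H) := by
    rw [Subgroup.index, Nat.card_eq_fintype_card]
  rw [hfix, hidx, Equiv.Perm.card_fixedPoints]
  have hle := σ.sum_cycleType_le
  by_cases h1 : σ = 1
  · refine ⟨0, ?_⟩
    rw [h1, Equiv.Perm.cycleType_one]; simp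
  · have hord : orderOf σ = 2 := orderOf_eq_prime hsq h1
    have hpr : (orderOf σ).Prime := by rw [hord]; exact Nat.prime_two
    obtain ⟨n, hn⟩ := Equiv.Perm.cycleType_prime_order hpr
    rw [hord] at hn
    have hsum : σ.cycleType.sum = 2 * (n + 1) := by
      rw [hn, Multiset.sum_replicate]; simp [mul_comm]
    have hcard : Multiset.card σ.cycleType = n + 1 := by
      rw [hn, Multiset.card_replicate]
    have hs := Equiv.Perm.sign_of_cycleType σ
    rw [hsg, hsum, hcard] at hs
    have hev : Even (2 * (n + 1) + (n + 1)) := by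
      by_contra hodd
      rw [Nat.not_even_iff_odd] at hodd
      rw [hodd.neg_one_pow] at hs
      exact absurd hs (by decide)
    have hev' : Even (n + 1) := by
      rcases hev with ⟨m, hm⟩
      exact ⟨m - (n + 1), by omega⟩
    obtain ⟨m, hm⟩ := hev'
    refine ⟨m, ?_⟩
    rw [hsum] at hle ⊢
    omega

end Cfsg.Agent.Helper15.NoSimp
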