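import Mathlib
import Cfsg.Agent.Helper15.NoSimp1
import Cfsg.Agent.S1019
import Cfsg.Agent.Helper23.PGroup

set_option autoImplicit false

/-!
More tools for "no simple group of order n" arguments (helper15).
-/

namespace Cfsg.Agent.Helper15.NoSimp

open Subgroup

/-- simple nonabelian: homs into commutative groups are trivial -/
theorem hom_trivial {L : Type*} [Group L] [IsSimpleGroup L] (hL : ¬ IsMulCommutative L)
    (f : L →* ℤˣ) (x : L) : f x = 1 := by
  rcases f.normal_ker.eq_bot_or_eq_top with h | h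
  · exfalso
    apply hL
    refine ⟨⟨fun a b => ?_⟩⟩
    have hinj : Function.Injective f := (MonoidHom.ker_eq_bot_iff f).mp h
    apply hinj
    rw [map_mul, map_mul, mul_comm]
  · have : x ∈ f.ker := by rw [h]; trivial
    exact this

/-- In a simple nonabelian group the centralizer of a nonidentity element is proper. -/
theorem centralizer_singleton_ne_top {L : Type*} [Group L] [IsSimpleGroup L]
    (hL : ¬ IsMulCommutative L) {t : L} (ht : t ≠ 1) : centralizer ({t} : Set L) ≠ ⊤ := by
  intro h
  have hc : t ∈ center L := by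
    rw [Subgroup.mem_center_iff]
    intro g
    have hg : g ∈ centralizer ({t} : Set L) := by rw [h]; trivial
    rw [mem_centralizer_iff] at hg
    exact (hg t rfl).symm
  rcases (inferInstance : (center L).Normal).eq_bot_or_eq_top with h1 | h1
  · rw [h1, mem_bot] at hc; exact ht hc
  · apply hL
    refine ⟨⟨fun a b => ?_⟩⟩
    have : a ∈ center L := by rw [h1]; trivial
    rw [Subgroup.mem_center_iff] at this
    exact (this b).symm

/-- Packaging of the parity lemma with the fixed point formula (S1019). -/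
theorem conj_parity {G : Type*} [Group G] [Finite G]
    (hsign : ∀ f : G →* ℤˣ, ∀ g, f g = 1) (H : Subgroup G) (t : G) (ht : t * t = 1)
    (htH : t ∈ H) :
    ∃ f k : ℕ, H.index = f + 4 * k ∧
      f * Nat.card {g : G // IsConj t g} = H.index * Nat.card {g : G // IsConj t g ∧ g ∈ H} := by
  obtain ⟨k, hk⟩ := four_dvd_index_sub_card_fixedBy hsign H t ht
  exact ⟨_, k, hk, Cfsg.Agent.S1019.result H t htH⟩

/-- A nontrivial normal subgroup of a finite `p`-group contains a central element of order `p`. -/
theorem exists_central_orderOf_eq_prime {Q : Type*} [Group Q] [Finite Q] {p : ℕ} [Fact p.Prime]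
    (hQ : IsPGroup p Q) (N : Subgroup Q) [N.Normal] (hN : N ≠ ⊥) :
    ∃ b : Q, b ∈ N ∧ b ∈ center Q ∧ orderOf b = p := by
  obtain ⟨b, hbN, hbc, hb1⟩ := Cfsg.Agent.Helper23.exists_mem_inf_center_ne_one hQ N hN
  obtain ⟨j, hj⟩ := hQ b
  have hp : p.Prime := Fact.out
  obtain ⟨m, hm⟩ := (Nat.dvd_prime_pow hp).mp (orderOf_dvd_of_pow_eq_one hj)
  have hm0 : m ≠ 0 := by
    rintro rfl
    rw [pow_zero, orderOf_eq_one_iff] at hm
    exact hb1 hm.2
  refine ⟨b ^ p ^ (m - 1), N.pow_mem hbN _, (center Q).pow_mem hbc _, ?_⟩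
  have h1 : p ^ (m - 1) ∣ orderOf b := by
    rw [hm.2]; exact pow_dvd_pow p (Nat.sub_le m 1)
  rw [orderOf_pow_of_dvd (pow_ne_zero _ hp.ne_zero) h1, hm.2]
  have : p ^ m = p ^ (m - 1) * p := by
    rw [← pow_succ]; congr 1; omega
  rw [this, Nat.mul_div_cancel_left _ (pow_pos hp.pos _)]

/-- A subgroup all of whose elements square to one is commutative. -/
theorem comm_of_sq_eq_one {G : Type*} [Group G] (T : Subgroup G) (h : ∀ s ∈ T, s * s = 1)
    {a b : G} (ha : a ∈ T) (hb : b ∈ T) : a * b = b * a := by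
  have h1 := h (a * b) (T.mul_mem ha hb)
  have h2 := h a ha
  have h3 := h b hb
  have ha' : a⁻¹ = a := inv_eq_of_mul_eq_one_left h2
  have hb' : b⁻¹ = b := inv_eq_of_mul_eq_one_left h3
  have : (a * b)⁻¹ = a * b := inv_eq_of_mul_eq_one_left h1
  rw [mul_inv_rev, ha', hb'] at this
  exact this.symm

/-- The four-group `{1, a, b, ab}` generated by two commuting involutions. -/
def kleinSub {G : Type*} [Group G] (a b : G) (ha : a * a = 1) (hb : b * b = 1)
    (hab : a * b = b * a) : Subgroup G where
  carrier := {g | g = 1 ∨ g = a ∨ g = b ∨ g = a * b}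
  one_mem' := Or.inl rfl
  mul_mem' := by
    have e1 : a * (a * b) = b := by rw [← mul_assoc, ha, one_mul]
    have e2 : b * (a * b) = a := by rw [hab, ← mul_assoc, hb, one_mul]
    have e3 : a * b * a = b := by rw [hab, mul_assoc, ha, mul_one]
    have e4 : a * b * b = a := by rw [mul_assoc, hb, mul_one]
    have e5 : a * b * (a * b) = 1 := by rw [← mul_assoc, e3, hb]
    rintro x y (rfl | rfl | rfl | rfl) (rfl | rfl | rfl | rfl) <;>
      simp only [Set.mem_ofPred_eq, one_mul, mul_one, ha, hb, e1, e2, e3, e4, e5, true_or, or_true,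
        ← hab]
  inv_mem' := by
    have ha' : a⁻¹ = a := inv_eq_of_mul_eq_one_left ha
    have hb' : b⁻¹ = b := inv_eq_of_mul_eq_one_left hb
    rintro x (rfl | rfl | rfl | rfl)
    · simp
    · simp [ha']
    · simp [hb']
    · right; right; right
      rw [mul_inv_rev, ha', hb', hab]

theorem mem_kleinSub {G : Type*} [Group G] (a b : G) (ha : a * a = 1) (hb : b * b = 1)
    (hab : a * b = b * a) (g : G) :
    g ∈ kleinSub a b ha hb hab ↔ g = 1 ∨ g = a ∨ g = b ∨ g = a * b := Iff.rfl

theorem card_kleinSub {G : Type*} [Group G] (a b : G) (ha : a * a = 1) (hb : b * b = 1)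
    (hab : a * b = b * a) (ha1 : a ≠ 1) (hb1 : b ≠ 1) (hne : a ≠ b) :
    Nat.card ↥(kleinSub a b ha hb hab) = 4 := by
  classical
  have hab1 : a * b ≠ 1 := by
    intro h
    apply hne
    have : a⁻¹ = a := inv_eq_of_mul_eq_one_left ha
    rw [← this]; exact (eq_inv_of_mul_eq_one_right h).symm ▸ rfl
  have hs : ((kleinSub a b ha hb hab : Subgroup G) : Set G) = ↑({1, a, b, a * b} : Finset G) := by
    ext g
    simp [mem_kleinSub]
  rw [← SetLike.coe_sort_coe, Nat.card_coe_set_eq, hs, Set.ncard_coe_finset]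
  have h3 : b ∉ ({a * b} : Finset G) := by
    simp only [Finset.mem_singleton]
    intro h
    apply ha1
    exact mul_right_cancel (((one_mul b).trans h).symm)
  have h2 : a ∉ ({b, a * b} : Finset G) := by
    simp only [Finset.mem_insert, Finset.mem_singleton, not_or]
    refine ⟨hne, ?_⟩
    intro h
    apply hb1
    exact mul_left_cancel (((mul_one a).trans h).symm)
  have h1 : (1 : G) ∉ ({a, b, a * b} : Finset G) := by
    simp only [Finset.mem_insert, Finset.mem_singleton, not_or]
    exact ⟨ha1.symm, hb1.symm, hab1.symm⟩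
  rw [Finset.card_insert_of_notMem h1, Finset.card_insert_of_notMem h2,
    Finset.card_insert_of_notMem h3, Finset.card_singleton]

end Cfsg.Agent.Helper15.NoSimp
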