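import Mathlib
import Cfsg.Agent.Helper14.Irreducible
import Cfsg.Agent.Helper14.Stability

set_option autoImplicit false
set_option linter.unusedSectionVars false
set_option linter.style.haveILetI false

/-! S1954, part 1: a Frattini argument modulo a normal subgroup with `p`-group quotient, and the
stabilizer of a chain. -/

namespace Cfsg.Agent.Helper15

open Subgroup

variable {p : ℕ} [Fact p.Prime]

/-- Frattini argument: `C ≤ B` normal in `Λ`, `B/C` a `p`-group, `T₁` a Sylow `p`-subgroup: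
`Λ = C · N_Λ(B ∩ T₁)`. -/
theorem exists_mul_mem_normalizer_of_pquot {Λ : Type*} [Group Λ] [Finite Λ]
    (C B : Subgroup Λ) [hCn : C.Normal] [hBn : B.Normal] (hCB : C ≤ B)
    (hp : ∀ b ∈ B, ∃ k : ℕ, b ^ (p ^ k) ∈ C) (T₁ : Sylow p Λ) (x : Λ) :
    ∃ c ∈ C, ∃ y ∈ normalizer (((T₁ : Subgroup Λ) ⊓ B : Subgroup Λ) : Set Λ), x = c * y := by
  have hsurj := QuotientGroup.mk'_surjective C
  have hBbar : IsPGroup p (B.map (QuotientGroup.mk' C)) := by
    rintro ⟨_, ⟨b, hb, rfl⟩⟩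
    obtain ⟨k, hk⟩ := hp b hb
    refine ⟨k, Subtype.ext ?_⟩
    show (QuotientGroup.mk' C b) ^ (p ^ k) = 1
    rw [← map_pow, QuotientGroup.mk'_apply, QuotientGroup.eq_one_iff]
    exact hk
  haveI hBbn : (B.map (QuotientGroup.mk' C)).Normal := hBn.map _ hsurj
  have hle : B.map (QuotientGroup.mk' C) ≤ (T₁ : Subgroup Λ).map (QuotientGroup.mk' C) := by
    have := hBbar.le_sylow_of_normal (T₁.mapSurjective hsurj)
    rwa [Sylow.coe_mapSurjective] at this
  have hBeq : ∀ b ∈ B, ∃ q ∈ (T₁ : Subgroup Λ) ⊓ B, ∃ c ∈ C, b = q * c := by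
    intro b hb
    obtain ⟨t, ht, htb⟩ := hle ⟨b, hb, rfl⟩
    have h1 : t⁻¹ * b ∈ C := by
      rw [QuotientGroup.mk'_apply, QuotientGroup.mk'_apply] at htb
      exact QuotientGroup.eq.mp htb
    refine ⟨t, ⟨ht, ?_⟩, t⁻¹ * b, h1, by group⟩
    have : t = b * (t⁻¹ * b)⁻¹ := by group
    rw [this]
    exact B.mul_mem hb (B.inv_mem (hCB h1))
  have hS := Cfsg.Agent.Helper14.sylow_inf_normal_isSylowIn T₁ B
  have hfr := Sylow.normalizer_sup_eq_top hS.toSylow
  rw [hS.toSylow_map] at hfr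
  have hx : x ∈ normalizer (((T₁ : Subgroup Λ) ⊓ B : Subgroup Λ) : Set Λ) ⊔ B := by
    rw [hfr]; exact mem_top x
  obtain ⟨y', hy', b, hb, rfl⟩ := mem_sup_of_normal_right.mp hx
  obtain ⟨q, hq, c, hc, rfl⟩ := hBeq b hb
  refine ⟨(y' * q) * c * (y' * q)⁻¹, hCn.conj_mem c hc _, y' * q,
    mul_mem hy' (le_normalizer hq), by group⟩

end Cfsg.Agent.Helper15
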