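import Mathlib
import Cfsg.Agent.Helper15.NormFus1
import Cfsg.Agent.Helper11.SylowInter

set_option autoImplicit false
set_option linter.unusedSectionVars false
set_option linter.style.haveILetI false

/-! S1954, part 2: the stabilizer of a chain and the local step. -/

namespace Cfsg.Agent.Helper15

open Subgroup

variable {G : Type*} [Group G]

/-- the elements of `N_G(T)` stabilizing the chain `C` (acting trivially on its factors) -/
def chainStab (T : Subgroup G) (C : ℕ → Subgroup G)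
    (hinv : ∀ i, normalizer (T : Set G) ≤ normalizer ((C i : Subgroup G) : Set G)) : Subgroup G where
  carrier := {y | y ∈ normalizer (T : Set G) ∧ ∀ i, ∀ u ∈ C (i + 1), u * y * u⁻¹ * y⁻¹ ∈ C i}
  one_mem' := ⟨one_mem _, fun i u _ => by simp⟩
  mul_mem' := by
    rintro y z ⟨hy, hy'⟩ ⟨hz, hz'⟩
    refine ⟨mul_mem hy hz, fun i u hu => ?_⟩
    have h1 := hy' i u hu
    have h2 := hz' i u hu
    have h3 : y * (u * z * u⁻¹ * z⁻¹) * y⁻¹ ∈ C i :=
      (mem_normalizer_iff.mp (hinv i hy) _).mp h2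
    have e : u * (y * z) * u⁻¹ * (y * z)⁻¹ = (u * y * u⁻¹ * y⁻¹) * (y * (u * z * u⁻¹ * z⁻¹) * y⁻¹) := by
      group
    rw [e]
    exact mul_mem h1 h3
  inv_mem' := by
    rintro y ⟨hy, hy'⟩
    refine ⟨inv_mem hy, fun i u hu => ?_⟩
    have h1 := inv_mem (hy' i u hu)
    have h3 : y⁻¹ * (u * y * u⁻¹ * y⁻¹)⁻¹ * y⁻¹⁻¹ ∈ C i :=
      (mem_normalizer_iff.mp (hinv i (inv_mem hy)) _).mp h1
    have e : u * y⁻¹ * u⁻¹ * y⁻¹⁻¹ = y⁻¹ * (u * y * u⁻¹ * y⁻¹)⁻¹ * y⁻¹⁻¹ := by group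
    rw [e]
    exact h3

section ChainStab

variable (T : Subgroup G) (C : ℕ → Subgroup G)
  (hinv : ∀ i, normalizer (T : Set G) ≤ normalizer ((C i : Subgroup G) : Set G))

theorem mem_chainStab {y : G} : y ∈ chainStab T C hinv ↔
    y ∈ normalizer (T : Set G) ∧ ∀ i, ∀ u ∈ C (i + 1), u * y * u⁻¹ * y⁻¹ ∈ C i := Iff.rfl

theorem chainStab_le : chainStab T C hinv ≤ normalizer (T : Set G) := fun _ hy => hy.1

theorem normalizer_le_normalizer_chainStab :
    normalizer (T : Set G) ≤ normalizer ((chainStab T C hinv : Subgroup G) : Set G) := by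
  have key : ∀ l ∈ normalizer (T : Set G), ∀ y ∈ chainStab T C hinv,
      l * y * l⁻¹ ∈ chainStab T C hinv := by
    rintro l hl y ⟨hy, hy'⟩
    refine ⟨mul_mem (mul_mem hl hy) (inv_mem hl), fun i u hu => ?_⟩
    have hu' : l⁻¹ * u * l⁻¹⁻¹ ∈ C (i + 1) :=
      (mem_normalizer_iff.mp (hinv (i + 1) (inv_mem hl)) _).mp hu
    have h1 := hy' i _ hu'
    have h2 := (mem_normalizer_iff.mp (hinv i hl) _).mp h1
    have e : u * (l * y * l⁻¹) * u⁻¹ * (l * y * l⁻¹)⁻¹ =
        l * (l⁻¹ * u * l⁻¹⁻¹ * y * (l⁻¹ * u * l⁻¹⁻¹)⁻¹ * y⁻¹) * l⁻¹ := by group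
    rw [e]
    exact h2
  intro l hl
  rw [mem_normalizer_iff]
  intro y
  constructor
  · exact key l hl y
  · intro h
    have := key l⁻¹ (inv_mem hl) _ h
    have e : l⁻¹ * (l * y * l⁻¹) * l⁻¹⁻¹ = y := by group
    rwa [e] at this

theorem centralizer_le_chainStab (hle : ∀ i, C i ≤ T) :
    centralizer (T : Set G) ≤ chainStab T C hinv := by
  intro c hc
  refine ⟨centralizer_le_normalizer _ hc, fun i u hu => ?_⟩
  have h1 : u * c = c * u := mem_centralizer_iff.mp hc u (hle _ hu)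
  have e : u * c * u⁻¹ * c⁻¹ = 1 := by
    rw [h1]; group
  rw [e]
  exact one_mem _

theorem pow_mem_centralizer_of_mem_chainStab {p : ℕ} [Fact p.Prime] [Finite T] (hT : IsPGroup p T)
    (h0 : C 0 = ⊥) (hle : ∀ i, C i ≤ T) (m : ℕ) (hm : C m = T) {y : G}
    (hy : y ∈ chainStab T C hinv) : ∃ k : ℕ, y ^ (p ^ k) ∈ centralizer (T : Set G) := by
  obtain ⟨e, he⟩ := IsPGroup.iff_card.mp hT
  have key := Cfsg.Agent.Helper14.stab_chain y (Nat.card T) m C h0
    (by
      intro i _ u hu k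
      exact (pow_mem hy k).2 i u hu)
    (by
      intro i _ c hc
      have : (⟨c, hle i hc⟩ : T) ^ Nat.card T = 1 := pow_card_eq_one'
      exact congrArg Subtype.val this)
  refine ⟨e * m, ?_⟩
  rw [mem_centralizer_iff]
  intro u hu
  have := key m le_rfl u (hm ▸ hu)
  rw [he, ← pow_mul] at this
  exact this.eq.symm

end ChainStab

end Cfsg.Agent.Helper15
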