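import Mathlib
import Cfsg.Agent.Helper15.NormFus2
import Cfsg.Agent.Helper7.Layer

set_option autoImplicit false
set_option linter.unusedSectionVars false
set_option linter.style.haveILetI false

/-! S1954, part 3: the local step. -/

namespace Cfsg.Agent.Helper15

open Subgroup Cfsg.Agent.Helper14

variable {G : Type*} [Group G]

/-- a chain of strongly closed subgroups of `W`, central in `W` step by step -/
structure SCChain (P W : Subgroup G) where
  /-- the chain -/
  Z : ℕ → Subgroup G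
  /-- its length -/
  m : ℕ
  zero : Z 0 = ⊥
  top : Z m = W
  comm : ∀ i, ∀ u ∈ Z (i + 1), ∀ w ∈ W, u * w * u⁻¹ * w⁻¹ ∈ Z i
  sc : ∀ i, ∀ u ∈ Z i, ∀ g : G, g * u * g⁻¹ ∈ P → g * u * g⁻¹ ∈ Z i

variable {p : ℕ} [Fact p.Prime]

theorem SCChain.sc_top {P W : Subgroup G} (D : SCChain P W) :
    ∀ u ∈ W, ∀ g : G, g * u * g⁻¹ ∈ P → g * u * g⁻¹ ∈ W := by
  intro u hu g hg
  have hu' : u ∈ D.Z D.m := by rw [D.top]; exact hu
  have := D.sc D.m u hu' g hg
  rwa [D.top] at this

theorem local_step [Finite G] (P : Sylow p G) (W : Subgroup G) (hWP : W ≤ (P : Subgroup G))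
    (D : SCChain (P : Subgroup G) W) (T : Subgroup G) (hTP : T ≤ (P : Subgroup G))
    (hext : ¬ p ∣ ((P : Subgroup G) ⊓ normalizer (T : Set G)).relIndex (normalizer (T : Set G)))
    (IH : ∀ U' : Subgroup G, U' ≤ (P : Subgroup G) → Nat.card T < Nat.card U' → ∀ g : G,
      U'.map (cj g) ≤ (P : Subgroup G) →
      ∃ k ∈ normalizer (W : Set G), ∀ a ∈ U', k * a * k⁻¹ = g * a * g⁻¹)
    (x : G) (hx : x ∈ normalizer (T : Set G)) :
    ∃ k ∈ normalizer (W : Set G), ∀ a ∈ T, k * a * k⁻¹ = x * a * x⁻¹ := by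
  have hTp : IsPGroup p T := P.2.to_le hTP
  -- `P` normalizes `W`
  have hPW : ∀ s ∈ (P : Subgroup G), ∀ w ∈ W, s * w * s⁻¹ ∈ W := by
    intro s hs w hw
    exact D.sc_top w hw s (mul_mem (mul_mem hs (hWP hw)) (inv_mem hs))
  -- the chain in `T`
  obtain ⟨C, hCdef⟩ : ∃ C : ℕ → Subgroup G, C = fun i => if i ≤ D.m then T ⊓ D.Z i else T :=
    ⟨_, rfl⟩
  have hC1 : ∀ i, i ≤ D.m → C i = T ⊓ D.Z i := by
    intro i hi; rw [hCdef]; simp [hi]
  have hC2 : ∀ i, ¬ i ≤ D.m → C i = T := by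
    intro i hi; rw [hCdef]; simp [hi]
  have h0 : C 0 = ⊥ := by
    rw [hC1 0 (Nat.zero_le _), D.zero, inf_bot_eq]
  have hle : ∀ i, C i ≤ T := by
    intro i
    by_cases hi : i ≤ D.m
    · rw [hC1 i hi]; exact inf_le_left
    · rw [hC2 i hi]
  have hm : C (D.m + 1) = T := hC2 _ (by omega)
  have hinv : ∀ i, normalizer (T : Set G) ≤ normalizer ((C i : Subgroup G) : Set G) := by
    intro i
    by_cases hi : i ≤ D.m
    · rw [hC1 i hi]
      intro y hy
      apply mem_normalizer_fintype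
      rintro u ⟨huT, huZ⟩
      have h1 : y * u * y⁻¹ ∈ T := (mem_normalizer_iff.mp hy u).mp huT
      exact ⟨h1, D.sc i u huZ y (hTP h1)⟩
    · rw [hC2 i hi]
  -- `N_W(T)` stabilizes the chain
  have hNW : W ⊓ normalizer (T : Set G) ≤ chainStab T C hinv := by
    rintro w ⟨hwW, hwN⟩
    refine ⟨hwN, fun i u hu => ?_⟩
    have huT : u ∈ T := hle _ hu
    have hT1 : u * w * u⁻¹ * w⁻¹ ∈ T := by
      have : w * u⁻¹ * w⁻¹ ∈ T := (mem_normalizer_iff.mp hwN _).mp (inv_mem huT)
      have e : u * w * u⁻¹ * w⁻¹ = u * (w * u⁻¹ * w⁻¹) := by group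
      rw [e]; exact mul_mem huT this
    by_cases hi : i + 1 ≤ D.m
    · rw [hC1 (i + 1) hi] at hu
      rw [hC1 i (by omega)]
      exact ⟨hT1, D.comm i u hu.2 w hwW⟩
    · by_cases hi2 : i ≤ D.m
      · have him : i = D.m := by omega
        rw [hC1 i hi2, him, D.top]
        refine ⟨hT1, ?_⟩
        exact W.mul_mem (hPW u (hTP huT) w hwW) (W.inv_mem hwW)
      · rw [hC2 i hi2]; exact hT1
  -- the Frattini decomposition in `Λ = N_G(T)`
  obtain ⟨L, hL⟩ : ∃ L : Subgroup G, L = normalizer (T : Set G) := ⟨_, rfl⟩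
  have hBL : chainStab T C hinv ≤ L := by rw [hL]; exact chainStab_le T C hinv
  have hCL : centralizer (T : Set G) ≤ L := by
    rw [hL]; exact fun c hc => centralizer_le_normalizer _ hc
  haveI hCn : ((centralizer (T : Set G)).subgroupOf L).Normal := by
    rw [hL]; infer_instance
  haveI hBn : ((chainStab T C hinv).subgroupOf L).Normal := by
    rw [normal_subgroupOf_iff_le_normalizer hBL, hL]
    exact normalizer_le_normalizer_chainStab T C hinv
  have hT₁p : IsPGroup p (((P : Subgroup G) ⊓ L).subgroupOf L) :=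
    (P.2.to_le inf_le_left).comap_subtype
  have hidx : ¬ p ∣ (((P : Subgroup G) ⊓ L).subgroupOf L).index := by
    rw [hL]; exact hext
  have hxL : x ∈ L := hL ▸ hx
  obtain ⟨c, hc, y, hy, hxy⟩ := exists_mul_mem_normalizer_of_pquot
    ((centralizer (T : Set G)).subgroupOf L) ((chainStab T C hinv).subgroupOf L)
    (by
      intro z hz
      rw [mem_subgroupOf] at hz ⊢
      exact centralizer_le_chainStab T C hinv hle hz)
    (by
      intro b hb
      rw [mem_subgroupOf] at hb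
      obtain ⟨k, hk⟩ := pow_mem_centralizer_of_mem_chainStab T C hinv hTp h0 hle (D.m + 1) hm hb
      refine ⟨k, ?_⟩
      rw [mem_subgroupOf]
      push_cast
      exact hk)
    (hT₁p.toSylow hidx) (⟨x, hxL⟩ : L)
  rw [IsPGroup.toSylow_coe] at hy
  have hcT : (c : G) ∈ centralizer (T : Set G) := by
    rwa [mem_subgroupOf] at hc
  have hxy' : x = (c : G) * (y : G) := congrArg Subtype.val hxy
  have hyT : (y : G) ∈ normalizer (T : Set G) := hL ▸ y.2
  -- `Q' = N_P(T) ∩ B`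
  obtain ⟨Q', hQ'⟩ : ∃ Q' : Subgroup G, Q' = ((P : Subgroup G) ⊓ L) ⊓ chainStab T C hinv := ⟨_, rfl⟩
  have hQ'P : Q' ≤ (P : Subgroup G) := hQ' ▸ inf_le_left.trans inf_le_left
  have hyQ' : ∀ q ∈ Q', (y : G) * q * (y : G)⁻¹ ∈ Q' := by
    intro q hq
    rw [hQ'] at hq
    have hqL : q ∈ L := hq.1.2
    have h1 : (⟨q, hqL⟩ : L) ∈ ((P : Subgroup G) ⊓ L).subgroupOf L ⊓
        (chainStab T C hinv).subgroupOf L := by
      refine ⟨?_, ?_⟩
      · exact mem_subgroupOf.mpr hq.1
      · exact mem_subgroupOf.mpr hq.2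
    have h2 := (mem_normalizer_iff.mp hy _).mp h1
    rw [hQ']
    refine ⟨?_, ?_⟩
    · exact mem_subgroupOf.mp h2.1
    · exact mem_subgroupOf.mp h2.2
  have hxa : ∀ a ∈ T, x * a * x⁻¹ = (y : G) * a * (y : G)⁻¹ := by
    intro a ha
    have h1 : (y : G) * a * (y : G)⁻¹ ∈ T := (mem_normalizer_iff.mp hyT a).mp ha
    have h2 := mem_centralizer_iff.mp hcT _ h1
    rw [hxy']
    calc (c : G) * (y : G) * a * ((c : G) * (y : G))⁻¹
        = ((c : G) * ((y : G) * a * (y : G)⁻¹)) * (c : G)⁻¹ := by group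
      _ = (((y : G) * a * (y : G)⁻¹) * (c : G)) * (c : G)⁻¹ := by rw [h2]
      _ = (y : G) * a * (y : G)⁻¹ := by group
  by_cases hcase : Q' ≤ T
  · -- `W ≤ T`, so `x` normalizes `W`
    have hNWT : W ⊓ normalizer (T : Set G) ≤ T := by
      refine le_trans ?_ hcase
      rw [hQ']
      intro w hw
      exact ⟨⟨hWP hw.1, hL ▸ hw.2⟩, hNW hw⟩
    have hWT : W ≤ T := by
      by_contra hcon
      have hlt : T < T ⊔ W := lt_of_le_of_ne le_sup_left (fun h => hcon (h ▸ le_sup_right))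
      have hTWp : IsPGroup p (T ⊔ W : Subgroup G) := P.2.to_le (sup_le hTP hWP)
      have h1 := Cfsg.Agent.Helper11.lt_inf_normalizer (T ⊔ W) T hTWp hlt
      obtain ⟨z, hz, hzT⟩ := SetLike.exists_of_lt h1
      have hTW : T ≤ normalizer (W : Set G) := by
        intro t ht
        apply mem_normalizer_fintype
        intro w hw
        exact hPW t (hTP ht) w hw
      have hz1 : z ∈ W ⊔ T := by rw [sup_comm]; exact hz.1
      obtain ⟨w, hw, t, ht, rfl⟩ := (Cfsg.Agent.Helper7.mem_sup_of_le_normalizer hTW).mp hz1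
      apply hzT
      refine mul_mem ?_ ht
      apply hNWT
      refine ⟨hw, ?_⟩
      have : w = (w * t) * t⁻¹ := by group
      rw [this]
      exact Subgroup.mul_mem _ hz.2 (Subgroup.inv_mem _ (le_normalizer ht))
    refine ⟨x, ?_, fun a _ => rfl⟩
    apply mem_normalizer_fintype
    intro w hw
    apply D.sc_top w hw x
    apply hTP
    exact (mem_normalizer_iff.mp hx w).mp (hWT hw)
  · -- enlarge `T`
    have hlt : T < T ⊔ Q' := lt_of_le_of_ne le_sup_left (fun h => hcase (h ▸ le_sup_right))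
    have hcard : Nat.card T < Nat.card (T ⊔ Q' : Subgroup G) := by
      by_contra hcon
      push Not at hcon
      exact hlt.ne (Subgroup.eq_of_le_of_card_ge hlt.le hcon)
    have hmap : (T ⊔ Q').map (cj (y : G)) ≤ (P : Subgroup G) := by
      rw [Subgroup.map_sup]
      apply sup_le
      · rintro _ ⟨a, ha, rfl⟩
        exact hTP ((mem_normalizer_iff.mp hyT a).mp ha)
      · rintro _ ⟨q, hq, rfl⟩
        exact hQ'P (hyQ' q hq)
    obtain ⟨k, hk, hka⟩ := IH (T ⊔ Q') (sup_le hTP hQ'P) hcard (y : G) hmap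
    exact ⟨k, hk, fun a ha => (hka a (le_sup_left (a := T) ha)).trans (hxa a ha).symm⟩

end Cfsg.Agent.Helper15
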