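import Mathlib
import Cfsg.Agent.Helper15.NormFus3
import Cfsg.Agent.Helper15.KChar1

set_option autoImplicit false
set_option linter.unusedSectionVars false
set_option linter.style.haveILetI false

/-! S1954, part 4: simultaneous control and the chain of strongly closed subgroups. -/

namespace Cfsg.Agent.Helper15

open Subgroup Cfsg.Agent.Helper14

variable {G : Type*} [Group G]

/-- `N_N(U)` controls strong fusion in `R` with respect to `N` -/
def Ctrl (N R U : Subgroup G) : Prop :=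
  ∀ A : Subgroup G, A ≤ R → ∀ n ∈ N, A.map (cj n) ≤ R →
    ∃ h ∈ N ⊓ normalizer (U : Set G), ∃ c ∈ N ⊓ centralizer (A : Set G), n = h * c

theorem Ctrl.conj {N R U : Subgroup G} [hN : N.Normal] (h : Ctrl N R U) {m : G}
    (hm : m ∈ normalizer (R : Set G)) : Ctrl N R (U.map (cj m)) := by
  intro A hA n hn hAn
  have hmR' : ∀ r, r ∈ R ↔ m⁻¹ * r * m⁻¹⁻¹ ∈ R := fun r => mem_normalizer_iff.mp (inv_mem hm) r
  have hA' : A.map (cj m⁻¹) ≤ R := by
    rintro _ ⟨a, ha, rfl⟩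
    exact (hmR' a).mp (hA ha)
  have hn' : m⁻¹ * n * m ∈ N := by
    have := hN.conj_mem n hn m⁻¹
    simpa using this
  have hAn' : (A.map (cj m⁻¹)).map (cj (m⁻¹ * n * m)) ≤ R := by
    rintro _ ⟨_, ⟨a, ha, rfl⟩, rfl⟩
    have h1 : n * a * n⁻¹ ∈ R := hAn ⟨a, ha, rfl⟩
    have h2 := (hmR' _).mp h1
    have e : cj (m⁻¹ * n * m) (cj m⁻¹ a) = m⁻¹ * (n * a * n⁻¹) * m⁻¹⁻¹ := by
      simp only [cj_apply]; group
    rw [e]; exact h2
  obtain ⟨h', hh', c', hc', hnhc⟩ := h _ hA' _ hn' hAn'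
  refine ⟨m * h' * m⁻¹, ⟨hN.conj_mem h' hh'.1 m, ?_⟩, m * c' * m⁻¹,
    ⟨hN.conj_mem c' hc'.1 m, ?_⟩, ?_⟩
  · show m * h' * m⁻¹ ∈ normalizer ((U.map (cj m) : Subgroup G) : Set G)
    rw [mem_normalizer_iff_map_cj, map_cj_mul]
    have e : m * h' * m⁻¹ * m = m * h' := by group
    rw [e, ← map_cj_mul, mem_normalizer_iff_map_cj.mp hh'.2]
  · show m * c' * m⁻¹ ∈ centralizer (A : Set G)
    rw [mem_centralizer_iff]
    intro a ha
    have hb : cj m⁻¹ a ∈ ((A.map (cj m⁻¹) : Subgroup G) : Set G) := ⟨a, ha, rfl⟩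
    have h3 := mem_centralizer_iff.mp hc'.2 _ hb
    simp only [cj_apply, inv_inv] at h3
    calc a * (m * c' * m⁻¹) = m * (m⁻¹ * a * m * c') * m⁻¹ := by group
      _ = m * (c' * (m⁻¹ * a * m)) * m⁻¹ := by rw [h3]
      _ = m * c' * m⁻¹ * a := by group
  · have : n = m * (m⁻¹ * n * m) * m⁻¹ := by group
    rw [this, hnhc]; group

/-- simultaneous control for a list of controlling subgroups -/
theorem multi_ctrl {N R : Subgroup G} (l : List (Subgroup G))
    (hl : ∀ U ∈ l, U ≤ R ∧ Ctrl N R U) :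
    ∀ A : Subgroup G, A ≤ R → ∀ n ∈ N, A.map (cj n) ≤ R →
      ∃ h ∈ N, (∀ U ∈ l, h ∈ normalizer (U : Set G)) ∧
        ∃ c ∈ N ⊓ centralizer (A : Set G), n = h * c := by
  induction l with
  | nil =>
    intro A hA n hn _
    exact ⟨n, hn, by simp, 1, one_mem _, by simp⟩
  | cons U₀ l ih =>
    intro A hA n hn hAn
    have hU₀ := hl U₀ List.mem_cons_self
    obtain ⟨h₀, hh₀, c₀, hc₀, hn0⟩ := hU₀.2 A hA n hn hAn
    have hA₁ : A ⊔ U₀ ≤ R := sup_le hA hU₀.1
    have hA₁n : (A ⊔ U₀).map (cj h₀) ≤ R := by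
      rw [Subgroup.map_sup]
      apply sup_le
      · rintro _ ⟨a, ha, rfl⟩
        have h1 : n * a * n⁻¹ ∈ R := hAn ⟨a, ha, rfl⟩
        have h2 : a * c₀ = c₀ * a := mem_centralizer_iff.mp hc₀.2 a ha
        have e : n * a * n⁻¹ = h₀ * a * h₀⁻¹ := by
          rw [hn0]
          calc h₀ * c₀ * a * (h₀ * c₀)⁻¹ = h₀ * (c₀ * a) * c₀⁻¹ * h₀⁻¹ := by group
            _ = h₀ * (a * c₀) * c₀⁻¹ * h₀⁻¹ := by rw [h2]
            _ = h₀ * a * h₀⁻¹ := by group
        rw [e] at h1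
        exact h1
      · rw [mem_normalizer_iff_map_cj.mp hh₀.2]; exact hU₀.1
    obtain ⟨h₁, hh₁, hh₁l, c₁, hc₁, hh01⟩ :=
      ih (fun U hU => hl U (List.mem_cons_of_mem _ hU)) _ hA₁ h₀ hh₀.1 hA₁n
    have hc₁U : c₁ ∈ centralizer (U₀ : Set G) :=
      centralizer_le (SetLike.coe_subset_coe.mpr (le_sup_right : U₀ ≤ A ⊔ U₀)) hc₁.2
    have hc₁A : c₁ ∈ centralizer (A : Set G) :=
      centralizer_le (SetLike.coe_subset_coe.mpr (le_sup_left : A ≤ A ⊔ U₀)) hc₁.2
    refine ⟨h₁, hh₁, ?_, c₁ * c₀, ⟨mul_mem hc₁.1 hc₀.1, mul_mem hc₁A hc₀.2⟩, ?_⟩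
    · intro U hU
      rcases List.mem_cons.mp hU with rfl | hU
      · have e : h₁ = h₀ * c₁⁻¹ := by rw [hh01]; group
        rw [e]
        exact mul_mem hh₀.2 (inv_mem (centralizer_le_normalizer _ hc₁U))
      · exact hh₁l U hU
    · rw [hn0, hh01]; group

/-- an element conjugating a generating set into the closure normalizes the closure -/
theorem mem_normalizer_closure [Finite G] {S : Set G} {h : G}
    (hS : ∀ s ∈ S, h * s * h⁻¹ ∈ closure S) : h ∈ normalizer ((closure S : Subgroup G) : Set G) := by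
  apply mem_normalizer_fintype
  intro w hw
  rw [SetLike.mem_coe] at hw ⊢
  induction hw using closure_induction with
  | mem x hx => exact hS x hx
  | one => simp
  | mul x y _ _ hx hy =>
    have e : h * (x * y) * h⁻¹ = (h * x * h⁻¹) * (h * y * h⁻¹) := by group
    rw [e]; exact mul_mem hx hy
  | inv x _ hx =>
    have e : h * x⁻¹ * h⁻¹ = (h * x * h⁻¹)⁻¹ := by group
    rw [e]; exact inv_mem hx

variable {p : ℕ} [Fact p.Prime]

/-- the three facts about `W` used later -/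
theorem W_facts [Finite G] (N : Subgroup G) [hN : N.Normal] (R : Subgroup G) (V : Subgroup G)
    (hV : V ≤ R) (hctrl : Ctrl N R V)
    (W : Subgroup G) (hW : W = Subgroup.closure (⋃ x ∈ Subgroup.normalizer ((R : Subgroup G) : Set G),
      ((V.map (cj x) : Subgroup G) : Set G))) :
    W ≤ R ∧ normalizer (R : Set G) ≤ normalizer (W : Set G) ∧
    ∀ A : Subgroup G, A ≤ R → ∀ n ∈ N, A.map (cj n) ≤ R →
      ∃ h ∈ N ⊓ normalizer (W : Set G), ∃ c ∈ N ⊓ centralizer (A : Set G), n = h * c := by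
  have hVm : ∀ m ∈ normalizer (R : Set G), V.map (cj m) ≤ R := by
    rintro m hm _ ⟨v, hv, rfl⟩
    exact (mem_normalizer_iff.mp hm v).mp (hV hv)
  refine ⟨?_, ?_, ?_⟩
  · rw [hW, closure_le]
    intro s hs
    simp only [Set.mem_iUnion] at hs
    obtain ⟨m, hm, hs⟩ := hs
    exact hVm m hm hs
  · intro m' hm'
    rw [hW]
    apply mem_normalizer_closure
    intro s hs
    simp only [Set.mem_iUnion] at hs
    obtain ⟨m, hm, hs⟩ := hs
    apply Subgroup.subset_closure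
    simp only [Set.mem_iUnion]
    refine ⟨m' * m, mul_mem hm' hm, ?_⟩
    rw [← map_cj_mul]
    exact ⟨s, hs, rfl⟩
  · intro A hA n hn hAn
    haveI := Fintype.ofFinite G
    classical
    obtain ⟨l, hl⟩ : ∃ l : List (Subgroup G), l =
        ((Finset.univ : Finset G).filter (fun m => m ∈ normalizer (R : Set G))).toList.map
          (fun m => V.map (cj m)) := ⟨_, rfl⟩
    have hlmem : ∀ U, U ∈ l ↔ ∃ m ∈ normalizer (R : Set G), V.map (cj m) = U := by
      intro U
      rw [hl, List.mem_map]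
      constructor
      · rintro ⟨m, hm, rfl⟩
        rw [Finset.mem_toList, Finset.mem_filter] at hm
        exact ⟨m, hm.2, rfl⟩
      · rintro ⟨m, hm, rfl⟩
        exact ⟨m, by rw [Finset.mem_toList, Finset.mem_filter]; exact ⟨Finset.mem_univ _, hm⟩, rfl⟩
    obtain ⟨h, hh, hhl, c, hc, hnhc⟩ := multi_ctrl (N := N) (R := R) l
      (by
        intro U hU
        obtain ⟨m, hm, rfl⟩ := (hlmem U).mp hU
        exact ⟨hVm m hm, hctrl.conj hm⟩) A hA n hn hAn
    refine ⟨h, ⟨hh, ?_⟩, c, hc, hnhc⟩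
    rw [hW]
    apply mem_normalizer_closure
    intro s hs
    simp only [Set.mem_iUnion] at hs
    obtain ⟨m, hm, hs⟩ := hs
    apply Subgroup.subset_closure
    simp only [Set.mem_iUnion]
    refine ⟨m, hm, ?_⟩
    have := hhl (V.map (cj m)) ((hlmem _).mpr ⟨m, hm, rfl⟩)
    exact (mem_normalizer_iff.mp this s).mp hs

/-- subgroups of `W` normalized by `N_G(W)` are strongly closed in `P` -/
theorem sc_of_normalized [Finite G] (N : Subgroup G) [hN : N.Normal] (P : Sylow p G)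
    (W : Subgroup G) (hWR : W ≤ (P : Subgroup G) ⊓ N)
    (hMW : normalizer ((((P : Subgroup G) ⊓ N : Subgroup G)) : Set G) ≤ normalizer (W : Set G))
    (hmc : ∀ A : Subgroup G, A ≤ (P : Subgroup G) ⊓ N → ∀ n ∈ N,
      A.map (cj n) ≤ (P : Subgroup G) ⊓ N →
      ∃ h ∈ N ⊓ normalizer (W : Set G), ∃ c ∈ N ⊓ centralizer (A : Set G), n = h * c)
    (Z : Subgroup G) (hZW : Z ≤ W) (hZ : normalizer (W : Set G) ≤ normalizer (Z : Set G)) :
    ∀ u ∈ Z, ∀ g : G, g * u * g⁻¹ ∈ (P : Subgroup G) → g * u * g⁻¹ ∈ Z := by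
  intro u hu g hg
  have huR : u ∈ (P : Subgroup G) ⊓ N := hWR (hZW hu)
  have hgR : g * u * g⁻¹ ∈ (P : Subgroup G) ⊓ N := ⟨hg, hN.conj_mem u huR.2 g⟩
  -- Frattini
  have hS := Cfsg.Agent.Helper14.sylow_inf_normal_isSylowIn P N
  have hfr := Sylow.normalizer_sup_eq_top hS.toSylow
  rw [hS.toSylow_map] at hfr
  have hgtop : g ∈ normalizer ((((P : Subgroup G) ⊓ N : Subgroup G)) : Set G) ⊔ N := by
    rw [hfr]; exact mem_top g
  obtain ⟨m, hm, n, hn, rfl⟩ := mem_sup_of_normal_right.mp hgtop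
  have hnR : n * u * n⁻¹ ∈ (P : Subgroup G) ⊓ N := by
    have := (mem_normalizer_iff.mp (inv_mem hm) _).mp hgR
    have e : m⁻¹ * (m * n * u * (m * n)⁻¹) * m⁻¹⁻¹ = n * u * n⁻¹ := by group
    rwa [e] at this
  have hA : zpowers u ≤ (P : Subgroup G) ⊓ N := zpowers_le.mpr huR
  have hAn : (zpowers u).map (cj n) ≤ (P : Subgroup G) ⊓ N := by
    rw [MonoidHom.map_zpowers, zpowers_le]
    exact hnR
  obtain ⟨h, hh, c, hc, rfl⟩ := hmc _ hA n hn hAn
  have hcu : u * c = c * u := mem_centralizer_iff.mp hc.2 u (mem_zpowers u)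
  have e : m * (h * c) * u * (m * (h * c))⁻¹ = (m * h) * u * (m * h)⁻¹ := by
    calc m * (h * c) * u * (m * (h * c))⁻¹ = m * h * (c * u) * c⁻¹ * h⁻¹ * m⁻¹ := by group
      _ = m * h * (u * c) * c⁻¹ * h⁻¹ * m⁻¹ := by rw [hcu]
      _ = (m * h) * u * (m * h)⁻¹ := by group
  rw [e]
  have hmh : m * h ∈ normalizer (Z : Set G) := hZ (mul_mem (hMW hm) hh.2)
  exact (mem_normalizer_iff.mp hmh u).mp hu

/-- the chain of strongly closed subgroups -/
theorem exists_scChain [Finite G] (N : Subgroup G) [hN : N.Normal] (P : Sylow p G)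
    (W : Subgroup G) (hWR : W ≤ (P : Subgroup G) ⊓ N)
    (hMW : normalizer ((((P : Subgroup G) ⊓ N : Subgroup G)) : Set G) ≤ normalizer (W : Set G))
    (hmc : ∀ A : Subgroup G, A ≤ (P : Subgroup G) ⊓ N → ∀ n ∈ N,
      A.map (cj n) ≤ (P : Subgroup G) ⊓ N →
      ∃ h ∈ N ⊓ normalizer (W : Set G), ∃ c ∈ N ⊓ centralizer (A : Set G), n = h * c) :
    Nonempty (SCChain (P : Subgroup G) W) := by
  have hWp : IsPGroup p W := P.2.to_le (hWR.trans inf_le_left)
  haveI : Group.IsNilpotent W := hWp.isNilpotent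
  obtain ⟨m, hm⟩ := Group.IsNilpotent.nilpotent' (G := W)
  refine ⟨{
    Z := fun i => (Subgroup.upperCentralSeries W i).map W.subtype
    m := m
    zero := by
      show (Subgroup.upperCentralSeries W 0).map W.subtype = ⊥
      rw [Subgroup.upperCentralSeries_zero, Subgroup.map_bot]
    top := by
      show (Subgroup.upperCentralSeries W m).map W.subtype = W
      rw [hm, ← MonoidHom.range_eq_map, Subgroup.range_subtype]
    comm := ?_
    sc := ?_ }⟩
  · rintro i _ ⟨u, hu, rfl⟩ w hw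
    have := Subgroup.mem_upperCentralSeries_succ_iff.mp hu ⟨w, hw⟩
    exact ⟨_, this, rfl⟩
  · intro i
    apply sc_of_normalized N P W hWR hMW hmc
    · exact (Subgroup.map_subtype_le _)
    · have := normalizer_range_le_normalizer_map W.subtype W.subtype_injective
        (Subgroup.upperCentralSeries W i) inferInstance
      rwa [Subgroup.range_subtype] at this

end Cfsg.Agent.Helper15
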