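import Mathlib
import Cfsg.Agent.Helper15.NormFus4
import Cfsg.Agent.Helper10.ConjFamily
import Cfsg.Agent.Helper10.WellPlaced

set_option autoImplicit false
set_option linter.unusedSectionVars false
set_option linter.style.haveILetI false

/-! S1954, part 5: the global induction. -/

namespace Cfsg.Agent.Helper15

open Subgroup Cfsg.Agent.Helper14 Cfsg.Agent.Helper10

variable {G : Type*} [Group G] {p : ℕ} [Fact p.Prime]

/-- the family of extremal subgroups satisfies the hypothesis of the Alperin-type theorem -/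
theorem ext_family_hyp [Finite G] (P : Sylow p G) :
    ∀ T : Subgroup G, T ≤ (P : Subgroup G) →
      ∃ U ∈ {T : Subgroup G | T ≤ (P : Subgroup G) ∧ IsExt p (P : Subgroup G) T},
      (∃ g : G, T.map (MulAut.conj g).toMonoidHom = U) ∧
      ¬ p ∣ ((P : Subgroup G) ⊓ Subgroup.normalizer ((U : Subgroup G) : Set G)).relIndex
        (Subgroup.normalizer ((U : Subgroup G) : Set G)) := by
  intro T hT
  obtain ⟨x, hx1, hx2⟩ := exists_isExt_conj P T
  refine ⟨T.map (cj x), ⟨?_, hx2⟩, ⟨x, rfl⟩, hx2⟩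
  exact (Subgroup.map_mono (le_inf hT le_normalizer)).trans hx1

/-- folding a decomposition -/
theorem fold_dec [Finite G] (P : Sylow p G) (W : Subgroup G)
    (c : ℕ)
    (hstep : ∀ T : Subgroup G, T ≤ (P : Subgroup G) → IsExt p (P : Subgroup G) T →
      c ≤ Nat.card T → ∀ x ∈ normalizer (T : Set G),
      ∃ k ∈ normalizer (W : Set G), ∀ a ∈ T, k * a * k⁻¹ = x * a * x⁻¹)
    (l : List (Subgroup G × G)) :
    ∀ U : Subgroup G, Nat.card U = c →
      Dec {T : Subgroup G | T ≤ (P : Subgroup G) ∧ IsExt p (P : Subgroup G) T} (U : Set G) l →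
      ∃ z ∈ normalizer (W : Set G), ∀ a ∈ U, z⁻¹ * a * z = (lprod l)⁻¹ * a * lprod l := by
  induction l with
  | nil =>
    intro U _ _
    exact ⟨1, one_mem _, fun a _ => by simp [lprod_nil]⟩
  | cons b l ih =>
    obtain ⟨T, x⟩ := b
    intro U hU hd
    obtain ⟨hT, hxT, hUT, hd'⟩ := hd
    rw [rc_coe] at hd'
    obtain ⟨z', hz', hz'A⟩ := ih (U.map (cj x⁻¹)) (by rw [card_map_cj, hU]) hd'
    have hUT' : U ≤ T := hUT
    have hcT : c ≤ Nat.card T := hU ▸ Subgroup.card_le_of_le hUT'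
    obtain ⟨k, hk, hka⟩ := hstep T hT.1 hT.2 hcT x⁻¹ (inv_mem hxT)
    refine ⟨k⁻¹ * z', mul_mem (inv_mem hk) hz', ?_⟩
    intro a ha
    have h1 := hka a (hUT' ha)
    have h2 := hz'A (x⁻¹ * a * x) ⟨a, ha, by simp⟩
    rw [lprod_cons]
    have e1 : (k⁻¹ * z')⁻¹ * a * (k⁻¹ * z') = z'⁻¹ * (k * a * k⁻¹) * z' := by group
    have e2 : (x * lprod l)⁻¹ * a * (x * lprod l) = (lprod l)⁻¹ * (x⁻¹ * a * x) * lprod l := by group
    rw [e1, e2, h1, ← h2]
    simp

/-- global control from a chain of strongly closed subgroups -/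
theorem global_control [Finite G] (P : Sylow p G) (W : Subgroup G) (hWP : W ≤ (P : Subgroup G))
    (D : SCChain (P : Subgroup G) W) :
    ∀ (n : ℕ) (U : Subgroup G), U ≤ (P : Subgroup G) →
      Nat.card (P : Subgroup G) - Nat.card U = n → ∀ g : G, U.map (cj g) ≤ (P : Subgroup G) →
      ∃ k ∈ normalizer (W : Set G), ∀ a ∈ U, k * a * k⁻¹ = g * a * g⁻¹ := by
  intro n
  induction n using Nat.strong_induction_on with
  | _ n ih =>
  intro U hUP hn g hg
  have hstep : ∀ T : Subgroup G, T ≤ (P : Subgroup G) → IsExt p (P : Subgroup G) T →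
      Nat.card U ≤ Nat.card T → ∀ x ∈ normalizer (T : Set G),
      ∃ k ∈ normalizer (W : Set G), ∀ a ∈ T, k * a * k⁻¹ = x * a * x⁻¹ := by
    intro T hTP hext hcard x hx
    apply local_step P W hWP D T hTP hext _ x hx
    intro U' hU'P hlt g' hg'
    have hU'le : Nat.card U' ≤ Nat.card (P : Subgroup G) := Subgroup.card_le_of_le hU'P
    exact ih (Nat.card (P : Subgroup G) - Nat.card U') (by omega) U' hU'P rfl g' hg'
  have hAg : rc g⁻¹ (U : Set G) ⊆ (P : Subgroup G) := by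
    rintro _ ⟨a, ha, rfl⟩
    have h1 : g * a * g⁻¹ ∈ (P : Subgroup G) := hg ⟨a, ha, rfl⟩
    show g⁻¹⁻¹ * a * g⁻¹ ∈ (P : Subgroup G)
    rw [inv_inv]
    exact h1
  obtain ⟨l, hl, hlp⟩ := exists_dec_of_extremal_set P
    {T : Subgroup G | T ≤ (P : Subgroup G) ∧ IsExt p (P : Subgroup G) T} (fun T hT => hT.1)
    (ext_family_hyp P) (U : Set G) g⁻¹ hUP hAg
  obtain ⟨z, hz, hzA⟩ := fold_dec P W (Nat.card U) hstep l U rfl hl
  refine ⟨z⁻¹, inv_mem hz, ?_⟩
  intro a ha
  have := hzA a ha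
  rw [hlp] at this
  simpa using this

end Cfsg.Agent.Helper15
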