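import Mathlib
import Cfsg.Agent.Helper5.ConjAct

set_option autoImplicit false

/-!
General counting lemmas for the function "number of elements of order `n`" of a finite group.
-/

namespace Cfsg.Agent.Helper15.Nse

open Equiv Equiv.Perm

/-- number of elements of order `n` -/
noncomputable def cnt (G : Type*) [Group G] (n : ℕ) : ℕ := Nat.card {g : G // orderOf g = n}

theorem cnt_def (G : Type*) [Group G] (n : ℕ) : cnt G n = Nat.card {g : G // orderOf g = n} := rfl

section
variable {G : Type*} [Group G]

/-- the number of solutions of `x ^ p = 1` is divisible by `p` (Cauchy / Frobenius, prime case) -/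
theorem dvd_card_pow_eq_one [Fintype G] [DecidableEq G] (p : ℕ) [hp : Fact p.Prime]
    (hdvd : p ∣ Fintype.card G) : p ∣ Fintype.card {g : G // g ^ p = 1} := by
  have hp' : p - 1 ≠ 0 := mt tsub_eq_zero_iff_le.mp (not_le_of_gt hp.out.one_lt)
  have Scard :=
    calc
      p ∣ Fintype.card G ^ (p - 1) := hdvd.trans (dvd_pow (dvd_refl _) hp')
      _ = Fintype.card (vectorsProdEqOne G p) := (VectorsProdEqOne.card G p).symm
  let f : ℕ → vectorsProdEqOne G p → vectorsProdEqOne G p := fun k v =>
    VectorsProdEqOne.rotate v k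
  have hf1 : ∀ v, f 0 v = v := VectorsProdEqOne.rotate_zero
  have hf2 : ∀ j k v, f k (f j v) = f (j + k) v := fun j k v =>
    VectorsProdEqOne.rotate_rotate v j k
  have hf3 : ∀ v, f p v = v := VectorsProdEqOne.rotate_length
  let σ : Perm (vectorsProdEqOne G p) :=
    Equiv.mk (f 1) (f (p - 1)) (fun s => by rw [hf2, add_tsub_cancel_of_le hp.out.one_lt.le, hf3])
      fun s => by rw [hf2, tsub_add_cancel_of_le hp.out.one_lt.le, hf3]
  have hσ : ∀ k v, (σ ^ k) v = f k v := fun k =>
    Nat.rec (fun v => (hf1 v).symm) (fun k hk v => by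
      rw [pow_succ, Perm.mul_apply, hk (σ v), Nat.succ_eq_one_add, ← hf2 1 k]
      simp only [σ, coe_fn_mk]) k
  replace hσ : σ ^ p ^ 1 = 1 := Perm.ext fun v => by rw [pow_one, hσ, hf3, one_apply]
  have hmod := card_compl_support_modEq hσ
  have hfix : p ∣ σ.supportᶜ.card :=
    (Nat.modEq_zero_iff_dvd).mp (hmod.trans ((Nat.modEq_zero_iff_dvd).mpr Scard))
  -- the fixed points are the constant vectors
  let φ : {g : G // g ^ p = 1} → vectorsProdEqOne G p := fun g =>
    ⟨List.Vector.replicate p g.1, by
      show (List.replicate p g.1).prod = 1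
      rw [List.prod_replicate]; exact g.2⟩
  have hφinj : Function.Injective φ := by
    intro a b hab
    have h1 : (List.replicate p a.1) = List.replicate p b.1 := by
      have := congrArg (fun v : vectorsProdEqOne G p => v.1.1) hab
      exact this
    have h2 := (List.replicate_right_inj (n := p) hp.out.ne_zero).mp h1
    exact Subtype.ext h2
  have himg : (Finset.univ.image φ) = σ.supportᶜ := by
    ext v
    simp only [Finset.mem_image, Finset.mem_univ, true_and, Finset.mem_compl, mem_support,
      Classical.not_not]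
    constructor
    · rintro ⟨g, rfl⟩
      exact Subtype.ext (Subtype.ext (List.rotate_replicate g.1 p 1))
    · intro hv
      have h1 : v.1.1.rotate 1 = v.1.1 := by
        have := congrArg (fun v : vectorsProdEqOne G p => v.1.1) hv
        exact this
      obtain ⟨g, hg⟩ := List.rotate_one_eq_self_iff_eq_replicate.mp h1
      have hlen : v.1.1.length = p := v.1.2
      rw [hlen] at hg
      have hprod : v.1.1.prod = 1 := v.2
      refine ⟨⟨g, ?_⟩, ?_⟩
      · rw [hg, List.prod_replicate] at hprod
        exact hprod
      · apply Subtype.ext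
        apply Subtype.ext
        exact hg.symm
  rw [← himg, Finset.card_image_of_injective _ hφinj, Finset.card_univ] at hfix
  exact hfix

/-- `p ∣ 1 + #{elements of order p}` -/
theorem dvd_cnt_add_one [Finite G] (p : ℕ) [hp : Fact p.Prime] (hdvd : p ∣ Nat.card G) :
    p ∣ cnt G p + 1 := by
  classical
  have := Fintype.ofFinite G
  rw [Nat.card_eq_fintype_card] at hdvd
  have h1 := dvd_card_pow_eq_one p hdvd
  have h2 : Fintype.card {g : G // g ^ p = 1} = cnt G p + 1 := by
    rw [cnt_def, Nat.card_eq_fintype_card, Fintype.card_subtype, Fintype.card_subtype]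
    have : (Finset.univ.filter fun g : G => g ^ p = 1) =
        insert 1 (Finset.univ.filter fun g : G => orderOf g = p) := by
      ext g
      simp only [Finset.mem_filter, Finset.mem_univ, true_and, Finset.mem_insert]
      constructor
      · intro hg
        by_cases h1 : g = 1
        · left; exact h1
        · right; exact orderOf_eq_prime hg h1
      · rintro (rfl | hg)
        · simp
        · rw [← hg]; exact pow_orderOf_eq_one g
    rw [this, Finset.card_insert_of_notMem]
    simp only [Finset.mem_filter, Finset.mem_univ, true_and, orderOf_one]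
    exact hp.out.one_lt.ne
  rwa [h2] at h1

/-- the counts add up to the group order -/
theorem sum_cnt [Finite G] : ∑ n ∈ (Nat.card G).divisors, cnt G n = Nat.card G := by
  classical
  have := Fintype.ofFinite G
  have h := Finset.card_eq_sum_card_fiberwise (f := fun g : G => orderOf g)
    (s := Finset.univ) (t := (Nat.card G).divisors) (by
      intro g _
      exact Finset.mem_coe.mpr (Nat.mem_divisors.mpr ⟨orderOf_dvd_natCard g, Nat.card_pos.ne'⟩))
  rw [Finset.card_univ, ← Nat.card_eq_fintype_card] at h
  conv_rhs => rw [h]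
  apply Finset.sum_congr rfl
  intro n _
  rw [cnt_def, Nat.card_eq_fintype_card, Fintype.card_subtype]

theorem cnt_pos_iff [Finite G] (n : ℕ) : 0 < cnt G n ↔ ∃ g : G, orderOf g = n := by
  rw [cnt_def, Nat.card_pos_iff]
  constructor
  · rintro ⟨⟨g, hg⟩, _⟩; exact ⟨g, hg⟩
  · rintro ⟨g, hg⟩; exact ⟨⟨⟨g, hg⟩⟩, inferInstance⟩

theorem dvd_of_cnt_pos [Finite G] {n : ℕ} (h : 0 < cnt G n) : n ∣ Nat.card G := by
  obtain ⟨g, rfl⟩ := (cnt_pos_iff n).mp h
  exact orderOf_dvd_natCard g

theorem cnt_one : cnt G 1 = 1 := by
  rw [cnt_def]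
  have : Unique {g : G // orderOf g = 1} :=
    ⟨⟨⟨1, orderOf_one⟩⟩, fun g => Subtype.ext (orderOf_eq_one_iff.mp g.2)⟩
  exact Nat.card_unique

/-- conjugation action on the elements of order `n` -/
@[instance_reducible] def conjOrd (G : Type*) [Group G] (n : ℕ) : MulAction G {g : G // orderOf g = n} where
  smul c g := ⟨c * g.1 * c⁻¹, by
    have := (MulAut.conj c).orderOf_eq g.1
    rw [MulAut.conj_apply] at this
    rw [this]; exact g.2⟩
  one_smul g := by
    apply Subtype.ext
    show (1 : G) * g.1 * (1 : G)⁻¹ = g.1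
    simp
  mul_smul a b g := by
    apply Subtype.ext
    show (a * b) * g.1 * (a * b)⁻¹ = a * (b * g.1 * b⁻¹) * a⁻¹
    group

/-- if every centralizer of an element of order `n` lies in a subgroup of index divisible by `d`,
then `d` divides the number of elements of order `n` -/
theorem dvd_cnt_of_centralizer_le [Finite G] (n d : ℕ)
    (h : ∀ g : G, orderOf g = n → ∃ H : Subgroup G, Subgroup.centralizer ({g} : Set G) ≤ H ∧
      d ∣ H.index) : d ∣ cnt G n := by
  let _ := conjOrd G n
  rw [cnt_def]
  apply Cfsg.Agent.Helper5.dvd_card_of_dvd_index_stabilizer (Q := G)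
    (X := {g : G // orderOf g = n}) d
  intro x
  obtain ⟨H, hle, hd⟩ := h x.1 x.2
  apply hd.trans
  apply Subgroup.index_dvd_of_le
  intro c hc
  apply hle
  rw [MulAction.mem_stabilizer_iff] at hc
  have h1 : c * x.1 * c⁻¹ = x.1 := congrArg Subtype.val hc
  rw [Subgroup.mem_centralizer_iff]
  intro y hy
  rw [Set.mem_singleton_iff] at hy
  subst hy
  calc x.1 * c = (c * x.1 * c⁻¹) * c := by rw [h1]
    _ = c * x.1 := by group

end

end Cfsg.Agent.Helper15.Nse
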