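import Mathlib
import Cfsg.Agent.Helper15.NseA
import Cfsg.Agent.Helper11.OrderP
import Cfsg.Agent.Helper11.NoSimple
import Cfsg.Agent.Helper11.PermSylow
import Cfsg.Agent.Helper8.Basic

set_option autoImplicit false

/-!
A group of order 7920 whose set of "numbers of elements of each order" is that of `M₁₁` is simple.
-/

namespace Cfsg.Agent.Helper15.Nse

open Subgroup

/-- the values of the counting function of `M₁₁` -/
def S11 : Finset ℕ := {1, 165, 440, 990, 1320, 1440, 1584, 1980}

theorem sum_S11 : ∑ c ∈ S11, c = 7920 := by decide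

section
variable {G : Type*} [Group G] [Finite G]

/-- the hypothesis on `G` -/
def HasNse11 (G : Type*) [Group G] : Prop :=
  {c : ℕ | 0 < c ∧ ∃ n : ℕ, c = Nat.card {g : G // orderOf g = n}} =
    ({1, 165, 440, 990, 1320, 1440, 1584, 1980} : Set ℕ)

theorem mem_S11_of_pos (hnse : HasNse11 G) {n : ℕ} (h : 0 < cnt G n) : cnt G n ∈ S11 := by
  have h1 : cnt G n ∈ {c : ℕ | 0 < c ∧ ∃ n : ℕ, c = Nat.card {g : G // orderOf g = n}} :=
    ⟨h, n, rfl⟩
  rw [hnse] at h1
  simp only [Set.mem_insert_iff, Set.mem_singleton_iff] at h1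
  simp only [S11, Finset.mem_insert, Finset.mem_singleton]
  exact h1

theorem exists_of_mem_S11 (hnse : HasNse11 G) {c : ℕ} (h : c ∈ S11) :
    0 < c ∧ ∃ n, cnt G n = c := by
  have h1 : c ∈ ({1, 165, 440, 990, 1320, 1440, 1584, 1980} : Set ℕ) := by
    simp only [S11, Finset.mem_insert, Finset.mem_singleton] at h
    simp only [Set.mem_insert_iff, Set.mem_singleton_iff]
    exact h
  rw [← hnse] at h1
  obtain ⟨h2, n, h3⟩ := h1
  exact ⟨h2, n, h3.symm⟩

/-- the counting function is injective on the element orders -/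
theorem cnt_injective (hcard : Nat.card G = 7920) (hnse : HasNse11 G) {n m : ℕ}
    (hn : 0 < cnt G n) (hnm : cnt G n = cnt G m) : n = m := by
  classical
  set E : Finset ℕ := (Nat.card G).divisors.filter (fun k => cnt G k ≠ 0) with hE
  have hmemE : ∀ k, k ∈ E ↔ 0 < cnt G k := by
    intro k
    rw [hE, Finset.mem_filter, Nat.mem_divisors]
    constructor
    · rintro ⟨_, h⟩; exact Nat.pos_of_ne_zero h
    · intro h; exact ⟨⟨dvd_of_cnt_pos h, Nat.card_pos.ne'⟩, h.ne'⟩
  have himg : E.image (cnt G) = S11 := by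
    ext c
    rw [Finset.mem_image]
    constructor
    · rintro ⟨k, hk, rfl⟩
      exact mem_S11_of_pos hnse ((hmemE k).mp hk)
    · intro hc
      obtain ⟨hc0, k, hk⟩ := exists_of_mem_S11 hnse hc
      exact ⟨k, (hmemE k).mpr (by rw [hk]; exact hc0), hk⟩
  have hsumE : ∑ k ∈ E, cnt G k = 7920 := by
    rw [hE, Finset.sum_filter_ne_zero, sum_cnt, hcard]
  have hcomp := Finset.sum_comp (s := E) (fun c : ℕ => c) (cnt G)
  rw [himg] at hcomp
  simp only [smul_eq_mul] at hcomp
  rw [hsumE] at hcomp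
  have hfib_pos : ∀ c ∈ S11, 1 ≤ (E.filter (fun a => cnt G a = c)).card := by
    intro c hc
    rw [← himg, Finset.mem_image] at hc
    obtain ⟨k, hk, hkc⟩ := hc
    exact Finset.card_pos.mpr ⟨k, Finset.mem_filter.mpr ⟨hk, hkc⟩⟩
  have hle : ∀ c ∈ S11, c ≤ (E.filter (fun a => cnt G a = c)).card * c := by
    intro c hc
    calc c = 1 * c := (one_mul c).symm
      _ ≤ _ := Nat.mul_le_mul_right c (hfib_pos c hc)
  have heq := (Finset.sum_eq_sum_iff_of_le hle).mp (by rw [sum_S11, ← hcomp])
  -- the fibre of `cnt G n` has one element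
  have hnE : n ∈ E := (hmemE n).mpr hn
  have hmE : m ∈ E := (hmemE m).mpr (hnm ▸ hn)
  have hcS : cnt G n ∈ S11 := mem_S11_of_pos hnse hn
  have h1 := heq (cnt G n) hcS
  have hc1 : (E.filter (fun a => cnt G a = cnt G n)).card = 1 := by
    have hpos : 0 < cnt G n := hn
    have : 1 * cnt G n = (E.filter (fun a => cnt G a = cnt G n)).card * cnt G n := by
      rw [one_mul]; exact h1
    exact (Nat.eq_of_mul_eq_mul_right hpos this).symm
  obtain ⟨a, ha⟩ := Finset.card_eq_one.mp hc1
  have hna : n ∈ E.filter (fun a => cnt G a = cnt G n) := Finset.mem_filter.mpr ⟨hnE, rfl⟩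
  have hma : m ∈ E.filter (fun a => cnt G a = cnt G n) := Finset.mem_filter.mpr ⟨hmE, hnm.symm⟩
  rw [ha, Finset.mem_singleton] at hna hma
  rw [hna, hma]

theorem cnt_cases (hnse : HasNse11 G) {n : ℕ} (h : 0 < cnt G n) :
    cnt G n = 1 ∨ cnt G n = 165 ∨ cnt G n = 440 ∨ cnt G n = 990 ∨ cnt G n = 1320 ∨
      cnt G n = 1440 ∨ cnt G n = 1584 ∨ cnt G n = 1980 := by
  have := mem_S11_of_pos hnse h
  simpa only [S11, Finset.mem_insert, Finset.mem_singleton] using this

theorem cnt_two (hcard : Nat.card G = 7920) (hnse : HasNse11 G) : cnt G 2 = 165 := by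
  have : Fact (Nat.Prime 2) := ⟨Nat.prime_two⟩
  have h1 : 2 ∣ cnt G 2 + 1 := dvd_cnt_add_one 2 (by rw [hcard]; norm_num)
  have hpos : 0 < cnt G 2 := by
    rcases Nat.eq_zero_or_pos (cnt G 2) with h | h
    · rw [h] at h1; omega
    · exact h
  have hne : cnt G 2 ≠ 1 := by
    intro h
    have := cnt_injective hcard hnse hpos (h.trans (cnt_one (G := G)).symm)
    omega
  rcases cnt_cases hnse hpos with h | h | h | h | h | h | h | h <;> omega

theorem cnt_three (hcard : Nat.card G = 7920) (hnse : HasNse11 G) : cnt G 3 = 440 := by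
  have : Fact (Nat.Prime 3) := ⟨Nat.prime_three⟩
  have h1 : 3 ∣ cnt G 3 + 1 := dvd_cnt_add_one 3 (by rw [hcard]; norm_num)
  have hpos : 0 < cnt G 3 := by
    rcases Nat.eq_zero_or_pos (cnt G 3) with h | h
    · rw [h] at h1; omega
    · exact h
  rcases cnt_cases hnse hpos with h | h | h | h | h | h | h | h <;> omega

theorem cnt_five (hcard : Nat.card G = 7920) (hnse : HasNse11 G) : cnt G 5 = 1584 := by
  have : Fact (Nat.Prime 5) := ⟨Nat.prime_five⟩
  have h1 : 5 ∣ cnt G 5 + 1 := dvd_cnt_add_one 5 (by rw [hcard]; norm_num)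
  have hpos : 0 < cnt G 5 := by
    rcases Nat.eq_zero_or_pos (cnt G 5) with h | h
    · rw [h] at h1; omega
    · exact h
  rcases cnt_cases hnse hpos with h | h | h | h | h | h | h | h <;> omega

theorem cnt_eleven (hcard : Nat.card G = 7920) (hnse : HasNse11 G) : cnt G 11 = 1440 := by
  have : Fact (Nat.Prime 11) := ⟨by norm_num⟩
  have h1 : 11 ∣ cnt G 11 + 1 := dvd_cnt_add_one 11 (by rw [hcard]; norm_num)
  have hpos : 0 < cnt G 11 := by
    rcases Nat.eq_zero_or_pos (cnt G 11) with h | h
    · rw [h] at h1; omega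
    · exact h
  rcases cnt_cases hnse hpos with h | h | h | h | h | h | h | h <;> omega

instance fact11 : Fact (Nat.Prime 11) := ⟨by norm_num⟩

theorem card_sylow11 (hcard : Nat.card G = 7920) (P : Sylow 11 G) :
    Nat.card (P : Subgroup G) = 11 := by
  have hG' : Nat.card G = 720 * 11 ^ 1 := by rw [hcard]; norm_num
  have := (Cfsg.Agent.Helper11.sylow_card_of_card_eq_pow 720 1 hG' (by norm_num) P).1
  rwa [pow_one] at this

theorem card_sylow_eleven (hcard : Nat.card G = 7920) (hnse : HasNse11 G) :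
    Nat.card (Sylow 11 G) = 144 := by
  have P : Sylow 11 G := default
  have h1 := Cfsg.Agent.Helper11.card_orderOf_eq_prime P (card_sylow11 hcard P)
  have h2 := cnt_eleven hcard hnse
  rw [cnt_def] at h2
  rw [h2] at h1
  omega

/-- an element of order 11 generates a Sylow subgroup, whose normalizer has order 55 and contains
the centralizer of the element -/
theorem exists_normalizer (hcard : Nat.card G = 7920) (hnse : HasNse11 G) (x : G)
    (hx : orderOf x = 11) : ∃ N : Subgroup G, centralizer ({x} : Set G) ≤ N ∧ N.index = 144 ∧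
      Nat.card N = 55 ∧ zpowers x ≤ N := by
  have hpg : IsPGroup 11 (zpowers x) := by
    apply IsPGroup.of_card (n := 1)
    rw [Nat.card_zpowers, hx, pow_one]
  obtain ⟨P, hP⟩ := hpg.exists_le_sylow
  have hPc := card_sylow11 hcard P
  have hPeq : zpowers x = (P : Subgroup G) := by
    apply Subgroup.eq_of_le_of_card_ge hP
    rw [hPc, Nat.card_zpowers, hx]
  have hidx : (normalizer (P : Set G)).index = 144 := by
    rw [← Sylow.card_eq_index_normalizer, card_sylow_eleven hcard hnse]
  refine ⟨normalizer (P : Set G), ?_, hidx, ?_, ?_⟩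
  · intro c hc
    rw [mem_centralizer_iff] at hc
    have hcx : Commute x c := hc x (Set.mem_singleton x)
    rw [mem_set_normalizer_iff]
    intro h
    have key : ∀ h : G, h ∈ zpowers x → c * h * c⁻¹ = h := by
      intro h hh
      obtain ⟨k, rfl⟩ := mem_zpowers_iff.mp hh
      have : Commute (x ^ k) c := hcx.zpow_left k
      calc c * x ^ k * c⁻¹ = x ^ k * c * c⁻¹ := by rw [this.eq]
        _ = x ^ k := by group
    show h ∈ (P : Subgroup G) ↔ c * h * c⁻¹ ∈ (P : Subgroup G)
    rw [← hPeq]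
    constructor
    · intro hh; rw [key h hh]; exact hh
    · intro hh
      have h2 := key _ hh
      have h3 : c⁻¹ * (c * h * c⁻¹) * c = h := by group
      have h4 : Commute (c * h * c⁻¹) c := by
        obtain ⟨k, hk⟩ := mem_zpowers_iff.mp hh
        rw [← hk]; exact hcx.zpow_left k
      have h5 : c⁻¹ * (c * h * c⁻¹) * c = c * h * c⁻¹ := by
        calc c⁻¹ * (c * h * c⁻¹) * c = c⁻¹ * ((c * h * c⁻¹) * c) := by group
          _ = c⁻¹ * (c * (c * h * c⁻¹)) := by rw [h4.eq]
          _ = c * h * c⁻¹ := by group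
      rw [← h3, h5]; exact hh
  · have := (normalizer (P : Set G)).card_mul_index
    rw [hidx, hcard] at this
    omega
  · rw [hPeq]; exact le_normalizer

end

end Cfsg.Agent.Helper15.Nse
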