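import Mathlib
import Cfsg.Agent.Helper15.NseB

set_option autoImplicit false

/-!
A group of order 7920 whose set of "numbers of elements of each order" is that of `M₁₁` is simple
(continued): Sylow 11-subgroups are self-centralizing; simplicity.
-/

namespace Cfsg.Agent.Helper15.Nse

open Subgroup

section
variable {G : Type*} [Group G] [Finite G]

/-- no element of order 55 -/
theorem cnt_55 (hcard : Nat.card G = 7920) (hnse : HasNse11 G) : cnt G 55 = 0 := by
  by_contra hne
  have hpos : 0 < cnt G 55 := Nat.pos_of_ne_zero hne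
  have hdvd : 144 ∣ cnt G 55 := by
    apply dvd_cnt_of_centralizer_le
    intro g hg
    have h5 : orderOf (g ^ 5) = 11 := by
      rw [orderOf_pow_of_dvd (by norm_num) (by rw [hg]; norm_num), hg]
    obtain ⟨N, hN, hidx, -, -⟩ := exists_normalizer hcard hnse (g ^ 5) h5
    refine ⟨N, ?_, by rw [hidx]⟩
    intro c hc
    apply hN
    rw [mem_centralizer_iff] at hc ⊢
    intro y hy
    rw [Set.mem_singleton_iff] at hy
    subst hy
    have : Commute g c := hc g (Set.mem_singleton g)
    exact (this.pow_left 5).eq
  have h11 := cnt_eleven hcard hnse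
  have h5 := cnt_five hcard hnse
  rcases cnt_cases hnse hpos with h | h | h | h | h | h | h | h
  · omega
  · omega
  · omega
  · omega
  · omega
  · have := cnt_injective hcard hnse hpos (h.trans h11.symm)
    omega
  · have := cnt_injective hcard hnse hpos (h.trans h5.symm)
    omega
  · omega

/-- elements of order 11 are self-centralizing -/
theorem mem_zpowers_of_commute (hcard : Nat.card G = 7920) (hnse : HasNse11 G) (x q : G)
    (hx : orderOf x = 11) (hq : Commute x q) : q ∈ zpowers x := by
  obtain ⟨N, hN, hidx, hNc, hxN⟩ := exists_normalizer hcard hnse x hx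
  set C := centralizer ({x} : Set G) with hC
  have hxC : zpowers x ≤ C := by
    rw [zpowers_le, hC, mem_centralizer_iff]
    intro y hy
    rw [Set.mem_singleton_iff] at hy
    subst hy; rfl
  have hqC : q ∈ C := by
    rw [hC, mem_centralizer_iff]
    intro y hy
    rw [Set.mem_singleton_iff] at hy
    subst hy
    exact hq.eq
  have h1 : Nat.card C ∣ 55 := by
    rw [← hNc]; exact Subgroup.card_dvd_of_le hN
  have h2 : 11 ∣ Nat.card C := by
    have := Subgroup.card_dvd_of_le hxC
    rwa [Nat.card_zpowers, hx] at this
  have h3 : Nat.card C = 11 ∨ Nat.card C = 55 := by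
    have hle : Nat.card C ≤ 55 := Nat.le_of_dvd (by norm_num) h1
    obtain ⟨k, hk⟩ := h2
    have hk5 : k ≤ 5 := by omega
    have hCpos : 0 < Nat.card C := Nat.card_pos
    interval_cases k
    · omega
    · left; omega
    · exfalso; rw [hk] at h1; revert h1; decide
    · exfalso; rw [hk] at h1; revert h1; decide
    · exfalso; rw [hk] at h1; revert h1; decide
    · right; omega
  rcases h3 with h3 | h3
  · have : zpowers x = C := by
      apply Subgroup.eq_of_le_of_card_ge hxC
      rw [h3, Nat.card_zpowers, hx]
    rw [this]; exact hqC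
  · exfalso
    have : Fact (Nat.Prime 5) := ⟨Nat.prime_five⟩
    obtain ⟨y, hy⟩ := exists_prime_orderOf_dvd_card' (G := C) 5 (by rw [h3]; norm_num)
    have hy' : orderOf (y : G) = 5 := by rw [Subgroup.orderOf_coe]; exact hy
    have hcomm : Commute x (y : G) := by
      have : (y : G) ∈ centralizer ({x} : Set G) := y.2
      rw [mem_centralizer_iff] at this
      exact this x (Set.mem_singleton x)
    have hord : orderOf (x * (y : G)) = 55 := by
      rw [hcomm.orderOf_mul_eq_mul_orderOf_of_coprime (by rw [hx, hy']; norm_num), hx, hy']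
    have hpos : 0 < cnt G 55 := (cnt_pos_iff 55).mpr ⟨_, hord⟩
    rw [cnt_55 hcard hnse] at hpos
    exact lt_irrefl _ hpos

theorem eq_one_of_commute (hcard : Nat.card G = 7920) (hnse : HasNse11 G) (x q : G)
    (hx : orderOf x = 11) (hq : Commute x q) (hq11 : ¬ 11 ∣ orderOf q) : q = 1 := by
  have h1 := mem_zpowers_of_commute hcard hnse x q hx hq
  have h2 : orderOf q ∣ 11 := by
    have := Subgroup.orderOf_dvd_natCard (zpowers x) h1
    rwa [Nat.card_zpowers, hx] at this
  rcases (Nat.dvd_prime (by norm_num)).mp h2 with h | h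
  · exact orderOf_eq_one_iff.mp h
  · exfalso; apply hq11; rw [h]

end

end Cfsg.Agent.Helper15.Nse
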