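import Mathlib

/-!
Packed permutation tables (24 points, 5 bits per entry) with kernel-friendly composition, and the packed
coset representatives of a stabiliser chain of the standard copy of `M₁₁` (from `Helper27.M12`).
-/

set_option autoImplicit false

namespace Cfsg.Agent.Helper15.NseM

/-- the `i`-th base-32 digit -/
def dg (P i : ℕ) : ℕ := Nat.land (Nat.shiftRight P (Nat.mul 5 i)) 31

/-- pack a table -/
def packL : List ℕ → ℕ
  | [] => 0
  | a :: l => a + 32 * packL l

/-- composition of packed tables, unrolled -/
def compP (X Y : ℕ) : ℕ := (Nat.add (dg X (dg Y 0)) (Nat.mul 32 (Nat.add (dg X (dg Y 1)) (Nat.mul 32 (Nat.add (dg X (dg Y 2)) (Nat.mul 32 (Nat.add (dg X (dg Y 3)) (Nat.mul 32 (Nat.add (dg X (dg Y 4)) (Nat.mul 32 (Nat.add (dg X (dg Y 5)) (Nat.mul 32 (Nat.add (dg X (dg Y 6)) (Nat.mul 32 (Nat.add (dg X (dg Y 7)) (Nat.mul 32 (Nat.add (dg X (dg Y 8)) (Nat.mul 32 (Nat.add (dg X (dg Y 9)) (Nat.mul 32 (Nat.add (dg X (dg Y 10)) (Nat.mul 32 (Nat.add (dg X (dg Y 11)) (Nat.mul 32 (Nat.add (dg X (dg Y 12)) (Nat.mul 32 (Nat.add (dg X (dg Y 13)) (Nat.mul 32 (Nat.add (dg X (dg Y 14)) (Nat.mul 32 (Nat.add (dg X (dg Y 15))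 (Nat.mul 32 (Nat.add (dg X (dg Y 16)) (Nat.mul 32 (Nat.add (dg X (dg Y 17)) (Nat.mul 32 (Nat.add (dg X (dg Y 18)) (Nat.mul 32 (Nat.add (dg X (dg Y 19)) (Nat.mul 32 (Nat.add (dg X (dg Y 20)) (Nat.mul 32 (Nat.add (dg X (dg Y 21)) (Nat.mul 32 (Nat.add (dg X (dg Y 22)) (Nat.mul 32 (Nat.add (dg X (dg Y 23)) (Nat.mul 32 0))))))))))))))))))))))))))))))))))))))))))))))))

/-- the packed identity table -/
def idP : ℕ := 984818244535754528103549039458486304

/-- packed `Helper27.m12L1` -/
def pL1 : List ℕ := [
  984818244535754528103549039458486304,
  896625974924962553505475480164535936,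
  896605969987747382337580269244060160,
  901541759400917215407436499657332896,
  962544082878191543462747934797405856,
  901532053457344830844618372684292672,
  984813014863035933181922623022573088,
  832933306562847314711988092008868448,
  687540279426156140531956384067169760,
  687556718944708667987806870189651680,
  733070995993044920776066395277736096]

/-- packed `Helper27.m12L2` -/
def pL2 : List ℕ := [
  984818244535754528103549039458486304,
  518770463550401688832868882792450560,
  921165587497601371434432935853492800,
  733928526726831118211030705783408800,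
  639405048750769004699296004516874848,
  816982419154937936821912726764030688,
  855045755500222518467232704502237664,
  65816077707105155339042858964716032,
  237103332393365152020203754192538240,
  680945206966662035506796922113821216]

/-- packed `Helper27.m12L3` -/
def pL3 : List ℕ := [
  984818244535754528103549039458486304,
  234399627330584102304425868318050848,
  984571052771685786531681076360874368,
  233087221060979891008449050598017664,
  230423453868544081396192941823855232,
  233032711263187665576133505826523680,
  971592882964418941354553515258775584,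
  234304553963598702024376803373714016,
  625247881773301886066493442022804160]

/-- packed `Helper27.m12L4` -/
def pL4 : List ℕ := [
  984818244535754528103549039458486304,
  691334041149936341624345551261764192,
  796428957898722849870241038493387328,
  713433403347325651930223401981020672,
  774329223445265882306848411898448416,
  517979249452279168129303549938076384,
  901822542813354591381483251612879232,
  61503262235173794203975079539346080]

/-- the order of a packed table, if it is one of 1,2,3,4,5,6,8,11 (else 0) -/
def ordP (c : ℕ) : ℕ :=
  if c == idP then 1 else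
  let c2 := compP c c
  if c2 == idP then 2 else
  let c3 := compP c2 c
  if c3 == idP then 3 else
  let c4 := compP c2 c2
  if c4 == idP then 4 else
  let c5 := compP c4 c
  if c5 == idP then 5 else
  if compP c3 c3 == idP then 6 else
  let c8 := compP c4 c4
  if c8 == idP then 8 else
  if compP c8 c3 == idP then 11 else 0

/-- the packed products of coset representatives -/
def prod4 (a b c d : ℕ) : ℕ := compP (compP (compP (compP idP a) b) c) d

/-- number of products satisfying `P` -/
def countP4 (P : ℕ → Bool) : ℕ :=
  (pL1.map fun a => (pL2.map fun b => (pL3.map fun c =>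
    ((pL4.map fun d => prod4 a b c d).countP P)).sum).sum).sum

end Cfsg.Agent.Helper15.NseM
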