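import Mathlib
import Cfsg.Agent.Helper15.NseData
import Cfsg.Agent.Helper27.M11Elusive
import Cfsg.Agent.Helper27.M24Enum

/-!
Packed tables: correctness of the packed composition, the code of a permutation of the 24 points, and the
order read off from the code.
-/

set_option autoImplicit false

namespace Cfsg.Agent.Helper15.NseM

open Cfsg Cfsg.Agent.Helper27

theorem dg_eq (P i : ℕ) : dg P i = (P / 2 ^ (5 * i)) % 32 := by
  show (P >>> (5 * i)) &&& 31 = _
  rw [Nat.shiftRight_eq_div_pow]
  exact Nat.and_two_pow_sub_one_eq_mod _ 5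

theorem dg_packL (l : List ℕ) (hl : ∀ a ∈ l, a < 32) (i : ℕ) : dg (packL l) i = l.getD i 0 := by
  induction l generalizing i with
  | nil => simp [packL, dg_eq]
  | cons a l ih =>
    have ha : a < 32 := hl a (by simp)
    have hl' : ∀ b ∈ l, b < 32 := fun b hb => hl b (by simp [hb])
    cases i with
    | zero =>
      rw [dg_eq]
      simp only [packL, Nat.mul_zero, pow_zero, Nat.div_one, List.getD_cons_zero]
      rw [Nat.add_mul_mod_self_left, Nat.mod_eq_of_lt ha]
    | succ i =>
      rw [dg_eq, List.getD_cons_succ, ← ih hl' i, dg_eq]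
      congr 1
      have h1 : 2 ^ (5 * (i + 1)) = 32 * 2 ^ (5 * i) := by
        rw [Nat.mul_succ, pow_add]; ring
      rw [h1, ← Nat.div_div_eq_div_mul]
      congr 1
      simp only [packL]
      rw [Nat.add_mul_div_left _ _ (by norm_num : 0 < 32), Nat.div_eq_of_lt ha, zero_add]

theorem compP_eq (X Y : ℕ) : compP X Y = packL [dg X (dg Y 0), dg X (dg Y 1), dg X (dg Y 2), dg X (dg Y 3), dg X (dg Y 4), dg X (dg Y 5), dg X (dg Y 6), dg X (dg Y 7), dg X (dg Y 8), dg X (dg Y 9), dg X (dg Y 10), dg X (dg Y 11), dg X (dg Y 12), dg X (dg Y 13), dg X (dg Y 14), dg X (dg Y 15), dg X (dg Y 16), dg X (dg Y 17), dg X (dg Y 18), dg X (dg Y 19), dg X (dg Y 20), dg X (dg Y 21), dg X (dg Y 22), dg X (dg Y 23)] := rfl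

theorem range24 : List.range 24 = [0, 1, 2, 3, 4, 5, 6, 7, 8, 9, 10, 11, 12, 13, 14, 15, 16, 17, 18, 19, 20, 21,
    22, 23] := by decide

theorem compP_eq' (X Y : ℕ) : compP X Y = packL ((List.range 24).map (fun i => dg X (dg Y i))) := by
  rw [compP_eq, range24]
  rfl

theorem map_eq_range {Y : List ℕ} (hY : Y.length = 24) (g : ℕ → ℕ) :
    Y.map g = (List.range 24).map (fun i => g (Y.getD i 0)) := by
  apply List.ext_getElem
  · simp [hY]
  · intro i h1 h2
    have hi : i < Y.length := by simpa using h1
    simp [List.getElem?_eq_getElem hi]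

/-- correctness of the packed composition -/
theorem compP_spec {X Y : List ℕ} (hY : Y.length = 24) (hX32 : ∀ a ∈ X, a < 32)
    (hY32 : ∀ a ∈ Y, a < 32) : packL (compT X Y) = compP (packL X) (packL Y) := by
  rw [compP_eq', compT, map_eq_range hY]
  congr 1
  apply List.map_congr_left
  intro i _
  rw [dg_packL Y hY32, dg_packL X hX32]

/-- the code of a permutation -/
def code (g : Equiv.Perm GolayPt) : ℕ := packL (tblOf g)

theorem tblOf_lt (g : Equiv.Perm GolayPt) : ∀ a ∈ tblOf g, a < 24 := by
  intro a ha
  simp only [tblOf, List.mem_map, List.mem_range] at ha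
  obtain ⟨i, _, rfl⟩ := ha
  exact idx_lt _

theorem tblOf_lt32 (g : Equiv.Perm GolayPt) : ∀ a ∈ tblOf g, a < 32 :=
  fun a ha => lt_trans (tblOf_lt g a ha) (by norm_num)

theorem tblOf_length (g : Equiv.Perm GolayPt) : (tblOf g).length = 24 := by simp [tblOf]

theorem packL_eq_of_represents {g : Equiv.Perm GolayPt} {T : List ℕ} (h : Represents g T) :
    code g = packL T := by
  rw [code, tblOf_eq h]

theorem code_mul (g h : Equiv.Perm GolayPt) : code (g * h) = compP (code g) (code h) := by
  have h1 : tblOf (g * h) = compT (tblOf g) (tblOf h) :=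
    tblOf_eq (represents_compT (represents_tblOf g) (represents_tblOf h))
  rw [code, h1, compP_spec (tblOf_length h) (tblOf_lt32 g) (tblOf_lt32 h)]
  rfl

theorem code_one : code 1 = idP := by
  rw [code, tblOf_eq represents_one]
  decide

theorem packL_injective {X Y : List ℕ} (hX : X.length = 24) (hY : Y.length = 24)
    (hX32 : ∀ a ∈ X, a < 32) (hY32 : ∀ a ∈ Y, a < 32) (h : packL X = packL Y) : X = Y := by
  apply List.ext_getElem (hX.trans hY.symm)
  intro i h1 h2
  have a := dg_packL X hX32 i
  have b := dg_packL Y hY32 i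
  rw [List.getD_eq_getElem _ _ h1] at a
  rw [List.getD_eq_getElem _ _ h2] at b
  rw [← a, ← b, h]

theorem code_injective : Function.Injective code := by
  intro g h hgh
  have h1 : tblOf g = tblOf h :=
    packL_injective (tblOf_length g) (tblOf_length h) (tblOf_lt32 g) (tblOf_lt32 h) hgh
  have h2 : Represents h (tblOf g) := h1 ▸ represents_tblOf h
  exact represents_inj (represents_tblOf g) h2

theorem code_eq_idP_iff (g : Equiv.Perm GolayPt) : code g = idP ↔ g = 1 := by
  rw [← code_one]
  exact code_injective.eq_iff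

/-- the order can be read off from the code -/
theorem orderOf_of_ordP (g : Equiv.Perm GolayPt) {n : ℕ} (h : ordP (code g) = n) (hn : n ≠ 0) :
    orderOf g = n := by
  have e2 : compP (code g) (code g) = code (g ^ 2) := by rw [pow_two, code_mul]
  have e3 : compP (code (g ^ 2)) (code g) = code (g ^ 3) := by
    rw [← code_mul, ← pow_succ]
  have e4 : compP (code (g ^ 2)) (code (g ^ 2)) = code (g ^ 4) := by
    rw [← code_mul, ← pow_add]
  have e5 : compP (code (g ^ 4)) (code g) = code (g ^ 5) := by
    rw [← code_mul, ← pow_succ]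
  have e6 : compP (code (g ^ 3)) (code (g ^ 3)) = code (g ^ 6) := by
    rw [← code_mul, ← pow_add]
  have e8 : compP (code (g ^ 4)) (code (g ^ 4)) = code (g ^ 8) := by
    rw [← code_mul, ← pow_add]
  have e11 : compP (code (g ^ 8)) (code (g ^ 3)) = code (g ^ 11) := by
    rw [← code_mul, ← pow_add]
  unfold ordP at h
  simp only [e2, e3, e4, e5, e6, e8, e11, beq_iff_eq, code_eq_idP_iff] at h
  split_ifs at h with h1 h2 h3 h4 h5 h6 h8 h11
  · subst h; rw [h1]; exact orderOf_one
  · subst h
    exact orderOf_eq_prime h2 h1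
  · subst h
    have : Fact (Nat.Prime 3) := ⟨Nat.prime_three⟩
    exact orderOf_eq_prime h3 h1
  · subst h
    have := orderOf_eq_prime_pow (x := g) (p := 2) (n := 1) (by simpa using h2) (by simpa using h4)
    simpa using this
  · subst h
    have : Fact (Nat.Prime 5) := ⟨Nat.prime_five⟩
    exact orderOf_eq_prime h5 h1
  · subst h
    apply orderOf_eq_of_pow_and_pow_div_prime (by norm_num) h6
    intro p hp hpd
    have hp6 : p ∣ 2 * 3 := by simpa using hpd
    rcases (Nat.Prime.dvd_mul hp).mp hp6 with hh | hh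
    · have : p = 2 := (Nat.prime_dvd_prime_iff_eq hp Nat.prime_two).mp hh
      subst this; simpa using h3
    · have : p = 3 := (Nat.prime_dvd_prime_iff_eq hp Nat.prime_three).mp hh
      subst this; simpa using h2
  · subst h
    have := orderOf_eq_prime_pow (x := g) (p := 2) (n := 2) (by simpa using h4) (by simpa using h8)
    simpa using this
  · subst h
    have : Fact (Nat.Prime 11) := ⟨by norm_num⟩
    exact orderOf_eq_prime h11 h1
  · exact absurd h.symm hn

end Cfsg.Agent.Helper15.NseM
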