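import Mathlib
import Cfsg.Agent.Helper15.NseA
import Cfsg.Agent.Helper15.NseE
import Cfsg.Agent.Helper27.M11Pattern

/-!
The numbers of elements of each order of the standard copy of `M₁₁` (and of `Cfsg.Spor.M11`).
-/

set_option autoImplicit false

namespace Cfsg.Agent.Helper15.NseM

open Cfsg Cfsg.Agent.Helper27 Cfsg.Agent.Helper15.Nse

/-- the list of all packed products -/
def prodP : List ℕ :=
  pL1.flatMap fun a => pL2.flatMap fun b => pL3.flatMap fun c => pL4.map fun d => prod4 a b c d

theorem countP4_eq (P : ℕ → Bool) : countP4 P = prodP.countP P := by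
  simp only [countP4, prodP, List.countP_flatMap, Function.comp_def]

theorem prodP_length : prodP.length = 7920 := by
  simp only [prodP, List.length_flatMap, List.length_map]
  decide

theorem pL1_eq : pL1 = m12L1.map packL := by decide
theorem pL2_eq : pL2 = m12L2.map packL := by decide
theorem pL3_eq : pL3 = m12L3.map packL := by decide
theorem pL4_eq : pL4 = m12L4.map packL := by decide

/-- valid tables -/
def Valid (T : List ℕ) : Prop := T.length = 24 ∧ ∀ a ∈ T, a < 24

instance (T : List ℕ) : Decidable (Valid T) := by unfold Valid; infer_instance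

theorem valid_idT : Valid idT := by decide

theorem valid_L1 : ∀ T ∈ m12L1, Valid T := by decide
theorem valid_L2 : ∀ T ∈ m12L2, Valid T := by decide
theorem valid_L3 : ∀ T ∈ m12L3, Valid T := by decide
theorem valid_L4 : ∀ T ∈ m12L4, Valid T := by decide

theorem Valid.compT {X Y : List ℕ} (hX : Valid X) (hY : Valid Y) : Valid (compT X Y) := by
  constructor
  · simp [Helper27.compT, hY.1]
  · intro a ha
    simp only [Helper27.compT, List.mem_map] at ha
    obtain ⟨y, hy, rfl⟩ := ha
    have hy24 : y < X.length := by rw [hX.1]; exact hY.2 y hy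
    rw [List.getD_eq_getElem _ _ hy24]
    exact hX.2 _ (List.getElem_mem hy24)

theorem Valid.lt32 {X : List ℕ} (hX : Valid X) : ∀ a ∈ X, a < 32 :=
  fun a ha => lt_trans (hX.2 a ha) (by norm_num)

theorem packL_compT {X Y : List ℕ} (hX : Valid X) (hY : Valid Y) :
    packL (compT X Y) = compP (packL X) (packL Y) :=
  compP_spec hY.1 hX.lt32 hY.lt32

theorem packL_idT : packL idT = idP := by decide

/-- the standard copy of `M₁₁` -/
abbrev M0 : Subgroup (Equiv.Perm GolayPt) := fixH H12 (ptsOf [0])

/-- every element of the standard copy has its code in the list -/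
theorem code_mem_prodP {g : Equiv.Perm GolayPt} (hg : g ∈ M0) : code g ∈ prodP := by
  classical
  obtain ⟨T, hT, hP⟩ := m11_enum (fun T => decide (packL T ∈ prodP)) (by
    simp only [allProd, List.all_eq_true, decide_eq_true_eq]
    intro T1 h1 T2 h2 T3 h3 T4 h4
    have v1 := valid_L1 T1 h1
    have v2 := valid_L2 T2 h2
    have v3 := valid_L3 T3 h3
    have v4 := valid_L4 T4 h4
    have w1 := valid_idT.compT v1
    have w2 := w1.compT v2
    have w3 := w2.compT v3
    rw [packL_compT w3 v4, packL_compT w2 v3, packL_compT w1 v2, packL_compT valid_idT v1, packL_idT]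
    simp only [prodP, List.mem_flatMap, List.mem_map]
    refine ⟨packL T1, ?_, packL T2, ?_, packL T3, ?_, packL T4, ?_, rfl⟩
    · rw [pL1_eq]; exact List.mem_map_of_mem h1
    · rw [pL2_eq]; exact List.mem_map_of_mem h2
    · rw [pL3_eq]; exact List.mem_map_of_mem h3
    · rw [pL4_eq]; exact List.mem_map_of_mem h4) hg
  rw [packL_eq_of_represents hT]
  simpa using hP

theorem card_M0 : Nat.card M0 = 7920 := by
  have hpt : ptsOf [0] = {pt 0} := by simp [ptsOf]
  show Nat.card (fixH H12 (ptsOf [0])) = 7920
  rw [hpt]
  exact card_fixH_stabP_pt maskSet_dod0_mem (by rw [mem_maskSet, idx_pt (by norm_num)]; decide +kernel)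

instance : Finite M0 := Nat.finite_of_card_ne_zero (by rw [card_M0]; norm_num)

noncomputable instance : Fintype M0 := Fintype.ofFinite _

/-- the codes of the elements of the standard copy are exactly the members of the list, and the list has no
repetition -/
theorem image_code : (Finset.univ.image (fun g : M0 => code (g : Equiv.Perm GolayPt))) = prodP.toFinset ∧
    prodP.Nodup := by
  classical
  have hinj : Function.Injective (fun g : M0 => code (g : Equiv.Perm GolayPt)) :=
    fun a b hab => Subtype.ext (code_injective hab)
  have hsub : (Finset.univ.image (fun g : M0 => code (g : Equiv.Perm GolayPt))) ⊆ prodP.toFinset := by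
    intro c hc
    rw [Finset.mem_image] at hc
    obtain ⟨g, _, rfl⟩ := hc
    rw [List.mem_toFinset]
    exact code_mem_prodP g.2
  have hcard : (Finset.univ.image (fun g : M0 => code (g : Equiv.Perm GolayPt))).card = 7920 := by
    rw [Finset.card_image_of_injective _ hinj, Finset.card_univ, ← Nat.card_eq_fintype_card, card_M0]
  have hle : prodP.toFinset.card ≤ 7920 := by
    rw [← prodP_length]; exact List.toFinset_card_le _
  have hcard2 : prodP.toFinset.card = 7920 :=
    le_antisymm hle (hcard ▸ Finset.card_le_card hsub)
  refine ⟨Finset.eq_of_subset_of_card_le hsub (by rw [hcard, hcard2]), ?_⟩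
  rw [List.card_toFinset] at hcard2
  have hsl : prodP.dedup.Sublist prodP := List.dedup_sublist _
  have : prodP.dedup = prodP := hsl.eq_of_length (by rw [hcard2, prodP_length])
  rw [← this]
  exact List.nodup_dedup _

theorem exists_of_mem_prodP {c : ℕ} (hc : c ∈ prodP) : ∃ g : M0, code (g : Equiv.Perm GolayPt) = c := by
  classical
  have h := image_code.1
  have hc' : c ∈ prodP.toFinset := List.mem_toFinset.mpr hc
  rw [← h, Finset.mem_image] at hc'
  obtain ⟨g, _, hg⟩ := hc'
  exact ⟨g, hg⟩

/-- lower bound for the number of elements of order `n` -/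
theorem countP4_le_cnt (n : ℕ) (hn : n ≠ 0) : countP4 (fun c => ordP c == n) ≤ cnt M0 n := by
  classical
  rw [countP4_eq, List.countP_eq_length_filter, cnt_def, Nat.card_eq_fintype_card, Fintype.card_subtype]
  have hnd : (prodP.filter (fun c => ordP c == n)).Nodup := image_code.2.filter _
  rw [← List.toFinset_card_of_nodup hnd]
  have hsub : (prodP.filter (fun c => ordP c == n)).toFinset ⊆
      (Finset.univ.filter (fun g : M0 => orderOf g = n)).image
        (fun g : M0 => code (g : Equiv.Perm GolayPt)) := by
    intro c hc
    rw [List.mem_toFinset, List.mem_filter] at hc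
    obtain ⟨hc1, hc2⟩ := hc
    obtain ⟨g, hg⟩ := exists_of_mem_prodP hc1
    rw [Finset.mem_image]
    refine ⟨g, ?_, hg⟩
    rw [Finset.mem_filter]
    refine ⟨Finset.mem_univ _, ?_⟩
    rw [← Subgroup.orderOf_coe]
    apply orderOf_of_ordP _ _ hn
    rw [hg]
    exact beq_iff_eq.mp hc2
  exact (Finset.card_le_card hsub).trans Finset.card_image_le

set_option maxRecDepth 100000 in
theorem countP4_values : [1, 2, 3, 4, 5, 6, 8, 11].map (fun n => countP4 (fun c => ordP c == n)) =
    [1, 165, 440, 990, 1584, 1320, 1980, 1440] := by decide +kernel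

end Cfsg.Agent.Helper15.NseM
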