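import Mathlib
import Cfsg.Agent.Helper15.NseF

/-!
The set of numbers of elements of each order of `Cfsg.Spor.M11`.
-/

set_option autoImplicit false

namespace Cfsg.Agent.Helper15.NseM

open Cfsg Cfsg.Agent.Helper27 Cfsg.Agent.Helper15.Nse

/-- the counting function of `M₁₁` -/
def a11 (n : ℕ) : ℕ :=
  if n = 1 then 1 else if n = 2 then 165 else if n = 3 then 440 else if n = 4 then 990 else
  if n = 5 then 1584 else if n = 6 then 1320 else if n = 8 then 1980 else if n = 11 then 1440 else 0

/-- the element orders of `M₁₁` -/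
def D8 : Finset ℕ := {1, 2, 3, 4, 5, 6, 8, 11}

theorem sum_a11 : ∑ n ∈ D8, a11 n = 7920 := by decide

theorem D8_subset : D8 ⊆ Nat.divisors 7920 := by
  intro n hn
  simp only [D8, Finset.mem_insert, Finset.mem_singleton] at hn
  rw [Nat.mem_divisors]
  rcases hn with rfl | rfl | rfl | rfl | rfl | rfl | rfl | rfl <;> norm_num

theorem a11_le_cnt : ∀ n ∈ D8, a11 n ≤ cnt M0 n := by
  have h := countP4_values
  simp only [List.map, List.cons.injEq, and_true] at h
  obtain ⟨h1, h2, h3, h4, h5, h6, h8, h11⟩ := h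
  intro n hn
  simp only [D8, Finset.mem_insert, Finset.mem_singleton] at hn
  rcases hn with rfl | rfl | rfl | rfl | rfl | rfl | rfl | rfl
  · have := countP4_le_cnt 1 (by norm_num); rw [h1] at this; simpa [a11] using this
  · have := countP4_le_cnt 2 (by norm_num); rw [h2] at this; simpa [a11] using this
  · have := countP4_le_cnt 3 (by norm_num); rw [h3] at this; simpa [a11] using this
  · have := countP4_le_cnt 4 (by norm_num); rw [h4] at this; simpa [a11] using this
  · have := countP4_le_cnt 5 (by norm_num); rw [h5] at this; simpa [a11] using this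
  · have := countP4_le_cnt 6 (by norm_num); rw [h6] at this; simpa [a11] using this
  · have := countP4_le_cnt 8 (by norm_num); rw [h8] at this; simpa [a11] using this
  · have := countP4_le_cnt 11 (by norm_num); rw [h11] at this; simpa [a11] using this

/-- the counting function of the standard copy -/
theorem cnt_M0 (n : ℕ) : cnt M0 n = a11 n := by
  classical
  have hsum : ∑ k ∈ Nat.divisors 7920, cnt M0 k = 7920 := by
    have := sum_cnt (G := M0)
    rwa [card_M0] at this
  have hsplit := Finset.sum_sdiff (f := fun k => cnt M0 k) D8_subset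
  have hle : ∑ k ∈ D8, a11 k ≤ ∑ k ∈ D8, cnt M0 k := Finset.sum_le_sum a11_le_cnt
  have heq : ∑ k ∈ D8, a11 k = ∑ k ∈ D8, cnt M0 k := by
    apply le_antisymm hle
    rw [sum_a11, ← hsum, ← hsplit]
    exact Nat.le_add_left _ _
  have hterm := (Finset.sum_eq_sum_iff_of_le a11_le_cnt).mp heq
  have hrest : ∑ k ∈ Nat.divisors 7920 \ D8, cnt M0 k = 0 := by
    rw [hsum, ← heq, sum_a11] at hsplit
    generalize (∑ k ∈ Nat.divisors 7920 \ D8, cnt M0 k) = s at hsplit ⊢
    omega
  by_cases hn : n ∈ D8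
  · exact (hterm n hn).symm
  · have ha : a11 n = 0 := by
      simp only [D8, Finset.mem_insert, Finset.mem_singleton, not_or] at hn
      obtain ⟨h1, h2, h3, h4, h5, h6, h8, h11⟩ := hn
      simp [a11, h1, h2, h3, h4, h5, h6, h8, h11]
    rw [ha]
    by_cases hd : n ∈ Nat.divisors 7920
    · exact (Finset.sum_eq_zero_iff.mp hrest) n (Finset.mem_sdiff.mpr ⟨hd, hn⟩)
    · by_contra hne
      have hpos : 0 < cnt M0 n := Nat.pos_of_ne_zero hne
      have := dvd_of_cnt_pos hpos
      rw [card_M0] at this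
      exact hd (Nat.mem_divisors.mpr ⟨this, by norm_num⟩)

theorem cnt_congr {A B : Type*} [Group A] [Group B] (e : A ≃* B) (n : ℕ) : cnt A n = cnt B n := by
  rw [cnt_def, cnt_def]
  exact Nat.card_congr (e.toEquiv.subtypeEquiv (fun a => by
    show orderOf a = n ↔ orderOf (e a) = n
    rw [e.orderOf_eq]))

/-- the standard copy is conjugate to `Cfsg.Spor.M11` -/
theorem nonempty_equiv_M0 : Nonempty (↥Spor.M11 ≃* ↥M0) := by
  obtain ⟨k, hk, hkd, hkp⟩ := exists_smul_eq_dod0_pt sqDod_mem_dodecads some_zero_mem_sqDod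
  have hinj : Function.Injective (MulAut.conj k).toMonoidHom := (MulAut.conj k).injective
  have hle : Spor.M11.map (MulAut.conj k).toMonoidHom ≤ M0 := by
    rintro x ⟨g, hg, rfl⟩
    have hg' : g ∈ fixH (stabP Spor.squareDodecad) {some 0} := by
      rw [← spor_M11_eq]; exact hg
    rw [mem_fixH] at hg'
    obtain ⟨hgs, hg0⟩ := hg'
    have hg0' : g (some 0) = some 0 := hg0 _ (Finset.mem_singleton_self _)
    show k * g * k⁻¹ ∈ fixH H12 (ptsOf [0])
    rw [mem_fixH]
    constructor
    · show k * g * k⁻¹ ∈ stabP (maskSet dod0)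
      rw [← hkd, mem_stabP_smul hk]
      have : k⁻¹ * (k * g * k⁻¹) * k = g := by group
      rw [this]
      exact hgs
    · intro q hq
      have hq' : q = pt 0 := by simpa [ptsOf] using hq
      rw [hq', ← hkp, Equiv.Perm.mul_apply, Equiv.Perm.mul_apply]
      simp [hg0']
  have hcard : Nat.card (Spor.M11.map (MulAut.conj k).toMonoidHom) = 7920 := by
    rw [Subgroup.card_map_of_injective hinj, card_spor_M11]
  have heq : Spor.M11.map (MulAut.conj k).toMonoidHom = M0 := by
    apply Subgroup.eq_of_le_of_card_ge hle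
    rw [hcard, card_M0]
  exact ⟨(Subgroup.equivMapOfInjective _ _ hinj).trans (MulEquiv.subgroupCongr heq)⟩

theorem cnt_spor_M11 (n : ℕ) : cnt ↥Spor.M11 n = a11 n := by
  obtain ⟨e⟩ := nonempty_equiv_M0
  rw [cnt_congr e, cnt_M0]

/-- the `nse` of `M₁₁` -/
theorem nse_spor_M11 :
    {c : ℕ | 0 < c ∧ ∃ n : ℕ, c = Nat.card {g : ↥Spor.M11 // orderOf g = n}} =
      ({1, 165, 440, 990, 1320, 1440, 1584, 1980} : Set ℕ) := by
  ext c
  simp only [Set.mem_ofPred_eq, Set.mem_insert_iff, Set.mem_singleton_iff]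
  constructor
  · rintro ⟨hc, n, rfl⟩
    rw [← cnt_def, cnt_spor_M11] at hc ⊢
    unfold a11 at hc ⊢
    split_ifs at hc ⊢ <;> simp at hc ⊢
  · have key : ∀ n, a11 n = Nat.card {g : ↥Spor.M11 // orderOf g = n} := fun n => by
      rw [← cnt_def, cnt_spor_M11]
    rintro (rfl | rfl | rfl | rfl | rfl | rfl | rfl | rfl)
    · exact ⟨by norm_num, 1, by rw [← key]; rfl⟩
    · exact ⟨by norm_num, 2, by rw [← key]; rfl⟩
    · exact ⟨by norm_num, 3, by rw [← key]; rfl⟩
    · exact ⟨by norm_num, 4, by rw [← key]; rfl⟩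
    · exact ⟨by norm_num, 6, by rw [← key]; rfl⟩
    · exact ⟨by norm_num, 11, by rw [← key]; rfl⟩
    · exact ⟨by norm_num, 5, by rw [← key]; rfl⟩
    · exact ⟨by norm_num, 8, by rw [← key]; rfl⟩

end Cfsg.Agent.Helper15.NseM
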