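import Mathlib
import Cfsg.Agent.Helper15.NseD

set_option autoImplicit false

/-!
A simplicity criterion for groups of order 7920: 144 Sylow 11-subgroups, elements of order 11
self-centralizing, no normal subgroup of index 5.
-/

namespace Cfsg.Agent.Helper15.Nse

open Subgroup

section
variable {G : Type*} [Group G] [Finite G]

/-- a normal subgroup of order divisible by 11 is the whole group (general form) -/
theorem eq_top_of_dvd' (hcard : Nat.card G = 7920) (h144 : Nat.card (Sylow 11 G) = 144)
    (hno5 : ∀ N : Subgroup G, N.Normal → N.index = 5 → False) (N : Subgroup G)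
    [hN : N.Normal] (h11 : 11 ∣ Nat.card N) : N = ⊤ := by
  obtain ⟨x, hx⟩ := exists_prime_orderOf_dvd_card' (G := N) 11 h11
  have hx' : orderOf (x : G) = 11 := by rw [Subgroup.orderOf_coe]; exact hx
  obtain ⟨P, hP⟩ := exists_sylow_eq hcard (x : G) hx'
  have hPN : (P : Subgroup G) ≤ N := by
    rw [hP, zpowers_le]; exact x.2
  have hfrat := Sylow.normalizer_sup_eq_top' P hPN
  have hPc := card_sylow11 hcard P
  have hidxN : (normalizer (P : Set G)).index = 144 := by
    rw [← Sylow.card_eq_index_normalizer, h144]
  have hNmc : Nat.card (normalizer (P : Set G)) = 55 := by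
    have := (normalizer (P : Set G)).card_mul_index
    rw [hidxN, hcard] at this
    omega
  have h1 : N.index = N.relIndex (normalizer (P : Set G)) := by
    rw [← relIndex_top_right, ← hfrat, relIndex_sup_right]
  have h2 : N.relIndex (normalizer (P : Set G)) ∣
      (P : Subgroup G).relIndex (normalizer (P : Set G)) :=
    relIndex_dvd_of_le_left _ hPN
  have h3 : (P : Subgroup G).relIndex (normalizer (P : Set G)) * Nat.card (P : Subgroup G) =
      Nat.card (normalizer (P : Set G)) := Cfsg.Agent.Helper11.relIndex_mul_card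
    (le_normalizer : (P : Subgroup G) ≤ normalizer (P : Set G))
  rw [hPc, hNmc] at h3
  have h4 : (P : Subgroup G).relIndex (normalizer (P : Set G)) = 5 := by omega
  rw [h4, ← h1] at h2
  rcases arith_dvd5 h2 with h | h
  · exact index_eq_one.mp h
  · exact (hno5 N hN h).elim

/-- a normal subgroup of order prime to 11 is trivial (general form) -/
theorem eq_bot_of_not_dvd' (hcard : Nat.card G = 7920)
    (hstar : ∀ x q : G, orderOf x = 11 → Commute x q → ¬ 11 ∣ orderOf q → q = 1)
    (N : Subgroup G) [hN : N.Normal] (h11 : ¬ 11 ∣ Nat.card N) : N = ⊥ := by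
  by_contra hne
  have hc1 : Nat.card N ≠ 1 := fun h => hne (eq_bot_of_card_eq N h)
  obtain ⟨p, hp, hpd⟩ := Nat.exists_prime_and_dvd hc1
  have : Fact p.Prime := ⟨hp⟩
  let Q : Sylow p N := default
  have hfrat := Sylow.normalizer_sup_eq_top Q
  set K : Subgroup G := (Q : Subgroup N).map N.subtype with hK
  have hKc : Nat.card K = Nat.card (Q : Subgroup N) :=
    Subgroup.card_map_of_injective N.subtype_injective
  have hKN : K ≤ N := by
    rw [hK]; exact map_subtype_le _
  have hQne : (Q : Subgroup N) ≠ ⊥ := Q.ne_bot_of_dvd_card hpd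
  have hKdN : Nat.card K ∣ Nat.card N := Subgroup.card_dvd_of_le hKN
  have hNd : Nat.card N ∣ 7920 := by rw [← hcard]; exact N.card_subgroup_dvd_card
  have hK11 : ¬ 11 ∣ Nat.card K := fun h => h11 (h.trans hKdN)
  have h1 : N.index = N.relIndex (normalizer (K : Set G)) := by
    rw [← relIndex_top_right, ← hfrat, relIndex_sup_right]
  have h2 : 11 ∣ N.index := by
    have := N.card_mul_index
    rw [hcard] at this
    have h3 : 11 ∣ Nat.card N * N.index := by rw [this]; norm_num
    rcases (Nat.Prime.dvd_mul (by norm_num)).mp h3 with h | h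
    · exact absurd h h11
    · exact h
  have h3 : 11 ∣ Nat.card (normalizer (K : Set G)) := by
    rw [h1] at h2
    exact h2.trans (relIndex_dvd_card _ _)
  obtain ⟨y, hy⟩ := exists_prime_orderOf_dvd_card' (G := normalizer (K : Set G)) 11 h3
  have hy' : orderOf (y : G) = 11 := by rw [Subgroup.orderOf_coe]; exact hy
  have hmod := Cfsg.Agent.Helper5.card_modEq_one_of_fixedPointFree K 11 (y : G) hy' y.2 (by
    intro k hk hcomm
    apply hstar (y : G) k hy' hcomm
    intro h
    exact hK11 (h.trans (Subgroup.orderOf_dvd_natCard K hk)))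
  have hK720 : Nat.card K ∣ 720 := by
    have h4 : Nat.card K ∣ 720 * 11 := hKdN.trans (by simpa using hNd)
    have hcop : Nat.Coprime (Nat.card K) 11 :=
      ((Nat.Prime.coprime_iff_not_dvd (by norm_num)).mpr hK11).symm
    exact hcop.dvd_of_dvd_mul_right h4
  have hmod' : Nat.card K % 11 = 1 := hmod
  have hcases := arith_mod11 (Nat.card K) (Nat.mem_divisors.mpr ⟨hK720, by norm_num⟩) hmod'
  have hpg : IsPGroup p (Q : Subgroup N) := Q.isPGroup'
  obtain ⟨j, hj⟩ := (IsPGroup.iff_card).mp hpg
  rw [← hKc] at hj
  rcases hcases with h | h | h | h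
  · apply hQne
    apply eq_bot_of_card_eq
    rw [← hKc, h]
  · have e2 := prime_eq_of_dvd_pow hp Nat.prime_two (j := j) (by rw [← hj, h]; norm_num)
    have e3 := prime_eq_of_dvd_pow hp Nat.prime_three (j := j) (by rw [← hj, h]; norm_num)
    omega
  · have e2 := prime_eq_of_dvd_pow hp Nat.prime_five (j := j) (by rw [← hj, h]; norm_num)
    have e3 := prime_eq_of_dvd_pow hp Nat.prime_three (j := j) (by rw [← hj, h]; norm_num)
    omega
  · have e2 := prime_eq_of_dvd_pow hp Nat.prime_two (j := j) (by rw [← hj, h]; norm_num)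
    have e3 := prime_eq_of_dvd_pow hp Nat.prime_three (j := j) (by rw [← hj, h]; norm_num)
    omega

/-- **Simplicity criterion** for groups of order 7920. -/
theorem simple_of_self_centralizing (hcard : Nat.card G = 7920)
    (h144 : Nat.card (Sylow 11 G) = 144)
    (hstar : ∀ x q : G, orderOf x = 11 → Commute x q → ¬ 11 ∣ orderOf q → q = 1)
    (hno5 : ∀ N : Subgroup G, N.Normal → N.index = 5 → False) : IsSimpleGroup G := by
  have hnt : Nontrivial G := by
    rw [← Finite.one_lt_card_iff_nontrivial, hcard]; norm_num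
  refine @IsSimpleGroup.mk G _ hnt ?_
  intro N hN
  by_cases h11 : 11 ∣ Nat.card N
  · right; exact eq_top_of_dvd' hcard h144 hno5 N h11
  · left; exact eq_bot_of_not_dvd' hcard hstar N h11

end

end Cfsg.Agent.Helper15.Nse
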