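import Mathlib
import Cfsg.Agent.Helper15.NseG
import Cfsg.Agent.Helper15.NseH

set_option autoImplicit false

/-!
Consequences of the counting function of `M₁₁` for centralizers, and groups with the same commuting graph.
-/

namespace Cfsg.Agent.Helper15.NseM

open Subgroup Cfsg.Agent.Helper15.Nse

section
variable {A : Type*} [Group A] [Finite A]

theorem orderOf_mem_D8 (hA : ∀ n, cnt A n = a11 n) (g : A) : orderOf g ∈ D8 := by
  have hpos : 0 < cnt A (orderOf g) := (cnt_pos_iff _).mpr ⟨g, rfl⟩
  rw [hA] at hpos
  by_contra hn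
  simp only [D8, Finset.mem_insert, Finset.mem_singleton, not_or] at hn
  obtain ⟨h1, h2, h3, h4, h5, h6, h8, h11⟩ := hn
  simp [a11, h1, h2, h3, h4, h5, h6, h8, h11] at hpos

theorem orderOf_cases (hA : ∀ n, cnt A n = a11 n) (g : A) :
    orderOf g = 1 ∨ orderOf g = 2 ∨ orderOf g = 3 ∨ orderOf g = 4 ∨ orderOf g = 5 ∨ orderOf g = 6 ∨
      orderOf g = 8 ∨ orderOf g = 11 := by
  have := orderOf_mem_D8 hA g
  simpa only [D8, Finset.mem_insert, Finset.mem_singleton] using this

/-- commuting elements of coprime orders `p` (prime) and `m`: the product has order `p * m` -/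
theorem orderOf_mul_of_commute {x q : A} (h : Commute x q) (hc : (orderOf x).Coprime (orderOf q)) :
    orderOf (x * q) = orderOf x * orderOf q :=
  h.orderOf_mul_eq_mul_orderOf_of_coprime hc

/-- an element commuting with an element of order 11, of order prime to 11, is trivial -/
theorem eq_one_of_commute_eleven (hA : ∀ n, cnt A n = a11 n) (x q : A) (hx : orderOf x = 11)
    (hq : Commute x q) (hq11 : ¬ 11 ∣ orderOf q) : q = 1 := by
  have hcop : (orderOf x).Coprime (orderOf q) := by
    rw [hx]; exact (Nat.Prime.coprime_iff_not_dvd (by norm_num)).mpr hq11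
  have hord := orderOf_mul_of_commute hq hcop
  rw [hx] at hord
  have hq8 := orderOf_cases hA q
  have hxq := orderOf_cases hA (x * q)
  rw [hord] at hxq
  rw [← orderOf_eq_one_iff]
  rcases hq8 with h | h | h | h | h | h | h | h <;> rw [h] at hxq hq11 ⊢ <;> omega

/-- an element of order 5 commutes with no element of order 2 or 11 -/
theorem not_commute_five (hA : ∀ n, cnt A n = a11 n) (x g : A) (hx : orderOf x = 5)
    (hg : orderOf g = 11 ∨ orderOf g = 2) : ¬ Commute x g := by
  intro hq
  have hcop : (orderOf x).Coprime (orderOf g) := by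
    rw [hx]; rcases hg with h | h <;> rw [h] <;> norm_num
  have hord := orderOf_mul_of_commute hq hcop
  have hxq := orderOf_cases hA (x * g)
  rw [hord, hx] at hxq
  rcases hg with h | h <;> rw [h] at hxq <;> omega

theorem mem_centralizer_singleton_iff {K : Type*} [Group K] (x y : K) :
    y ∈ centralizer ({x} : Set K) ↔ x * y = y * x := by
  rw [mem_centralizer_iff]
  constructor
  · intro h; exact h x (Set.mem_singleton x)
  · intro h z hz
    rw [Set.mem_singleton_iff] at hz
    subst hz; exact h

/-- centralizers of elements of order 11 have order 11 -/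
theorem card_centralizer_eleven (hA : ∀ n, cnt A n = a11 n) (hAc : Nat.card A = 7920) (g : A)
    (hg : orderOf g = 11) : Nat.card (centralizer ({g} : Set A)) = 11 := by
  set C := centralizer ({g} : Set A) with hC
  have hdvd : Nat.card C ∣ 7920 := by rw [← hAc]; exact C.card_subgroup_dvd_card
  have h11 : 11 ∣ Nat.card C := by
    have hgC : g ∈ C := by rw [hC, mem_centralizer_singleton_iff]
    have := Subgroup.orderOf_dvd_natCard C hgC
    rwa [hg] at this
  have hprime : ∀ p : ℕ, p.Prime → p ∣ Nat.card C → p = 11 := by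
    intro p hp hpd
    by_contra hne
    have : Fact p.Prime := ⟨hp⟩
    obtain ⟨q, hq⟩ := exists_prime_orderOf_dvd_card' (G := C) p hpd
    have hq' : orderOf (q : A) = p := by rw [Subgroup.orderOf_coe]; exact hq
    have hcomm : Commute g (q : A) := (mem_centralizer_singleton_iff g q).mp q.2
    have h1 := eq_one_of_commute_eleven hA g q hg hcomm (by
      rw [hq']
      intro hd
      exact hne ((Nat.prime_dvd_prime_iff_eq (by norm_num) hp).mp hd).symm)
    rw [h1, orderOf_one] at hq'
    exact hp.one_lt.ne hq'
  obtain ⟨k, hk⟩ : ∃ k, Nat.card C = 11 ^ k := by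
    have hpos : Nat.card C ≠ 0 := Nat.card_pos.ne'
    exact ⟨_, Nat.eq_prime_pow_of_unique_prime_dvd hpos (fun {p} hp hpd => hprime p hp hpd)⟩
  rw [hk] at hdvd h11 ⊢
  have hk2 : k < 2 := by
    by_contra hge
    rw [not_lt] at hge
    have : 11 ^ 2 ∣ 7920 := (pow_dvd_pow 11 hge).trans hdvd
    norm_num at this
  interval_cases k
  · norm_num at h11
  · norm_num

/-- a nonidentity element whose centralizer has order divisible by 11 has order 11 -/
theorem orderOf_eq_eleven_of_dvd (hA : ∀ n, cnt A n = a11 n) (g : A) (hg1 : g ≠ 1)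
    (h11 : 11 ∣ Nat.card (centralizer ({g} : Set A))) : orderOf g = 11 := by
  have : Fact (Nat.Prime 11) := ⟨by norm_num⟩
  obtain ⟨x, hx⟩ := exists_prime_orderOf_dvd_card' (G := centralizer ({g} : Set A)) 11 h11
  have hx' : orderOf (x : A) = 11 := by rw [Subgroup.orderOf_coe]; exact hx
  have hcomm : Commute (x : A) g := ((mem_centralizer_singleton_iff g x).mp x.2).symm
  by_contra hne
  have hnd : ¬ 11 ∣ orderOf g := by
    intro hd
    rcases orderOf_cases hA g with h | h | h | h | h | h | h | h <;> rw [h] at hd hne <;> omega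
  exact hg1 (eq_one_of_commute_eleven hA x g hx' hcomm hnd)

/-- 5 does not divide the order of the centralizer of an element of order 2 or 11 -/
theorem not_five_dvd_card_centralizer (hA : ∀ n, cnt A n = a11 n) (g : A)
    (hg : orderOf g = 11 ∨ orderOf g = 2) : ¬ 5 ∣ Nat.card (centralizer ({g} : Set A)) := by
  intro h5
  have : Fact (Nat.Prime 5) := ⟨Nat.prime_five⟩
  obtain ⟨x, hx⟩ := exists_prime_orderOf_dvd_card' (G := centralizer ({g} : Set A)) 5 h5
  have hx' : orderOf (x : A) = 5 := by rw [Subgroup.orderOf_coe]; exact hx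
  have hcomm : Commute (x : A) g := ((mem_centralizer_singleton_iff g x).mp x.2).symm
  exact not_commute_five hA x g hx' hg hcomm

end

end Cfsg.Agent.Helper15.NseM
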