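import Mathlib
import Cfsg.Agent.Helper15.NseI

set_option autoImplicit false

/-!
A finite group with the commuting graph of a group having the counting function of `M₁₁` is simple of
order 7920.
-/

namespace Cfsg.Agent.Helper15.NseM

open Subgroup Cfsg.Agent.Helper15.Nse

/-- the order of a centralizer, from the commuting graph -/
theorem card_centralizer_eq {K : Type*} [Group K] [Finite K] (x : K) :
    Nat.card (centralizer ({x} : Set K)) =
      Nat.card {y : {k : K // k ≠ 1} // x * y.1 = y.1 * x} + 1 := by
  classical
  have e : centralizer ({x} : Set K) ≃ Option {y : {k : K // k ≠ 1} // x * y.1 = y.1 * x} :=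
    { toFun := fun c => if h : (c : K) = 1 then none else
        some ⟨⟨c.1, h⟩, (mem_centralizer_singleton_iff x c.1).mp c.2⟩
      invFun := fun o => match o with
        | none => 1
        | some y => ⟨y.1.1, (mem_centralizer_singleton_iff x y.1.1).mpr y.2⟩
      left_inv := fun c => by
        by_cases h : (c : K) = 1
        · simp only [h, dite_true]
          exact Subtype.ext h.symm
        · simp only [h, dite_false]
      right_inv := fun o => by
        cases o with
        | none => simp
        | some y =>
          have : (y.1.1 : K) ≠ 1 := y.1.2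
          simp [this] }
  rw [Nat.card_congr e, Finite.card_option]

theorem card_eq_card_ne_one_add_one (K : Type*) [Group K] [Finite K] :
    Nat.card K = Nat.card {k : K // k ≠ 1} + 1 := by
  classical
  have : Fintype K := Fintype.ofFinite K
  rw [Nat.card_eq_fintype_card, Nat.card_eq_fintype_card, Fintype.card_subtype_compl,
    Fintype.card_subtype_eq]
  have : 0 < Fintype.card K := Fintype.card_pos
  omega

section
variable {H A : Type*} [Group H] [Finite H] [Group A] [Finite A]

theorem card_eq_of_equiv (f : {h : H // h ≠ 1} ≃ {g : A // g ≠ 1}) : Nat.card H = Nat.card A := by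
  rw [card_eq_card_ne_one_add_one H, card_eq_card_ne_one_add_one A, Nat.card_congr f]

variable (f : {h : H // h ≠ 1} ≃ {g : A // g ≠ 1})
  (hf : ∀ x y : {h : H // h ≠ 1}, (x : H) * y = y * x ↔ ((f x) : A) * (f y) = (f y) * (f x))

include hf in
theorem card_centralizer_map (x : {h : H // h ≠ 1}) :
    Nat.card (centralizer ({(x : H)} : Set H)) = Nat.card (centralizer ({((f x) : A)} : Set A)) := by
  rw [card_centralizer_eq, card_centralizer_eq]
  congr 1
  exact Nat.card_congr (f.subtypeEquiv (fun y => hf x y))

include hf in
/-- elements of order 11 correspond -/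
theorem orderOf_eleven_iff (hA : ∀ n, cnt A n = a11 n) (hAc : Nat.card A = 7920)
    (x : {h : H // h ≠ 1}) : orderOf (x : H) = 11 ↔ orderOf ((f x) : A) = 11 := by
  have hc := card_centralizer_map f hf x
  constructor
  · intro hx
    apply orderOf_eq_eleven_of_dvd hA _ (f x).2
    rw [← hc]
    have hxC : (x : H) ∈ centralizer ({(x : H)} : Set H) := by
      rw [mem_centralizer_singleton_iff]
    have := Subgroup.orderOf_dvd_natCard _ hxC
    rwa [hx] at this
  · intro hfx
    have h11 := card_centralizer_eleven hA hAc _ hfx
    rw [← hc] at h11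
    have hxC : (x : H) ∈ centralizer ({(x : H)} : Set H) := by
      rw [mem_centralizer_singleton_iff]
    have hd := Subgroup.orderOf_dvd_natCard _ hxC
    rw [h11] at hd
    rcases (Nat.dvd_prime (by norm_num)).mp hd with h | h
    · exact absurd (orderOf_eq_one_iff.mp h) x.2
    · exact h

include hf in
theorem cnt_eleven_of_graph (hA : ∀ n, cnt A n = a11 n) (hAc : Nat.card A = 7920) :
    cnt H 11 = 1440 := by
  have h1 : cnt A 11 = 1440 := by rw [hA]; rfl
  rw [← h1, cnt_def, cnt_def]
  have eH : {h : H // orderOf h = 11} ≃ {x : {h : H // h ≠ 1} // orderOf (x : H) = 11} :=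
    { toFun := fun h => ⟨⟨h.1, fun h1 => by
        have := h.2; rw [h1, orderOf_one] at this; norm_num at this⟩, h.2⟩
      invFun := fun x => ⟨x.1.1, x.2⟩
      left_inv := fun h => rfl
      right_inv := fun x => rfl }
  have eA : {g : A // orderOf g = 11} ≃ {x : {g : A // g ≠ 1} // orderOf (x : A) = 11} :=
    { toFun := fun h => ⟨⟨h.1, fun h1 => by
        have := h.2; rw [h1, orderOf_one] at this; norm_num at this⟩, h.2⟩
      invFun := fun x => ⟨x.1.1, x.2⟩
      left_inv := fun h => rfl
      right_inv := fun x => rfl }
  exact Nat.card_congr (eH.trans ((f.subtypeEquiv (fun x => orderOf_eleven_iff f hf hA hAc x)).trans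
    eA.symm))

include hf in
/-- self-centralizing elements of order 11 -/
theorem eq_one_of_commute_graph (hA : ∀ n, cnt A n = a11 n) (hAc : Nat.card A = 7920)
    (y q : H) (hy : orderOf y = 11) (hq : Commute y q) (hq11 : ¬ 11 ∣ orderOf q) : q = 1 := by
  have hy1 : y ≠ 1 := fun h => by rw [h, orderOf_one] at hy; norm_num at hy
  have hfy := (orderOf_eleven_iff f hf hA hAc ⟨y, hy1⟩).mp hy
  have h11 := card_centralizer_eleven hA hAc _ hfy
  rw [← card_centralizer_map f hf ⟨y, hy1⟩] at h11
  have hqC : q ∈ centralizer ({y} : Set H) := (mem_centralizer_singleton_iff y q).mpr hq.eq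
  have hd := Subgroup.orderOf_dvd_natCard _ hqC
  rw [h11] at hd
  rcases (Nat.dvd_prime (by norm_num)).mp hd with h | h
  · exact orderOf_eq_one_iff.mp h
  · exact absurd (h ▸ dvd_refl _) hq11

include hf in
/-- no normal subgroup of index 5 -/
theorem no_index_five (hA : ∀ n, cnt A n = a11 n) (hAc : Nat.card A = 7920)
    (N : Subgroup H) (hN : N.Normal) (h5 : N.index = 5) : False := by
  have hHc : Nat.card H = 7920 := (card_eq_of_equiv f).trans hAc
  have hNc : Nat.card N = 1584 := by
    have := N.card_mul_index
    rw [h5, hHc] at this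
    omega
  -- the preimages of the elements of order 11 or 2 lie in N
  have hmem : ∀ g : {g : A // g ≠ 1}, orderOf (g : A) = 11 ∨ orderOf (g : A) = 2 →
      ((f.symm g : {h : H // h ≠ 1}) : H) ∈ N := by
    intro g hg
    have h1 := not_five_dvd_card_centralizer hA (g : A) hg
    have h2 := card_centralizer_map f hf (f.symm g)
    rw [Equiv.apply_symm_apply] at h2
    rw [← h2] at h1
    set x : H := ((f.symm g : {h : H // h ≠ 1}) : H) with hx
    have hxC : x ∈ centralizer ({x} : Set H) := by rw [mem_centralizer_singleton_iff]
    have hd := Subgroup.orderOf_dvd_natCard _ hxC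
    have hnd : ¬ 5 ∣ orderOf x := fun h => h1 (h.trans hd)
    have : zpowers x ≤ N := by
      apply Cfsg.Agent.Helper8.le_of_coprime_index
      rw [Nat.card_zpowers, h5]
      exact ((Nat.Prime.coprime_iff_not_dvd Nat.prime_five).mpr hnd).symm
    exact this (mem_zpowers x)
  let φ : {g : A // orderOf g = 11} ⊕ {g : A // orderOf g = 2} → N := fun s =>
    match s with
    | Sum.inl g => ⟨_, hmem ⟨g.1, fun h1 => by
        have := g.2; rw [h1, orderOf_one] at this; norm_num at this⟩ (Or.inl g.2)⟩
    | Sum.inr g => ⟨_, hmem ⟨g.1, fun h1 => by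
        have := g.2; rw [h1, orderOf_one] at this; norm_num at this⟩ (Or.inr g.2)⟩
  have hφ : Function.Injective φ := by
    rintro (a | a) (b | b) hab
    · have h1 : ∀ (u v : {g : A // g ≠ 1}), ((f.symm u : {h : H // h ≠ 1}) : H) =
          ((f.symm v : {h : H // h ≠ 1}) : H) → u = v := fun u v h =>
        f.symm.injective (Subtype.ext h)
      have := h1 _ _ (congrArg (fun z : N => (z : H)) hab)
      have h2 : (a : A) = (b : A) := congrArg (fun u : {g : A // g ≠ 1} => (u : A)) this
      have h3 : a = b := Subtype.ext h2
      rw [h3]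
    · exfalso
      have h1 : ∀ (u v : {g : A // g ≠ 1}), ((f.symm u : {h : H // h ≠ 1}) : H) =
          ((f.symm v : {h : H // h ≠ 1}) : H) → u = v := fun u v h =>
        f.symm.injective (Subtype.ext h)
      have := h1 _ _ (congrArg (fun z : N => (z : H)) hab)
      have h2 : a.1 = b.1 := Subtype.ext_iff.mp this
      have ha := a.2; have hb := b.2
      rw [h2] at ha; omega
    · exfalso
      have h1 : ∀ (u v : {g : A // g ≠ 1}), ((f.symm u : {h : H // h ≠ 1}) : H) =
          ((f.symm v : {h : H // h ≠ 1}) : H) → u = v := fun u v h =>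
        f.symm.injective (Subtype.ext h)
      have := h1 _ _ (congrArg (fun z : N => (z : H)) hab)
      have h2 : a.1 = b.1 := Subtype.ext_iff.mp this
      have ha := a.2; have hb := b.2
      rw [h2] at ha; omega
    · have h1 : ∀ (u v : {g : A // g ≠ 1}), ((f.symm u : {h : H // h ≠ 1}) : H) =
          ((f.symm v : {h : H // h ≠ 1}) : H) → u = v := fun u v h =>
        f.symm.injective (Subtype.ext h)
      have := h1 _ _ (congrArg (fun z : N => (z : H)) hab)
      have h2 : (a : A) = (b : A) := congrArg (fun u : {g : A // g ≠ 1} => (u : A)) this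
      have h3 : a = b := Subtype.ext h2
      rw [h3]
  have hle := Nat.card_le_card_of_injective φ hφ
  rw [Nat.card_sum, ← cnt_def, ← cnt_def, hA, hA, hNc] at hle
  simp [a11] at hle

include hf in
/-- **Main step**: a group with the commuting graph of `A` is simple of order 7920. -/
theorem simple_of_graph (hA : ∀ n, cnt A n = a11 n) (hAc : Nat.card A = 7920) :
    IsSimpleGroup H ∧ Nat.card H = 7920 := by
  have hHc : Nat.card H = 7920 := (card_eq_of_equiv f).trans hAc
  refine ⟨?_, hHc⟩
  have h144 : Nat.card (Sylow 11 H) = 144 := by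
    have P : Sylow 11 H := default
    have h1 := Cfsg.Agent.Helper11.card_orderOf_eq_prime P (card_sylow11 hHc P)
    have h2 := cnt_eleven_of_graph f hf hA hAc
    rw [cnt_def] at h2
    rw [h2] at h1
    omega
  exact simple_of_self_centralizing hHc h144 (eq_one_of_commute_graph f hf hA hAc)
    (no_index_five f hf hA hAc)

end

end Cfsg.Agent.Helper15.NseM
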