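import Mathlib

set_option autoImplicit false

/-!
A verified exhaustive search for "order profiles" of a finite group with a prescribed set of
same-order-class sizes.  A profile is a function `tp : ℕ → ℕ` (`tp k` = number of elements of
order `k`) and a number `n` (the group order) satisfying the arithmetic facts collected in
`Profile`.  The search walks through an increasing list of candidate orders and decides for each
candidate whether it is an element order and what `tp` is there; `search_sound` says that the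
true profile is among the results.
-/

namespace Cfsg.Agent.Helper15.NseS

/-- arithmetic facts about the order profile of a finite group -/
structure Profile (tp : ℕ → ℕ) (n : ℕ) (vals : List ℕ) : Prop where
  one : tp 1 = 1
  tot : ∀ k, Nat.totient k ∣ tp k
  down : ∀ k d, tp k ≠ 0 → d ∣ k → tp d ≠ 0
  dvd_n : ∀ k, tp k ≠ 0 → k ∣ n
  frob : ∀ d, d ∣ n → d ∣ ∑ e ∈ d.divisors, tp e
  total : n = ∑ e ∈ n.divisors, tp e
  mem_vals : ∀ k, k ≠ 1 → tp k ≠ 0 → tp k ∈ vals
  vals_hit : ∀ v ∈ vals, ∃ k, tp k = v
  vals_gt : ∀ v ∈ vals, 1 < v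
  npos : 0 < n

/-- sum of the recorded counts over the recorded orders dividing `d` (`d = 0`: all) -/
def sOf (st : List (ℕ × ℕ)) (d : ℕ) : ℕ :=
  ((st.filter (fun p => d % p.1 == 0)).map Prod.snd).sum

/-- lcm of the recorded orders dividing `k` -/
def lcmOf (st : List (ℕ × ℕ)) (k : ℕ) : ℕ :=
  ((st.filter (fun p => k % p.1 == 0)).map Prod.fst).foldr Nat.lcm 1

def hasOrd (st : List (ℕ × ℕ)) (e : ℕ) : Bool := st.any (fun p => p.1 == e)

def c3 (st : List (ℕ × ℕ)) (k : ℕ) : Bool :=
  [2, 3, 5, 7].all (fun p => k % p != 0 || k / p == 1 || hasOrd st (k / p))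

def finalOk (vals D : List ℕ) (st : List (ℕ × ℕ)) : Bool :=
  vals.all (fun v => st.any (fun p => p.2 == v)) &&
  st.all (fun p => (1 + sOf st 0) % p.1 == 0) &&
  D.all (fun d => (1 + sOf st 0) % d != 0 || (1 + sOf st d) % d == 0)

/-- the search; candidates are pairs `(k, φ k)` in increasing order of `k` -/
def search (vals D : List ℕ) : List (ℕ × ℕ) → List (ℕ × ℕ) → List (List (ℕ × ℕ))
  | [], st => if finalOk vals D st then [st] else []
  | q :: rest, st =>
      (if lcmOf st q.1 != q.1 || (1 + sOf st q.1) % q.1 == 0 then search vals D rest st else []) ++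
      (if c3 st q.1 then
        (vals.filter (fun v => v % q.2 == 0 && (1 + sOf st q.1 + v) % q.1 == 0)).flatMap
          (fun v => search vals D rest ((q.1, v) :: st))
       else [])

/-- the true state after processing the orders in `P` (most recent first) -/
noncomputable def tstate (tp : ℕ → ℕ) (P : List ℕ) : List (ℕ × ℕ) :=
  (P.filter (fun e => decide (tp e ≠ 0))).map (fun e => (e, tp e))

theorem tstate_cons_zero (tp : ℕ → ℕ) (P : List ℕ) (k : ℕ) (h : tp k = 0) :
    tstate tp (k :: P) = tstate tp P := by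
  unfold tstate
  rw [List.filter_cons_of_neg (by simpa using h)]

theorem tstate_cons_ne (tp : ℕ → ℕ) (P : List ℕ) (k : ℕ) (h : tp k ≠ 0) :
    tstate tp (k :: P) = (k, tp k) :: tstate tp P := by
  unfold tstate
  rw [List.filter_cons_of_pos (by simpa using h), List.map_cons]

theorem mem_tstate (tp : ℕ → ℕ) (P : List ℕ) (p : ℕ × ℕ) :
    p ∈ tstate tp P ↔ p.1 ∈ P ∧ tp p.1 ≠ 0 ∧ p.2 = tp p.1 := by
  unfold tstate
  simp only [List.mem_map, List.mem_filter, decide_eq_true_eq]
  constructor
  · rintro ⟨e, ⟨he, hne⟩, rfl⟩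
    exact ⟨he, hne, rfl⟩
  · rintro ⟨h1, h2, h3⟩
    exact ⟨p.1, ⟨h1, h2⟩, by rw [← h3]⟩

/-- `sOf` of the true state as a finset sum -/
theorem sOf_tstate (tp : ℕ → ℕ) (P : List ℕ) (hP : P.Nodup) (d : ℕ) :
    sOf (tstate tp P) d =
      ∑ e ∈ (P.filter (fun e => decide (tp e ≠ 0) && (d % e == 0))).toFinset, tp e := by
  unfold sOf tstate
  rw [List.sum_toFinset _ (hP.filter _)]
  rw [List.filter_map, List.map_map, List.filter_filter]
  have hf : List.filter (fun a => ((fun p : ℕ × ℕ => d % p.1 == 0) ∘ fun e => (e, tp e)) a &&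
      decide (tp a ≠ 0)) P = List.filter (fun e => decide (tp e ≠ 0) && d % e == 0) P := by
    apply List.filter_congr
    intro x _
    simp [Bool.and_comm]
  rw [hf]
  rfl

theorem sum_eq (tp : ℕ → ℕ) (h1 : tp 1 = 1) (P : List ℕ) (hP : P.Nodup) (hP1 : ∀ e ∈ P, 1 < e)
    (d : ℕ) (hd : d ≠ 0) (hin : ∀ e, e ∣ d → e ≠ 1 → tp e ≠ 0 → e ∈ P) :
    1 + sOf (tstate tp P) d = ∑ e ∈ d.divisors, tp e := by
  rw [sOf_tstate tp P hP d]
  have hsub : insert 1 (P.filter (fun e => decide (tp e ≠ 0) && (d % e == 0))).toFinset ⊆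
      d.divisors := by
    intro e he
    rw [Finset.mem_insert] at he
    rcases he with rfl | he
    · exact Nat.one_mem_divisors.mpr hd
    · rw [List.mem_toFinset, List.mem_filter] at he
      simp only [Bool.and_eq_true, decide_eq_true_eq, beq_iff_eq] at he
      exact Nat.mem_divisors.mpr ⟨Nat.dvd_of_mod_eq_zero he.2.2, hd⟩
  rw [← Finset.sum_subset hsub]
  · rw [Finset.sum_insert, h1]
    intro h
    rw [List.mem_toFinset, List.mem_filter] at h
    exact absurd (hP1 1 h.1) (lt_irrefl 1)
  · intro e he hne
    by_contra h0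
    apply hne
    rw [Finset.mem_insert]
    by_cases h1e : e = 1
    · exact Or.inl h1e
    · right
      rw [List.mem_toFinset, List.mem_filter]
      have hed := (Nat.mem_divisors.mp he).1
      refine ⟨hin e hed h1e h0, ?_⟩
      simp only [Bool.and_eq_true, decide_eq_true_eq, beq_iff_eq]
      exact ⟨h0, Nat.mod_eq_zero_of_dvd hed⟩

theorem foldr_lcm_dvd (l : List ℕ) (n : ℕ) (h : ∀ e ∈ l, e ∣ n) : l.foldr Nat.lcm 1 ∣ n := by
  induction l with
  | nil => exact one_dvd n
  | cons a l ih =>
    rw [List.foldr_cons]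
    exact Nat.lcm_dvd (h a (List.mem_cons_self)) (ih (fun e he => h e (List.mem_cons_of_mem _ he)))

theorem lcmOf_dvd {tp : ℕ → ℕ} {n : ℕ} {vals : List ℕ} (hp : Profile tp n vals) (P : List ℕ) (k : ℕ) :
    lcmOf (tstate tp P) k ∣ n := by
  unfold lcmOf
  apply foldr_lcm_dvd
  intro e he
  rw [List.mem_map] at he
  obtain ⟨p, hp1, rfl⟩ := he
  have := (List.mem_filter.mp hp1).1
  rw [mem_tstate] at this
  exact hp.dvd_n _ this.2.1

theorem hasOrd_tstate (tp : ℕ → ℕ) (P : List ℕ) (e : ℕ) (he : e ∈ P) (h0 : tp e ≠ 0) :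
    hasOrd (tstate tp P) e = true := by
  unfold hasOrd
  rw [List.any_eq_true]
  exact ⟨(e, tp e), (mem_tstate tp P _).mpr ⟨he, h0, rfl⟩, by simp⟩

theorem sOf_zero_eq {tp : ℕ → ℕ} {n : ℕ} {vals : List ℕ} (hp : Profile tp n vals) (P : List ℕ) :
    sOf (tstate tp P) 0 = sOf (tstate tp P) n := by
  unfold sOf
  congr 2
  apply List.filter_congr
  intro p hp1
  rw [mem_tstate] at hp1
  have := hp.dvd_n _ hp1.2.1
  simp [Nat.mod_eq_zero_of_dvd this]

section sound
variable {tp : ℕ → ℕ} {n : ℕ} {vals : List ℕ} (hp : Profile tp n vals) (D : List ℕ)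
include hp

theorem final_ok (P : List ℕ) (hP : P.Nodup) (hP1 : ∀ e ∈ P, 1 < e)
    (hsupp : ∀ k, tp k ≠ 0 → k = 1 ∨ k ∈ P) : finalOk vals D (tstate tp P) = true := by
  have hn : 1 + sOf (tstate tp P) 0 = n := by
    rw [sOf_zero_eq hp, sum_eq tp hp.one P hP hP1 n hp.npos.ne', ← hp.total]
    intro e _ h1 h0
    rcases hsupp e h0 with h | h
    · exact absurd h h1
    · exact h
  unfold finalOk
  rw [hn]
  simp only [Bool.and_eq_true, List.all_eq_true, List.any_eq_true]
  refine ⟨⟨?_, ?_⟩, ?_⟩
  · intro v hv
    obtain ⟨k, hk⟩ := hp.vals_hit v hv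
    have hv1 := hp.vals_gt v hv
    have hk0 : tp k ≠ 0 := by omega
    have hk1 : k ≠ 1 := by
      rintro rfl
      rw [hp.one] at hk
      omega
    rcases hsupp k hk0 with h | h
    · exact absurd h hk1
    · exact ⟨(k, tp k), (mem_tstate tp P _).mpr ⟨h, hk0, rfl⟩, by simp [hk]⟩
  · intro p hp1
    rw [mem_tstate] at hp1
    simp [Nat.mod_eq_zero_of_dvd (hp.dvd_n _ hp1.2.1)]
  · intro d _
    by_cases hdn : n % d = 0
    · have hdvd : d ∣ n := Nat.dvd_of_mod_eq_zero hdn
      have hd0 : d ≠ 0 := by
        rintro rfl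
        have := Nat.eq_zero_of_zero_dvd hdvd
        exact hp.npos.ne' this
      have h2 := hp.frob d hdvd
      rw [← sum_eq tp hp.one P hP hP1 d hd0] at h2
      · simp [Nat.mod_eq_zero_of_dvd h2]
      · intro e _ h1 h0
        rcases hsupp e h0 with h | h
        · exact absurd h h1
        · exact h
    · simp [hdn]

theorem search_aux : ∀ (rest : List (ℕ × ℕ)) (P : List ℕ),
    (∀ e ∈ P, ∀ q ∈ rest, e < q.1) → P.Nodup → (rest.map Prod.fst).Pairwise (· < ·) →
    (∀ q ∈ rest, q.2 = Nat.totient q.1) → (∀ e ∈ P, 1 < e) → (∀ q ∈ rest, 1 < q.1) →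
    (∀ k, tp k ≠ 0 → k = 1 ∨ k ∈ P ∨ k ∈ rest.map Prod.fst) →
    tstate tp ((rest.map Prod.fst).reverse ++ P) ∈ search vals D rest (tstate tp P) := by
  intro rest
  induction rest with
  | nil =>
    intro P _ hP _ _ hP1 _ hsupp
    simp only [List.map_nil, List.reverse_nil, List.nil_append, search]
    rw [if_pos]
    · exact List.mem_singleton.mpr rfl
    · apply final_ok hp D P hP hP1
      intro k hk
      rcases hsupp k hk with h | h | h
      · exact Or.inl h
      · exact Or.inr h
      · simp at h
  | cons q r ih =>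
    intro P hlt hP hsorted htot hP1 hr1 hsupp
    have hk1 : 1 < q.1 := hr1 q List.mem_cons_self
    have hkP : q.1 ∉ P := fun h => lt_irrefl _ (hlt q.1 h q List.mem_cons_self)
    rw [List.map_cons, List.pairwise_cons] at hsorted
    -- elements dividing k, other than 1 and k, with nonzero count are in P
    have hbelow : ∀ e, e ∣ q.1 → e ≠ 1 → e ≠ q.1 → tp e ≠ 0 → e ∈ P := by
      intro e hek h1 hne h0
      rcases hsupp e h0 with h | h | h
      · exact absurd h h1
      · exact h
      · rw [List.map_cons, List.mem_cons] at h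
        rcases h with h | h
        · exact absurd h hne
        · have := hsorted.1 e h
          have := Nat.le_of_dvd (by omega) hek
          omega
    have hIH : tstate tp ((r.map Prod.fst).reverse ++ (q.1 :: P)) ∈
        search vals D r (tstate tp (q.1 :: P)) := by
      apply ih (q.1 :: P)
      · intro e he q' hq'
        rw [List.mem_cons] at he
        rcases he with rfl | he
        · exact hsorted.1 q'.1 (List.mem_map_of_mem hq')
        · exact hlt e he q' (List.mem_cons_of_mem _ hq')
      · exact List.nodup_cons.mpr ⟨hkP, hP⟩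
      · exact hsorted.2
      · intro q' hq'
        exact htot q' (List.mem_cons_of_mem _ hq')
      · intro e he
        rw [List.mem_cons] at he
        rcases he with rfl | he
        · exact hk1
        · exact hP1 e he
      · intro q' hq'
        exact hr1 q' (List.mem_cons_of_mem _ hq')
      · intro k hk
        rcases hsupp k hk with h | h | h
        · exact Or.inl h
        · exact Or.inr (Or.inl (List.mem_cons_of_mem _ h))
        · rw [List.map_cons, List.mem_cons] at h
          rcases h with h | h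
          · exact Or.inr (Or.inl (h ▸ List.mem_cons_self))
          · exact Or.inr (Or.inr h)
    have hlist : ((q :: r).map Prod.fst).reverse ++ P = (r.map Prod.fst).reverse ++ (q.1 :: P) := by
      simp
    rw [hlist]
    simp only [search]
    rw [List.mem_append]
    by_cases h0 : tp q.1 = 0
    · left
      rw [tstate_cons_zero tp P q.1 h0] at hIH
      rw [if_pos]
      · exact hIH
      · by_cases hl : lcmOf (tstate tp P) q.1 = q.1
        · have hkn : q.1 ∣ n := hl ▸ lcmOf_dvd hp P q.1
          have h2 := hp.frob q.1 hkn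
          rw [← sum_eq tp hp.one P hP hP1 q.1 (by omega)] at h2
          · simp [Nat.mod_eq_zero_of_dvd h2]
          · intro e hek h1 h0'
            apply hbelow e hek h1 _ h0'
            rintro rfl
            exact h0' h0
        · simp [hl]
    · right
      rw [tstate_cons_ne tp P q.1 h0] at hIH
      have hc3 : c3 (tstate tp P) q.1 = true := by
        unfold c3
        rw [List.all_eq_true]
        intro p hp2
        by_cases hpk : q.1 % p = 0
        · by_cases hkp : q.1 / p = 1
          · simp [hkp]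
          · have hpd : p ∣ q.1 := Nat.dvd_of_mod_eq_zero hpk
            have hdiv : q.1 / p ∣ q.1 := Nat.div_dvd_of_dvd hpd
            have hp2' : 2 ≤ p := by
              simp only [List.mem_cons, List.not_mem_nil, or_false] at hp2
              omega
            have hne : q.1 / p ≠ q.1 := by
              have := Nat.div_lt_self (by omega : 0 < q.1) hp2'
              omega
            have h0' : tp (q.1 / p) ≠ 0 := hp.down _ _ h0 hdiv
            have := hbelow _ hdiv hkp hne h0'
            simp [hasOrd_tstate tp P _ this h0']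
        · simp [hpk]
      rw [if_pos hc3, List.mem_flatMap]
      refine ⟨tp q.1, ?_, hIH⟩
      rw [List.mem_filter]
      refine ⟨hp.mem_vals _ (by omega) h0, ?_⟩
      have ht : tp q.1 % q.2 = 0 := by
        rw [htot q List.mem_cons_self]
        exact Nat.mod_eq_zero_of_dvd (hp.tot q.1)
      have hkn : q.1 ∣ n := hp.dvd_n _ h0
      have h2 := hp.frob q.1 hkn
      have hP1' : ∀ e ∈ q.1 :: P, 1 < e := by
        intro e he
        rw [List.mem_cons] at he
        rcases he with rfl | he
        · exact hk1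
        · exact hP1 e he
      rw [← sum_eq tp hp.one (q.1 :: P) (List.nodup_cons.mpr ⟨hkP, hP⟩) hP1' q.1 (by omega)] at h2
      · rw [tstate_cons_ne tp P q.1 h0] at h2
        have h3 : sOf ((q.1, tp q.1) :: tstate tp P) q.1 = tp q.1 + sOf (tstate tp P) q.1 := by
          unfold sOf
          rw [List.filter_cons_of_pos (by simp)]
          simp
        rw [h3] at h2
        have h4 : (1 + sOf (tstate tp P) q.1 + tp q.1) % q.1 = 0 := by
          apply Nat.mod_eq_zero_of_dvd
          have : 1 + sOf (tstate tp P) q.1 + tp q.1 = 1 + (tp q.1 + sOf (tstate tp P) q.1) := by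
            ring
          rw [this]
          exact h2
        simp [ht, h4]
      · intro e hek h1 h0'
        by_cases hek' : e = q.1
        · exact hek' ▸ List.mem_cons_self
        · exact List.mem_cons_of_mem _ (hbelow e hek h1 hek' h0')

/-- soundness of the search -/
theorem search_sound (L : List (ℕ × ℕ)) (hsorted : (L.map Prod.fst).Pairwise (· < ·))
    (htot : ∀ q ∈ L, q.2 = Nat.totient q.1) (h1 : ∀ q ∈ L, 1 < q.1)
    (hsupp : ∀ k, tp k ≠ 0 → k = 1 ∨ k ∈ L.map Prod.fst) :
    tstate tp (L.map Prod.fst).reverse ∈ search vals D L [] := by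
  have := search_aux hp D L [] (by simp) List.nodup_nil hsorted htot (by simp) h1
    (fun k hk => (hsupp k hk).imp id Or.inr)
  simpa [tstate] using this

end sound

end Cfsg.Agent.Helper15.NseS
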