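import Mathlib
import Cfsg.Agent.Helper15.NseA
import Cfsg.Agent.Helper15.NseS1
import Cfsg.Agent.Helper20.FrobF

set_option autoImplicit false

/-!
The order profile of a finite group satisfies the arithmetic facts of `NseS.Profile`.
-/

namespace Cfsg.Agent.Helper15.NseS

open Cfsg.Agent.Helper15.Nse

section
variable {G : Type*} [Group G] [Finite G]

/-- the number of elements of order `k` is a multiple of `φ(k)` -/
theorem totient_dvd_cnt (k : ℕ) : Nat.totient k ∣ cnt G k := by
  classical
  have := Fintype.ofFinite G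
  rw [cnt_def, Nat.card_eq_fintype_card, Fintype.card_subtype]
  set S := Finset.univ.filter (fun g : G => orderOf g = k) with hS
  have h := Finset.card_eq_sum_card_fiberwise (f := fun g : G => Subgroup.zpowers g)
    (s := S) (t := S.image (fun g : G => Subgroup.zpowers g)) (by
      intro g hg
      exact Finset.mem_coe.mpr (Finset.mem_image_of_mem _ hg))
  rw [h]
  apply Finset.dvd_sum
  intro C hC
  rw [Finset.mem_image] at hC
  obtain ⟨g0, hg0, rfl⟩ := hC
  have hk : orderOf g0 = k := (Finset.mem_filter.mp hg0).2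
  -- the fiber is in bijection with the generators of the cyclic group `zpowers g0`
  have hcard : Fintype.card (Subgroup.zpowers g0) = k := by
    rw [← Nat.card_eq_fintype_card, Nat.card_zpowers, hk]
  have h2 := IsCyclic.card_orderOf_eq_totient (α := Subgroup.zpowers g0) (d := k) (by rw [hcard])
  rw [← h2]
  apply dvd_of_eq
  apply Finset.card_bij (fun (a : Subgroup.zpowers g0) _ => (a : G))
  · intro a ha
    rw [Finset.mem_filter] at ha
    have hoa : orderOf (a : G) = k := by rw [Subgroup.orderOf_coe]; exact ha.2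
    rw [Finset.mem_filter, hS, Finset.mem_filter]
    refine ⟨⟨Finset.mem_univ _, hoa⟩, ?_⟩
    -- zpowers a = zpowers g0
    apply Subgroup.eq_of_le_of_card_ge
    · rw [Subgroup.zpowers_le]; exact a.2
    · rw [Nat.card_zpowers, Nat.card_zpowers, hoa, hk]
  · intro a _ b _ hab
    exact Subtype.ext hab
  · intro g hg
    rw [Finset.mem_filter, hS, Finset.mem_filter] at hg
    have hmem : g ∈ Subgroup.zpowers g0 := by
      rw [← hg.2]; exact Subgroup.mem_zpowers g
    refine ⟨⟨g, hmem⟩, ?_, rfl⟩
    rw [Finset.mem_filter]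
    refine ⟨Finset.mem_univ _, ?_⟩
    rw [← Subgroup.orderOf_coe]
    exact hg.1.2

theorem cnt_ne_zero_iff (k : ℕ) : cnt G k ≠ 0 ↔ ∃ g : G, orderOf g = k := by
  rw [← cnt_pos_iff, Nat.pos_iff_ne_zero]

theorem cnt_ne_zero_of_dvd {k d : ℕ} (h : cnt G k ≠ 0) (hd : d ∣ k) : cnt G d ≠ 0 := by
  rw [cnt_ne_zero_iff] at h ⊢
  obtain ⟨g, rfl⟩ := h
  obtain ⟨c, hc⟩ := hd
  refine ⟨g ^ c, ?_⟩
  have hpos : 0 < orderOf g := orderOf_pos g
  have hc0 : c ≠ 0 := by
    rintro rfl
    rw [Nat.mul_zero] at hc
    omega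
  have hd0 : 0 < d := by
    rcases Nat.eq_zero_or_pos d with h | h
    · rw [h, Nat.zero_mul] at hc; omega
    · exact h
  rw [orderOf_pow_of_dvd hc0 ⟨d, by rw [hc, Nat.mul_comm]⟩, hc]
  exact Nat.mul_div_cancel d (Nat.pos_of_ne_zero hc0)

/-- the number of solutions of `x ^ d = 1` -/
theorem card_pow_eq_one (d : ℕ) (hd : d ≠ 0) :
    Nat.card {g : G // g ^ d = 1} = ∑ e ∈ d.divisors, cnt G e := by
  classical
  have := Fintype.ofFinite G
  rw [Nat.card_eq_fintype_card, Fintype.card_subtype]
  have h := Finset.card_eq_sum_card_fiberwise (f := fun g : G => orderOf g)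
    (s := Finset.univ.filter (fun g : G => g ^ d = 1)) (t := d.divisors) (by
      intro g hg
      have hg' : g ^ d = 1 := (Finset.mem_filter.mp hg).2
      exact Finset.mem_coe.mpr (Nat.mem_divisors.mpr ⟨orderOf_dvd_of_pow_eq_one hg', hd⟩))
  rw [h]
  apply Finset.sum_congr rfl
  intro e he
  rw [cnt_def, Nat.card_eq_fintype_card, Fintype.card_subtype]
  congr 1
  ext g
  simp only [Finset.mem_filter, Finset.mem_univ, true_and]
  constructor
  · exact fun h => h.2
  · intro hg
    refine ⟨?_, hg⟩
    have hed : e ∣ d := (Nat.mem_divisors.mp he).1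
    obtain ⟨c, hc⟩ := hed
    rw [hc, pow_mul, ← hg, pow_orderOf_eq_one, one_pow]

theorem frob_cnt (d : ℕ) (hd : d ∣ Nat.card G) : d ∣ ∑ e ∈ d.divisors, cnt G e := by
  have hd0 : d ≠ 0 := by
    rintro rfl
    have := Nat.eq_zero_of_zero_dvd hd
    exact Nat.card_pos.ne' this
  rw [← card_pow_eq_one d hd0]
  exact Cfsg.Agent.Helper20.frobenius_dvd d hd

/-- if some class size is odd and `> 1` it is the number of involutions -/
theorem cnt_two_of_odd (v0 : ℕ) (hodd : Odd v0) (h1 : 1 < v0) (k : ℕ) (hk : cnt G k = v0) :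
    k = 2 := by
  have hdvd := totient_dvd_cnt (G := G) k
  rw [hk] at hdvd
  have hk2 : ¬ 2 < k := by
    intro h2
    have hev := Nat.totient_even h2
    have : Even v0 := hev.trans_dvd hdvd
    exact (Nat.not_even_iff_odd.mpr hodd) this
  have hk0 : k ≠ 0 := by
    rintro rfl
    have h0 : cnt G 0 = 0 := by
      by_contra hne
      obtain ⟨g, hg⟩ := (cnt_ne_zero_iff 0).mp hne
      exact (orderOf_pos g).ne' hg
    omega
  have hk1 : k ≠ 1 := by
    rintro rfl
    rw [cnt_one] at hk
    omega
  omega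

/-- the order profile of `G`, given its set of same-order-class sizes -/
theorem profile_of_nse (vals : List ℕ) (hgt : ∀ v ∈ vals, 1 < v) (v0 : ℕ) (hv0 : v0 ∈ vals)
    (hodd : Odd v0)
    (h : ((fun m : ℕ => Nat.card {g : G // orderOf g = m}) '' Set.range (orderOf : G → ℕ)) =
      insert 1 {v | v ∈ vals}) :
    Profile (cnt G) (Nat.card G) vals where
  one := cnt_one
  tot := totient_dvd_cnt
  down := fun _ _ hk hd => cnt_ne_zero_of_dvd hk hd
  dvd_n := fun _ hk => dvd_of_cnt_pos (Nat.pos_of_ne_zero hk)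
  frob := frob_cnt
  total := sum_cnt.symm
  mem_vals := by
    intro k hk1 hk0
    obtain ⟨g, hg⟩ := (cnt_ne_zero_iff k).mp hk0
    have hmem : cnt G k ∈ ((fun m : ℕ => Nat.card {g : G // orderOf g = m}) ''
        Set.range (orderOf : G → ℕ)) := ⟨k, ⟨g, hg⟩, rfl⟩
    rw [h] at hmem
    rcases hmem with h1 | h1
    · exfalso
      have hdvd := totient_dvd_cnt (G := G) k
      rw [h1, Nat.dvd_one, Nat.totient_eq_one_iff] at hdvd
      have hk2 : k = 2 := by
        rcases hdvd with h | h
        · exact absurd h hk1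
        · exact h
      -- the odd value is the number of involutions
      have hmem0 : v0 ∈ ((fun m : ℕ => Nat.card {g : G // orderOf g = m}) ''
          Set.range (orderOf : G → ℕ)) := by
        rw [h]; exact Or.inr hv0
      obtain ⟨k', _, hk''⟩ := hmem0
      have hk' : cnt G k' = v0 := hk''
      have := cnt_two_of_odd v0 hodd (hgt v0 hv0) k' hk'
      rw [this, ← hk2, h1] at hk'
      have := hgt v0 hv0
      omega
    · exact h1
  vals_hit := by
    intro v hv
    have hmem : v ∈ ((fun m : ℕ => Nat.card {g : G // orderOf g = m}) ''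
        Set.range (orderOf : G → ℕ)) := by
      rw [h]; exact Or.inr hv
    obtain ⟨k, _, hk⟩ := hmem
    exact ⟨k, hk⟩
  vals_gt := hgt
  npos := Nat.card_pos

end

end Cfsg.Agent.Helper15.NseS
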