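import Mathlib
import Cfsg.Agent.Helper15.NseS1

set_option autoImplicit false

/-!
The three concrete searches: a profile with class sizes `{1,3,8}`, `{1,15,20,24}`,
`{1,45,80,90,144}` is the profile of `A₄`, `A₅`, `A₆` respectively.
-/

namespace Cfsg.Agent.Helper15.NseS

/-- the support of a profile lies in a list closed under "multiply by an admissible prime" -/
theorem supp_aux {tp : ℕ → ℕ} {n : ℕ} {vals : List ℕ} (hp : Profile tp n vals) (Pr L : List ℕ)
    (hprimes : ∀ p, p.Prime → tp p ≠ 0 → p ∈ Pr)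
    (hclosed : ∀ p ∈ Pr, ∀ k' ∈ 1 :: L, (∃ v ∈ vals, Nat.totient (p * k') ∣ v) → p * k' ∈ L) :
    ∀ k, tp k ≠ 0 → k = 1 ∨ k ∈ L := by
  intro k
  induction k using Nat.strong_induction_on with
  | _ k ih =>
    intro hk
    by_cases hk1 : k = 1
    · exact Or.inl hk1
    right
    have hk0 : k ≠ 0 := by
      rintro rfl
      have := hp.dvd_n 0 hk
      exact hp.npos.ne' (Nat.eq_zero_of_zero_dvd this)
    have hpr : (k.minFac).Prime := Nat.minFac_prime hk1
    have hpk : k.minFac ∣ k := Nat.minFac_dvd k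
    have hdiv : k / k.minFac ∣ k := Nat.div_dvd_of_dvd hpk
    have hlt : k / k.minFac < k := Nat.div_lt_self (Nat.pos_of_ne_zero hk0) hpr.one_lt
    have h1 := ih _ hlt (hp.down _ _ hk hdiv)
    have h2 := hprimes _ hpr (hp.down _ _ hk hpk)
    have hkeq : k.minFac * (k / k.minFac) = k := Nat.mul_div_cancel' hpk
    have h3 := hclosed _ h2 (k / k.minFac) (by
      rcases h1 with h | h
      · rw [h]; exact List.mem_cons_self
      · exact List.mem_cons_of_mem _ h)
    rw [hkeq] at h3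
    exact h3 ⟨tp k, hp.mem_vals k hk1 hk, hp.tot k⟩

/-- the admissible primes -/
theorem primes_aux {tp : ℕ → ℕ} {n : ℕ} {vals : List ℕ} (hp : Profile tp n vals) (Pr : List ℕ)
    (B : ℕ) (hB : ∀ v ∈ vals, 1 + v < B)
    (hchk : ∀ v ∈ vals, ∀ p ∈ List.range B, p.Prime → (p - 1) ∣ v → p ∣ 1 + v → p ∈ Pr) :
    ∀ p, p.Prime → tp p ≠ 0 → p ∈ Pr := by
  intro p hpr h0
  have hv := hp.mem_vals p hpr.ne_one h0
  have hd := hp.tot p
  rw [Nat.totient_prime hpr] at hd
  have hf := hp.frob p (hp.dvd_n p h0)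
  rw [Nat.Prime.divisors hpr, Finset.sum_pair hpr.ne_one.symm, hp.one] at hf
  have hle : p ≤ 1 + tp p := Nat.le_of_dvd (by omega) hf
  exact hchk _ hv p (List.mem_range.mpr (lt_of_le_of_lt hle (hB _ hv))) hpr hd hf

def Dlist : List ℕ := [3, 4, 5, 7, 8, 9, 11, 13, 16, 17, 19, 23, 25, 27, 108]

def L4 : List (ℕ × ℕ) := [(2, 1), (3, 2), (4, 2), (6, 2), (8, 4), (12, 4), (16, 8), (24, 8)]
def L5 : List (ℕ × ℕ) := [(2, 1), (3, 2), (4, 2), (5, 4), (6, 2), (8, 4), (9, 6), (10, 4), (12, 4), (15, 8), (16, 8), (18, 6), (20, 8), (24, 8), (25, 20), (30, 8), (36, 12), (45, 24), (50, 20), (72, 24), (90, 24)]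
def L6 : List (ℕ × ℕ) := [(2, 1), (3, 2), (4, 2), (5, 4), (6, 2), (7, 6), (8, 4), (9, 6), (10, 4), (12, 4), (14, 6), (15, 8), (16, 8), (18, 6), (20, 8), (21, 12), (24, 8), (25, 20), (27, 18), (28, 12), (30, 8), (32, 16), (35, 24), (36, 12), (40, 16), (42, 12), (45, 24), (48, 16), (50, 20), (54, 18), (56, 24), (60, 16), (63, 36), (70, 24), (72, 24), (75, 40), (84, 24), (90, 24), (100, 40), (105, 48), (108, 36), (112, 48), (126, 36), (135, 72), (140, 48), (144, 48), (150, 40), (168, 48), (180, 48), (200, 80), (210, 48), (216, 72), (252, 72), (270, 72), (300, 80), (315, 144), (432, 144), (504, 144), (540, 144), (630, 144)]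

theorem search4 : search [3, 8] Dlist L4 [] = [[(3, 8), (2, 3)]] := by decide +kernel
theorem search5 : search [15, 20, 24] Dlist L5 [] = [[(5, 24), (3, 20), (2, 15)]] := by
  decide +kernel
set_option maxRecDepth 100000 in
theorem search6 : search [45, 80, 90, 144] Dlist L6 [] = [[(5, 144), (4, 90), (3, 80), (2, 45)]] := by
  decide +kernel

theorem L4tot : ∀ q ∈ L4, q.2 = Nat.totient q.1 := by decide +kernel
theorem L5tot : ∀ q ∈ L5, q.2 = Nat.totient q.1 := by decide +kernel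
theorem L6tot : ∀ q ∈ L6, q.2 = Nat.totient q.1 := by decide +kernel

theorem L4sorted : (L4.map Prod.fst).Pairwise (· < ·) := by decide +kernel
theorem L5sorted : (L5.map Prod.fst).Pairwise (· < ·) := by decide +kernel
theorem L6sorted : (L6.map Prod.fst).Pairwise (· < ·) := by decide +kernel

theorem L4gt : ∀ q ∈ L4, 1 < q.1 := by decide +kernel
theorem L5gt : ∀ q ∈ L5, 1 < q.1 := by decide +kernel
theorem L6gt : ∀ q ∈ L6, 1 < q.1 := by decide +kernel

theorem primes4 : ∀ v ∈ [3, 8], ∀ p ∈ List.range 146, p.Prime → (p - 1) ∣ v → p ∣ 1 + v →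
    p ∈ [2, 3] := by decide +kernel
theorem primes5 : ∀ v ∈ [15, 20, 24], ∀ p ∈ List.range 146, p.Prime → (p - 1) ∣ v → p ∣ 1 + v →
    p ∈ [2, 3, 5] := by decide +kernel
theorem primes6 : ∀ v ∈ [45, 80, 90, 144], ∀ p ∈ List.range 146, p.Prime → (p - 1) ∣ v →
    p ∣ 1 + v → p ∈ [2, 3, 5, 7] := by decide +kernel

theorem closed4 : ∀ p ∈ [2, 3], ∀ k' ∈ 1 :: L4.map Prod.fst,
    (∃ v ∈ [3, 8], Nat.totient (p * k') ∣ v) → p * k' ∈ L4.map Prod.fst := by decide +kernel
theorem closed5 : ∀ p ∈ [2, 3, 5], ∀ k' ∈ 1 :: L5.map Prod.fst,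
    (∃ v ∈ [15, 20, 24], Nat.totient (p * k') ∣ v) → p * k' ∈ L5.map Prod.fst := by decide +kernel
theorem closed6 : ∀ p ∈ [2, 3, 5, 7], ∀ k' ∈ 1 :: L6.map Prod.fst,
    (∃ v ∈ [45, 80, 90, 144], Nat.totient (p * k') ∣ v) → p * k' ∈ L6.map Prod.fst := by
  decide +kernel

end Cfsg.Agent.Helper15.NseS
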