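import Mathlib
import Cfsg.Agent.Helper15.NseS3

set_option autoImplicit false

/-!
Conclusions of the three searches.
-/

namespace Cfsg.Agent.Helper15.NseS

section
variable {tp : ℕ → ℕ} {n : ℕ} {vals : List ℕ} (hp : Profile tp n vals)
include hp

theorem n_eq (P : List ℕ) (hP : P.Nodup) (hP1 : ∀ e ∈ P, 1 < e)
    (hsupp : ∀ k, tp k ≠ 0 → k = 1 ∨ k ∈ P) : 1 + sOf (tstate tp P) 0 = n := by
  rw [sOf_zero_eq hp, sum_eq tp hp.one P hP hP1 n hp.npos.ne', ← hp.total]
  intro e _ h1 h0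
  rcases hsupp e h0 with h | h
  · exact absurd h h1
  · exact h

/-- what the search result says about the profile -/
theorem conclusion (D : List ℕ) (L : List (ℕ × ℕ)) (hsorted : (L.map Prod.fst).Pairwise (· < ·))
    (htot : ∀ q ∈ L, q.2 = Nat.totient q.1) (h1 : ∀ q ∈ L, 1 < q.1)
    (hsupp : ∀ k, tp k ≠ 0 → k = 1 ∨ k ∈ L.map Prod.fst) (target : List (ℕ × ℕ))
    (hsearch : search vals D L [] = [target]) :
    n = 1 + sOf target 0 ∧ (∀ p ∈ target, tp p.1 = p.2) ∧
      (∀ k, tp k ≠ 0 → k = 1 ∨ k ∈ target.map Prod.fst) := by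
  have hs := search_sound hp D L hsorted htot h1 hsupp
  rw [hsearch, List.mem_singleton] at hs
  have hnodup : (L.map Prod.fst).reverse.Nodup := by
    rw [List.nodup_reverse]
    exact hsorted.imp (fun h => Nat.ne_of_lt h)
  have hgt : ∀ e ∈ (L.map Prod.fst).reverse, 1 < e := by
    intro e he
    rw [List.mem_reverse, List.mem_map] at he
    obtain ⟨q, hq, rfl⟩ := he
    exact h1 q hq
  have hsupp' : ∀ k, tp k ≠ 0 → k = 1 ∨ k ∈ (L.map Prod.fst).reverse := by
    intro k hk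
    rcases hsupp k hk with h | h
    · exact Or.inl h
    · exact Or.inr (List.mem_reverse.mpr h)
  refine ⟨?_, ?_, ?_⟩
  · rw [← hs]
    exact (n_eq hp _ hnodup hgt hsupp').symm
  · intro p hpt
    rw [← hs, mem_tstate] at hpt
    exact hpt.2.2.symm
  · intro k hk
    rcases hsupp' k hk with h | h
    · exact Or.inl h
    · right
      have : (k, tp k) ∈ tstate tp (L.map Prod.fst).reverse :=
        (mem_tstate tp _ _).mpr ⟨h, hk, rfl⟩
      rw [hs] at this
      exact List.mem_map.mpr ⟨(k, tp k), this, rfl⟩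

end

theorem profile4 {tp : ℕ → ℕ} {n : ℕ} (hp : Profile tp n [3, 8]) :
    n = 12 ∧ tp 3 = 8 ∧ (∀ k, tp k ≠ 0 → k = 1 ∨ k = 2 ∨ k = 3) := by
  have hpr := primes_aux hp [2, 3] 146 (by decide) primes4
  have hsupp := supp_aux hp [2, 3] (L4.map Prod.fst) hpr closed4
  obtain ⟨h1, h2, h3⟩ := conclusion hp Dlist L4 L4sorted L4tot L4gt hsupp _ search4
  refine ⟨h1.trans (by decide), h2 (3, 8) (by decide), ?_⟩
  intro k hk
  rcases h3 k hk with h | h
  · exact Or.inl h
  · simp only [List.map_cons, List.map_nil, List.mem_cons, List.not_mem_nil, or_false] at h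
    omega

theorem profile5 {tp : ℕ → ℕ} {n : ℕ} (hp : Profile tp n [15, 20, 24]) :
    n = 60 ∧ tp 3 = 20 ∧ tp 5 = 24 ∧ (∀ k, tp k ≠ 0 → k = 1 ∨ k = 2 ∨ k = 3 ∨ k = 5) := by
  have hpr := primes_aux hp [2, 3, 5] 146 (by decide) primes5
  have hsupp := supp_aux hp [2, 3, 5] (L5.map Prod.fst) hpr closed5
  obtain ⟨h1, h2, h3⟩ := conclusion hp Dlist L5 L5sorted L5tot L5gt hsupp _ search5
  refine ⟨h1.trans (by decide), h2 (3, 20) (by decide), h2 (5, 24) (by decide), ?_⟩
  intro k hk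
  rcases h3 k hk with h | h
  · exact Or.inl h
  · simp only [List.map_cons, List.map_nil, List.mem_cons, List.not_mem_nil, or_false] at h
    omega

theorem profile6 {tp : ℕ → ℕ} {n : ℕ} (hp : Profile tp n [45, 80, 90, 144]) :
    n = 360 ∧ tp 2 = 45 ∧ tp 3 = 80 ∧ tp 4 = 90 ∧ tp 5 = 144 ∧
      (∀ k, tp k ≠ 0 → k = 1 ∨ k = 2 ∨ k = 3 ∨ k = 4 ∨ k = 5) := by
  have hpr := primes_aux hp [2, 3, 5, 7] 146 (by decide) primes6
  have hsupp := supp_aux hp [2, 3, 5, 7] (L6.map Prod.fst) hpr closed6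
  obtain ⟨h1, h2, h3⟩ := conclusion hp Dlist L6 L6sorted L6tot L6gt hsupp _ search6
  refine ⟨h1.trans (by decide), h2 (2, 45) (by decide), h2 (3, 80) (by decide),
    h2 (4, 90) (by decide), h2 (5, 144) (by decide), ?_⟩
  intro k hk
  rcases h3 k hk with h | h
  · exact Or.inl h
  · simp only [List.map_cons, List.map_nil, List.mem_cons, List.not_mem_nil, or_false] at h
    omega

end Cfsg.Agent.Helper15.NseS
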