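import Mathlib
import Cfsg.Agent.Helper15.NseA
import Cfsg.Agent.Helper5.ConjAct

set_option autoImplicit false

/-!
A simplicity criterion from the order profile: a prime `p` exactly dividing `|G|`, elements of
order `p` self-centralizing modulo `p`-elements, and arithmetic conditions.
-/

namespace Cfsg.Agent.Helper15.NseS

open Cfsg.Agent.Helper15.Nse Subgroup

section
variable {G : Type*} [Group G] [Finite G]

/-- subgroups of order `p` are Sylow when `p²` does not divide the group order -/
theorem exists_sylow_eq_zpowers (p : ℕ) [hp : Fact p.Prime] (hp2 : ¬ p ^ 2 ∣ Nat.card G)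
    (x : G) (hx : orderOf x = p) : ∃ P : Sylow p G, (P : Subgroup G) = zpowers x := by
  have hpg : IsPGroup p (zpowers x) := by
    apply IsPGroup.of_card (n := 1)
    rw [Nat.card_zpowers, hx, pow_one]
  obtain ⟨P, hP⟩ := hpg.exists_le_sylow
  obtain ⟨j, hj⟩ := (IsPGroup.iff_card).mp P.isPGroup'
  have hj1 : j ≤ 1 := by
    by_contra h
    apply hp2
    have : p ^ 2 ∣ p ^ j := pow_dvd_pow p (by omega)
    exact this.trans (hj ▸ (P : Subgroup G).card_subgroup_dvd_card)
  refine ⟨P, (Subgroup.eq_of_le_of_card_ge hP ?_).symm⟩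
  rw [hj, Nat.card_zpowers, hx]
  calc p ^ j ≤ p ^ 1 := Nat.pow_le_pow_right hp.out.pos hj1
    _ = p := pow_one p

/-- a normal subgroup of order divisible by `p` contains all elements of order `p` -/
theorem mem_of_orderOf_eq (p : ℕ) [hp : Fact p.Prime] (hp2 : ¬ p ^ 2 ∣ Nat.card G)
    (N : Subgroup G) [hN : N.Normal] (hpN : p ∣ Nat.card N) (x : G) (hx : orderOf x = p) :
    x ∈ N := by
  obtain ⟨y, hy⟩ := exists_prime_orderOf_dvd_card' (G := N) p hpN
  have hy' : orderOf (y : G) = p := by rw [Subgroup.orderOf_coe]; exact hy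
  obtain ⟨P, hP⟩ := exists_sylow_eq_zpowers p hp2 (y : G) hy'
  obtain ⟨Q, hQ⟩ := exists_sylow_eq_zpowers p hp2 x hx
  obtain ⟨g, hg⟩ := MulAction.exists_smul_eq G P Q
  have hxQ : x ∈ (Q : Subgroup G) := by rw [hQ]; exact mem_zpowers x
  rw [← hg] at hxQ
  have hPN : (P : Subgroup G) ≤ N := by
    rw [hP, zpowers_le]; exact y.2
  -- `g • P = Q`, so `x = g * z * g⁻¹` with `z ∈ P ≤ N`
  have hx2 : x ∈ ((g • P : Sylow p G) : Subgroup G) := hxQ
  rw [Sylow.coe_subgroup_smul, Subgroup.mem_smul_pointwise_iff_exists] at hx2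
  obtain ⟨z, hz, rfl⟩ := hx2
  exact hN.conj_mem z (hPN hz) g

omit [Finite G] in
/-- elements of odd order lie in every subgroup of index two -/
theorem mem_of_index_two (N : Subgroup G) (h2 : N.index = 2) (x : G) (hodd : Odd (orderOf x)) :
    x ∈ N := by
  obtain ⟨m, hm⟩ := hodd
  have h1 : x ^ 2 ∈ N := by
    rw [sq]
    exact Subgroup.mul_self_mem_of_index_two h2 x
  have h3 : x = (x ^ 2) ^ (m + 1) := by
    rw [← pow_mul]
    have : 2 * (m + 1) = orderOf x + 1 := by omega
    rw [this, pow_succ, pow_orderOf_eq_one, one_mul]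
  rw [h3]
  exact N.pow_mem h1 _

/-- the elements whose orders lie in `S` all belong to `N`: lower bound for `|N|` -/
theorem sum_cnt_le_card (N : Subgroup G) (S : Finset ℕ)
    (hS : ∀ k ∈ S, ∀ x : G, orderOf x = k → x ∈ N) : ∑ k ∈ S, cnt G k ≤ Nat.card N := by
  classical
  have := Fintype.ofFinite G
  have h := Finset.card_eq_sum_card_fiberwise (f := fun g : G => orderOf g)
    (s := Finset.univ.filter (fun g : G => orderOf g ∈ S)) (t := S) (by
      intro g hg
      exact Finset.mem_coe.mpr (Finset.mem_filter.mp hg).2)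
  have h2 : ∑ k ∈ S, cnt G k = (Finset.univ.filter (fun g : G => orderOf g ∈ S)).card := by
    rw [h]
    apply Finset.sum_congr rfl
    intro k hk
    rw [cnt_def, Nat.card_eq_fintype_card, Fintype.card_subtype]
    congr 1
    ext g
    simp only [Finset.mem_filter, Finset.mem_univ, true_and]
    constructor
    · intro hg; exact ⟨hg ▸ hk, hg⟩
    · exact fun hg => hg.2
  rw [h2]
  have h3 : Nat.card N = (Finset.univ.filter (fun g : G => g ∈ N)).card := by
    rw [Nat.card_eq_fintype_card, Fintype.card_subtype]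
  rw [h3]
  apply Finset.card_le_card
  intro g hg
  rw [Finset.mem_filter] at hg ⊢
  exact ⟨Finset.mem_univ _, hS _ hg.2 g rfl⟩

/-- a normal subgroup of order prime to `p` is trivial -/
theorem eq_bot_of_not_dvd_gen (p : ℕ) [hp : Fact p.Prime] (hpG : p ∣ Nat.card G)
    (hstar : ∀ x q : G, orderOf x = p → Commute x q → ¬ p ∣ orderOf q → q = 1)
    (harith : ∀ r j : ℕ, r.Prime → 0 < j → r ^ j ∣ Nat.card G → r ≠ p → r ^ j % p ≠ 1)
    (N : Subgroup G) [hN : N.Normal] (hpN : ¬ p ∣ Nat.card N) : N = ⊥ := by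
  by_contra hne
  have hc1 : Nat.card N ≠ 1 := fun h => hne (eq_bot_of_card_eq N h)
  obtain ⟨r, hr, hrd⟩ := Nat.exists_prime_and_dvd hc1
  have : Fact r.Prime := ⟨hr⟩
  let Q : Sylow r N := default
  have hfrat := Sylow.normalizer_sup_eq_top Q
  set K : Subgroup G := (Q : Subgroup N).map N.subtype with hK
  have hKc : Nat.card K = Nat.card (Q : Subgroup N) :=
    Subgroup.card_map_of_injective N.subtype_injective
  have hKN : K ≤ N := by
    rw [hK]; exact map_subtype_le _
  have hQne : (Q : Subgroup N) ≠ ⊥ := Q.ne_bot_of_dvd_card hrd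
  have hKdN : Nat.card K ∣ Nat.card N := Subgroup.card_dvd_of_le hKN
  have hKp : ¬ p ∣ Nat.card K := fun h => hpN (h.trans hKdN)
  have h1 : N.index = N.relIndex (normalizer (K : Set G)) := by
    rw [← relIndex_top_right, ← hfrat, relIndex_sup_right]
  have h2 : p ∣ N.index := by
    have := N.card_mul_index
    have h3 : p ∣ Nat.card N * N.index := by rw [this]; exact hpG
    rcases (Nat.Prime.dvd_mul hp.out).mp h3 with h | h
    · exact absurd h hpN
    · exact h
  have h3 : p ∣ Nat.card (normalizer (K : Set G)) := by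
    rw [h1] at h2
    exact h2.trans (relIndex_dvd_card _ _)
  obtain ⟨y, hy⟩ := exists_prime_orderOf_dvd_card' (G := normalizer (K : Set G)) p h3
  have hy' : orderOf (y : G) = p := by rw [Subgroup.orderOf_coe]; exact hy
  have hmod := Cfsg.Agent.Helper5.card_modEq_one_of_fixedPointFree K p (y : G) hy' y.2 (by
    intro k hk hcomm
    apply hstar (y : G) k hy' hcomm
    intro h
    exact hKp (h.trans (Subgroup.orderOf_dvd_natCard K hk)))
  obtain ⟨j, hj⟩ := (IsPGroup.iff_card).mp Q.isPGroup'
  rw [← hKc] at hj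
  have hj0 : 0 < j := by
    rcases Nat.eq_zero_or_pos j with h | h
    · exfalso
      apply hQne
      apply eq_bot_of_card_eq
      rw [← hKc, hj, h, pow_zero]
    · exact h
  have hrp : r ≠ p := by
    rintro rfl
    exact hpN hrd
  have hdvd : r ^ j ∣ Nat.card G := hj ▸ K.card_subgroup_dvd_card
  have hmod' : Nat.card K % p = 1 := by
    have := hmod
    unfold Nat.ModEq at this
    rw [this]
    exact Nat.mod_eq_of_lt hp.out.one_lt
  rw [hj] at hmod'
  exact harith r j hr hj0 hdvd hrp hmod'

end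

end Cfsg.Agent.Helper15.NseS
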