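import Mathlib

set_option autoImplicit false

/-!
The sets of same-order-class sizes of `A₄`, `A₅`, `A₆`.
-/

namespace Cfsg.Agent.Helper15.NseS

open Equiv

/-- computable order of a permutation of order at most 6 (0 if the order is larger) -/
def ordC {n : ℕ} (g : Perm (Fin n)) : ℕ :=
  if g = 1 then 1 else if g ^ 2 = 1 then 2 else if g ^ 3 = 1 then 3 else if g ^ 4 = 1 then 4
  else if g ^ 5 = 1 then 5 else if g ^ 6 = 1 then 6 else 0

theorem orderOf_eq_ordC {n : ℕ} (g : Perm (Fin n)) (h : ordC g ≠ 0) : orderOf g = ordC g := by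
  unfold ordC at h ⊢
  split_ifs at h ⊢ with h1 h2 h3 h4 h5 h6
  · rw [h1, orderOf_one]
  · rw [orderOf_eq_iff (by norm_num)]
    refine ⟨h2, fun j hj hpos => ?_⟩
    interval_cases j
    simpa using h1
  · rw [orderOf_eq_iff (by norm_num)]
    refine ⟨h3, fun j hj hpos => ?_⟩
    interval_cases j
    · simpa using h1
    · exact h2
  · rw [orderOf_eq_iff (by norm_num)]
    refine ⟨h4, fun j hj hpos => ?_⟩
    interval_cases j
    · simpa using h1
    · exact h2
    · exact h3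
  · rw [orderOf_eq_iff (by norm_num)]
    refine ⟨h5, fun j hj hpos => ?_⟩
    interval_cases j
    · simpa using h1
    · exact h2
    · exact h3
    · exact h4
  · rw [orderOf_eq_iff (by norm_num)]
    refine ⟨h6, fun j hj hpos => ?_⟩
    interval_cases j
    · simpa using h1
    · exact h2
    · exact h3
    · exact h4
    · exact h5
  · exact absurd rfl h

/-- number of even permutations with a given computed order -/
def cntC (n m : ℕ) : ℕ :=
  (Finset.univ.filter (fun g : Perm (Fin n) => Perm.sign g = 1 ∧ ordC g = m)).card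

theorem card_orderOf_alt (n : ℕ) (hall : ∀ g : Perm (Fin n), Perm.sign g = 1 → ordC g ≠ 0) (m : ℕ) :
    Nat.card {g : ↥(alternatingGroup (Fin n)) // orderOf g = m} = cntC n m := by
  unfold cntC
  rw [← Fintype.card_subtype, ← Nat.card_eq_fintype_card]
  apply Nat.card_congr
  refine ⟨fun x => ⟨x.1.1, Perm.mem_alternatingGroup.mp x.1.2, ?_⟩,
    fun y => ⟨⟨y.1, Perm.mem_alternatingGroup.mpr y.2.1⟩, ?_⟩, ?_, ?_⟩
  · have h1 := hall x.1.1 (Perm.mem_alternatingGroup.mp x.1.2)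
    rw [← orderOf_eq_ordC _ h1, Subgroup.orderOf_coe]
    exact x.2
  · have h1 := hall y.1 y.2.1
    rw [← Subgroup.orderOf_coe]
    show orderOf y.1 = m
    rw [orderOf_eq_ordC _ h1]
    exact y.2.2
  · intro x; rfl
  · intro y; rfl

/-- the set of same-order-class sizes of an alternating group, from the computed data -/
theorem nse_alt (n : ℕ) (hall : ∀ g : Perm (Fin n), Perm.sign g = 1 → ordC g ≠ 0) (vals : List ℕ)
    (h1 : ∀ g : Perm (Fin n), Perm.sign g = 1 → cntC n (ordC g) = 1 ∨ cntC n (ordC g) ∈ vals)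
    (h2 : ∀ v ∈ vals, ∃ m, cntC n m = v ∧ v ≠ 0) :
    ((fun m : ℕ => Nat.card {g : ↥(alternatingGroup (Fin n)) // orderOf g = m}) ''
      Set.range (orderOf : ↥(alternatingGroup (Fin n)) → ℕ)) = insert 1 {v | v ∈ vals} := by
  ext v
  constructor
  · rintro ⟨m, ⟨g, rfl⟩, rfl⟩
    show Nat.card {x : ↥(alternatingGroup (Fin n)) // orderOf x = orderOf g} ∈ _
    rw [card_orderOf_alt n hall]
    have hg := Perm.mem_alternatingGroup.mp g.2
    have h3 : orderOf g = ordC g.1 := by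
      rw [← orderOf_eq_ordC _ (hall g.1 hg), Subgroup.orderOf_coe]
    rw [h3]
    rcases h1 g.1 hg with h | h
    · exact Or.inl h
    · exact Or.inr h
  · rintro (rfl | hv)
    · refine ⟨1, ⟨1, orderOf_one⟩, ?_⟩
      show Nat.card {x : ↥(alternatingGroup (Fin n)) // orderOf x = 1} = 1
      have : Unique {x : ↥(alternatingGroup (Fin n)) // orderOf x = 1} :=
        ⟨⟨⟨1, orderOf_one⟩⟩, fun g => Subtype.ext (orderOf_eq_one_iff.mp g.2)⟩
      exact Nat.card_unique
    · obtain ⟨m, hm, hv0⟩ := h2 v hv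
      have h3 : Nat.card {x : ↥(alternatingGroup (Fin n)) // orderOf x = m} = v := by
        rw [card_orderOf_alt n hall, hm]
      have hne : Nonempty {x : ↥(alternatingGroup (Fin n)) // orderOf x = m} := by
        by_contra hemp
        rw [not_nonempty_iff] at hemp
        rw [Nat.card_of_isEmpty] at h3
        exact hv0 h3.symm
      obtain ⟨⟨x, hx⟩⟩ := hne
      exact ⟨m, ⟨x, hx⟩, h3⟩

theorem hall4 : ∀ g : Perm (Fin 4), Perm.sign g = 1 → ordC g ≠ 0 := by decide +kernel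
theorem hall5 : ∀ g : Perm (Fin 5), Perm.sign g = 1 → ordC g ≠ 0 := by decide +kernel
theorem hall6 : ∀ g : Perm (Fin 6), Perm.sign g = 1 → ordC g ≠ 0 := by decide +kernel

theorem cnt4 : cntC 4 1 = 1 ∧ cntC 4 2 = 3 ∧ cntC 4 3 = 8 := by decide +kernel
theorem cnt5 : cntC 5 1 = 1 ∧ cntC 5 2 = 15 ∧ cntC 5 3 = 20 ∧ cntC 5 5 = 24 := by decide +kernel
theorem cnt6 : cntC 6 1 = 1 ∧ cntC 6 2 = 45 ∧ cntC 6 3 = 80 ∧ cntC 6 4 = 90 ∧ cntC 6 5 = 144 := by
  decide +kernel

theorem ord4 : ∀ g : Perm (Fin 4), Perm.sign g = 1 → ordC g = 1 ∨ ordC g = 2 ∨ ordC g = 3 := by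
  decide +kernel
theorem ord5 : ∀ g : Perm (Fin 5), Perm.sign g = 1 →
    ordC g = 1 ∨ ordC g = 2 ∨ ordC g = 3 ∨ ordC g = 5 := by decide +kernel
theorem ord6 : ∀ g : Perm (Fin 6), Perm.sign g = 1 →
    ordC g = 1 ∨ ordC g = 2 ∨ ordC g = 3 ∨ ordC g = 4 ∨ ordC g = 5 := by decide +kernel

theorem nseA4 : ((fun m : ℕ => Nat.card {g : ↥(alternatingGroup (Fin 4)) // orderOf g = m}) ''
    Set.range (orderOf : ↥(alternatingGroup (Fin 4)) → ℕ)) = insert 1 {v | v ∈ [3, 8]} := by
  apply nse_alt 4 hall4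
  · intro g hg
    rcases ord4 g hg with h | h | h <;> rw [h] <;> simp [cnt4.1, cnt4.2.1, cnt4.2.2]
  · intro v hv
    simp only [List.mem_cons, List.not_mem_nil, or_false] at hv
    rcases hv with rfl | rfl
    · exact ⟨2, cnt4.2.1, by norm_num⟩
    · exact ⟨3, cnt4.2.2, by norm_num⟩

theorem nseA5 : ((fun m : ℕ => Nat.card {g : ↥(alternatingGroup (Fin 5)) // orderOf g = m}) ''
    Set.range (orderOf : ↥(alternatingGroup (Fin 5)) → ℕ)) = insert 1 {v | v ∈ [15, 20, 24]} := by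
  apply nse_alt 5 hall5
  · intro g hg
    rcases ord5 g hg with h | h | h | h <;> rw [h] <;>
      simp [cnt5.1, cnt5.2.1, cnt5.2.2.1, cnt5.2.2.2]
  · intro v hv
    simp only [List.mem_cons, List.not_mem_nil, or_false] at hv
    rcases hv with rfl | rfl | rfl
    · exact ⟨2, cnt5.2.1, by norm_num⟩
    · exact ⟨3, cnt5.2.2.1, by norm_num⟩
    · exact ⟨5, cnt5.2.2.2, by norm_num⟩

theorem nseA6 : ((fun m : ℕ => Nat.card {g : ↥(alternatingGroup (Fin 6)) // orderOf g = m}) ''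
    Set.range (orderOf : ↥(alternatingGroup (Fin 6)) → ℕ)) =
      insert 1 {v | v ∈ [45, 80, 90, 144]} := by
  apply nse_alt 6 hall6
  · intro g hg
    rcases ord6 g hg with h | h | h | h | h <;> rw [h] <;>
      simp [cnt6.1, cnt6.2.1, cnt6.2.2.1, cnt6.2.2.2.1, cnt6.2.2.2.2]
  · intro v hv
    simp only [List.mem_cons, List.not_mem_nil, or_false] at hv
    rcases hv with rfl | rfl | rfl | rfl
    · exact ⟨2, cnt6.2.1, by norm_num⟩
    · exact ⟨3, cnt6.2.2.1, by norm_num⟩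
    · exact ⟨4, cnt6.2.2.2.1, by norm_num⟩
    · exact ⟨5, cnt6.2.2.2.2, by norm_num⟩

end Cfsg.Agent.Helper15.NseS
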