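import Mathlib
import Cfsg.Agent.Helper15.NseS2
import Cfsg.Agent.Helper15.NseS4
import Cfsg.Agent.Helper15.NseS5
import Cfsg.Agent.S0228
import Cfsg.Agent.S0494
import Cfsg.Agent.S0497

set_option autoImplicit false

/-!
Groups with the order profile of `A₄`, `A₅`, `A₆` are isomorphic to these groups.
-/

namespace Cfsg.Agent.Helper15.NseS

open Cfsg.Agent.Helper15.Nse Subgroup

section
variable {G : Type*} [Group G] [Finite G]

theorem cnt_orderOf_ne_zero (g : G) : cnt G (orderOf g) ≠ 0 :=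
  (cnt_ne_zero_iff _).mpr ⟨g, rfl⟩

/-- elements of order 5 are self-centralizing modulo 5-elements, from the support -/
theorem hstar5 (hsupp : ∀ k, cnt G k ≠ 0 → k = 1 ∨ k = 2 ∨ k = 3 ∨ k = 4 ∨ k = 5) :
    ∀ x q : G, orderOf x = 5 → Commute x q → ¬ 5 ∣ orderOf q → q = 1 := by
  intro x q hx hc h5
  have hcop : Nat.Coprime (orderOf x) (orderOf q) := by
    rw [hx]
    exact (Nat.Prime.coprime_iff_not_dvd (by norm_num)).mpr h5
  have h1 := hc.orderOf_mul_eq_mul_orderOf_of_coprime hcop
  have h2 := hsupp _ (cnt_orderOf_ne_zero (x * q))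
  rw [h1, hx] at h2
  have hq : orderOf q = 1 := by
    have := orderOf_pos q
    omega
  exact orderOf_eq_one_iff.mp hq

theorem arith60 : ∀ d ∈ Nat.divisors 60, d % 5 = 1 → d = 1 ∨ d = 6 := by decide +kernel
theorem arith360 : ∀ d ∈ Nat.divisors 360, d % 5 = 1 → d = 1 ∨ d = 6 ∨ d = 36 := by decide +kernel
theorem arith60b : ∀ c ∈ Nat.divisors 60, 5 ∣ c → 25 ≤ c → c = 30 ∨ c = 60 := by decide +kernel
theorem arith360b : ∀ c ∈ Nat.divisors 360, 5 ∣ c → 145 ≤ c → c = 180 ∨ c = 360 := by
  decide +kernel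

theorem prime_eq_of_dvd_pow' {p r j : ℕ} (hp : p.Prime) (hr : r.Prime) (h : r ∣ p ^ j) : r = p :=
  (Nat.prime_dvd_prime_iff_eq hr hp).mp (hr.dvd_of_dvd_pow h)

theorem harith_aux (n : ℕ) (hn : n ≠ 0)
    (hd : ∀ d ∈ Nat.divisors n, d % 5 = 1 → d = 1 ∨ d = 6 ∨ d = 36) :
    ∀ r j : ℕ, r.Prime → 0 < j → r ^ j ∣ n → r ≠ 5 → r ^ j % 5 ≠ 1 := by
  intro r j hr hj hdvd _ hmod
  have h2 : 2 ≤ r ^ j := by
    calc 2 ≤ r := hr.two_le
      _ = r ^ 1 := (pow_one r).symm
      _ ≤ r ^ j := Nat.pow_le_pow_right hr.pos hj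
  rcases hd _ (Nat.mem_divisors.mpr ⟨hdvd, hn⟩) hmod with h | h | h
  · omega
  · have e2 := prime_eq_of_dvd_pow' hr Nat.prime_two (j := j) (by rw [h]; norm_num)
    have e3 := prime_eq_of_dvd_pow' hr Nat.prime_three (j := j) (by rw [h]; norm_num)
    omega
  · have e2 := prime_eq_of_dvd_pow' hr Nat.prime_two (j := j) (by rw [h]; norm_num)
    have e3 := prime_eq_of_dvd_pow' hr Nat.prime_three (j := j) (by rw [h]; norm_num)
    omega

/-- simplicity from the profile: common part -/
theorem simple_aux (n : ℕ) (hcard : Nat.card G = n) (hn1 : 1 < n) (h5 : 5 ∣ n) (h25 : ¬ 25 ∣ n)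
    (hsupp : ∀ k, cnt G k ≠ 0 → k = 1 ∨ k = 2 ∨ k = 3 ∨ k = 4 ∨ k = 5)
    (hd : ∀ d ∈ Nat.divisors n, d % 5 = 1 → d = 1 ∨ d = 6 ∨ d = 36)
    (hb : ∀ c ∈ Nat.divisors n, 5 ∣ c → 1 + cnt G 5 ≤ c → c = n / 2 ∨ c = n)
    (heven : 2 ∣ n) (hbig : n / 2 < 1 + cnt G 3 + cnt G 5) : IsSimpleGroup G := by
  have : Fact (Nat.Prime 5) := ⟨by norm_num⟩
  have hnt : Nontrivial G := by
    rw [← Finite.one_lt_card_iff_nontrivial, hcard]; exact hn1
  refine @IsSimpleGroup.mk G _ hnt ?_
  intro N hN
  by_cases h5N : 5 ∣ Nat.card N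
  · right
    have hmem5 : ∀ x : G, orderOf x = 5 → x ∈ N :=
      mem_of_orderOf_eq 5 (by rw [hcard]; norm_num; exact h25) N h5N
    have hge : 1 + cnt G 5 ≤ Nat.card N := by
      have := sum_cnt_le_card N {1, 5} (by
        intro k hk x hx
        simp only [Finset.mem_insert, Finset.mem_singleton] at hk
        rcases hk with rfl | rfl
        · rw [orderOf_eq_one_iff.mp hx]; exact N.one_mem
        · exact hmem5 x hx)
      rw [Finset.sum_pair (by norm_num), cnt_one] at this
      exact this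
    have hNd : Nat.card N ∣ n := hcard ▸ N.card_subgroup_dvd_card
    rcases hb _ (Nat.mem_divisors.mpr ⟨hNd, by omega⟩) h5N hge with h | h
    · exfalso
      have hidx : N.index = 2 := by
        have := N.card_mul_index
        rw [hcard, h] at this
        obtain ⟨m, rfl⟩ := heven
        rw [Nat.mul_div_cancel_left m (by norm_num)] at this
        have hm : 0 < m := by omega
        have : m * N.index = m * 2 := by rw [this]; ring
        exact Nat.eq_of_mul_eq_mul_left hm this
      have := sum_cnt_le_card N {1, 3, 5} (by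
        intro k hk x hx
        simp only [Finset.mem_insert, Finset.mem_singleton] at hk
        rcases hk with rfl | rfl | rfl
        · rw [orderOf_eq_one_iff.mp hx]; exact N.one_mem
        · exact mem_of_index_two N hidx x (by rw [hx]; decide)
        · exact hmem5 x hx)
      rw [Finset.sum_insert (by decide), Finset.sum_pair (by norm_num), cnt_one, h] at this
      omega
    · apply Subgroup.eq_top_of_card_eq
      rw [h, hcard]
  · left
    exact eq_bot_of_not_dvd_gen 5 (by rw [hcard]; exact h5) (hstar5 hsupp)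
      (by rw [hcard]; exact harith_aux n (by omega) hd) N h5N

/-- a group with the order profile of `A₅` -/
theorem iso_A5 (hcard : Nat.card G = 60) (h3 : cnt G 3 = 20) (h5 : cnt G 5 = 24)
    (hsupp : ∀ k, cnt G k ≠ 0 → k = 1 ∨ k = 2 ∨ k = 3 ∨ k = 5) :
    Nonempty (G ≃* alternatingGroup (Fin 5)) := by
  have hs : IsSimpleGroup G := by
    apply simple_aux 60 hcard (by norm_num) (by norm_num) (by norm_num)
    · intro k hk
      rcases hsupp k hk with h | h | h | h <;> omega
    · intro d hd hmod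
      rcases arith60 d hd hmod with h | h
      · exact Or.inl h
      · exact Or.inr (Or.inl h)
    · intro c hc h5c hge
      rw [h5] at hge
      exact arith60b c hc h5c hge
    · norm_num
    · rw [h3, h5]; norm_num
  exact Cfsg.Agent.S0494.result hcard

/-- a group with the order profile of `A₆` -/
theorem iso_A6 (hcard : Nat.card G = 360) (h3 : cnt G 3 = 80) (h5 : cnt G 5 = 144)
    (hsupp : ∀ k, cnt G k ≠ 0 → k = 1 ∨ k = 2 ∨ k = 3 ∨ k = 4 ∨ k = 5) :
    Nonempty (G ≃* alternatingGroup (Fin 6)) := by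
  have hs : IsSimpleGroup G := by
    apply simple_aux 360 hcard (by norm_num) (by norm_num) (by norm_num) hsupp arith360
    · intro c hc h5c hge
      rw [h5] at hge
      exact arith360b c hc h5c hge
    · norm_num
    · rw [h3, h5]; norm_num
  exact Cfsg.Agent.S0497.result hcard

/-- a group with the order profile of `A₄` -/
theorem iso_A4 (hcard : Nat.card G = 12) (h3 : cnt G 3 = 8)
    (hsupp : ∀ k, cnt G k ≠ 0 → k = 1 ∨ k = 2 ∨ k = 3) :
    Nonempty (G ≃* alternatingGroup (Fin 4)) := by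
  apply Cfsg.Agent.S0228.result hcard
  intro z hz hzc
  obtain ⟨x, hx⟩ := (cnt_ne_zero_iff 3).mp (by rw [h3]; norm_num)
  have hc : Commute z x := (Subgroup.mem_center_iff.mp hzc x).symm
  have hcop : Nat.Coprime (orderOf z) (orderOf x) := by rw [hz, hx]; decide
  have h1 := hc.orderOf_mul_eq_mul_orderOf_of_coprime hcop
  have h2 := hsupp _ (cnt_orderOf_ne_zero (z * x))
  rw [h1, hz, hx] at h2
  omega

end

end Cfsg.Agent.Helper15.NseS
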