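import Mathlib
import Cfsg.Agent.Helper15.NoSimp2
import Cfsg.Agent.Helper11.NoSimple
import Cfsg.Agent.Helper11.SelfCent
import Cfsg.Agent.Helper11.SylowPrimeTools

set_option autoImplicit false

/-!
No simple group of order 1440: part a (generic facts and the involution argument).
-/

namespace Cfsg.Agent.Helper15.O1440

open Subgroup Cfsg.Agent.Helper11 Cfsg.Agent.Helper15.NoSimp

variable {G : Type*} [Group G] [Finite G] [IsSimpleGroup G]

instance fact5 : Fact (Nat.Prime 5) := ⟨by norm_num⟩

theorem noncomm (hcard : Nat.card G = 1440) : ¬ IsMulCommutative G :=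
  simple_noncomm_of_card (by rw [hcard]; norm_num)

/-- proper subgroups have order at most 180 -/
theorem card_le_of_ne_top (hcard : Nat.card G = 1440) (M : Subgroup G) (hM : M ≠ ⊤) :
    Nat.card ↥M ≤ 180 := by
  have hG := noncomm hcard
  have h2 := simple_two_mul_card_dvd_factorial hG M hM
  have h3 := M.index_mul_card
  rw [hcard] at h2 h3
  by_contra hlt
  push Not at hlt
  have hidx : M.index ≤ 7 := by
    by_contra h
    push Not at h
    have : 8 * 181 ≤ M.index * Nat.card ↥M := Nat.mul_le_mul h hlt
    omega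
  have h4 : (M.index).factorial ∣ (7).factorial := Nat.factorial_dvd_factorial hidx
  have h5 := h2.trans h4
  norm_num [Nat.factorial] at h5

/-- If `N(P)` (of order 40) centralizes `u ≠ 1`, then `C(u) = N(P)` and `u` has 36 conjugates. -/
theorem centralizer_eq_normalizer (hcard : Nat.card G = 1440) (P : Sylow 5 G)
    (hN : Nat.card ↥(normalizer ((P : Subgroup G) : Set G)) = 40) (u : G) (hu1 : u ≠ 1)
    (hle : normalizer ((P : Subgroup G) : Set G) ≤ centralizer ({u} : Set G)) :
    centralizer ({u} : Set G) = normalizer ((P : Subgroup G) : Set G) ∧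
      Nat.card {g : G // IsConj u g} = 36 := by
  have hG := noncomm hcard
  have hM := centralizer_singleton_ne_top hG hu1
  have hMc := card_le_of_ne_top hcard _ hM
  have hPM : (P : Subgroup G) ≤ centralizer ({u} : Set G) := le_normalizer.trans hle
  obtain ⟨k, hk5, hk⟩ := sylow_count_inf_normalizer P _ hPM
  rw [inf_eq_right.mpr hle, hN] at hk
  have hk1 : k = 1 := by omega
  subst hk1
  have heq : normalizer ((P : Subgroup G) : Set G) = centralizer ({u} : Set G) :=
    Subgroup.eq_of_le_of_card_ge hle (by omega)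
  refine ⟨heq.symm, ?_⟩
  have h1 := card_isConj_mul_card_centralizer u
  rw [hcard, ← hk] at h1
  omega

theorem conj_count_even (hcard : Nat.card G = 1440) (u : G) (hu : u * u = 1)
    (h36 : Nat.card {g : G // IsConj u g} = 36) (H : Subgroup G) (hH : Nat.card ↥H = 4)
    (huH : u ∈ H) : Even (Nat.card {g : G // IsConj u g ∧ g ∈ H}) := by
  have hG := noncomm hcard
  obtain ⟨f, k, h1, h2⟩ := conj_parity (fun f g => hom_trivial hG f g) H u hu huH
  have h3 := H.index_mul_card
  rw [hcard, hH] at h3
  have hidx : H.index = 360 := by omega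
  rw [hidx] at h1 h2
  rw [h36] at h2
  rw [Nat.even_iff]
  omega

theorem conj_count_four_dvd (hcard : Nat.card G = 1440) (u : G) (hu : u * u = 1)
    (h36 : Nat.card {g : G // IsConj u g} = 36) (H : Subgroup G) (hH : Nat.card ↥H = 8)
    (huH : u ∈ H) : 4 ∣ Nat.card {g : G // IsConj u g ∧ g ∈ H} := by
  have hG := noncomm hcard
  obtain ⟨f, k, h1, h2⟩ := conj_parity (fun f g => hom_trivial hG f g) H u hu huH
  have h3 := H.index_mul_card
  rw [hcard, hH] at h3
  have hidx : H.index = 180 := by omega
  rw [hidx] at h1 h2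
  rw [h36] at h2
  omega

end Cfsg.Agent.Helper15.O1440
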