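import Mathlib
import Cfsg.Agent.Helper15.O1440a

set_option autoImplicit false

/-!
No simple group of order 1440: part b (the case `|N(P₅)| = 40`).
-/

namespace Cfsg.Agent.Helper15.O1440

open Subgroup Cfsg.Agent.Helper11 Cfsg.Agent.Helper15.NoSimp

/-- An involution normalizing `⟨x⟩`, `x` of order 5, centralizes or inverts `x`. -/
theorem conj_eq_or_inv {G : Type*} [Group G] {x s : G} (hx : orderOf x = 5) (hs : s * s = 1)
    (hmem : s * x * s⁻¹ ∈ zpowers x) : s * x * s⁻¹ = x ∨ s * x * s⁻¹ = x⁻¹ := by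
  obtain ⟨n, hn⟩ := Subgroup.mem_zpowers_iff.mp hmem
  have h1 : x ^ (n % (5 : ℤ)) = s * x * s⁻¹ := by
    have := zpow_mod_orderOf x n
    rw [hx] at this
    rw [← hn]; exact_mod_cast this
  obtain ⟨m, hm⟩ : ∃ m : ℕ, (m : ℤ) = n % 5 :=
    ⟨(n % 5).toNat, Int.toNat_of_nonneg (Int.emod_nonneg _ (by norm_num))⟩
  have hm5 : m < 5 := by
    have : n % 5 < 5 := Int.emod_lt_of_pos _ (by norm_num)
    omega
  rw [← hm, zpow_natCast] at h1
  have hs' : s⁻¹ = s := inv_eq_of_mul_eq_one_left hs
  have h2 : x ^ (m * m) = x := by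
    have e1 : s * (s * x * s⁻¹) * s⁻¹ = x := by
      rw [hs']; rw [← mul_assoc, ← mul_assoc, hs, one_mul, mul_assoc, hs, mul_one]
    have e2 : s * (x ^ m) * s⁻¹ = (s * x * s⁻¹) ^ m := (conj_pow (a := s) (b := x) (i := m)).symm
    rw [← h1] at e1
    rw [e2, ← h1, ← pow_mul] at e1
    exact e1
  have hx5 : x ^ 5 = 1 := by rw [← hx]; exact pow_orderOf_eq_one x
  have hx1 : x ≠ 1 := by
    intro h; rw [h, orderOf_one] at hx; omega
  interval_cases m
  · simp at h2; exact absurd h2.symm hx1
  · left; rw [← h1, pow_one]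
  · exfalso
    have h3 : x ^ 3 = 1 := by
      have : x ^ 3 * x = 1 * x := by rw [one_mul, ← pow_succ]; exact h2
      exact mul_right_cancel this
    have := orderOf_dvd_of_pow_eq_one h3
    rw [hx] at this; omega
  · exfalso
    have h3 : x ^ 8 = 1 := by
      have : x ^ 8 * x = 1 * x := by rw [one_mul, ← pow_succ]; exact h2
      exact mul_right_cancel this
    have := orderOf_dvd_of_pow_eq_one h3
    rw [hx] at this; omega
  · right
    rw [← h1]
    exact eq_inv_of_mul_eq_one_left (by rw [← pow_succ]; exact hx5)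

/-- conjugation by `N(H)` preserves `C(H)` -/
theorem conj_mem_centralizer {G : Type*} [Group G] (H : Subgroup G) {s c : G}
    (hs : s ∈ normalizer (H : Set G)) (hc : c ∈ centralizer (H : Set G)) :
    s * c * s⁻¹ ∈ centralizer (H : Set G) := by
  rw [mem_centralizer_iff] at hc ⊢
  intro h hh
  have h1 : s⁻¹ * h * s ∈ H := by
    have := (mem_normalizer_iff'.mp hs (s⁻¹ * h)).mp
    have h2 := (mem_normalizer_iff.mp (inv_mem hs) h).mp hh
    simpa using h2
  have h2 := hc _ h1
  calc h * (s * c * s⁻¹) = s * ((s⁻¹ * h * s) * c) * s⁻¹ := by group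
    _ = s * (c * (s⁻¹ * h * s)) * s⁻¹ := by rw [h2]
    _ = s * c * s⁻¹ * h := by group


/-- `N(P) = P ⊔ T` centralizes `u` if `P` and `T` do. -/
theorem normalizer_le_centralizer_singleton {G : Type*} [Group G] [Finite G] (P : Sylow 5 G)
    (hP : Nat.card ↥(P : Subgroup G) = 5)
    (hN : Nat.card ↥(normalizer ((P : Subgroup G) : Set G)) = 40) (T : Subgroup G)
    (hTN : T ≤ normalizer ((P : Subgroup G) : Set G)) (hT : Nat.card ↥T = 8) (u : G)
    (huC : u ∈ centralizer ((P : Subgroup G) : Set G)) (huT : ∀ s ∈ T, s * u = u * s) :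
    normalizer ((P : Subgroup G) : Set G) ≤ centralizer ({u} : Set G) := by
  have h1 : (P : Subgroup G) ⊔ T ≤ centralizer ({u} : Set G) := by
    refine sup_le ?_ ?_
    · intro x hx
      rw [mem_centralizer_iff]
      intro h hh
      rw [Set.mem_singleton_iff] at hh
      subst hh
      rw [mem_centralizer_iff] at huC
      exact (huC x hx).symm
    · intro s hs
      rw [mem_centralizer_iff]
      intro h hh
      rw [Set.mem_singleton_iff] at hh
      subst hh
      exact (huT s hs).symm
  have h2 : (P : Subgroup G) ⊔ T = normalizer ((P : Subgroup G) : Set G) := by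
    apply Subgroup.eq_of_le_of_card_ge (sup_le le_normalizer hTN)
    have d1 : 5 ∣ Nat.card ↥((P : Subgroup G) ⊔ T) := by
      have := Subgroup.card_dvd_of_le (le_sup_left : (P : Subgroup G) ≤ (P : Subgroup G) ⊔ T)
      rwa [hP] at this
    have d2 : 8 ∣ Nat.card ↥((P : Subgroup G) ⊔ T) := by
      have := Subgroup.card_dvd_of_le (le_sup_right : T ≤ (P : Subgroup G) ⊔ T)
      rwa [hT] at this
    have h40 := Nat.Coprime.mul_dvd_of_dvd_of_dvd (by norm_num : Nat.Coprime 5 8) d1 d2
    have hpos : 0 < Nat.card ↥((P : Subgroup G) ⊔ T) := Nat.card_pos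
    rw [hN]
    exact Nat.le_of_dvd hpos h40
  rw [← h2]; exact h1

theorem sq_eq_one_of_isConj {G : Type*} [Group G] {t y : G} (ht : t * t = 1) (h : IsConj t y) :
    y * y = 1 := by
  obtain ⟨c, hc⟩ := isConj_iff.mp h
  rw [← hc]
  calc c * t * c⁻¹ * (c * t * c⁻¹) = c * (t * t) * c⁻¹ := by group
    _ = 1 := by rw [ht]; group

section main
variable {G : Type*} [Group G] [Finite G] [IsSimpleGroup G]

/-- In the `|N(P)| = 40` situation, a subgroup `T` of order 8 with a central involution `t` having
36 conjugates is elementary abelian. -/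
theorem sq_eq_one_of_mem (hcard : Nat.card G = 1440) (T : Subgroup G) (hT : Nat.card ↥T = 8)
    (t : G) (ht : t * t = 1) (ht1 : t ≠ 1) (htT : t ∈ T) (htc : ∀ s ∈ T, s * t = t * s)
    (h36 : Nat.card {g : G // IsConj t g} = 36) : ∀ s ∈ T, s * s = 1 := by
  classical
  set A : Set G := {g | IsConj t g ∧ g ∈ T} with hA
  have hAT : A ⊆ (T : Set G) := fun g hg => hg.2
  have hTn : (T : Set G).ncard = 8 := by
    rw [← Nat.card_coe_set_eq]; exact hT
  have hA4 : 4 ∣ A.ncard := by
    have h := conj_count_four_dvd hcard t ht h36 T hT htT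
    rw [← Nat.card_coe_set_eq]; exact h
  have htA : t ∈ A := ⟨IsConj.refl t, htT⟩
  have h1A : (1 : G) ∉ A := fun h => ht1 (isConj_one_left.mp h.1)
  have hA0 : A.ncard ≠ 0 := Set.ncard_ne_zero_of_mem htA
  have hA8 : A.ncard ≤ 8 := hTn ▸ Set.ncard_le_ncard hAT
  have hAne8 : A.ncard ≠ 8 := by
    intro h
    have : A = (T : Set G) := Set.eq_of_subset_of_ncard_le hAT (by omega)
    apply h1A
    rw [this]; exact T.one_mem
  have hAn : A.ncard = 4 := by omega
  have hinv : ∀ y ∈ A, y * y = 1 := fun y hy => sq_eq_one_of_isConj ht hy.1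
  have hkey : ∀ y ∈ A, y ≠ t → ¬ IsConj t (t * y) := by
    intro y hy hyt hconj
    have hy2 := hinv y hy
    have hty : t * y = y * t := (htc y hy.2).symm
    have hy1 : y ≠ 1 := fun h => h1A (h ▸ hy)
    have hK4 := card_kleinSub t y ht hy2 hty ht1 hy1 (Ne.symm hyt)
    have htK : t ∈ kleinSub t y ht hy2 hty := by
      rw [mem_kleinSub]; right; left; rfl
    have heven := conj_count_even hcard t ht h36 _ hK4 htK
    have hs : {g : G | IsConj t g ∧ g ∈ kleinSub t y ht hy2 hty} =
        ↑({t, y, t * y} : Finset G) := by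
      ext g
      simp only [Set.mem_ofPred_eq, mem_kleinSub, Finset.coe_insert, Finset.coe_singleton,
        Set.mem_insert_iff, Set.mem_singleton_iff]
      constructor
      · rintro ⟨hc, rfl | h⟩
        · exact absurd (isConj_one_left.mp hc) ht1
        · exact h
      · rintro (rfl | rfl | rfl)
        · exact ⟨IsConj.refl _, Or.inr (Or.inl rfl)⟩
        · exact ⟨hy.1, Or.inr (Or.inr (Or.inl rfl))⟩
        · exact ⟨hconj, Or.inr (Or.inr (Or.inr rfl))⟩
    have hc3 : Nat.card {g : G // IsConj t g ∧ g ∈ kleinSub t y ht hy2 hty} = 3 := by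
      have : Nat.card {g : G // IsConj t g ∧ g ∈ kleinSub t y ht hy2 hty} =
          ({g : G | IsConj t g ∧ g ∈ kleinSub t y ht hy2 hty}).ncard :=
        Nat.card_coe_set_eq _
      rw [this, hs, Set.ncard_coe_finset]
      have h3 : y ∉ ({t * y} : Finset G) := by
        simp only [Finset.mem_singleton]
        intro h
        apply ht1
        exact mul_right_cancel (((one_mul y).trans h).symm)
      have h2 : t ∉ ({y, t * y} : Finset G) := by
        simp only [Finset.mem_insert, Finset.mem_singleton, not_or]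
        refine ⟨Ne.symm hyt, ?_⟩
        intro h
        apply hy1
        exact mul_left_cancel (((mul_one t).trans h).symm)
      rw [Finset.card_insert_of_notMem h2, Finset.card_insert_of_notMem h3, Finset.card_singleton]
    rw [hc3] at heven
    exact absurd heven (by decide)
  set B : Set G := (fun y => t * y) '' A with hB
  have hBT : B ⊆ (T : Set G) := by
    rintro _ ⟨y, hy, rfl⟩
    exact T.mul_mem htT hy.2
  have hBn : B.ncard = 4 := by
    rw [hB, Set.ncard_image_of_injective A (mul_right_injective t)]; exact hAn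
  have hdisj : Disjoint A B := by
    rw [Set.disjoint_left]
    rintro a ha ⟨y, hy, rfl⟩
    by_cases hyt : y = t
    · subst hyt
      have ha' : y * y ∈ A := ha
      rw [ht] at ha'
      exact h1A ha'
    · exact hkey y hy hyt ha.1
  have hun : (A ∪ B).ncard = 8 := by
    rw [Set.ncard_union_eq hdisj, hAn, hBn]
  have hAB : A ∪ B = (T : Set G) :=
    Set.eq_of_subset_of_ncard_le (Set.union_subset hAT hBT) (by omega)
  intro s hs
  have hs' : s ∈ A ∪ B := by rw [hAB]; exact hs
  rcases hs' with h | ⟨y, hy, rfl⟩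
  · exact hinv s h
  · have hy2 := hinv y hy
    have hty : y * t = t * y := htc y hy.2
    calc t * y * (t * y) = t * (y * t) * y := by group
      _ = t * (t * y) * y := by rw [hty]
      _ = (t * t) * (y * y) := by group
      _ = 1 := by rw [ht, hy2, one_mul]

end main

end Cfsg.Agent.Helper15.O1440
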