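import Mathlib
import Cfsg.Agent.Helper15.O1440b

set_option autoImplicit false

/-!
No simple group of order 1440: part c (end of the case `|N(P₅)| = 40`).
-/

namespace Cfsg.Agent.Helper15.O1440

open Subgroup Cfsg.Agent.Helper11 Cfsg.Agent.Helper15.NoSimp

/-- a subgroup with more elements than a finset has an element outside it -/
theorem exists_mem_notMem_of_card_lt {G : Type*} [Group G] [Finite G] [DecidableEq G]
    (U : Subgroup G) (F : Finset G) (h : F.card < Nat.card ↥U) : ∃ g ∈ U, g ∉ F := by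
  by_contra hcon
  push Not at hcon
  have hsub : (U : Set G) ⊆ ↑F := fun g hg => hcon g hg
  have h1 := Set.ncard_le_ncard hsub
  rw [Set.ncard_coe_finset] at h1
  have h2 : (U : Set G).ncard = Nat.card ↥U := (Nat.card_coe_set_eq _).symm
  omega

/-- In a four-subgroup `U = {1,a,b,c}`, if the number of conjugates of `a` in `U` is even then
exactly one of `b`, `c` is conjugate to `a`. -/
theorem even_count_xor {G : Type*} [Group G] (U : Subgroup G) (a b c : G)
    (hU : ∀ g, g ∈ U ↔ g = 1 ∨ g = a ∨ g = b ∨ g = c) (ha1 : a ≠ 1) (hab : a ≠ b) (hac : a ≠ c)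
    (hbc : b ≠ c) (he : Even (Nat.card {g : G // IsConj a g ∧ g ∈ U})) :
    (IsConj a b ∧ ¬ IsConj a c) ∨ (¬ IsConj a b ∧ IsConj a c) := by
  classical
  have hcard : Nat.card {g : G // IsConj a g ∧ g ∈ U} = ({g : G | IsConj a g ∧ g ∈ U}).ncard :=
    Nat.card_coe_set_eq _
  rw [hcard] at he
  by_cases h1 : IsConj a b <;> by_cases h2 : IsConj a c
  · exfalso
    have hs : {g : G | IsConj a g ∧ g ∈ U} = ↑({a, b, c} : Finset G) := by
      ext g
      simp only [Set.mem_ofPred_eq, hU, Finset.coe_insert, Finset.coe_singleton,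
        Set.mem_insert_iff, Set.mem_singleton_iff]
      constructor
      · rintro ⟨hc, rfl | h⟩
        · exact absurd (isConj_one_left.mp hc) ha1
        · exact h
      · rintro (rfl | rfl | rfl)
        · exact ⟨IsConj.refl _, Or.inr (Or.inl rfl)⟩
        · exact ⟨h1, Or.inr (Or.inr (Or.inl rfl))⟩
        · exact ⟨h2, Or.inr (Or.inr (Or.inr rfl))⟩
    rw [hs, Set.ncard_coe_finset] at he
    have h3 : b ∉ ({c} : Finset G) := by simpa using hbc
    have h4 : a ∉ ({b, c} : Finset G) := by simp [hab, hac]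
    rw [Finset.card_insert_of_notMem h4, Finset.card_insert_of_notMem h3,
      Finset.card_singleton] at he
    exact absurd he (by decide)
  · exact Or.inl ⟨h1, h2⟩
  · exact Or.inr ⟨h1, h2⟩
  · exfalso
    have hs : {g : G | IsConj a g ∧ g ∈ U} = ↑({a} : Finset G) := by
      ext g
      simp only [Set.mem_ofPred_eq, hU, Finset.coe_singleton, Set.mem_singleton_iff]
      constructor
      · rintro ⟨hc, rfl | rfl | rfl | rfl⟩
        · exact absurd (isConj_one_left.mp hc) ha1
        · rfl
        · exact absurd hc h1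
        · exact absurd hc h2
      · rintro rfl
        exact ⟨IsConj.refl _, Or.inr (Or.inl rfl)⟩
    rw [hs, Set.ncard_coe_finset, Finset.card_singleton] at he
    exact absurd he (by decide)

/-- The elements of an elementary abelian `T ≤ N(P)` centralizing `P` have index at most 2. -/
theorem card_inf_centralizer_ge {G : Type*} [Group G] [Finite G] (P : Sylow 5 G)
    (hP : Nat.card ↥(P : Subgroup G) = 5) (T : Subgroup G)
    (hTN : T ≤ normalizer ((P : Subgroup G) : Set G)) (hsq : ∀ s ∈ T, s * s = 1) :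
    Nat.card ↥T ≤ 2 * Nat.card ↥(T ⊓ centralizer ((P : Subgroup G) : Set G)) := by
  classical
  have hne : (P : Subgroup G) ≠ ⊥ := by
    intro h
    rw [h, Subgroup.card_bot] at hP
    omega
  obtain ⟨⟨x, hxP⟩, hx1'⟩ := (Subgroup.ne_bot_iff_exists_ne_one).mp hne
  have hx1 : x ≠ 1 := fun h => hx1' (Subtype.ext h)
  have hPx : (P : Subgroup G) = zpowers x := eq_zpowers_of_card_prime _ hP x hxP hx1
  have hC : centralizer ((P : Subgroup G) : Set G) = centralizer ({x} : Set G) :=
    centralizer_sylow_eq_centralizer_singleton P hP hxP hx1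
  have hx5 : orderOf x = 5 := orderOf_eq_prime_of_mem _ hP x hxP hx1
  have hcases : ∀ s ∈ T, s * x * s⁻¹ = x ∨ s * x * s⁻¹ = x⁻¹ := by
    intro s hs
    apply conj_eq_or_inv hx5 (hsq s hs)
    rw [← hPx]
    exact (mem_normalizer_iff.mp (hTN hs) x).mp hxP
  have hmemC : ∀ s, s * x * s⁻¹ = x → s ∈ centralizer ({x} : Set G) := by
    intro s h
    rw [mem_centralizer_iff]
    intro y hy
    rw [Set.mem_singleton_iff] at hy
    subst hy
    calc y * s = (s * y * s⁻¹) * s := by rw [h]
      _ = s * y := by group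
  rw [hC]
  set U := T ⊓ centralizer ({x} : Set G) with hU
  have hTc : Nat.card ↥T = (T : Set G).ncard := Nat.card_coe_set_eq _
  have hUc : Nat.card ↥U = (U : Set G).ncard := Nat.card_coe_set_eq _
  by_cases hall : T ≤ centralizer ({x} : Set G)
  · have : U = T := inf_eq_left.mpr hall
    rw [this]; omega
  · obtain ⟨s₀, hs₀T, hs₀C⟩ := SetLike.not_le_iff_exists.mp hall
    have hs₀ : s₀ * x * s₀⁻¹ = x⁻¹ := by
      rcases hcases s₀ hs₀T with h | h
      · exact absurd (hmemC s₀ h) hs₀C
      · exact h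
    have hsub : (T : Set G) ⊆ (U : Set G) ∪ (fun y => s₀ * y) '' (U : Set G) := by
      intro s hs
      rcases hcases s hs with h | h
      · left
        exact ⟨hs, hmemC s h⟩
      · right
        refine ⟨s₀ * s, ⟨T.mul_mem hs₀T hs, hmemC _ ?_⟩, ?_⟩
        · calc s₀ * s * x * (s₀ * s)⁻¹ = s₀ * (s * x * s⁻¹) * s₀⁻¹ := by group
            _ = s₀ * x⁻¹ * s₀⁻¹ := by rw [h]
            _ = (s₀ * x * s₀⁻¹)⁻¹ := by group
            _ = x := by rw [hs₀, inv_inv]
        · show s₀ * (s₀ * s) = s
          rw [← mul_assoc, hsq s₀ hs₀T, one_mul]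
    have h1 := Set.ncard_le_ncard hsub
    have h2 := Set.ncard_union_le (U : Set G) ((fun y => s₀ * y) '' (U : Set G))
    have h3 := Set.ncard_image_le (f := fun y => s₀ * y) (s := (U : Set G))
    omega



/-- A four-group of involutions in which every nonidentity element has an even number of
conjugates (inside the four-group) does not exist. -/
theorem no_four_group {G : Type*} [Group G] [Finite G] (U : Subgroup G)
    (hU4 : Nat.card ↥U = 4) (hsq : ∀ u ∈ U, u * u = 1)
    (heven : ∀ u ∈ U, u ≠ 1 → Even (Nat.card {g : G // IsConj u g ∧ g ∈ U})) : False := by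
  classical
  obtain ⟨a, haU, ha⟩ := exists_mem_notMem_of_card_lt U {1} (by rw [hU4]; simp)
  have ha1 : a ≠ 1 := by simpa using ha
  obtain ⟨c, hcU, hc⟩ := exists_mem_notMem_of_card_lt U {1, a} (by
    rw [hU4]
    exact lt_of_le_of_lt (Finset.card_insert_le _ _) (by simp))
  have hc1 : c ≠ 1 := fun h => hc (by simp [h])
  have hca : c ≠ a := fun h => hc (by simp [h])
  have haa := hsq a haU
  have hcc := hsq c hcU
  have hac : a * c = c * a := comm_of_sq_eq_one U hsq haU hcU
  have hK4 := card_kleinSub a c haa hcc hac ha1 hc1 (Ne.symm hca)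
  have hKU : kleinSub a c haa hcc hac ≤ U := by
    intro g hg
    rw [mem_kleinSub] at hg
    rcases hg with rfl | rfl | rfl | rfl
    · exact one_mem _
    · exact haU
    · exact hcU
    · exact mul_mem haU hcU
  have hKeq : kleinSub a c haa hcc hac = U :=
    Subgroup.eq_of_le_of_card_ge hKU (by rw [hK4, hU4])
  have hUmem : ∀ g, g ∈ U ↔ g = 1 ∨ g = a ∨ g = c ∨ g = a * c := by
    intro g
    rw [← hKeq, mem_kleinSub]
  have hac1 : a * c ≠ 1 := by
    intro h
    apply hca
    have : a⁻¹ = a := inv_eq_of_mul_eq_one_left haa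
    rw [← this]
    exact (eq_inv_of_mul_eq_one_right h)
  have ha_ac : a ≠ a * c := by
    intro h
    apply hc1
    exact mul_left_cancel (((mul_one a).trans h).symm)
  have hc_ac : c ≠ a * c := by
    intro h
    apply ha1
    exact mul_right_cancel (((one_mul c).trans h).symm)
  have hacU : a * c ∈ U := mul_mem haU hcU
  have hUmem2 : ∀ g, g ∈ U ↔ g = 1 ∨ g = c ∨ g = a ∨ g = a * c := by
    intro g; rw [hUmem]
    constructor
    · rintro (h | h | h | h)
      · exact Or.inl h
      · exact Or.inr (Or.inr (Or.inl h))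
      · exact Or.inr (Or.inl h)
      · exact Or.inr (Or.inr (Or.inr h))
    · rintro (h | h | h | h)
      · exact Or.inl h
      · exact Or.inr (Or.inr (Or.inl h))
      · exact Or.inr (Or.inl h)
      · exact Or.inr (Or.inr (Or.inr h))
  have hUmem3 : ∀ g, g ∈ U ↔ g = 1 ∨ g = a * c ∨ g = a ∨ g = c := by
    intro g; rw [hUmem]
    constructor
    · rintro (h | h | h | h)
      · exact Or.inl h
      · exact Or.inr (Or.inr (Or.inl h))
      · exact Or.inr (Or.inr (Or.inr h))
      · exact Or.inr (Or.inl h)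
    · rintro (h | h | h | h)
      · exact Or.inl h
      · exact Or.inr (Or.inr (Or.inr h))
      · exact Or.inr (Or.inl h)
      · exact Or.inr (Or.inr (Or.inl h))
  have h1 := even_count_xor U a c (a * c) hUmem ha1 (Ne.symm hca) ha_ac hc_ac
    (heven a haU ha1)
  have h2 := even_count_xor U c a (a * c) hUmem2 hc1 hca hc_ac ha_ac (heven c hcU hc1)
  have h3 := even_count_xor U (a * c) a c hUmem3 hac1 (Ne.symm ha_ac) (Ne.symm hc_ac)
    (Ne.symm hca) (heven (a * c) hacU hac1)
  rcases h1 with ⟨p1, p2⟩ | ⟨p1, p2⟩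
  · rcases h2 with ⟨q1, q2⟩ | ⟨q1, q2⟩
    · rcases h3 with ⟨r1, r2⟩ | ⟨r1, r2⟩
      · exact p2 r1.symm
      · exact q2 r2.symm
    · exact q1 p1.symm
  · rcases h2 with ⟨q1, q2⟩ | ⟨q1, q2⟩
    · exact p1 q1.symm
    · rcases h3 with ⟨r1, r2⟩ | ⟨r1, r2⟩
      · exact r2 q2.symm
      · exact r1 p2.symm

section main
variable {G : Type*} [Group G] [Finite G] [IsSimpleGroup G]

/-- existence of the central involution `t` of `T` inside `U = T ⊓ C(P)` -/
theorem exists_central_involution (T C : Subgroup G) (hT : Nat.card ↥T = 8)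
    (hnormal : ∀ s ∈ T, ∀ c ∈ C, s * c * s⁻¹ ∈ C) (hU2 : 2 ≤ Nat.card ↥(T ⊓ C)) :
    ∃ t, t ∈ T ∧ t ∈ C ∧ t * t = 1 ∧ t ≠ 1 ∧ ∀ s ∈ T, s * t = t * s := by
  have hUbot : T ⊓ C ≠ ⊥ := by
    intro h
    rw [h, Subgroup.card_bot] at hU2
    omega
  have hTp : IsPGroup 2 ↥T := IsPGroup.of_card (n := 3) (by rw [hT]; norm_num)
  have hnorm : ((T ⊓ C).subgroupOf T).Normal := by
    rw [Subgroup.normal_subgroupOf_iff_le_normalizer inf_le_left]
    intro s hs
    rw [mem_normalizer_iff]
    intro h
    constructor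
    · rintro ⟨h1, h2⟩
      exact ⟨T.mul_mem (T.mul_mem hs h1) (T.inv_mem hs), hnormal s hs h h2⟩
    · rintro ⟨h1, h2⟩
      have e : h = s⁻¹ * (s * h * s⁻¹) * s⁻¹⁻¹ := by group
      rw [e]
      exact ⟨T.mul_mem (T.mul_mem (T.inv_mem hs) h1) (T.inv_mem (T.inv_mem hs)),
        hnormal _ (T.inv_mem hs) _ h2⟩
  have hsubbot : (T ⊓ C).subgroupOf T ≠ ⊥ := by
    intro h
    rw [Subgroup.subgroupOf_eq_bot] at h
    apply hUbot
    rw [disjoint_iff] at h
    rw [← h]
    simp
  have : Fact (Nat.Prime 2) := ⟨Nat.prime_two⟩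
  obtain ⟨b, hbU, hbc, hb2⟩ := exists_central_orderOf_eq_prime hTp _ hsubbot
  have hto : orderOf (b : G) = 2 := by rw [Subgroup.orderOf_coe]; exact hb2
  refine ⟨(b : G), b.2, (Subgroup.mem_subgroupOf.mp hbU).2, ?_, ?_, ?_⟩
  · have := pow_orderOf_eq_one (b : G)
    rwa [hto, pow_two] at this
  · intro h
    rw [h, orderOf_one] at hto
    omega
  · intro s hs
    have := Subgroup.mem_center_iff.mp hbc ⟨s, hs⟩
    exact congrArg Subtype.val this

theorem card_inf_eq_four (n c : ℕ) (h1 : 8 ≤ 2 * n) (h8 : n ∣ 8) (hc : n ∣ c)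
    (hcc : c = 10 ∨ c = 20) : n = 4 := by
  have hle8 : n ≤ 8 := Nat.le_of_dvd (by norm_num) h8
  rcases hcc with h | h <;> rw [h] at hc
  · have h2 : n ∣ Nat.gcd 8 10 := Nat.dvd_gcd h8 hc
    have h3 : Nat.gcd 8 10 = 2 := by norm_num
    rw [h3] at h2
    have := Nat.le_of_dvd (by norm_num) h2
    omega
  · have h2 : n ∣ Nat.gcd 8 20 := Nat.dvd_gcd h8 hc
    have h3 : Nat.gcd 8 20 = 4 := by norm_num
    rw [h3] at h2
    have := Nat.le_of_dvd (by norm_num) h2
    omega

/-- The case `|N(P₅)| = 40` is impossible. -/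
theorem no_normalizer_forty (hcard : Nat.card G = 1440) (P : Sylow 5 G)
    (hP : Nat.card ↥(P : Subgroup G) = 5)
    (hN : Nat.card ↥(normalizer ((P : Subgroup G) : Set G)) = 40) : False := by
  classical
  have hG := noncomm hcard
  obtain ⟨hk1, hk4, hkC, h5C⟩ := simple_automizer_data hG 5 P hP
  have hCN : centralizer ((P : Subgroup G) : Set G) ≤ normalizer ((P : Subgroup G) : Set G) :=
    centralizer_le_normalizer _
  -- a subgroup `T` of order 8 in `N`
  obtain ⟨T', hT'⟩ := Sylow.exists_subgroup_card_pow_prime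
    (G := ↥(normalizer ((P : Subgroup G) : Set G))) 2 (n := 3) (by rw [hN]; norm_num)
  have hT : Nat.card ↥(T'.map (normalizer ((P : Subgroup G) : Set G)).subtype) = 8 := by
    rw [Subgroup.card_map_of_injective (Subgroup.subtype_injective _), hT']; norm_num
  have hTN : T'.map (normalizer ((P : Subgroup G) : Set G)).subtype ≤
      normalizer ((P : Subgroup G) : Set G) := Subgroup.map_subtype_le T'
  generalize T'.map (normalizer ((P : Subgroup G) : Set G)).subtype = T at hT hTN
  -- `U = T ⊓ C` is nontrivial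
  have hk : (centralizer ((P : Subgroup G) : Set G)).relIndex
      (normalizer ((P : Subgroup G) : Set G)) ≤ 4 := Nat.le_of_dvd (by norm_num) hk4
  have hcases : Nat.card ↥(centralizer ((P : Subgroup G) : Set G)) = 10 ∨
      Nat.card ↥(centralizer ((P : Subgroup G) : Set G)) = 20 := by
    rw [hN] at hkC
    generalize (centralizer ((P : Subgroup G) : Set G)).relIndex
      (normalizer ((P : Subgroup G) : Set G)) = k at hk hk1 hk4 hkC
    generalize Nat.card ↥(centralizer ((P : Subgroup G) : Set G)) = c at hkC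
    interval_cases k
    · omega
    · omega
    · omega
    · omega
    · omega
  have hU2 : 2 ≤ Nat.card ↥(T ⊓ centralizer ((P : Subgroup G) : Set G)) := by
    have h1 := Subgroup.relIndex_inf_le (H := T) (K := centralizer ((P : Subgroup G) : Set G))
      (L := normalizer ((P : Subgroup G) : Set G))
    have h2 := relIndex_mul_card' hTN
    have h3 := relIndex_mul_card'
      ((inf_le_left : T ⊓ centralizer ((P : Subgroup G) : Set G) ≤ T).trans hTN)
    rw [hT, hN] at h2
    rw [hN] at h3
    have h4 : T.relIndex (normalizer ((P : Subgroup G) : Set G)) = 5 := by omega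
    rw [h4] at h1
    have h5 : (T ⊓ centralizer ((P : Subgroup G) : Set G)).relIndex
        (normalizer ((P : Subgroup G) : Set G)) ≤ 20 := h1.trans (by omega)
    by_contra hlt
    push Not at hlt
    have h6 : (T ⊓ centralizer ((P : Subgroup G) : Set G)).relIndex
        (normalizer ((P : Subgroup G) : Set G)) *
          Nat.card ↥(T ⊓ centralizer ((P : Subgroup G) : Set G)) ≤ 20 * 1 :=
      Nat.mul_le_mul h5 (by omega)
    omega
  obtain ⟨t, htT, htC, ht, ht1, htc⟩ := exists_central_involution T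
    (centralizer ((P : Subgroup G) : Set G)) hT
    (fun s hs c hc => conj_mem_centralizer _ (hTN hs) hc) hU2
  have hNt := normalizer_le_centralizer_singleton P hP hN T hTN hT t htC htc
  obtain ⟨-, h36⟩ := centralizer_eq_normalizer hcard P hN t ht1 hNt
  -- `T` is elementary abelian
  have hsq := sq_eq_one_of_mem hcard T hT t ht ht1 htT htc h36
  have hTcomm : ∀ a ∈ T, ∀ b ∈ T, a * b = b * a := fun a ha b hb =>
    comm_of_sq_eq_one T hsq ha hb
  -- `|U| = 4`
  have hUge := card_inf_centralizer_ge P hP T hTN hsq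
  have hUd8 : Nat.card ↥(T ⊓ centralizer ((P : Subgroup G) : Set G)) ∣ 8 := by
    have := Subgroup.card_dvd_of_le
      (inf_le_left : T ⊓ centralizer ((P : Subgroup G) : Set G) ≤ T)
    rwa [hT] at this
  have hUdC : Nat.card ↥(T ⊓ centralizer ((P : Subgroup G) : Set G)) ∣
      Nat.card ↥(centralizer ((P : Subgroup G) : Set G)) :=
    Subgroup.card_dvd_of_le inf_le_right
  rw [hT] at hUge
  have hU4 := card_inf_eq_four _ _ hUge hUd8 hUdC hcases
  -- each nonidentity element of `U` has an even number of conjugates in `U`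
  refine no_four_group (T ⊓ centralizer ((P : Subgroup G) : Set G)) hU4
    (fun u hu => hsq u hu.1) ?_
  intro u hu hu1
  have huu : u * u = 1 := hsq u hu.1
  have hNu := normalizer_le_centralizer_singleton P hP hN T hTN hT u hu.2
    (fun s hs => hTcomm s hs u hu.1)
  obtain ⟨-, h36u⟩ := centralizer_eq_normalizer hcard P hN u hu1 hNu
  exact conj_count_even hcard u huu h36u _ hU4 hu

end main

end Cfsg.Agent.Helper15.O1440
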