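import Mathlib
import Cfsg.Agent.Helper15.O1440c

set_option autoImplicit false

/-!
No simple group of order 1440: part d (the case `n₅ = 16`).
-/

namespace Cfsg.Agent.Helper15.O1440

open Subgroup Cfsg.Agent.Helper11 Cfsg.Agent.Helper15.NoSimp

/-- An element of order `p` normalizing a Sylow `p`-subgroup lies in it. -/
theorem mem_sylow_of_orderOf_eq {G : Type*} [Group G] {p : ℕ} [Fact p.Prime] (P : Sylow p G)
    {g : G} (hg : g ∈ normalizer ((P : Subgroup G) : Set G)) (ho : orderOf g = p) :
    g ∈ (P : Subgroup G) := by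
  have hz : IsPGroup p ↥(zpowers g) :=
    IsPGroup.of_card (n := 1) (by rw [Nat.card_zpowers, ho, pow_one])
  have h1 : zpowers g ⊓ normalizer ((P : Subgroup G) : Set G) = zpowers g ⊓ (P : Subgroup G) :=
    hz.inf_normalizer_sylow P
  have h2 : g ∈ zpowers g ⊓ normalizer ((P : Subgroup G) : Set G) :=
    ⟨mem_zpowers g, hg⟩
  rw [h1] at h2
  exact h2.2

/-- A `p`-Sylow subgroup contained in the normalizer of another one equals it. -/
theorem sylow_eq_of_le_normalizer {G : Type*} [Group G] [Finite G] {p : ℕ} [Fact p.Prime]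
    (P Q : Sylow p G) (h : (Q : Subgroup G) ≤ normalizer ((P : Subgroup G) : Set G)) : Q = P := by
  have h1 : (Q : Subgroup G) ⊓ normalizer ((P : Subgroup G) : Set G) =
      (Q : Subgroup G) ⊓ (P : Subgroup G) := Q.2.inf_normalizer_sylow P
  have h2 : (Q : Subgroup G) ≤ (P : Subgroup G) := by
    have : (Q : Subgroup G) ⊓ normalizer ((P : Subgroup G) : Set G) = (Q : Subgroup G) :=
      inf_eq_left.mpr h
    rw [this] at h1
    exact inf_eq_left.mp h1.symm
  exact Sylow.ext (Q.3 P.2 h2).symm

/-- `C(P)` is abelian when it has order 45. -/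
theorem centralizer_comm_of_card {G : Type*} [Group G] [Finite G] (P : Sylow 5 G)
    (hP : Nat.card ↥(P : Subgroup G) = 5)
    (hC : Nat.card ↥(centralizer ((P : Subgroup G) : Set G)) = 45) :
    ∀ a ∈ centralizer ((P : Subgroup G) : Set G), ∀ b ∈ centralizer ((P : Subgroup G) : Set G),
      a * b = b * a := by
  have : Fact (Nat.Prime 3) := ⟨by norm_num⟩
  obtain ⟨Q', hQ'⟩ := Sylow.exists_subgroup_card_pow_prime
    (G := ↥(centralizer ((P : Subgroup G) : Set G))) 3 (n := 2) (by rw [hC]; norm_num)
  have hQ : Nat.card ↥(Q'.map (centralizer ((P : Subgroup G) : Set G)).subtype) = 3 ^ 2 := by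
    rw [Subgroup.card_map_of_injective (Subgroup.subtype_injective _), hQ']
  have hQC : Q'.map (centralizer ((P : Subgroup G) : Set G)).subtype ≤
      centralizer ((P : Subgroup G) : Set G) := Subgroup.map_subtype_le Q'
  generalize Q'.map (centralizer ((P : Subgroup G) : Set G)).subtype = Q at hQ hQC
  have hQcomm : ∀ a ∈ Q, ∀ b ∈ Q, a * b = b * a := by
    intro a ha b hb
    have := (IsPGroup.isMulCommutative_of_card_eq_prime_sq hQ).is_comm.comm
      (⟨a, ha⟩ : ↥Q) ⟨b, hb⟩
    exact congrArg Subtype.val this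
  have hPC : (P : Subgroup G) ≤ centralizer ((P : Subgroup G) : Set G) := by
    have : IsCyclic ↥(P : Subgroup G) := isCyclic_of_prime_card hP
    exact Subgroup.le_centralizer _
  have hPQ : (P : Subgroup G) ⊔ Q = centralizer ((P : Subgroup G) : Set G) := by
    apply Subgroup.eq_of_le_of_card_ge (sup_le hPC hQC)
    have d1 : 5 ∣ Nat.card ↥((P : Subgroup G) ⊔ Q) := by
      have := Subgroup.card_dvd_of_le (le_sup_left : (P : Subgroup G) ≤ (P : Subgroup G) ⊔ Q)
      rwa [hP] at this
    have d2 : 9 ∣ Nat.card ↥((P : Subgroup G) ⊔ Q) := by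
      have := Subgroup.card_dvd_of_le (le_sup_right : Q ≤ (P : Subgroup G) ⊔ Q)
      rwa [hQ] at this
    have h45 := Nat.Coprime.mul_dvd_of_dvd_of_dvd (by norm_num : Nat.Coprime 5 9) d1 d2
    have hpos : 0 < Nat.card ↥((P : Subgroup G) ⊔ Q) := Nat.card_pos
    rw [hC]
    exact Nat.le_of_dvd hpos h45
  have key : (P : Subgroup G) ⊔ Q ≤ centralizer (((P : Subgroup G) ⊔ Q : Subgroup G) : Set G) := by
    refine sup_le ?_ ?_
    · rw [Subgroup.le_centralizer_iff, hPQ]
    · rw [Subgroup.le_centralizer_iff]
      refine sup_le ?_ ?_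
      · rw [Subgroup.le_centralizer_iff]; exact hQC
      · intro a ha
        rw [mem_centralizer_iff]
        intro b hb
        exact hQcomm b hb a ha
  intro a ha b hb
  rw [← hPQ] at ha hb
  have := key ha
  rw [mem_centralizer_iff] at this
  exact (this b hb).symm

section main
variable {G : Type*} [Group G] [Finite G] [IsSimpleGroup G]

/-- The case `n₅ = 16` is impossible. -/
theorem no_sylow_sixteen (hcard : Nat.card G = 1440)
    (hS : ∀ Q : Sylow 5 G, Nat.card ↥(Q : Subgroup G) = 5)
    (hn : Nat.card (Sylow 5 G) = 16) : False := by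
  classical
  have hG := noncomm hcard
  have hN90 : ∀ Q : Sylow 5 G, Nat.card ↥(normalizer ((Q : Subgroup G) : Set G)) = 90 := by
    intro Q
    have h2 := card_sylow_mul_card_normalizer Q
    rw [hn, hcard] at h2
    omega
  have hidx : ∀ Q : Sylow 5 G, (normalizer ((Q : Subgroup G) : Set G)).index = 16 := by
    intro Q
    have := (normalizer ((Q : Subgroup G) : Set G)).index_mul_card
    rw [hN90 Q, hcard] at this
    omega
  obtain ⟨P⟩ : Nonempty (Sylow 5 G) := inferInstance
  have hnt : Nontrivial (Sylow 5 G) := by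
    rw [← Finite.one_lt_card_iff_nontrivial, hn]; norm_num
  obtain ⟨P', hP'⟩ := exists_ne P
  have hP := hS P
  -- `|C(P)| = 45`
  obtain ⟨hk1, hk4, hkC, h5C⟩ := simple_automizer_data hG 5 P hP
  have hC45 : Nat.card ↥(centralizer ((P : Subgroup G) : Set G)) = 45 := by
    rw [hN90 P] at hkC
    have hk : (centralizer ((P : Subgroup G) : Set G)).relIndex
      (normalizer ((P : Subgroup G) : Set G)) ≤ 4 := Nat.le_of_dvd (by norm_num) hk4
    generalize (centralizer ((P : Subgroup G) : Set G)).relIndex
      (normalizer ((P : Subgroup G) : Set G)) = k at hk hk1 hk4 hkC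
    generalize Nat.card ↥(centralizer ((P : Subgroup G) : Set G)) = c at hkC
    interval_cases k
    · omega
    · omega
    · omega
    · omega
    · omega
  -- the intersection of the two normalizers
  set D := normalizer ((P : Subgroup G) : Set G) ⊓ normalizer ((P' : Subgroup G) : Set G) with hD
  have hD6 : 6 ≤ Nat.card ↥D := by
    have h1 := Subgroup.index_inf_le (H := normalizer ((P : Subgroup G) : Set G))
      (K := normalizer ((P' : Subgroup G) : Set G))
    rw [hidx P, hidx P'] at h1
    have h2 := D.index_mul_card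
    rw [hcard] at h2
    by_contra hlt
    push Not at hlt
    have : D.index * Nat.card ↥D ≤ 256 * 5 := Nat.mul_le_mul h1 (by omega)
    omega
  have hD90 : Nat.card ↥D ∣ 90 := by
    have := Subgroup.card_dvd_of_le (inf_le_left : D ≤ normalizer ((P : Subgroup G) : Set G))
    rwa [hN90 P] at this
  have hD5 : ¬ 5 ∣ Nat.card ↥D := by
    intro h5
    obtain ⟨⟨g, hgD⟩, hg⟩ := exists_prime_orderOf_dvd_card' (G := ↥D) 5 h5
    have hg5 : orderOf g = 5 := by
      rw [← hg, Subgroup.orderOf_mk]
    have h1 := mem_sylow_of_orderOf_eq P hgD.1 hg5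
    have h2 := mem_sylow_of_orderOf_eq P' hgD.2 hg5
    have hg1 : g ≠ 1 := by
      intro h
      rw [h, orderOf_one] at hg5
      omega
    exact hP' (sylow_eq_of_mem_of_card_prime P' P (hS P') hP h2 h1 hg1)
  have hD3 : 3 ∣ Nat.card ↥D := by
    have hpos : 0 < Nat.card ↥D := Nat.card_pos
    have hle : Nat.card ↥D ≤ 90 := Nat.le_of_dvd (by norm_num) hD90
    generalize Nat.card ↥D = n at hD6 hD90 hD5 hle
    interval_cases n <;> omega
  have : Fact (Nat.Prime 3) := ⟨by norm_num⟩
  obtain ⟨⟨d, hdD⟩, hd⟩ := exists_prime_orderOf_dvd_card' (G := ↥D) 3 hD3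
  have hd3 : orderOf d = 3 := by
    rw [← hd, Subgroup.orderOf_mk]
  have hd1 : d ≠ 1 := by
    intro h
    rw [h, orderOf_one] at hd3
    omega
  -- `d` centralizes `P` and `P'`
  have hcent : ∀ Q : Sylow 5 G, d ∈ normalizer ((Q : Subgroup G) : Set G) →
      d ∈ centralizer ((Q : Subgroup G) : Set G) := by
    intro Q hdQ
    apply mem_centralizer_of_coprime_card_mulAut (Q : Subgroup G) d hdQ
    have : IsCyclic ↥(Q : Subgroup G) := isCyclic_of_prime_card (hS Q)
    rw [IsCyclic.card_mulAut, hS Q, Nat.totient_prime (by norm_num), hd3]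
    norm_num
  have hdC := hcent P hdD.1
  have hdC' := hcent P' hdD.2
  -- `M = C(d)`
  have hcomm := centralizer_comm_of_card P hP hC45
  have hCM : centralizer ((P : Subgroup G) : Set G) ≤ centralizer ({d} : Set G) := by
    intro c hc
    rw [mem_centralizer_iff]
    intro h hh
    rw [Set.mem_singleton_iff] at hh
    subst hh
    exact hcomm h hdC c hc
  have hPC : (P : Subgroup G) ≤ centralizer ((P : Subgroup G) : Set G) := by
    have : IsCyclic ↥(P : Subgroup G) := isCyclic_of_prime_card hP
    exact Subgroup.le_centralizer _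
  have hPM : (P : Subgroup G) ≤ centralizer ({d} : Set G) := hPC.trans hCM
  have hP'M : (P' : Subgroup G) ≤ centralizer ({d} : Set G) := by
    intro x hx
    rw [mem_centralizer_iff]
    intro h hh
    rw [Set.mem_singleton_iff] at hh
    subst hh
    rw [mem_centralizer_iff] at hdC'
    exact (hdC' x hx).symm
  have hMtop := centralizer_singleton_ne_top hG hd1
  have hM180 := card_le_of_ne_top hcard _ hMtop
  obtain ⟨k, hk5, hk⟩ := sylow_count_inf_normalizer P _ hPM
  have h45 : 45 ∣ Nat.card ↥(centralizer ({d} : Set G) ⊓ normalizer ((P : Subgroup G) : Set G)) := by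
    have := Subgroup.card_dvd_of_le
      (le_inf hCM (centralizer_le_normalizer _) :
        centralizer ((P : Subgroup G) : Set G) ≤
          centralizer ({d} : Set G) ⊓ normalizer ((P : Subgroup G) : Set G))
    rwa [hC45] at this
  have hpos : 0 < Nat.card ↥(centralizer ({d} : Set G) ⊓ normalizer ((P : Subgroup G) : Set G)) :=
    Nat.card_pos
  have hge := Nat.le_of_dvd hpos h45
  have hk1' : k = 1 := by
    by_contra hne
    have hk6 : 6 ≤ k := by omega
    have : 6 * 45 ≤ k * Nat.card ↥(centralizer ({d} : Set G) ⊓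
        normalizer ((P : Subgroup G) : Set G)) := Nat.mul_le_mul hk6 hge
    omega
  subst hk1'
  rw [one_mul] at hk
  have hMN : centralizer ({d} : Set G) ⊓ normalizer ((P : Subgroup G) : Set G) =
      centralizer ({d} : Set G) :=
    Subgroup.eq_of_le_of_card_ge inf_le_left (by omega)
  have hMleN : centralizer ({d} : Set G) ≤ normalizer ((P : Subgroup G) : Set G) :=
    inf_eq_left.mp hMN
  exact hP' (sylow_eq_of_le_normalizer P P' (hP'M.trans hMleN))

end main

end Cfsg.Agent.Helper15.O1440
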