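import Mathlib
import Cfsg.Agent.Helper15.O2016a
import Cfsg.Agent.Helper15.O1440c

set_option autoImplicit false

/-!
No simple group of order 2016: part b (the case `|N(P₇)| = 56`; same argument as for 1440).
-/

namespace Cfsg.Agent.Helper15.O2016

open Subgroup Cfsg.Agent.Helper11 Cfsg.Agent.Helper15.NoSimp

/-- An involution normalizing `⟨x⟩`, `x` of prime order, centralizes or inverts `x`. -/
theorem conj_eq_or_inv_of_prime {G : Type*} [Group G] {p : ℕ} [Fact p.Prime] {x s : G}
    (hx : orderOf x = p) (hs : s * s = 1)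
    (hmem : s * x * s⁻¹ ∈ zpowers x) : s * x * s⁻¹ = x ∨ s * x * s⁻¹ = x⁻¹ := by
  have hp : p.Prime := Fact.out
  obtain ⟨n, hn⟩ := Subgroup.mem_zpowers_iff.mp hmem
  have hs' : s⁻¹ = s := inv_eq_of_mul_eq_one_left hs
  have h2 : x ^ (n * n) = x := by
    have e1 : s * (s * x * s⁻¹) * s⁻¹ = x := by
      rw [hs']; rw [← mul_assoc, ← mul_assoc, hs, one_mul, mul_assoc, hs, mul_one]
    have e2 : s * (x ^ n) * s⁻¹ = (s * x * s⁻¹) ^ n := (conj_zpow (a := s) (b := x) (i := n)).symm
    rw [← hn] at e1
    rw [e2, ← hn, ← zpow_mul] at e1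
    exact e1
  have h3 : x ^ (n * n - 1) = 1 := by
    rw [zpow_sub, h2, zpow_one, mul_inv_cancel]
  have h4 : (p : ℤ) ∣ (n - 1) * (n + 1) := by
    have := (orderOf_dvd_iff_zpow_eq_one).mpr h3
    rw [hx] at this
    have e : (n - 1) * (n + 1) = n * n - 1 := by ring
    rw [e]; exact this
  have hpi : Prime (p : ℤ) := Nat.prime_iff_prime_int.mp hp
  rcases hpi.dvd_or_dvd h4 with h | h
  · left
    rw [← hx] at h
    have h5 := (orderOf_dvd_iff_zpow_eq_one).mp h
    rw [← hn]
    rw [zpow_sub, zpow_one] at h5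
    exact mul_inv_eq_one.mp h5
  · right
    rw [← hx] at h
    have h5 := (orderOf_dvd_iff_zpow_eq_one).mp h
    rw [← hn]
    rw [zpow_add, zpow_one] at h5
    exact eq_inv_of_mul_eq_one_left h5

/-- `N(P) = P ⊔ T` centralizes `u` if `P` and `T` do. -/
theorem normalizer_le_centralizer_singleton {G : Type*} [Group G] [Finite G] (P : Sylow 7 G)
    (hP : Nat.card ↥(P : Subgroup G) = 7)
    (hN : Nat.card ↥(normalizer ((P : Subgroup G) : Set G)) = 56) (T : Subgroup G)
    (hTN : T ≤ normalizer ((P : Subgroup G) : Set G)) (hT : Nat.card ↥T = 8) (u : G)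
    (huC : u ∈ centralizer ((P : Subgroup G) : Set G)) (huT : ∀ s ∈ T, s * u = u * s) :
    normalizer ((P : Subgroup G) : Set G) ≤ centralizer ({u} : Set G) := by
  have h1 : (P : Subgroup G) ⊔ T ≤ centralizer ({u} : Set G) := by
    refine sup_le ?_ ?_
    · intro x hx
      rw [mem_centralizer_iff]
      intro h hh
      rw [Set.mem_singleton_iff] at hh
      subst hh
      rw [mem_centralizer_iff] at huC
      exact (huC x hx).symm
    · intro s hs
      rw [mem_centralizer_iff]
      intro h hh
      rw [Set.mem_singleton_iff] at hh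
      subst hh
      exact (huT s hs).symm
  have h2 : (P : Subgroup G) ⊔ T = normalizer ((P : Subgroup G) : Set G) := by
    apply Subgroup.eq_of_le_of_card_ge (sup_le le_normalizer hTN)
    have d1 : 7 ∣ Nat.card ↥((P : Subgroup G) ⊔ T) := by
      have := Subgroup.card_dvd_of_le (le_sup_left : (P : Subgroup G) ≤ (P : Subgroup G) ⊔ T)
      rwa [hP] at this
    have d2 : 8 ∣ Nat.card ↥((P : Subgroup G) ⊔ T) := by
      have := Subgroup.card_dvd_of_le (le_sup_right : T ≤ (P : Subgroup G) ⊔ T)
      rwa [hT] at this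
    have h56 := Nat.Coprime.mul_dvd_of_dvd_of_dvd (by norm_num : Nat.Coprime 7 8) d1 d2
    have hpos : 0 < Nat.card ↥((P : Subgroup G) ⊔ T) := Nat.card_pos
    rw [hN]
    exact Nat.le_of_dvd hpos h56
  rw [← h2]; exact h1

/-- The elements of an elementary abelian `T ≤ N(P)` centralizing `P` have index at most 2
(`P` a Sylow subgroup of prime order). -/
theorem card_inf_centralizer_ge {G : Type*} [Group G] [Finite G] {p : ℕ} [Fact p.Prime]
    (P : Sylow p G)
    (hP : Nat.card ↥(P : Subgroup G) = p) (T : Subgroup G)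
    (hTN : T ≤ normalizer ((P : Subgroup G) : Set G)) (hsq : ∀ s ∈ T, s * s = 1) :
    Nat.card ↥T ≤ 2 * Nat.card ↥(T ⊓ centralizer ((P : Subgroup G) : Set G)) := by
  classical
  have hp : p.Prime := Fact.out
  have hne : (P : Subgroup G) ≠ ⊥ := by
    intro h
    rw [h, Subgroup.card_bot] at hP
    exact hp.one_lt.ne hP
  obtain ⟨⟨x, hxP⟩, hx1'⟩ := (Subgroup.ne_bot_iff_exists_ne_one).mp hne
  have hx1 : x ≠ 1 := fun h => hx1' (Subtype.ext h)
  have hPx : (P : Subgroup G) = zpowers x := eq_zpowers_of_card_prime _ hP x hxP hx1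
  have hC : centralizer ((P : Subgroup G) : Set G) = centralizer ({x} : Set G) :=
    centralizer_sylow_eq_centralizer_singleton P hP hxP hx1
  have hx5 : orderOf x = p := orderOf_eq_prime_of_mem _ hP x hxP hx1
  have hcases : ∀ s ∈ T, s * x * s⁻¹ = x ∨ s * x * s⁻¹ = x⁻¹ := by
    intro s hs
    apply conj_eq_or_inv_of_prime hx5 (hsq s hs)
    rw [← hPx]
    exact (mem_normalizer_iff.mp (hTN hs) x).mp hxP
  have hmemC : ∀ s, s * x * s⁻¹ = x → s ∈ centralizer ({x} : Set G) := by
    intro s h
    rw [mem_centralizer_iff]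
    intro y hy
    rw [Set.mem_singleton_iff] at hy
    subst hy
    calc y * s = (s * y * s⁻¹) * s := by rw [h]
      _ = s * y := by group
  rw [hC]
  set U := T ⊓ centralizer ({x} : Set G) with hU
  have hTc : Nat.card ↥T = (T : Set G).ncard := Nat.card_coe_set_eq _
  have hUc : Nat.card ↥U = (U : Set G).ncard := Nat.card_coe_set_eq _
  by_cases hall : T ≤ centralizer ({x} : Set G)
  · have : U = T := inf_eq_left.mpr hall
    rw [this]; omega
  · obtain ⟨s₀, hs₀T, hs₀C⟩ := SetLike.not_le_iff_exists.mp hall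
    have hs₀ : s₀ * x * s₀⁻¹ = x⁻¹ := by
      rcases hcases s₀ hs₀T with h | h
      · exact absurd (hmemC s₀ h) hs₀C
      · exact h
    have hsub : (T : Set G) ⊆ (U : Set G) ∪ (fun y => s₀ * y) '' (U : Set G) := by
      intro s hs
      rcases hcases s hs with h | h
      · left
        exact ⟨hs, hmemC s h⟩
      · right
        refine ⟨s₀ * s, ⟨T.mul_mem hs₀T hs, hmemC _ ?_⟩, ?_⟩
        · calc s₀ * s * x * (s₀ * s)⁻¹ = s₀ * (s * x * s⁻¹) * s₀⁻¹ := by group
            _ = s₀ * x⁻¹ * s₀⁻¹ := by rw [h]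
            _ = (s₀ * x * s₀⁻¹)⁻¹ := by group
            _ = x := by rw [hs₀, inv_inv]
        · show s₀ * (s₀ * s) = s
          rw [← mul_assoc, hsq s₀ hs₀T, one_mul]
    have h1 := Set.ncard_le_ncard hsub
    have h2 := Set.ncard_union_le (U : Set G) ((fun y => s₀ * y) '' (U : Set G))
    have h3 := Set.ncard_image_le (f := fun y => s₀ * y) (s := (U : Set G))
    omega

section main
variable {G : Type*} [Group G] [Finite G] [IsSimpleGroup G]

/-- In the `|N(P)| = 56` situation, a subgroup `T` of order 8 with a central involution `t` having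
36 conjugates is elementary abelian. -/
theorem sq_eq_one_of_mem (hcard : Nat.card G = 2016) (T : Subgroup G) (hT : Nat.card ↥T = 8)
    (t : G) (ht : t * t = 1) (ht1 : t ≠ 1) (htT : t ∈ T) (htc : ∀ s ∈ T, s * t = t * s)
    (h36 : Nat.card {g : G // IsConj t g} = 36) : ∀ s ∈ T, s * s = 1 := by
  classical
  set A : Set G := {g | IsConj t g ∧ g ∈ T} with hA
  have hAT : A ⊆ (T : Set G) := fun g hg => hg.2
  have hTn : (T : Set G).ncard = 8 := by
    rw [← Nat.card_coe_set_eq]; exact hT
  have hA4 : 4 ∣ A.ncard := by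
    have h := conj_count_four_dvd hcard t ht h36 T hT htT
    rw [← Nat.card_coe_set_eq]; exact h
  have htA : t ∈ A := ⟨IsConj.refl t, htT⟩
  have h1A : (1 : G) ∉ A := fun h => ht1 (isConj_one_left.mp h.1)
  have hA0 : A.ncard ≠ 0 := Set.ncard_ne_zero_of_mem htA
  have hA8 : A.ncard ≤ 8 := hTn ▸ Set.ncard_le_ncard hAT
  have hAne8 : A.ncard ≠ 8 := by
    intro h
    have : A = (T : Set G) := Set.eq_of_subset_of_ncard_le hAT (by omega)
    apply h1A
    rw [this]; exact T.one_mem
  have hAn : A.ncard = 4 := by omega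
  have hinv : ∀ y ∈ A, y * y = 1 := fun y hy => O1440.sq_eq_one_of_isConj ht hy.1
  have hkey : ∀ y ∈ A, y ≠ t → ¬ IsConj t (t * y) := by
    intro y hy hyt hconj
    have hy2 := hinv y hy
    have hty : t * y = y * t := (htc y hy.2).symm
    have hy1 : y ≠ 1 := fun h => h1A (h ▸ hy)
    have hK4 := card_kleinSub t y ht hy2 hty ht1 hy1 (Ne.symm hyt)
    have htK : t ∈ kleinSub t y ht hy2 hty := by
      rw [mem_kleinSub]; right; left; rfl
    have heven := conj_count_even hcard t ht h36 _ hK4 htK
    have hs : {g : G | IsConj t g ∧ g ∈ kleinSub t y ht hy2 hty} =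
        ↑({t, y, t * y} : Finset G) := by
      ext g
      simp only [Set.mem_ofPred_eq, mem_kleinSub, Finset.coe_insert, Finset.coe_singleton,
        Set.mem_insert_iff, Set.mem_singleton_iff]
      constructor
      · rintro ⟨hc, rfl | h⟩
        · exact absurd (isConj_one_left.mp hc) ht1
        · exact h
      · rintro (rfl | rfl | rfl)
        · exact ⟨IsConj.refl _, Or.inr (Or.inl rfl)⟩
        · exact ⟨hy.1, Or.inr (Or.inr (Or.inl rfl))⟩
        · exact ⟨hconj, Or.inr (Or.inr (Or.inr rfl))⟩
    have hc3 : Nat.card {g : G // IsConj t g ∧ g ∈ kleinSub t y ht hy2 hty} = 3 := by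
      have : Nat.card {g : G // IsConj t g ∧ g ∈ kleinSub t y ht hy2 hty} =
          ({g : G | IsConj t g ∧ g ∈ kleinSub t y ht hy2 hty}).ncard :=
        Nat.card_coe_set_eq _
      rw [this, hs, Set.ncard_coe_finset]
      have h3 : y ∉ ({t * y} : Finset G) := by
        simp only [Finset.mem_singleton]
        intro h
        apply ht1
        exact mul_right_cancel (((one_mul y).trans h).symm)
      have h2 : t ∉ ({y, t * y} : Finset G) := by
        simp only [Finset.mem_insert, Finset.mem_singleton, not_or]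
        refine ⟨Ne.symm hyt, ?_⟩
        intro h
        apply hy1
        exact mul_left_cancel (((mul_one t).trans h).symm)
      rw [Finset.card_insert_of_notMem h2, Finset.card_insert_of_notMem h3, Finset.card_singleton]
    rw [hc3] at heven
    exact absurd heven (by decide)
  set B : Set G := (fun y => t * y) '' A with hB
  have hBT : B ⊆ (T : Set G) := by
    rintro _ ⟨y, hy, rfl⟩
    exact T.mul_mem htT hy.2
  have hBn : B.ncard = 4 := by
    rw [hB, Set.ncard_image_of_injective A (mul_right_injective t)]; exact hAn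
  have hdisj : Disjoint A B := by
    rw [Set.disjoint_left]
    rintro a ha ⟨y, hy, rfl⟩
    by_cases hyt : y = t
    · subst hyt
      have ha' : y * y ∈ A := ha
      rw [ht] at ha'
      exact h1A ha'
    · exact hkey y hy hyt ha.1
  have hun : (A ∪ B).ncard = 8 := by
    rw [Set.ncard_union_eq hdisj, hAn, hBn]
  have hAB : A ∪ B = (T : Set G) :=
    Set.eq_of_subset_of_ncard_le (Set.union_subset hAT hBT) (by omega)
  intro s hs
  have hs' : s ∈ A ∪ B := by rw [hAB]; exact hs
  rcases hs' with h | ⟨y, hy, rfl⟩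
  · exact hinv s h
  · have hy2 := hinv y hy
    have hty : y * t = t * y := htc y hy.2
    calc t * y * (t * y) = t * (y * t) * y := by group
      _ = t * (t * y) * y := by rw [hty]
      _ = (t * t) * (y * y) := by group
      _ = 1 := by rw [ht, hy2, one_mul]

theorem card_inf_eq_four (n : ℕ) (h1 : 8 ≤ 2 * n) (h8 : n ∣ 8) (hc : n ∣ 28) : n = 4 := by
  have h2 : n ∣ Nat.gcd 8 28 := Nat.dvd_gcd h8 hc
  have h3 : Nat.gcd 8 28 = 4 := by norm_num
  rw [h3] at h2
  have := Nat.le_of_dvd (by norm_num) h2
  omega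

/-- The case `|N(P₇)| = 56` is impossible. -/
theorem no_normalizer_fiftysix (hcard : Nat.card G = 2016) (P : Sylow 7 G)
    (hP : Nat.card ↥(P : Subgroup G) = 7)
    (hN : Nat.card ↥(normalizer ((P : Subgroup G) : Set G)) = 56) : False := by
  classical
  have hG := noncomm hcard
  obtain ⟨hk1, hk4, hkC, h5C⟩ := simple_automizer_data hG 7 P hP
  have hCN : centralizer ((P : Subgroup G) : Set G) ≤ normalizer ((P : Subgroup G) : Set G) :=
    centralizer_le_normalizer _
  -- a subgroup `T` of order 8 in `N`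
  obtain ⟨T', hT'⟩ := Sylow.exists_subgroup_card_pow_prime
    (G := ↥(normalizer ((P : Subgroup G) : Set G))) 2 (n := 3) (by rw [hN]; norm_num)
  have hT : Nat.card ↥(T'.map (normalizer ((P : Subgroup G) : Set G)).subtype) = 8 := by
    rw [Subgroup.card_map_of_injective (Subgroup.subtype_injective _), hT']; norm_num
  have hTN : T'.map (normalizer ((P : Subgroup G) : Set G)).subtype ≤
      normalizer ((P : Subgroup G) : Set G) := Subgroup.map_subtype_le T'
  generalize T'.map (normalizer ((P : Subgroup G) : Set G)).subtype = T at hT hTN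
  -- `|C| = 28`, `k = 2`
  have hk : (centralizer ((P : Subgroup G) : Set G)).relIndex
      (normalizer ((P : Subgroup G) : Set G)) ≤ 6 := Nat.le_of_dvd (by norm_num) hk4
  have hcases : (centralizer ((P : Subgroup G) : Set G)).relIndex
      (normalizer ((P : Subgroup G) : Set G)) = 2 ∧
      Nat.card ↥(centralizer ((P : Subgroup G) : Set G)) = 28 := by
    rw [hN] at hkC
    generalize (centralizer ((P : Subgroup G) : Set G)).relIndex
      (normalizer ((P : Subgroup G) : Set G)) = k at hk hk1 hk4 hkC
    generalize Nat.card ↥(centralizer ((P : Subgroup G) : Set G)) = c at hkC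
    interval_cases k
    · omega
    · omega
    · omega
    · omega
    · omega
    · omega
    · omega
  have hU2 : 2 ≤ Nat.card ↥(T ⊓ centralizer ((P : Subgroup G) : Set G)) := by
    have h1 := Subgroup.relIndex_inf_le (H := T) (K := centralizer ((P : Subgroup G) : Set G))
      (L := normalizer ((P : Subgroup G) : Set G))
    have h2 := relIndex_mul_card' hTN
    have h3 := relIndex_mul_card'
      ((inf_le_left : T ⊓ centralizer ((P : Subgroup G) : Set G) ≤ T).trans hTN)
    rw [hT, hN] at h2
    rw [hN] at h3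
    have h4 : T.relIndex (normalizer ((P : Subgroup G) : Set G)) = 7 := by omega
    rw [h4, hcases.1] at h1
    by_contra hlt
    push Not at hlt
    have h6 : (T ⊓ centralizer ((P : Subgroup G) : Set G)).relIndex
        (normalizer ((P : Subgroup G) : Set G)) *
          Nat.card ↥(T ⊓ centralizer ((P : Subgroup G) : Set G)) ≤ (7 * 2) * 1 :=
      Nat.mul_le_mul h1 (by omega)
    omega
  obtain ⟨t, htT, htC, ht, ht1, htc⟩ := O1440.exists_central_involution T
    (centralizer ((P : Subgroup G) : Set G)) hT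
    (fun s hs c hc => O1440.conj_mem_centralizer _ (hTN hs) hc) hU2
  have hNt := normalizer_le_centralizer_singleton P hP hN T hTN hT t htC htc
  obtain ⟨-, h36⟩ := centralizer_eq_normalizer hcard P hN t ht1 hNt
  -- `T` is elementary abelian
  have hsq := sq_eq_one_of_mem hcard T hT t ht ht1 htT htc h36
  have hTcomm : ∀ a ∈ T, ∀ b ∈ T, a * b = b * a := fun a ha b hb =>
    comm_of_sq_eq_one T hsq ha hb
  -- `|U| = 4`
  have hUge := card_inf_centralizer_ge P hP T hTN hsq
  have hUd8 : Nat.card ↥(T ⊓ centralizer ((P : Subgroup G) : Set G)) ∣ 8 := by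
    have := Subgroup.card_dvd_of_le
      (inf_le_left : T ⊓ centralizer ((P : Subgroup G) : Set G) ≤ T)
    rwa [hT] at this
  have hUdC : Nat.card ↥(T ⊓ centralizer ((P : Subgroup G) : Set G)) ∣ 28 := by
    have := Subgroup.card_dvd_of_le
      (inf_le_right : T ⊓ centralizer ((P : Subgroup G) : Set G) ≤
        centralizer ((P : Subgroup G) : Set G))
    rwa [hcases.2] at this
  rw [hT] at hUge
  have hU4 := card_inf_eq_four _ hUge hUd8 hUdC
  -- each nonidentity element of `U` has an even number of conjugates in `U`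
  refine O1440.no_four_group (T ⊓ centralizer ((P : Subgroup G) : Set G)) hU4
    (fun u hu => hsq u hu.1) ?_
  intro u hu hu1
  have huu : u * u = 1 := hsq u hu.1
  have hNu := normalizer_le_centralizer_singleton P hP hN T hTN hT u hu.2
    (fun s hs => hTcomm s hs u hu.1)
  obtain ⟨-, h36u⟩ := centralizer_eq_normalizer hcard P hN u hu1 hNu
  exact conj_count_even hcard u huu h36u _ hU4 hu

end main

end Cfsg.Agent.Helper15.O2016
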