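import Mathlib
import Cfsg.Agent.Helper15.O4032c
import Cfsg.Agent.Helper5.ClassMul
import Cfsg.Agent.Helper8.PrincipalParity

set_option autoImplicit false
set_option linter.unusedSectionVars false

/-!
No simple group of order 4032: the case `e = 2`, `C(P) = P` (class multiplication).
-/

namespace Cfsg.Agent.Helper15.O4032

open Cfsg Cfsg.Agent.Helper24 Cfsg.Agent.Helper5 Cfsg.Agent.Helper5.CC Subgroup
  Cfsg.Agent.Helper15.BrP Cfsg.Agent.Helper24.SelfCent Cfsg.Agent.Helper5.ClassMul

/-- `290304 n` is not a square for `1 ≤ n ≤ 7`. -/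
theorem no_square (w : ℤ) (n : ℕ) (h1 : 1 ≤ n) (h7 : n ≤ 7) (h : w ^ 2 = 290304 * (n : ℤ)) :
    False := by
  have hv : w.natAbs * w.natAbs = 290304 * n := by
    have h2 : ((w.natAbs * w.natAbs : ℕ) : ℤ) = ((290304 * n : ℕ) : ℤ) := by
      push_cast
      rw [← h, abs_mul_abs_self, sq]
    exact_mod_cast h2
  generalize w.natAbs = v at hv
  interval_cases n
  · rcases Nat.lt_or_ge v 539 with h' | h'
    · have := Nat.mul_le_mul (Nat.lt_succ_iff.mp h') (Nat.lt_succ_iff.mp h'); omega
    · have := Nat.mul_le_mul h' h'; omega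
  · rcases Nat.lt_or_ge v 762 with h' | h'
    · have := Nat.mul_le_mul (Nat.lt_succ_iff.mp h') (Nat.lt_succ_iff.mp h'); omega
    · have := Nat.mul_le_mul h' h'; omega
  · rcases Nat.lt_or_ge v 934 with h' | h'
    · have := Nat.mul_le_mul (Nat.lt_succ_iff.mp h') (Nat.lt_succ_iff.mp h'); omega
    · have := Nat.mul_le_mul h' h'; omega
  · rcases Nat.lt_or_ge v 1078 with h' | h'
    · have := Nat.mul_le_mul (Nat.lt_succ_iff.mp h') (Nat.lt_succ_iff.mp h'); omega
    · have := Nat.mul_le_mul h' h'; omega
  · rcases Nat.lt_or_ge v 1205 with h' | h'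
    · have := Nat.mul_le_mul (Nat.lt_succ_iff.mp h') (Nat.lt_succ_iff.mp h'); omega
    · have := Nat.mul_le_mul h' h'; omega
  · rcases Nat.lt_or_ge v 1320 with h' | h'
    · have := Nat.mul_le_mul (Nat.lt_succ_iff.mp h') (Nat.lt_succ_iff.mp h'); omega
    · have := Nat.mul_le_mul h' h'; omega
  · rcases Nat.lt_or_ge v 1426 with h' | h'
    · have := Nat.mul_le_mul (Nat.lt_succ_iff.mp h') (Nat.lt_succ_iff.mp h'); omega
    · have := Nat.mul_le_mul h' h'; omega

variable {G : Type*} [Group G] [Finite G] [IsSimpleGroup G]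

/-- The number of factorizations of a generator `x` of `P` as a product of two involutions is
at most `|N(P)| - |P|`. -/
theorem card_factorizations_le (P : Sylow 7 G) (hP : Nat.card (P : Subgroup G) = 7)
    (hN : Nat.card (normalizer ((P : Subgroup G) : Set G)) = 14) (x : G)
    (hxP : x ∈ (P : Subgroup G)) (hx : orderOf x = 7) (t : G) (ht : orderOf t = 2) :
    Nat.card {a : G // IsConj t a ∧ IsConj t (a⁻¹ * x)} ≤ 7 := by
  have hx1 : x ≠ 1 := by intro h; rw [h, orderOf_one] at hx; omega
  have hPz : (P : Subgroup G) = zpowers x :=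
    Cfsg.Agent.Helper11.eq_zpowers_of_card_prime (P : Subgroup G) hP x hxP hx1
  have hsq : ∀ b : G, IsConj t b → b * b = 1 := by
    intro b hb
    obtain ⟨g, hg⟩ := isConj_iff.mp hb
    have ht2 : t * t = 1 := by
      have := pow_orderOf_eq_one t
      rwa [ht, sq] at this
    rw [← hg]
    calc g * t * g⁻¹ * (g * t * g⁻¹) = g * (t * t) * g⁻¹ := by group
      _ = 1 := by rw [ht2]; group
  have hPN : ((P : Subgroup G) : Set G) ⊆ (normalizer ((P : Subgroup G) : Set G) : Set G) :=
    fun _ h => le_normalizer h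
  have hdiff : Nat.card ↥((normalizer ((P : Subgroup G) : Set G) : Set G) \
      ((P : Subgroup G) : Set G)) = 7 := by
    rw [Nat.card_coe_set_eq, Set.ncard_sdiff hPN (Set.toFinite _), ← Nat.card_coe_set_eq,
      ← Nat.card_coe_set_eq]
    have h1 : Nat.card ↥((normalizer ((P : Subgroup G) : Set G) : Set G)) = 14 := hN
    have h2 : Nat.card ↥(((P : Subgroup G) : Set G)) = 7 := hP
    rw [h1, h2]
  rw [← hdiff]
  have hmem : ∀ a : {a : G // IsConj t a ∧ IsConj t (a⁻¹ * x)},
      (a : G) ∈ (normalizer ((P : Subgroup G) : Set G) : Set G) \ ((P : Subgroup G) : Set G) := by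
    rintro ⟨a, ha1, ha2⟩
    have haa : a * a = 1 := hsq a ha1
    have hainv : a⁻¹ = a := inv_eq_of_mul_eq_one_left haa
    have hbb := hsq _ ha2
    rw [hainv] at hbb
    have hconj : a * x * a⁻¹ = x⁻¹ := by
      rw [hainv]
      have : a * x * a * x = 1 := by rw [← hbb]; group
      calc a * x * a = a * x * a * x * x⁻¹ := by group
        _ = x⁻¹ := by rw [this, one_mul]
    have hconjz : ∀ k : ℤ, a * x ^ k * a⁻¹ = (x⁻¹) ^ k := by
      intro k
      have := map_zpow (MulAut.conj a) x k
      simp only [MulAut.conj_apply] at this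
      rw [this, hconj]
    have hfwd : ∀ h : G, h ∈ (P : Subgroup G) → a * h * a⁻¹ ∈ (P : Subgroup G) := by
      intro h hh
      rw [hPz] at hh ⊢
      obtain ⟨k, rfl⟩ := mem_zpowers_iff.mp hh
      rw [hconjz]
      exact zpow_mem (inv_mem (mem_zpowers x)) k
    refine ⟨?_, ?_⟩
    · show a ∈ normalizer ((P : Subgroup G) : Set G)
      rw [mem_normalizer_iff]
      intro h
      refine ⟨hfwd h, fun hh => ?_⟩
      have := hfwd _ hh
      rw [hainv] at this
      have h3 : a * (a * h * a) * a = h := by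
        calc a * (a * h * a) * a = (a * a) * h * (a * a) := by group
          _ = h := by rw [haa, one_mul, mul_one]
      rwa [h3] at this
    · intro haP
      have haP' : a ∈ (P : Subgroup G) := haP
      have hcomm := hab_of_card_prime (P : Subgroup G) 7 hP a haP' x hxP
      have h4 : x = x⁻¹ := by
        rw [← hconj, hcomm, mul_inv_cancel_right]
      have h5 : x ^ 2 = 1 := by
        rw [sq]
        nth_rewrite 1 [h4]
        exact inv_mul_cancel x
      have := orderOf_dvd_of_pow_eq_one h5
      rw [hx] at this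
      omega
  exact Nat.card_le_card_of_injective (fun a => ⟨(a : G), hmem a⟩)
    (fun a b hab => by
      have h := congrArg Subtype.val hab
      exact Subtype.ext h)

end Cfsg.Agent.Helper15.O4032
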