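import Mathlib
import Cfsg.Agent.Helper15.O4032d

set_option autoImplicit false
set_option linter.unusedSectionVars false
set_option maxHeartbeats 1000000

/-!
No simple group of order 4032: the case `e = 2`, `C(P) = P`.
-/

namespace Cfsg.Agent.Helper15.O4032

open Cfsg Cfsg.Agent.Helper24 Cfsg.Agent.Helper5 Cfsg.Agent.Helper5.CC Subgroup
  Cfsg.Agent.Helper15.BrP Cfsg.Agent.Helper24.SelfCent Cfsg.Agent.Helper5.ClassMul

theorem two_mul_le_three_sq (c : ℤ) : 2 * c ≤ 3 * c ^ 2 := by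
  rcases le_or_gt c 0 with h | h
  · nlinarith [sq_nonneg c]
  · nlinarith [mul_nonneg (by omega : (0 : ℤ) ≤ c) (by omega : (0 : ℤ) ≤ c - 1)]

theorem neg_two_mul_le_three_sq (c : ℤ) : -(2 * c) ≤ 3 * c ^ 2 := by
  have := two_mul_le_three_sq (-c)
  nlinarith

variable {G : Type*} [Group G] [Finite G] [IsSimpleGroup G]

/-- The case `e = 2`, `C(P) = P`. -/
theorem case_e2_7 (hcard : Nat.card G = 4032) (P : Sylow 7 G)
    (hP : Nat.card (P : Subgroup G) = 7)
    (he : (centralizer ((P : Subgroup G) : Set G)).relIndex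
      (normalizer ((P : Subgroup G) : Set G)) = 2)
    (hC : Nat.card (centralizer ((P : Subgroup G) : Set G)) = 7)
    (hN : Nat.card (normalizer ((P : Subgroup G) : Set G)) = 14) : False := by
  classical
  have : Fintype G := Fintype.ofFinite G
  have : Fintype (IrrCharacter G) := Fintype.ofFinite _
  obtain ⟨D⟩ := exists_bdata (perfect hcard) 7 (by norm_num) P hP 2 he (by norm_num)
  obtain ⟨χ, hχne, hχX, hXmem, hsumX, h8, hs, hε, hY9, hY3⟩ := e2_data hcard P D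
  obtain ⟨x, hxP, hx⟩ := exists_gen P hP
  have hx1 : x ≠ 1 := by intro h; rw [h, orderOf_one] at hx; omega
  -- the exceptional characters
  obtain ⟨ε', c, d, T, a, hε', hTcard, htrivT, hdT, -, hdegN, hvalN, hO1, -⟩ :=
    brauer_degree_equation (P : Subgroup G) (hab_of_card_prime (P : Subgroup G) 7 hP)
      (hTI_of_card_prime (P : Subgroup G) 7 hP) (hcent_of_card_prime (P : Subgroup G) 7 hP hC)
      2 3 (by rw [hN, hP]) (by rw [hP]) (by norm_num)
  rw [hP] at hdegN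
  have hsum_le : ∑ ψ ∈ Tᶜ, a ψ ^ 2 ≤ 2 := by
    rw [hO1]
    rcases hε' with rfl | rfl
    · have := two_mul_le_three_sq c
      push_cast
      linarith
    · have := neg_two_mul_le_three_sq c
      push_cast
      linarith
  have ha_le : ∀ ψ ∈ Tᶜ, a ψ ^ 2 ≤ 2 := by
    intro ψ hψ
    exact (Finset.single_le_sum (f := fun ψ => a ψ ^ 2) (fun i _ => sq_nonneg (a i)) hψ).trans
      hsum_le
  have hYT : D.Y ⊆ T := by
    intro θ hθ
    by_contra hθT
    obtain ⟨k, hk⟩ := hdegN θ hθT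
    rw [hY9 θ hθ] at hk
    have h1 := ha_le θ (Finset.mem_compl.mpr hθT)
    have h2 : -1 ≤ a θ := by nlinarith
    have h3 : a θ ≤ 1 := by nlinarith
    push_cast at hk
    omega
  have hYeqT : D.Y = T := Finset.eq_of_subset_of_card_le hYT (by rw [hTcard, hY3])
  obtain ⟨θ₀, hθ₀⟩ : D.Y.Nonempty := Finset.card_pos.mp (by rw [hY3]; norm_num)
  have hχT : χ ∉ T := by
    intro h
    have h1 := hdT χ h
    have h2 := hdT θ₀ (hYT hθ₀)
    rw [hY9 θ₀ hθ₀] at h2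
    omega
  have hatriv : a (trivIrr G) = 1 := by
    have := hvalN (trivIrr G) htrivT x hxP hx1
    rw [trivIrr_apply] at this
    exact_mod_cast this.symm
  have hχx : (χ : G → ℂ) x = 1 := by
    have h3 := D.hval χ hχX x hxP hx1 1 (Subgroup.one_mem _) (by rw [orderOf_one]; norm_num)
    rw [mul_one, hs] at h3
    rw [h3]; norm_num
  have haχ : a χ = 1 := by
    have := hvalN χ hχT x hxP hx1
    rw [hχx] at this
    exact_mod_cast this.symm
  have hrest : ∀ ψ : IrrCharacter G, ψ ∉ T → ψ ≠ trivIrr G → ψ ≠ χ → a ψ = 0 := by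
    intro ψ hψT hψ1 hψχ
    have hm1 : trivIrr G ∈ Tᶜ := Finset.mem_compl.mpr htrivT
    have hm2 : χ ∈ Tᶜ.erase (trivIrr G) := Finset.mem_erase.mpr ⟨hχne, Finset.mem_compl.mpr hχT⟩
    have hm3 : ψ ∈ (Tᶜ.erase (trivIrr G)).erase χ :=
      Finset.mem_erase.mpr ⟨hψχ, Finset.mem_erase.mpr ⟨hψ1, Finset.mem_compl.mpr hψT⟩⟩
    have h1 := hsum_le
    rw [← Finset.add_sum_erase _ _ hm1, ← Finset.add_sum_erase _ _ hm2, hatriv, haχ] at h1
    have h2 := Finset.single_le_sum (f := fun ψ => a ψ ^ 2) (fun i _ => sq_nonneg (a i)) hm3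
    have h3 : a ψ ^ 2 ≤ 0 := by
      have : (fun ψ => a ψ ^ 2) ψ = a ψ ^ 2 := rfl
      linarith
    exact pow_eq_zero_iff (two_ne_zero) |>.mp (le_antisymm h3 (sq_nonneg _))
  have hvanish : ∀ ψ ∈ (D.X ∪ D.Y)ᶜ, (ψ : G → ℂ) x = 0 := by
    intro ψ hψ
    rw [Finset.mem_compl, Finset.mem_union, not_or] at hψ
    have hψT : ψ ∉ T := by rw [← hYeqT]; exact hψ.2
    have h1 : ψ ≠ trivIrr G := fun h => hψ.1 (h ▸ D.htriv)
    have h2 : ψ ≠ χ := fun h => hψ.1 (h ▸ hχX)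
    rw [hvalN ψ hψT x hxP hx1, hrest ψ hψT h1 h2]
    norm_num
  -- the sum of the exceptional characters at x
  have hcol := sum_irr_mul_conj (1 : G) x
  rw [if_neg (by rw [isConj_one_right]; exact hx1)] at hcol
  rw [← Finset.sum_add_sum_compl (D.X ∪ D.Y), Finset.sum_union D.hdisj, hsumX] at hcol
  have hrestcol : ∑ ψ ∈ (D.X ∪ D.Y)ᶜ, (ψ : G → ℂ) 1 * (starRingEnd ℂ) ((ψ : G → ℂ) x) = 0 := by
    apply Finset.sum_eq_zero
    intro ψ hψ
    rw [hvanish ψ hψ, map_zero, mul_zero]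
  have hYcol : ∑ θ ∈ D.Y, (θ : G → ℂ) 1 * (starRingEnd ℂ) ((θ : G → ℂ) x) =
      9 * ∑ θ ∈ D.Y, (starRingEnd ℂ) ((θ : G → ℂ) x) := by
    rw [Finset.mul_sum]
    refine Finset.sum_congr rfl ?_
    intro θ hθ
    rw [irrDeg_spec, hY9 θ hθ]
    norm_num
  rw [hYcol, hrestcol, trivIrr_apply, trivIrr_apply, hχx, irrDeg_spec, h8, map_one] at hcol
  have hS : ∑ θ ∈ D.Y, (starRingEnd ℂ) ((θ : G → ℂ) x) = -1 := by
    push_cast at hcol
    linear_combination hcol / 9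
  -- an involution
  have : Fact (Nat.Prime 2) := ⟨by norm_num⟩
  obtain ⟨t, ht⟩ := exists_prime_orderOf_dvd_card' (G := G) 2 (by rw [hcard]; norm_num)
  have ht1 : t ≠ 1 := by intro h; rw [h, orderOf_one] at ht; omega
  obtain ⟨d', m', hd', hm'⟩ :=
    Cfsg.Agent.Helper8.char_involution (IsIrrCharacter.isCharacter χ.2) ht
  have hd8 : d' = 8 := by
    rw [irrDeg_spec, h8] at hd'
    exact_mod_cast hd'.symm
  set u : ℤ := 2 * (m' : ℤ) - 8 with hu
  have hχt : (χ : G → ℂ) t = (u : ℂ) := by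
    rw [hm', hd8, hu]; push_cast; ring
  have h7t : ¬ 7 ∣ orderOf t := by rw [ht]; norm_num
  have hθt : ∀ θ ∈ D.Y, (θ : G → ℂ) t = 1 + (u : ℂ) := by
    intro θ hθ
    have h1 := D.hreg θ hθ t h7t
    rw [hsumX, hε, D.hsgtriv, hs, trivIrr_apply, hχt] at h1
    push_cast at h1
    linear_combination h1
  have hu8 : u ≠ 8 := by
    intro h
    apply ht1
    apply eq_one_of_apply_eq_irrDeg χ x (by rw [hχx, h8]; norm_num) t
    rw [hχt, h, h8]; norm_num
  -- class multiplication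
  set idx := (centralizer ({t} : Set G)).index with hidx
  have hidx0 : idx ≠ 0 := Subgroup.index_ne_zero_of_finite
  set N₀ := Nat.card {a : G // IsConj t a ∧ IsConj t (a⁻¹ * x)} with hN₀
  have hmul : (N₀ : ℂ) = (Nat.card G : ℂ)⁻¹ * ∑ ψ : IrrCharacter G,
      centralChar (ψ : G → ℂ) t * centralChar (ψ : G → ℂ) t *
        ((ψ : G → ℂ) 1 * (starRingEnd ℂ) ((ψ : G → ℂ) x)) := by
    rw [hN₀, ← conv_classIndicator_apply, conv_classIndicator_eq]
  rw [← Finset.sum_add_sum_compl (D.X ∪ D.Y), Finset.sum_union D.hdisj, hsumX] at hmul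
  have hrestmul : ∑ ψ ∈ (D.X ∪ D.Y)ᶜ, centralChar (ψ : G → ℂ) t * centralChar (ψ : G → ℂ) t *
        ((ψ : G → ℂ) 1 * (starRingEnd ℂ) ((ψ : G → ℂ) x)) = 0 := by
    apply Finset.sum_eq_zero
    intro ψ hψ
    rw [hvanish ψ hψ, map_zero, mul_zero, mul_zero]
  have hYmul : ∑ θ ∈ D.Y, centralChar (θ : G → ℂ) t * centralChar (θ : G → ℂ) t *
        ((θ : G → ℂ) 1 * (starRingEnd ℂ) ((θ : G → ℂ) x)) =
      ((idx : ℂ) * (1 + (u : ℂ)) / 9) ^ 2 * 9 * ∑ θ ∈ D.Y, (starRingEnd ℂ) ((θ : G → ℂ) x) := by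
    rw [Finset.mul_sum]
    refine Finset.sum_congr rfl ?_
    intro θ hθ
    rw [centralChar_def, hθt θ hθ, irrDeg_spec, hY9 θ hθ]
    push_cast
    ring
  rw [hYmul, hrestmul, hS, centralChar_def, centralChar_def, trivIrr_apply, trivIrr_apply,
    trivIrr_apply, hχt, hχx, irrDeg_spec, h8, map_one, hcard, ← hidx] at hmul
  have hkey : (290304 : ℂ) * (N₀ : ℂ) = (((idx : ℤ) * (8 - u) : ℤ) : ℂ) ^ 2 := by
    rw [hmul]
    push_cast
    field_simp
    ring
  have hkeyZ : ((idx : ℤ) * (8 - u)) ^ 2 = 290304 * (N₀ : ℤ) := by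
    have : (((((idx : ℤ) * (8 - u)) ^ 2 : ℤ)) : ℂ) = ((290304 * (N₀ : ℤ) : ℤ) : ℂ) := by
      push_cast
      push_cast at hkey
      rw [hkey]
    exact_mod_cast this
  have hN₀le : N₀ ≤ 7 := card_factorizations_le P hP hN x hxP hx t ht
  have hN₀pos : 1 ≤ N₀ := by
    by_contra h
    have h0 : N₀ = 0 := by omega
    rw [h0] at hkeyZ
    have h1 : (idx : ℤ) * (8 - u) = 0 := by
      have : ((idx : ℤ) * (8 - u)) ^ 2 = 0 := by rw [hkeyZ]; norm_num
      exact pow_eq_zero_iff (two_ne_zero) |>.mp this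
    rcases mul_eq_zero.mp h1 with h2 | h2
    · exact hidx0 (by exact_mod_cast h2)
    · exact hu8 (by omega)
  exact no_square _ N₀ hN₀pos hN₀le hkeyZ

end Cfsg.Agent.Helper15.O4032
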