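import Cfsg.Agent.S2905
import Cfsg.Agent.Helper7.Layer
import Cfsg.Agent.Helper7.Components
import Cfsg.Agent.Helper7.PComponent
import Cfsg.Agent.Helper7.PPrimeCore
import Cfsg.Agent.Helper14.PMinimal
import Cfsg.Agent.Helper3.SylowSubnormal
import Cfsg.Agent.Helper19.Cores

/-! # p-minimal groups with `O_p = 1` and a component (towards S2906) -/

set_option autoImplicit false
set_option linter.unusedSectionVars false
set_option linter.style.haveILetI false

namespace Cfsg.Agent.Helper15.PMinComp

open Cfsg Cfsg.Agent.Helper14 Cfsg.Agent.Helper7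
open scoped commutatorElement

section
variable {P : Type*} [Group P] [Finite P] {p : ℕ} [Fact p.Prime]

/-- perfect subgroups lie in `O^p` -/
theorem perfect_le_pResidual {H : Subgroup P} (hH : ⁅H, H⁆ = H) : H ≤ pResidual p P := by
  have hq : IsPGroup p (P ⧸ pResidual p P) := isPGroup_quotient_pResidual
  have : Group.IsNilpotent (P ⧸ pResidual p P) := hq.isNilpotent
  obtain ⟨n, hn⟩ := (Group.isSolvable_def (P ⧸ pResidual p P)).mp inferInstance
  have h1 : ∀ k, H ≤ derivedSeries P k := by
    intro k
    induction k with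
    | zero => exact le_top
    | succ k ih =>
      calc H = ⁅H, H⁆ := hH.symm
        _ ≤ ⁅derivedSeries P k, derivedSeries P k⁆ := Subgroup.commutator_mono ih ih
  have h2 : derivedSeries P n ≤ pResidual p P := by
    have := map_derivedSeries_eq (QuotientGroup.mk'_surjective (pResidual p P)) n
    rw [hn] at this
    rw [← QuotientGroup.ker_mk' (pResidual p P)]
    exact (Subgroup.map_eq_bot_iff _).mp this
  exact (h1 n).trans h2

/-- Dedekind: `A ≤ T ≤ K A` with `A` normalizing `K` gives `T = (T ∩ K) A`. -/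
theorem dedekind {K A T : Subgroup P} (hA : A ≤ Subgroup.normalizer (K : Set P)) (hAT : A ≤ T)
    (hT : T ≤ K ⊔ A) : T = (T ⊓ K) ⊔ A := by
  apply le_antisymm
  · intro t ht
    obtain ⟨k, hk, a, ha, rfl⟩ := (mem_sup_of_le_normalizer hA).mp (hT ht)
    have hkT : k ∈ T := by
      have : k = (k * a) * a⁻¹ := by group
      rw [this]
      exact T.mul_mem ht (T.inv_mem (hAT ha))
    exact Subgroup.mul_mem _ (Subgroup.mem_sup_left ⟨hkT, hk⟩) (Subgroup.mem_sup_right ha)
  · exact sup_le inf_le_left hAT

end

section main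
variable {P : Type*} [Group P] [Finite P] {p : ℕ} [Fact p.Prime]
  (hP : IsPMinimal p P) (hOp : pCore p P = ⊥) (S : Sylow p P) (M : Subgroup P)
  (hM : IsCoatom M) (hSM : (S : Subgroup P) ≤ M)

include hP hM hSM in
theorem normal_dichotomy (N : Subgroup P) (hN : N.Normal) :
    pResidual p P ≤ N ∨ N ≤ M.normalCore := by
  haveI := Subgroup.normalCore_normal M
  exact (Cfsg.Agent.S2905.result hP S M hM hSM).2.2.1 N hN

include hP hOp hM hSM in
theorem subnormal_inf_eq_bot (N : Subgroup P) (hN : N.IsSubnormal) (hNM : N ≤ M) :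
    N ⊓ (S : Subgroup P) = ⊥ := by
  haveI := Subgroup.normalCore_normal M
  have := (Cfsg.Agent.S2905.result hP S M hM hSM).1 N hN hNM
  rw [hOp] at this
  exact le_bot_iff.mp this

include hM hSM in
theorem pResidual_not_le : ¬ pResidual p P ≤ M := by
  intro h
  apply hM.1
  apply top_le_iff.mp
  rw [← pResidual_sup_sylow S]
  exact sup_le h hSM

/-- a normal `p'`-subgroup inside the core of `M` is nilpotent -/
theorem nilpotent_of_normal_coprime_le_core (N : Subgroup P) [hN : N.Normal]
    (hcop : (Nat.card N).Coprime p) (hNF : N ≤ M.normalCore)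
    (hP : IsPMinimal p P) (S : Sylow p P) (hM : IsCoatom M) (hSM : (S : Subgroup P) ≤ M) :
    Group.IsNilpotent ↥N := by
  have hpp : p.Prime := Fact.out
  apply (Group.isNilpotent_of_finite_tfae.out 3 0).mp
  intro q hq Q
  set Qm := (Q : Subgroup ↥N).map N.subtype with hQm
  set H := Subgroup.normalizer (Qm : Set P) with hH
  have hfr : H ⊔ N = ⊤ := Sylow.normalizer_sup_eq_top Q
  have hidx : ¬ p ∣ H.index := by
    have e1 : H.index = (H ⊓ N).relIndex N := by
      rw [← Cfsg.Agent.Helper15.relIndex_sup_of_normal H N, hfr, Subgroup.relIndex_top_right]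
    have e2 : (H ⊓ N).relIndex N ∣ Nat.card N := Subgroup.relIndex_dvd_card _ _
    intro h
    rw [e1] at h
    have := (Nat.Prime.coprime_iff_not_dvd hpp).mp hcop.symm
    exact this (h.trans e2)
  obtain ⟨g, hg⟩ := Cfsg.Agent.S2905.exists_map_cj_le S H hidx
  have hHtop : H = ⊤ := by
    by_contra hne
    have h1 : H.map (cj g⁻¹) ≤ M := by
      apply Cfsg.Agent.S2905.le_of_ne_top hP S M hM hSM
      · have : (S : Subgroup P) = ((S : Subgroup P).map (cj g)).map (cj g⁻¹) := by
          rw [map_cj_map_cj_inv]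
        rw [this]
        exact Subgroup.map_mono hg
      · intro h
        apply hne
        have := congrArg (Subgroup.map (cj g)) h
        rw [map_cj_inv_map_cj] at this
        rw [this]
        exact Subgroup.map_top_of_surjective _ (MulAut.conj g).surjective
    have h2 : N.map (cj g⁻¹) = N :=
      mem_normalizer_iff_map_cj.mp (by rw [Subgroup.normalizer_eq_top]; trivial)
    have h3 : (⊤ : Subgroup P) ≤ M := by
      have : (H ⊔ N).map (cj g⁻¹) ≤ M := by
        rw [Subgroup.map_sup, h2]
        exact sup_le h1 (hNF.trans (Subgroup.normalCore_le M))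
      rw [hfr, Subgroup.map_top_of_surjective _ (MulAut.conj g⁻¹).surjective] at this
      exact this
    exact hM.1 (top_le_iff.mp h3)
  have hQn : Qm.Normal := Subgroup.normalizer_eq_top_iff.mp hHtop
  have : (Q : Subgroup ↥N) = Qm.comap N.subtype := by
    rw [hQm, Subgroup.comap_map_eq_self_of_injective N.subtype_injective]
  rw [this]
  exact hQn.comap _

end main

section comp
variable {P : Type*} [Group P] [Finite P] {p : ℕ} [Fact p.Prime]
  (hP : IsPMinimal p P) (hOp : pCore p P = ⊥) (S : Sylow p P) (M : Subgroup P)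
  (hM : IsCoatom M) (hSM : (S : Subgroup P) ≤ M) (K : Subgroup P) (hK : IsComponent K)

include hK in
theorem comp_le_pResidual : K ≤ pResidual p P :=
  perfect_le_pResidual (IsComponent.commutator_eq hK)

include hK in
theorem not_solvable_of_comp_le {H : Subgroup P} (hKH : K ≤ H) : ¬ Group.IsSolvable ↥H :=
  fun h => IsQuasisimple.not_isSolvable hK.2 (isSolvable_of_le hKH h)

include hP hOp hM hSM hK in
/-- `O^p(P) ≤ E(P)` -/
theorem pResidual_le_layer : pResidual p P ≤ layer P := by
  rcases normal_dichotomy hP S M hM hSM (layer P) inferInstance with h | h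
  · exact h
  · exfalso
    have hsn : (layer P).IsSubnormal := Subgroup.Normal.isSubnormal inferInstance
    have h1 := subnormal_inf_eq_bot hP hOp S M hM hSM (layer P) hsn
      (h.trans (Subgroup.normalCore_le M))
    have h2 := Cfsg.Agent.Helper3.card_sylow_inf_normal S (layer P)
    rw [inf_comm, h1, Subgroup.card_bot] at h2
    have hpp : p.Prime := Fact.out
    have h3 : (Nat.card (layer P)).factorization p = 0 := by
      by_contra h0
      have : 1 < p ^ (Nat.card (layer P)).factorization p :=
        Nat.one_lt_pow h0 hpp.one_lt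
      omega
    have hcop : (Nat.card (layer P)).Coprime p := by
      rw [Nat.coprime_comm, Nat.Prime.coprime_iff_not_dvd hpp]
      intro hd
      have := (hpp.factorization_pos_of_dvd Nat.card_pos.ne' hd)
      omega
    have hnil := nilpotent_of_normal_coprime_le_core M (layer P) hcop h hP S hM hSM
    exact not_solvable_of_comp_le K hK (IsComponent.le_layer hK) inferInstance

include hP hOp hM hSM hK in
theorem layer_eq_pResidual : layer P = pResidual p P :=
  le_antisymm (perfect_le_pResidual layer_commutator_eq)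
    (pResidual_le_layer hP hOp S M hM hSM K hK)

include hOp in
theorem fitting_le_pResidual : fittingSubgroup P ≤ pResidual p P := by
  rw [fittingSubgroup_eq_pCoreSup, pCoreSup_le_iff]
  intro q hq
  by_cases hqp : q = p
  · subst hqp
    rw [hOp]; exact bot_le
  · haveI : Fact q.Prime := ⟨hq⟩
    intro x hx
    apply Subgroup.subset_closure
    show Nat.Coprime (orderOf x) p
    obtain ⟨k, hk⟩ := (IsPGroup.iff_orderOf.mp (pCore_isPGroup (G := P) q)) ⟨x, hx⟩
    have h1 : orderOf x = q ^ k := by
      rw [← hk]; exact (Subgroup.orderOf_mk x hx).symm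
    rw [h1]
    apply Nat.Coprime.pow_left
    exact (Nat.coprime_primes hq (Fact.out : p.Prime)).mpr hqp

include hP hOp hM hSM hK in
/-- the normal closure of a component is not inside the core of `M` -/
theorem normalClosure_not_le_core : ¬ Subgroup.normalClosure (K : Set P) ≤ M.normalCore := by
  intro hle
  set L1 := Subgroup.normalClosure (K : Set P) with hL1
  have hKL1 : K ≤ L1 := Subgroup.le_normalClosure
  have hL1n : L1.Normal := Subgroup.normalClosure_normal
  set C := Subgroup.centralizer (L1 : Set P) with hC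
  have hCn : C.Normal := inferInstance
  rcases normal_dichotomy hP S M hM hSM C hCn with h | h
  · -- K abelian
    have h1 : K ≤ Subgroup.centralizer (K : Set P) :=
      ((comp_le_pResidual K hK).trans h).trans (Subgroup.centralizer_le hKL1)
    have h2 : ⁅K, K⁆ = ⊥ := Subgroup.commutator_eq_bot_iff_le_centralizer.mpr h1
    rw [IsComponent.commutator_eq hK] at h2
    exact IsComponent.ne_bot hK h2
  · -- all components in F
    have h1 : layer P ≤ M.normalCore := by
      rw [layer_le_iff]
      intro K' hK'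
      rcases component_le_or_commutator_eq_bot hK' (Subgroup.Normal.isSubnormal hL1n) with h2 | h2
      · exact h2.trans hle
      · exact (Subgroup.commutator_eq_bot_iff_le_centralizer.mp h2).trans h
    apply pResidual_not_le S M hM hSM
    rw [← layer_eq_pResidual hP hOp S M hM hSM K hK]
    exact h1.trans (Subgroup.normalCore_le M)

include hP hOp hM hSM hK in
theorem comp_not_le : ¬ K ≤ M := by
  intro h
  apply normalClosure_not_le_core hP hOp S M hM hSM K hK
  haveI := Subgroup.normalCore_normal M
  apply Subgroup.normalClosure_le_normal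
  exact Cfsg.Agent.S3802.result M K hM hK.1 h

include hP hOp hM hSM hK in
theorem layer_le_normalClosure : layer P ≤ Subgroup.normalClosure (K : Set P) := by
  rw [layer_eq_pResidual hP hOp S M hM hSM K hK]
  rcases normal_dichotomy hP S M hM hSM _ (Subgroup.normalClosure_normal (s := (K : Set P)))
    with h | h
  · exact h
  · exact absurd h (normalClosure_not_le_core hP hOp S M hM hSM K hK)

end comp

section conj
variable {P : Type*} [Group P] [Finite P] {p : ℕ} [Fact p.Prime]
  (hP : IsPMinimal p P) (hOp : pCore p P = ⊥) (S : Sylow p P) (M : Subgroup P)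
  (hM : IsCoatom M) (hSM : (S : Subgroup P) ≤ M) (K : Subgroup P) (hK : IsComponent K)

/-- a subgroup normalizing every member of a family normalizes the join -/
theorem le_normalizer_iSup {ι : Sort*} (A : ι → Subgroup P) (X : Subgroup P)
    (h : ∀ i, X ≤ Subgroup.normalizer (A i : Set P)) :
    X ≤ Subgroup.normalizer ((⨆ i, A i : Subgroup P) : Set P) := by
  apply le_normalizer_of_map_cj_le
  intro x hx
  rw [Subgroup.map_iSup]
  apply iSup_le
  intro i
  rw [mem_normalizer_iff_map_cj.mp (h i hx)]
  exact le_iSup A i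

/-- the join of the `S`-conjugates of a subgroup is normalized by `S` -/
theorem le_normalizer_iSup_conj (Y : Subgroup P) :
    (S : Subgroup P) ≤ Subgroup.normalizer
      ((⨆ s : ↥(S : Subgroup P), Y.map (cj (s : P)) : Subgroup P) : Set P) := by
  apply le_normalizer_of_map_cj_le
  intro t ht
  rw [Subgroup.map_iSup]
  apply iSup_le
  intro s
  rw [map_cj_mul]
  exact le_iSup (fun s : ↥(S : Subgroup P) => Y.map (cj (s : P)))
    ⟨t * s, (S : Subgroup P).mul_mem ht s.2⟩

theorem le_iSup_conj (Y : Subgroup P) :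
    Y ≤ ⨆ s : ↥(S : Subgroup P), Y.map (cj (s : P)) := by
  have := le_iSup (fun s : ↥(S : Subgroup P) => Y.map (cj (s : P))) 1
  have e : Y.map (cj ((1 : ↥(S : Subgroup P)) : P)) = Y := by
    rw [Subgroup.coe_one, map_cj_one]
  exact e.symm.le.trans this

include hP hOp hM hSM hK in
/-- `E(P)` is generated by the `S`-conjugates of `K` -/
theorem layer_eq_iSup_conj :
    layer P = ⨆ s : ↥(S : Subgroup P), K.map (cj (s : P)) := by
  set Lq := ⨆ s : ↥(S : Subgroup P), K.map (cj (s : P)) with hLq
  have hcomp : ∀ s : ↥(S : Subgroup P), IsComponent (K.map (cj (s : P))) :=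
    fun s => isComponent_map_conj hK _
  apply le_antisymm
  · have h1 : layer P ≤ Subgroup.normalizer (Lq : Set P) :=
      le_normalizer_iSup _ _ (fun s => layer_le_normalizer_component (hcomp s))
    have h2 : (S : Subgroup P) ≤ Subgroup.normalizer (Lq : Set P) := le_normalizer_iSup_conj S K
    have h3 : Subgroup.normalizer (Lq : Set P) = ⊤ := by
      apply top_le_iff.mp
      rw [← pResidual_sup_sylow S, ← layer_eq_pResidual hP hOp S M hM hSM K hK]
      exact sup_le h1 h2
    haveI hLn : Lq.Normal := Subgroup.normalizer_eq_top_iff.mp h3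
    refine (layer_le_normalClosure hP hOp S M hM hSM K hK).trans ?_
    apply Subgroup.normalClosure_le_normal
    exact le_iSup_conj S K
  · apply iSup_le
    intro s
    exact IsComponent.le_layer (hcomp s)

end conj

section sub
variable {P : Type*} [Group P] [Finite P] {p : ℕ} [Fact p.Prime]
  (hP : IsPMinimal p P) (hOp : pCore p P = ⊥) (S : Sylow p P) (M : Subgroup P)
  (hM : IsCoatom M) (hSM : (S : Subgroup P) ≤ M) (K : Subgroup P) (hK : IsComponent K)

include hK in
theorem isSylowIn_inf_comp : IsSylowIn p ((S : Subgroup P) ⊓ K) K := by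
  have hc := Cfsg.Agent.Helper3.card_sylow_inf_subnormal S K hK.1
  have hc' : Nat.card (((S : Subgroup P) ⊓ K).subgroupOf K) =
      p ^ (Nat.card K).factorization p := by
    rw [← hc]
    exact Nat.card_congr (Subgroup.subgroupOfEquivOfLe inf_le_right).toEquiv
  have := isSylowIn_of_sylow (Sylow.ofCard _ hc')
  rwa [Sylow.coe_ofCard, map_subtype_subgroupOf inf_le_right] at this

include hK in
/-- `N_S(K)` is a Sylow `p`-subgroup of `K N_S(K)` -/
theorem isSylowIn_normalizer :
    IsSylowIn p ((S : Subgroup P) ⊓ Subgroup.normalizer (K : Set P))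
      (K ⊔ ((S : Subgroup P) ⊓ Subgroup.normalizer (K : Set P))) := by
  set S0 := (S : Subgroup P) ⊓ Subgroup.normalizer (K : Set P) with hS0
  obtain ⟨T, hT, hS0T⟩ := exists_isSylowIn_ge (le_sup_right : S0 ≤ K ⊔ S0)
    (S.isPGroup'.to_le inf_le_left)
  have h1 : (S : Subgroup P) ⊓ K ≤ S0 :=
    le_inf inf_le_left (inf_le_right.trans Subgroup.le_normalizer)
  have h2 : T ⊓ K = (S : Subgroup P) ⊓ K :=
    (isSylowIn_inf_comp S K hK).2.2 (T ⊓ K) inf_le_right (hT.2.1.to_le inf_le_left)
      (le_inf (h1.trans hS0T) inf_le_right)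
  have h3 : T = (T ⊓ K) ⊔ S0 := dedekind inf_le_right hS0T hT.1
  have h4 : T = S0 := by
    rw [h3, h2]
    exact sup_eq_right.mpr h1
  exact h4 ▸ hT

include hP hOp hM hSM hK in
/-- `O^p(P)` is not a `p'`-group -/
theorem not_coprime_pResidual : ¬ (Nat.card (pResidual p P)).Coprime p := by
  intro hcop
  have hpp : p.Prime := Fact.out
  set R := pResidual p P with hR
  haveI := Subgroup.normalCore_normal M
  have hcl : ∀ T : Sylow p ↥R, (T : Subgroup ↥R).Normal := by
    intro T
    have h1 : Nat.card (T : Subgroup ↥R) = 1 := by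
      rw [T.card_eq_multiplicity]
      have : (Nat.card ↥R).factorization p = 0 := by
        apply Nat.factorization_eq_zero_of_not_dvd
        exact (Nat.Prime.coprime_iff_not_dvd hpp).mp hcop.symm
      rw [this, pow_zero]
    have h2 : (T : Subgroup ↥R) = ⊥ := Subgroup.card_eq_one.mp h1
    rw [h2]
    infer_instance
  have h2 := (Cfsg.Agent.S2905.result hP S M hM hSM).2.1 hcl
  -- p divides |P|
  have hpP : p ∣ Nat.card P := by
    by_contra hnd
    apply (hP S).1
    have h1 : Nat.card (S : Subgroup P) = 1 := by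
      rw [S.card_eq_multiplicity, Nat.factorization_eq_zero_of_not_dvd hnd, pow_zero]
    have h2 : (S : Subgroup P) = ⊥ := Subgroup.card_eq_one.mp h1
    rw [h2]
    infer_instance
  have hRP : Nat.card ↥R ∣ Nat.card P := Subgroup.card_subgroup_dvd_card R
  have hsub : (Nat.card ↥R).primeFactors ⊆ (Nat.card P).primeFactors.erase p := by
    intro r hr
    rw [Finset.mem_erase]
    refine ⟨?_, Nat.primeFactors_mono hRP Nat.card_pos.ne' hr⟩
    rintro rfl
    exact (Nat.Prime.coprime_iff_not_dvd hpp).mp hcop.symm (Nat.dvd_of_mem_primeFactors hr)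
  have hcard : (Nat.card ↥R).primeFactors.card ≤ 1 := by
    have h3 := Finset.card_le_card hsub
    have h4 : ((Nat.card P).primeFactors.erase p).card = (Nat.card P).primeFactors.card - 1 :=
      Finset.card_erase_of_mem (Nat.mem_primeFactors.mpr ⟨hpp, hpP, Nat.card_pos.ne'⟩)
    omega
  have hKR : K ≤ R := comp_le_pResidual K hK
  by_cases h1 : Nat.card ↥R = 1
  · have : R = ⊥ := Subgroup.card_eq_one.mp h1
    rw [this] at hKR
    exact IsComponent.ne_bot hK (le_bot_iff.mp hKR)
  · obtain ⟨q, hq, hqd⟩ := Nat.exists_prime_and_dvd h1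
    have huniq : ∀ {d : ℕ}, d.Prime → d ∣ Nat.card ↥R → d = q := by
      intro d hd hdd
      exact Finset.card_le_one.mp hcard d
        (Nat.mem_primeFactors.mpr ⟨hd, hdd, Nat.card_pos.ne'⟩) q
        (Nat.mem_primeFactors.mpr ⟨hq, hqd, Nat.card_pos.ne'⟩)
    have hpow := Nat.eq_prime_pow_of_unique_prime_dvd Nat.card_pos.ne' huniq
    haveI : Fact q.Prime := ⟨hq⟩
    have hpg : IsPGroup q ↥R := IsPGroup.of_card hpow
    haveI : Group.IsNilpotent ↥R := hpg.isNilpotent
    exact not_solvable_of_comp_le K hK hKR inferInstance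

end sub

section fin
variable {P : Type*} [Group P] [Finite P] {p : ℕ} [Fact p.Prime]
  (hP : IsPMinimal p P) (hOp : pCore p P = ⊥) (S : Sylow p P) (M : Subgroup P)
  (hM : IsCoatom M) (hSM : (S : Subgroup P) ≤ M) (K : Subgroup P) (hK : IsComponent K)

include hK in
/-- if `K ≤ Y₀ C(K)` with `Y₀ ≤ K` then `K ≤ Y₀` -/
theorem comp_le_of_le_sup_centralizer {Y0 : Subgroup P} (hY0 : Y0 ≤ K)
    (h : K ≤ Y0 ⊔ Subgroup.centralizer (K : Set P)) : K ≤ Y0 := by
  set Z := Subgroup.centralizer (K : Set P) with hZ
  have hZn : Z ≤ Subgroup.normalizer (Y0 : Set P) :=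
    (Subgroup.centralizer_le hY0).trans (Subgroup.centralizer_le_normalizer _)
  have hcomm : ∀ z ∈ Z, ∀ k ∈ K, Commute k z := by
    intro z hz k hk
    exact Subgroup.mem_centralizer_iff.mp hz k hk
  have key : ⁅K, K⁆ ≤ Y0 := by
    rw [Subgroup.commutator_le]
    intro a ha b hb
    obtain ⟨y, hy, z, hz, rfl⟩ := (mem_sup_of_le_normalizer hZn).mp (h ha)
    obtain ⟨y', hy', z', hz', rfl⟩ := (mem_sup_of_le_normalizer hZn).mp (h hb)
    have hz'K : z' ∈ K := by
      have : z' = y'⁻¹ * (y' * z') := by group
      rw [this]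
      exact K.mul_mem (K.inv_mem (hY0 hy')) hb
    rw [commutatorElement_mul_mul_of_commute (hcomm z hz y (hY0 hy))
      (hcomm z' hz' y (hY0 hy)) (hcomm z hz y' (hY0 hy')) (hcomm z' hz' y' (hY0 hy'))]
    have : ⁅z, z'⁆ = 1 :=
      commutatorElement_eq_one_iff_commute.mpr (hcomm z hz z' hz'K).symm
    rw [this, mul_one]
    rw [commutatorElement_def]
    exact Y0.mul_mem (Y0.mul_mem (Y0.mul_mem hy hy') (Y0.inv_mem hy)) (Y0.inv_mem hy')
  rw [IsComponent.commutator_eq hK] at key
  exact key

include hP hOp hM hSM hK in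
/-- proper subgroups of `K N_S(K)` containing `N_S(K)` lie in `M` -/
theorem le_of_proper (Y : Subgroup P)
    (hYX : Y ≤ K ⊔ ((S : Subgroup P) ⊓ Subgroup.normalizer (K : Set P)))
    (hS0Y : (S : Subgroup P) ⊓ Subgroup.normalizer (K : Set P) ≤ Y)
    (hne : Y ≠ K ⊔ ((S : Subgroup P) ⊓ Subgroup.normalizer (K : Set P))) : Y ≤ M := by
  set S0 := (S : Subgroup P) ⊓ Subgroup.normalizer (K : Set P) with hS0
  set Y0 := Y ⊓ K with hY0
  have hY : Y = Y0 ⊔ S0 := dedekind inf_le_right hS0Y hYX
  have hY0K : ¬ K ≤ Y0 := by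
    intro h
    apply hne
    exact le_antisymm hYX (sup_le (h.trans inf_le_left) hS0Y)
  set W := ⨆ s : ↥(S : Subgroup P), Y0.map (cj (s : P)) with hW
  have hWS : (S : Subgroup P) ≤ Subgroup.normalizer (W : Set P) := le_normalizer_iSup_conj S Y0
  have hY0W : Y0 ≤ W := le_iSup_conj S Y0
  have hWD : W ≤ Y0 ⊔ Subgroup.centralizer (K : Set P) := by
    apply iSup_le
    intro s
    by_cases hs : (s : P) ∈ Subgroup.normalizer (K : Set P)
    · have h1 : Y.map (cj (s : P)) = Y := map_cj_eq_self_of_mem (hS0Y ⟨s.2, hs⟩)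
      have h2 : K.map (cj (s : P)) = K := mem_normalizer_iff_map_cj.mp hs
      rw [hY0, map_cj_inf, h1, h2]
      exact le_sup_left
    · have hne' : K.map (cj (s : P)) ≠ K := fun h => hs (mem_normalizer_iff_map_cj.mpr h)
      have h1 : ⁅K.map (cj (s : P)), K⁆ = ⊥ :=
        components_commute (isComponent_map_conj hK _) hK hne'
      have h2 : K.map (cj (s : P)) ≤ Subgroup.centralizer (K : Set P) :=
        Subgroup.commutator_eq_bot_iff_le_centralizer.mp h1
      exact ((Subgroup.map_mono inf_le_right).trans h2).trans le_sup_right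
  have hWS_ne : W ⊔ (S : Subgroup P) ≠ ⊤ := by
    intro htop
    have hWn : W.Normal := by
      rw [← Subgroup.normalizer_eq_top_iff]
      apply top_le_iff.mp
      rw [← htop]
      exact sup_le Subgroup.le_normalizer hWS
    rcases normal_dichotomy hP S M hM hSM W hWn with h | h
    · apply hY0K
      apply comp_le_of_le_sup_centralizer K hK inf_le_right
      exact ((comp_le_pResidual K hK).trans h).trans hWD
    · apply hM.1
      apply top_le_iff.mp
      rw [← htop]
      exact sup_le (h.trans (Subgroup.normalCore_le M)) hSM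
  have hWM : W ⊔ (S : Subgroup P) ≤ M :=
    Cfsg.Agent.S2905.le_of_ne_top hP S M hM hSM le_sup_right hWS_ne
  rw [hY]
  exact sup_le ((hY0W.trans le_sup_left).trans hWM) (inf_le_left.trans hSM)

include hP hOp hM hSM hK in
/-- `N_S(K)` is not normal in `K N_S(K)` -/
theorem comp_not_le_normalizer :
    ¬ K ≤ Subgroup.normalizer (((S : Subgroup P) ⊓ Subgroup.normalizer (K : Set P) :
      Subgroup P) : Set P) := by
  intro hKn
  have hpp : p.Prime := Fact.out
  set S0 := (S : Subgroup P) ⊓ Subgroup.normalizer (K : Set P) with hS0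
  set D := (S : Subgroup P) ⊓ K with hD
  have hDeq : D = S0 ⊓ K := by
    rw [hD, hS0, inf_assoc, inf_eq_right.mpr (Subgroup.le_normalizer : K ≤ _)]
  have hKnD : K ≤ Subgroup.normalizer (D : Set P) := by
    apply le_normalizer_of_map_cj_le
    intro k hk
    rw [hDeq, map_cj_inf, mem_normalizer_iff_map_cj.mp (hKn hk), map_cj_eq_self_of_mem hk]
  haveI hDn : (D.subgroupOf K).Normal :=
    (Subgroup.normal_subgroupOf_iff_le_normalizer inf_le_right).mpr hKnD
  have hsyl := isSylowIn_inf_comp S K hK
  rcases IsQuasisimple.normal_eq_top_or_le_center hK.2 (D.subgroupOf K) with h | h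
  · have hKD : K ≤ D := Subgroup.subgroupOf_eq_top.mp h
    have hpg : IsPGroup p ↥K := S.isPGroup'.to_le (hKD.trans inf_le_left)
    haveI : Group.IsNilpotent ↥K := hpg.isNilpotent
    exact IsQuasisimple.not_isSolvable hK.2 inferInstance
  · have h1 : ¬ p ∣ (D.subgroupOf K).index := hsyl.toSylow.not_dvd_index
    have h2 : ((Subgroup.center ↥K).index).Coprime p := by
      rw [Nat.coprime_comm, Nat.Prime.coprime_iff_not_dvd hpp]
      exact fun hd => h1 (hd.trans (Subgroup.index_dvd_of_le h))
    haveI : Group.IsPerfect ↥K := hK.2.1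
    have hcop : (Nat.card ↥K).Coprime p := card_coprime_of_perfect_of_index_center_coprime h2
    have hKO : K ≤ pPrimeCore p P := subnormal_coprime_le_pPrimeCore hK.1 hcop
    have hOn : (pPrimeCore p P).Normal := inferInstance
    rcases normal_dichotomy hP S M hM hSM _ hOn with h3 | h3
    · apply not_coprime_pResidual hP hOp S M hM hSM K hK
      exact Nat.Coprime.coprime_dvd_left (Subgroup.card_dvd_of_le h3)
        (Cfsg.Agent.Helper19.pPrimeCore_coprime p)
    · exact comp_not_le hP hOp S M hM hSM K hK
        ((hKO.trans h3).trans (Subgroup.normalCore_le M))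

end fin

end Cfsg.Agent.Helper15.PMinComp
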