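import Mathlib
import Cfsg.Prelude.Def_Local
import Cfsg.Agent.Helper15.SylowGraph
import Cfsg.Agent.Helper15.StrongEmb
import Cfsg.Agent.Helper15.SylowInPre
import Cfsg.Agent.Helper15.Large
import Cfsg.Agent.Helper14.StrongEmb3
import Cfsg.Agent.Lead.PSolvHall
import Cfsg.Agent.Lead.GenCent

set_option autoImplicit false

/-! S3057: Sylow graph of a `p`-solvable group. -/

namespace Cfsg.Agent.Helper15

open Subgroup Cfsg

universe u

section

variable {G : Type u} [Group G] [Finite G] {p : ℕ} [Fact p.Prime]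

/-- If every Sylow `p`-subgroup has the "unique Ω₁" property and `O_p(G) = 1`, the Sylow graph is
disconnected. -/
theorem not_connected_of_uniqueOmega (hdiv : p ∣ Nat.card G) (hO : pCore p G = ⊥)
    (hU : ∀ T : Sylow p G, Cfsg.Agent.Helper14.UniqueOmega p (T : Subgroup G)) :
    ¬ IsSylowChainConnected p G := by
  have hp : p.Prime := Fact.out
  intro hconn
  rw [isSylowChainConnected_iff] at hconn
  have key : ∀ S T : Sylow p G, sReach S T → ∀ x : G, x ^ p = 1 →
      (x ∈ (S : Subgroup G) ↔ x ∈ (T : Subgroup G)) := by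
    intro S T h
    induction h with
    | refl => intro x _; exact Iff.rfl
    | tail _ hbc ih =>
      intro x hxp
      rw [ih x hxp]
      obtain ⟨-, hne⟩ := hbc
      constructor
      · intro hx
        exact (hU _ x hx hxp _ inf_le_left hne).2
      · intro hx
        exact (hU _ x hx hxp _ inf_le_right hne).1
  obtain ⟨x, hx⟩ := exists_prime_orderOf_dvd_card' p hdiv
  have hxp : x ^ p = 1 := by rw [← hx]; exact pow_orderOf_eq_one x
  have hzp : IsPGroup p (zpowers x) := by
    apply IsPGroup.of_card (n := 1)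
    rw [Nat.card_zpowers, hx, pow_one]
  obtain ⟨P, hP⟩ := hzp.exists_le_sylow
  have hxP : x ∈ (P : Subgroup G) := hP (mem_zpowers x)
  have hcore : x ∈ (P : Subgroup G).normalCore := by
    show ∀ b : G, b * x * b⁻¹ ∈ (P : Subgroup G)
    intro b
    have h1 : x ∈ ((b⁻¹ • P : Sylow p G) : Subgroup G) :=
      (key P (b⁻¹ • P) (hconn _ _) x hxp).mp hxP
    have h2 := (Cfsg.Agent.Helper1.mem_sylow_smul_iff P b⁻¹ x).mp h1
    rw [inv_inv] at h2
    exact h2
  have hle : (P : Subgroup G).normalCore ≤ pCore p G :=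
    Cfsg.Agent.Helper14.le_pCore p (normalCore_normal _) (P.isPGroup'.to_le (normalCore_le _))
  rw [hO] at hle
  have hx1 : x = 1 := Subgroup.mem_bot.mp (hle hcore)
  rw [hx1, orderOf_one] at hx
  exact hp.one_lt.ne hx

/-- In a `p`-solvable group with a strongly `p`-embedded subgroup `H ≥ S₀`, the Sylow subgroup
`S₀` has no elementary abelian subgroup of order exceeding `p`. -/
theorem rank_le_one_of_stronglyEmbedded (hsol : IsPSolvable p G) (H : Subgroup G) (hH1 : H ≠ ⊤)
    (hpH : p ∣ Nat.card H)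
    (hse : ∀ g : G, g ∉ H → ¬ p ∣ Nat.card ↥(H ⊓ H.map (MulAut.conj g).toMonoidHom))
    (S₀ : Sylow p G) (hS₀ : (S₀ : Subgroup G) ≤ H)
    (A : Subgroup G) (hAS : A ≤ (S₀ : Subgroup G)) (hAc : ∀ a ∈ A, ∀ b ∈ A, a * b = b * a)
    (hAp : ∀ a ∈ A, a ^ p = 1) : Nat.card A ≤ p := by
  have hp : p.Prime := Fact.out
  by_contra hcard
  push Not at hcard
  apply hH1
  have hAcomm : IsMulCommutative ↥A :=
    ⟨⟨fun a b => Subtype.ext (hAc a a.2 b b.2)⟩⟩
  have hApg : IsPGroup p ↥A := S₀.isPGroup'.to_le hAS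
  have hAnc : ¬ IsCyclic ↥A := by
    intro hcyc
    obtain ⟨g, hg⟩ := hcyc.exists_generator
    have h1 : orderOf g = Nat.card A := orderOf_eq_card_of_forall_mem_zpowers hg
    have h2 : g ^ p = 1 := Subtype.ext (by simpa using hAp g g.2)
    have h3 : orderOf g ∣ p := orderOf_dvd_of_pow_eq_one h2
    have h4 := Nat.le_of_dvd hp.pos h3
    omega
  set K : Subgroup G := pPrimeCore p G with hK
  have hKn : K.Normal := inferInstance
  have hAK : A ≤ normalizer (K : Set G) := by
    intro a _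
    apply mem_normalizer_fintype
    intro n hn
    exact hKn.conj_mem n hn a
  have hcop : (Nat.card A).Coprime (Nat.card K) := by
    obtain ⟨k, hk⟩ := IsPGroup.iff_card.mp hApg
    rw [hk]
    exact Nat.Coprime.pow_left k (Cfsg.Agent.Helper19.pPrimeCore_coprime (G := G) p).symm
  have hgen := Cfsg.Agent.Lead.generated_by_centralizers A K hAnc hAK hcop
  have hnorm : ∀ Q : Subgroup G, IsPGroup p Q → Q ≠ ⊥ → Q ≤ H → normalizer (Q : Set G) ≤ H :=
    fun Q hQ hQ1 hQH => normalizer_le_of_stronglyEmbedded hse hQ hQ1 hQH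
  have hKH : K ≤ H := by
    rw [← hgen]
    apply iSup₂_le
    rintro a ⟨haA, ha1⟩
    refine inf_le_right.trans ((centralizer_singleton_le_normalizer_zpowers a).trans ?_)
    have haS : a ∈ (S₀ : Subgroup G) := hAS haA
    apply hnorm
    · exact S₀.isPGroup'.to_le (by rw [zpowers_le]; exact haS)
    · rw [Ne, zpowers_eq_bot]; exact ha1
    · rw [zpowers_le]; exact hS₀ haS
  -- the p-part above K
  set L : Subgroup G := preOp p K with hL
  have hLn : L.Normal := preOp_normal K
  have hKL : K ≤ L := le_preOp_self K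
  have hpG : p ∣ Nat.card G := hpH.trans (card_subgroup_dvd_card H)
  have hpKL : p ∣ K.relIndex L := by
    obtain ⟨m, hm⟩ := relIndex_preOp (p := p) K
    rw [← hL] at hm
    rcases Nat.eq_zero_or_pos m with rfl | hm0
    · exfalso
      rw [pow_zero, relIndex_eq_one] at hm
      -- L ≤ K, so O_p(G/K) = 1
      have hcore : pCore p (G ⧸ K) = ⊥ := by
        rw [eq_bot_iff]
        intro y hy
        obtain ⟨x, rfl⟩ := QuotientGroup.mk_surjective y
        have hxL : x ∈ L := hy
        exact Subgroup.mem_bot.mpr ((QuotientGroup.eq_one_iff x).mpr (hm hxL))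
      have hnt : Nontrivial (G ⧸ K) := by
        by_contra hcon
        rw [not_nontrivial_iff_subsingleton] at hcon
        have hKtop : K = ⊤ := by
          rw [eq_top_iff]
          intro x _
          have : (QuotientGroup.mk x : G ⧸ K) = 1 := Subsingleton.elim _ _
          exact (QuotientGroup.eq_one_iff x).mp this
        have h1 : (Nat.card K).Coprime p := Cfsg.Agent.Helper19.pPrimeCore_coprime (G := G) p
        rw [hKtop, card_top] at h1
        exact (Nat.Prime.coprime_iff_not_dvd hp).mp h1.symm hpG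
      have hsolq : IsPSolvable p (G ⧸ K) := Cfsg.Agent.Lead.isPSolvable_quotient hsol K
      obtain ⟨Nb, hNbn, hNb1, hNb⟩ := Cfsg.Agent.Lead.exists_normal_of_isPSolvable hsolq
      rcases hNb with ⟨j, hj⟩ | hcopN
      · have : Nb ≤ pCore p (G ⧸ K) :=
          Cfsg.Agent.Helper14.le_pCore p hNbn (IsPGroup.of_card hj)
        rw [hcore] at this
        exact hNb1 (le_bot_iff.mp this)
      · have : Nb ≤ pPrimeCore p (G ⧸ K) := Cfsg.Agent.Helper7.le_pPrimeCore hNbn hcopN
        rw [Cfsg.Agent.Helper7.pPrimeCore_quotient_eq_bot] at this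
        exact hNb1 (le_bot_iff.mp this)
    · rw [hm]; exact dvd_pow_self p hm0.ne'
  set Q₁ : Subgroup G := (S₀ : Subgroup G) ⊓ L with hQ₁
  have hQ₁p : IsPGroup p ↥Q₁ := S₀.isPGroup'.to_le inf_le_left
  have hQ₁idx : ¬ p ∣ Q₁.relIndex L := by
    have h1 : Q₁.relIndex L = (S₀ : Subgroup G).relIndex ((S₀ : Subgroup G) ⊔ L) :=
      (relIndex_sup_of_normal _ L).symm
    rw [h1]
    intro h
    apply S₀.not_dvd_index
    rw [← relIndex_mul_index (le_sup_left : (S₀ : Subgroup G) ≤ (S₀ : Subgroup G) ⊔ L)]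
    exact Dvd.dvd.mul_right h _
  have hQ₁ne : Q₁ ≠ ⊥ := by
    intro h
    apply hQ₁idx
    rw [h, relIndex_bot_left]
    have : K.relIndex L ∣ Nat.card L := by
      rw [relIndex]; exact index_dvd_card _
    exact hpKL.trans this
  have hLle : L ≤ K ⊔ Q₁ := by
    obtain ⟨m, hm⟩ := relIndex_preOp (p := p) K
    rw [← hL] at hm
    have h1 : (K ⊔ Q₁).relIndex L ∣ p ^ m := by
      rw [← hm]; exact relIndex_dvd_of_le_left _ le_sup_left
    have h2 : ¬ p ∣ (K ⊔ Q₁).relIndex L := fun h =>
      hQ₁idx (h.trans (relIndex_dvd_of_le_left _ le_sup_right))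
    exact relIndex_eq_one.mp (eq_one_of_dvd_pow_of_not_dvd h1 h2)
  -- Frattini
  have hfr : normalizer (Q₁ : Set G) ⊔ L = ⊤ := by
    have hQ' : IsPGroup p ↥(Q₁.subgroupOf L) := hQ₁p.comap_subtype
    have hidx' : ¬ p ∣ (Q₁.subgroupOf L).index := hQ₁idx
    have := Sylow.normalizer_sup_eq_top (hQ'.toSylow hidx')
    have hmap : ((hQ'.toSylow hidx' : Sylow p L) : Subgroup L).map L.subtype = Q₁ := by
      rw [IsPGroup.toSylow_coe, subgroupOf_map_subtype]
      exact inf_of_le_left inf_le_right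
    rwa [hmap] at this
  have hQ₁H : Q₁ ≤ H := inf_le_left.trans hS₀
  have hNH : normalizer (Q₁ : Set G) ≤ H := hnorm Q₁ hQ₁p hQ₁ne hQ₁H
  rw [eq_top_iff, ← hfr]
  exact sup_le hNH (hLle.trans (sup_le hKH hQ₁H))

end

end Cfsg.Agent.Helper15
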