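import Mathlib
import Cfsg.Agent.Helper25.QPDefs2
import Cfsg.Agent.Helper25.QPAct
import Cfsg.Agent.Helper18.SL2Ext5
import Cfsg.Agent.Helper23.QPTRANS

set_option autoImplicit false

/-! qppieces, piece S5073U : the unipotent case of S5073. -/

noncomputable section

universe u v

namespace Cfsg.Agent.QPP

open Cfsg Cfsg.Agent.Helper25.QP Cfsg.Agent.Helper25.QuadPair Polynomial

variable {k : Type u} [Field k] {M : Type v} [AddCommGroup M] [Module k M]

local notation "GLkM" => LinearMap.GeneralLinearGroup k M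

theorem S5073U_aux_mem [FiniteDimensional k M] {G : Subgroup (LinearMap.GeneralLinearGroup k M)}
    {σ : LinearMap.GeneralLinearGroup k M} (hσ : σ ∈ minimalQuadraticElements G)
    (e : LinearMap.GeneralLinearGroup k M) :
    e ∈ sameActionSubgroup G σ ↔ e = 1 ∨ e ∈ sameActionClass G σ := by
  rw [sameActionSubgroup_eq hσ]
  constructor
  · rintro (h | h)
    · exact Or.inr h
    · exact Or.inl h
  · rintro (h | h)
    · exact Or.inr h
    · exact Or.inl h

theorem S5073U_aux_class [FiniteDimensional k M] {G : Subgroup (LinearMap.GeneralLinearGroup k M)}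
    {σ e : LinearMap.GeneralLinearGroup k M} (hσ : σ ∈ minimalQuadraticElements G)
    (he : e ∈ sameActionClass G σ) :
    QFam G ((e : Module.End k M) - 1) ∧
      Module.finrank k (LinearMap.range ((e : Module.End k M) - 1)) = commutatorRank σ ∧
      LinearMap.range ((e : Module.End k M) - 1) = LinearMap.range ((σ : Module.End k M) - 1) ∧
      LinearMap.ker ((e : Module.End k M) - 1) = LinearMap.ker ((σ : Module.End k M) - 1) := by
  obtain ⟨-, hq⟩ := TRANS_Qd he.1
  refine ⟨hq.1, ?_, he.2.2, he.2.1⟩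
  rw [hq.2]
  exact TRANS_rank he.1 hσ

theorem S5073U_aux_comm (e f : LinearMap.GeneralLinearGroup k M) :
    e * f = f * e ↔ ((e : Module.End k M) - 1) * ((f : Module.End k M) - 1)
      = ((f : Module.End k M) - 1) * ((e : Module.End k M) - 1) := by
  have e1 : ((e : Module.End k M) - 1) * ((f : Module.End k M) - 1)
      = (e : Module.End k M) * (f : Module.End k M) - (e : Module.End k M) - (f : Module.End k M) + 1 := by
    noncomm_ring
  have e2 : ((f : Module.End k M) - 1) * ((e : Module.End k M) - 1)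
      = (f : Module.End k M) * (e : Module.End k M) - (e : Module.End k M) - (f : Module.End k M) + 1 := by
    noncomm_ring
  constructor
  · intro h
    have h' : (e : Module.End k M) * (f : Module.End k M) = (f : Module.End k M) * (e : Module.End k M) := by
      rw [← Units.val_mul, h, Units.val_mul]
    rw [e1, e2, h']
  · intro h
    apply Units.ext
    rw [Units.val_mul, Units.val_mul]
    rw [e1, e2] at h
    have h3 := add_right_cancel h
    have h4 := sub_left_injective h3
    exact sub_left_injective h4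

theorem S5073U_aux_rk [FiniteDimensional k M] {x y : Module.End k M} (h : y * x * y = 0) :
    LinearMap.range (x * y) ≤ LinearMap.range x ⊓ LinearMap.ker y ∧
      Module.finrank k (LinearMap.range (x * y)) +
        Module.finrank k (LinearMap.range y ⊓ LinearMap.ker x : Submodule k M)
        = Module.finrank k (LinearMap.range y) := by
  constructor
  · rintro _ ⟨m, rfl⟩
    refine ⟨⟨y m, rfl⟩, ?_⟩
    show (x * y) m ∈ LinearMap.ker y
    rw [LinearMap.mem_ker]
    have := LinearMap.congr_fun h m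
    simpa [Module.End.mul_apply] using this
  · have h1 := finrank_map_add_finrank_inf_ker x (LinearMap.range y)
    rwa [← range_mul] at h1

theorem S5073U_aux_core [FiniteDimensional k M] {G : Subgroup (LinearMap.GeneralLinearGroup k M)}
    {d : ℕ} (hd : 0 < d) (hmin : MinRank G d) {A B C D : Submodule k M}
    (hA : Module.finrank k A = d) (hB : Module.finrank k B = d) {X Y : Set (Module.End k M)}
    (hX : ∀ x ∈ X, QFam G x ∧ LinearMap.range x = A ∧ LinearMap.ker x = C)
    (hY : ∀ y ∈ Y, QFam G y ∧ LinearMap.range y = B ∧ LinearMap.ker y = D)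
    (hstar : ∀ x ∈ X, ∀ y ∈ Y, x * y * x = 0 ∧ y * x * y = 0)
    {x₀ y₀ : Module.End k M} (hx₀ : x₀ ∈ X) (hy₀ : y₀ ∈ Y) (hne : x₀ * y₀ ≠ y₀ * x₀) :
    ∀ x ∈ X, ∀ y ∈ Y, x * y ≠ y * x := by
  have key : ∀ x ∈ X, ∀ y ∈ Y,
      (LinearMap.range (x * y) ≤ A ⊓ D ∧ Module.finrank k (LinearMap.range (x * y)) +
        Module.finrank k (B ⊓ C : Submodule k M) = d) ∧
      (LinearMap.range (y * x) ≤ B ⊓ C ∧ Module.finrank k (LinearMap.range (y * x)) +
        Module.finrank k (A ⊓ D : Submodule k M) = d) := by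
    intro x hx y hy
    obtain ⟨-, hxA, hxC⟩ := hX x hx
    obtain ⟨-, hyB, hyD⟩ := hY y hy
    obtain ⟨s1, s2⟩ := hstar x hx y hy
    have r1 := S5073U_aux_rk (x := x) (y := y) s2
    have r2 := S5073U_aux_rk (x := y) (y := x) s1
    rw [hxA, hyD, hyB, hxC, hB] at r1
    rw [hyB, hxC, hxA, hyD, hA] at r2
    exact ⟨r1, r2⟩
  obtain ⟨⟨l3, k1⟩, ⟨l4, k2⟩⟩ := key x₀ hx₀ y₀ hy₀
  obtain ⟨hx₀Q, hx₀A, -⟩ := hX x₀ hx₀
  obtain ⟨hy₀Q, hy₀B, -⟩ := hY y₀ hy₀
  obtain ⟨s1, s2⟩ := hstar x₀ hx₀ y₀ hy₀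
  obtain ⟨hr1, hr2⟩ := star_rank hmin hx₀Q hy₀Q (by rw [hx₀A]; exact hA) (by rw [hy₀B]; exact hB)
    s1 s2 hne
  intro x hx y hy hxy
  obtain ⟨⟨l1, m1⟩, ⟨l2, m2⟩⟩ := key x hx y hy
  rw [← hxy] at l2 m2
  have e1 : LinearMap.range (x * y) = A ⊓ D := Submodule.eq_of_le_of_finrank_eq l1 (by omega)
  have e2 : LinearMap.range (x * y) = B ⊓ C := Submodule.eq_of_le_of_finrank_eq l2 (by omega)
  have hAD : A ⊓ D = B ⊓ C := e1.symm.trans e2
  have hle : LinearMap.range (x₀ * y₀ - y₀ * x₀) ≤ A ⊓ D := by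
    refine (range_sub_le _ _).trans (sup_le l3 ?_)
    rw [hAD]
    exact l4
  have h5 := Submodule.finrank_mono hle
  omega

theorem S5073U [FiniteDimensional k M] (hk2 : ringChar k ≠ 2) (hk3 : Nat.card k ≠ 3)
    {G : Subgroup GLkM} {σ τ : GLkM} (hσ : σ ∈ minimalQuadraticElements G)
    (hτ : τ ∈ minimalQuadraticElements G)
    (hU : AllUnip (sameActionSubgroup G σ) (sameActionSubgroup G τ))
    (h : (∃ e ∈ sameActionSubgroup G σ, e ≠ 1 ∧ ∃ f ∈ sameActionSubgroup G τ, f ≠ 1 ∧ e * f = f * e) ∨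
      sameActionSubgroup G σ ⊓ Subgroup.normalizer (sameActionSubgroup G τ : Set GLkM) ≠ ⊥) :
    ⁅sameActionSubgroup G σ, sameActionSubgroup G τ⁆ = ⊥ := by
  have h2 : (2 : k) ≠ 0 := Ring.two_ne_zero hk2
  by_cases hcomm : ∀ e ∈ sameActionClass G σ, ∀ f ∈ sameActionClass G τ, e * f = f * e
  · rw [Subgroup.commutator_eq_bot_iff_le_centralizer]
    intro e he
    rw [Subgroup.mem_centralizer_iff]
    intro f hf
    rcases (S5073U_aux_mem hσ e).mp he with rfl | he'
    · rw [mul_one, one_mul]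
    rcases (S5073U_aux_mem hτ f).mp hf with rfl | hf'
    · rw [mul_one, one_mul]
    exact (hcomm e he' f hf').symm
  · exfalso
    push Not at hcomm
    obtain ⟨e₀, he₀, f₀, hf₀, hne⟩ := hcomm
    obtain ⟨hmin, hQa⟩ := TRANS_Qd hσ
    obtain ⟨-, hQb⟩ := TRANS_Qd hτ
    have hdd : commutatorRank σ = commutatorRank τ := TRANS_rank hσ hτ
    have hσc : σ ∈ sameActionClass G σ := ⟨hσ, rfl, rfl⟩
    have hτc : τ ∈ sameActionClass G τ := ⟨hτ, rfl, rfl⟩
    have hd : 0 < commutatorRank σ := by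
      rcases Nat.eq_zero_or_pos (commutatorRank σ) with h0 | h0
      · exfalso
        have h1 := hQa.2
        rw [h0, Submodule.finrank_eq_zero] at h1
        exact hσ.1.2.1.2 (LinearMap.range_eq_bot.mp h1)
      · exact h0
    have hX : ∀ x ∈ {x : Module.End k M | ∃ e ∈ sameActionClass G σ, x = (e : Module.End k M) - 1},
        QFam G x ∧ LinearMap.range x = LinearMap.range ((σ : Module.End k M) - 1) ∧
          LinearMap.ker x = LinearMap.ker ((σ : Module.End k M) - 1) := by
      rintro x ⟨e, he, rfl⟩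
      obtain ⟨q, -, r, kk⟩ := S5073U_aux_class hσ he
      exact ⟨q, r, kk⟩
    have hY : ∀ y ∈ {y : Module.End k M | ∃ f ∈ sameActionClass G τ, y = (f : Module.End k M) - 1},
        QFam G y ∧ LinearMap.range y = LinearMap.range ((τ : Module.End k M) - 1) ∧
          LinearMap.ker y = LinearMap.ker ((τ : Module.End k M) - 1) := by
      rintro y ⟨f, hf, rfl⟩
      obtain ⟨q, -, r, kk⟩ := S5073U_aux_class hτ hf
      exact ⟨q, r, kk⟩
    have hstar : ∀ x ∈ {x : Module.End k M | ∃ e ∈ sameActionClass G σ, x = (e : Module.End k M) - 1},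
        ∀ y ∈ {y : Module.End k M | ∃ f ∈ sameActionClass G τ, y = (f : Module.End k M) - 1},
        x * y * x = 0 ∧ y * x * y = 0 := by
      rintro x ⟨e, he, rfl⟩ y ⟨f, hf, rfl⟩
      obtain ⟨qx, rx, -⟩ := S5073U_aux_class hσ he
      obtain ⟨qy, ry, -⟩ := S5073U_aux_class hτ hf
      obtain ⟨n, hn⟩ := hU e (Subgroup.subset_closure he) f (Subgroup.subset_closure hf)
      exact star h2 hmin n qx qy rx (by rw [ry, ← hdd]) hn
    have hcore := S5073U_aux_core hd hmin hQa.2 (by rw [hQb.2, hdd]) hX hY hstar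
      ⟨e₀, he₀, rfl⟩ ⟨f₀, hf₀, rfl⟩ (fun hc => hne ((S5073U_aux_comm e₀ f₀).mpr hc))
    rcases h with ⟨e, he, he1, f, hf, hf1, hef⟩ | hN
    · have he' := ((S5073U_aux_mem hσ e).mp he).resolve_left he1
      have hf' := ((S5073U_aux_mem hτ f).mp hf).resolve_left hf1
      exact hcore _ ⟨e, he', rfl⟩ _ ⟨f, hf', rfl⟩ ((S5073U_aux_comm e f).mp hef)
    · obtain ⟨e, he, he1⟩ := (Subgroup.bot_or_exists_ne_one _).resolve_left hN
      have he' := ((S5073U_aux_mem hσ e).mp he.1).resolve_left he1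
      have heN : e ∈ Subgroup.normalizer (sameActionSubgroup G τ : Set GLkM) := he.2
      have hτF : τ ∈ sameActionSubgroup G τ := Subgroup.subset_closure hτc
      have hf1 : e * τ * e⁻¹ ∈ sameActionSubgroup G τ :=
        (Subgroup.mem_normalizer_iff.mp heN τ).mp hτF
      have hf' : e * τ * e⁻¹ * τ⁻¹ ∈ sameActionSubgroup G τ :=
        Subgroup.mul_mem _ hf1 (Subgroup.inv_mem _ hτF)
      obtain ⟨qx, -, -, -⟩ := S5073U_aux_class hσ he'
      obtain ⟨s1, s2⟩ := hstar _ ⟨e, he', rfl⟩ _ ⟨τ, hτc, rfl⟩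
      have hxx := qx.1
      have hbb := hQb.1.1
      have hei : ((e⁻¹ : GLkM) : Module.End k M) = 1 - ((e : Module.End k M) - 1) :=
        val_inv_of_sq_zero hxx
      have hti : ((τ⁻¹ : GLkM) : Module.End k M) = 1 - ((τ : Module.End k M) - 1) :=
        val_inv_of_sq_zero hbb
      obtain ⟨x, hx⟩ : ∃ x : Module.End k M, x = (e : Module.End k M) - 1 := ⟨_, rfl⟩
      obtain ⟨b, hb⟩ : ∃ b : Module.End k M, b = (τ : Module.End k M) - 1 := ⟨_, rfl⟩
      rw [← hx] at hxx hei s1 s2
      rw [← hb] at hbb hti s1 s2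
      have hex : (e : Module.End k M) = 1 + x := by rw [hx]; abel
      have htb : (τ : Module.End k M) = 1 + b := by rw [hb]; abel
      have hval : ((e * τ * e⁻¹ * τ⁻¹ : GLkM) : Module.End k M) = 1 + (x * b - b * x) := by
        rw [Units.val_mul, Units.val_mul, Units.val_mul, hei, hti, hex, htb]
        have e3 : (1 + x) * (1 + b) * (1 - x) * (1 - b) = 1 + (x * b - b * x) - x * x - x * b * x
            - b * b - x * (b * b) + b * x * b + x * x * b + x * b * x * b := by noncomm_ring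
        rw [e3, hxx, hbb, s1, s2]
        simp
      have hxX : x ∈ {x : Module.End k M | ∃ e ∈ sameActionClass G σ, x = (e : Module.End k M) - 1} :=
        ⟨e, he', hx⟩
      by_cases hy0 : x * b - b * x = 0
      · exact hcore x hxX b ⟨τ, hτc, hb⟩ (sub_eq_zero.mp hy0)
      · have hne1 : e * τ * e⁻¹ * τ⁻¹ ≠ 1 := by
          intro h1
          rw [h1, Units.val_one] at hval
          apply hy0
          have := hval
          exact (add_eq_left.mp this.symm)
        have hfc := ((S5073U_aux_mem hτ _).mp hf').resolve_left hne1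
        refine hcore x hxX (x * b - b * x) ⟨_, hfc, by rw [hval]; abel⟩ ?_
        have e4 : x * (x * b - b * x) = x * x * b - x * b * x := by noncomm_ring
        have e5 : (x * b - b * x) * x = x * b * x - b * (x * x) := by noncomm_ring
        rw [e4, e5, hxx, s1]
        simp

end Cfsg.Agent.QPP

end
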