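import Cfsg.Agent.Helper5.S0518Defs

/-! # S0518, piece SYMM: the data of case B are symmetric in the two sides -/

set_option autoImplicit false

universe u

namespace Cfsg.Agent.S0518P

open Cfsg Subgroup

variable {G : Type u} [Group G]

theorem SYMM_aux_d0 {C : Cfg G} (h : TD0 C) : TD0 C.swap :=
  ⟨h.cent_c₂, h.cent_c₁, h.norm_Q₂, h.norm_Q₁, h.norm_V₂, h.norm_V₁, h.Q_ne.symm, h.V_ne.symm,
    h.c_ne.symm⟩

theorem SYMM_aux_inf {C : Cfg G} : C.swap.Q₁ ⊓ C.swap.Q₂ = C.Q₁ ⊓ C.Q₂ := inf_comm _ _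

theorem SYMM_aux_T₀ {C : Cfg G} : C.swap.T₀ = C.T₀ := sup_comm _ _

theorem SYMM_aux_d1 {C : Cfg G} (h : TD1 C) : TD1 C.swap where
  sup_Q := by
    show C.Q₂ ⊔ C.Q₁ = C.T
    rw [sup_comm]; exact h.sup_Q
  card_inf_Q := by
    rw [SYMM_aux_inf]; exact h.card_inf_Q
  central := by
    rw [SYMM_aux_inf]; exact h.central
  cent_T := by
    rw [SYMM_aux_inf]; exact h.cent_T
  c₁_mem := by
    rw [SYMM_aux_inf]; exact h.c₂_mem
  c₂_mem := by
    rw [SYMM_aux_inf]; exact h.c₁_mem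
  invol := fun x hx hxx => (h.invol x hx hxx).symm
  e8 := fun B hB hc hsq => (h.e8 B hB hc hsq).symm

theorem SYMM_aux_d2 {C : Cfg G} {z : G} (hb : TBase C) (_h1 : TD1 C) (h : TD2 C z) : TD2 C.swap z := by
  have hV₁Q : C.V₁ ≤ C.Q₁ := by rw [hb.b₁.V_eq]; exact inf_le_left
  have hzz : z * z = 1 := hb.b₁.Q_sq z (hV₁Q h.z_mem₁)
  have hc₁T : C.c₁ ∈ C.T := hb.b₁.Q_le (hb.b₁.c_mem)
  have hcz : C.c₁ * z = z * C.c₁ := h.z_central _ hc₁T
  have hzT₀ : z ∈ C.T₀ := (le_sup_left : C.V₁ ≤ C.V₁ ⊔ C.V₂) h.z_mem₁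
  refine
    { z_ne := h.z_ne
      z_mem₁ := h.z_mem₂
      z_mem₂ := h.z_mem₁
      inf_V := fun x hx2 hx1 => h.inf_V x hx1 hx2
      z_central := h.z_central
      c₂_eq := ?_
      inf_Q := ?_
      card_T₀ := by rw [SYMM_aux_T₀]; exact h.card_T₀
      T₀_le := by rw [SYMM_aux_T₀]; exact h.T₀_le
      c₁_not_mem := by rw [SYMM_aux_T₀]; exact h.c₂_not_mem
      c₂_not_mem := by rw [SYMM_aux_T₀]; exact h.c₁_not_mem
      T_cover := ?_
      T₀_elts := ?_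
      r_ex := by rw [SYMM_aux_T₀]; exact h.r_ex
      r_unique := by rw [SYMM_aux_T₀]; exact h.r_unique
      fuse := by rw [SYMM_aux_T₀]; exact h.fuse }
  · show C.c₁ = C.c₂ * z
    rw [h.c₂_eq, mul_assoc, hzz, mul_one]
  · rw [SYMM_aux_inf]
    intro x hx
    rcases h.inf_Q x hx with h1 | h1 | h1 | h1
    · exact Or.inl h1
    · exact Or.inr (Or.inl h1)
    · exact Or.inr (Or.inr (Or.inr h1))
    · exact Or.inr (Or.inr (Or.inl h1))
  · rw [SYMM_aux_T₀]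
    intro t ht
    rcases h.T_cover t ht with h1 | h1
    · exact Or.inl h1
    · right
      show C.c₂ * t ∈ C.T₀
      have : C.c₂ * t = z * (C.c₁ * t) := by
        rw [h.c₂_eq, hcz, mul_assoc]
      rw [this]
      exact C.T₀.mul_mem hzT₀ h1
  · rw [SYMM_aux_T₀]
    intro x hx
    rcases h.T₀_elts x hx with h1 | h1 | h1
    · exact Or.inr (Or.inl h1)
    · exact Or.inl h1
    · exact Or.inr (Or.inr h1)

theorem SYMM_aux_d3 {C : Cfg G} {z : G} (h : TD3 C z) : TD3 C.swap z :=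
  ⟨h.not_conj₂, h.not_conj₁, h.cent_z₂, h.cent_z₁⟩

theorem SYMM {C : Cfg G} {z : G} (d : TData C z) : TData C.swap z :=
  ⟨d.base.swap, SYMM_aux_d0 d.d0, SYMM_aux_d1 d.d1, SYMM_aux_d2 d.base d.d1 d.d2, SYMM_aux_d3 d.d3⟩

end Cfsg.Agent.S0518P
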