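import Cfsg.Agent.Helper5.S0518Defs
import Cfsg.Agent.Helper1.S0518LT1
import Cfsg.Agent.Helper15.S0518SYMM

/-! # S0518, piece PAIR3: `c₁`, `c₂` are not conjugate to `z`, and `C_{Pᵢ}(z) = T` -/

set_option autoImplicit false

universe u

namespace Cfsg.Agent.S0518P

open Cfsg Subgroup

variable {G : Type u} [Group G]

/-- `c₁` is not conjugate to `z`: otherwise `C_G(z) = g P₁ g⁻¹ ≥ T`, so `g Q₁ g⁻¹ = O₂(C_G(z)) ≤ T` is one
of `Q₁`, `Q₂`, whence `C_G(z)` is `P₁` or `P₂` and `z` is `c₁` or `c₂`; but `z ∈ K₁ ∩ K₂`. -/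
theorem PAIR3_aux_not_conj [Finite G] {C : Cfg G} {z : G} (h : TBase C) (h0 : TD0 C) (h1 : TD1 C)
    (h2 : TD2 C z) : ∀ g : G, g * C.c₁ * g⁻¹ ≠ z := by
  intro g hg
  have b₁ := h.b₁
  have b₂ := h.b₂
  -- `T ≤ g P₁ g⁻¹`
  have hT_le : C.T ≤ cj g C.P₁ := by
    intro t ht
    rw [LT1_aux_mem_cj]
    apply h0.cent_c₁
    have htz := h2.z_central t ht
    have hc : C.c₁ = g⁻¹ * z * g := by rw [← hg]; group
    rw [hc]
    calc g⁻¹ * t * g * (g⁻¹ * z * g) = g⁻¹ * (t * z) * g := by group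
      _ = g⁻¹ * (z * t) * g := by rw [htz]
      _ = g⁻¹ * z * g * (g⁻¹ * t * g) := by group
  have hQ'card : Nat.card ↥(cj g C.Q₁) = 8 := by rw [LT1_aux_card_cj]; exact b₁.card_Q
  have hQ'sq : ∀ q ∈ cj g C.Q₁, q * q = 1 := by
    intro q hq
    rw [LT1_aux_mem_cj] at hq
    have h3 := b₁.Q_sq _ hq
    have h4 : q * q = g * ((g⁻¹ * q * g) * (g⁻¹ * q * g)) * g⁻¹ := by group
    rw [h4, h3]; group
  have hP'norm : cj g C.P₁ ≤ normalizer ((cj g C.Q₁ : Subgroup G) : Set G) := by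
    rw [← LT1_aux_cj_normalizer]
    exact Subgroup.map_mono b₁.Q_normal
  have hQ'le : cj g C.Q₁ ≤ cj g C.P₁ := Subgroup.map_mono (b₁.Q_le.trans b₁.T_le)
  have hP'card : Nat.card ↥(cj g C.P₁) = 48 := by rw [LT1_aux_card_cj]; exact b₁.card_P
  have hQ'T : cj g C.Q₁ ≤ C.T := by
    have hTp : IsPGroup 2 ↥C.T := IsPGroup.of_card (n := 4) (by rw [b₁.card_T]; norm_num)
    have hQp : IsPGroup 2 ↥(cj g C.Q₁) := IsPGroup.of_card (n := 3) (by rw [hQ'card]; norm_num)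
    have hS : IsPGroup 2 ↥(C.T ⊔ cj g C.Q₁ : Subgroup G) :=
      IsPGroup.to_sup_of_normal_right' hTp hQp (hT_le.trans hP'norm)
    have h3 := LT1_aux_inf hP'card b₁.card_T hT_le (C.T ⊔ cj g C.Q₁) hS le_sup_left
    have hle : C.T ⊔ cj g C.Q₁ ≤ cj g C.P₁ := sup_le hT_le hQ'le
    rw [inf_eq_left.mpr hle] at h3
    rw [← h3]; exact le_sup_right
  have hz_central : ∀ x ∈ cj g C.P₁, x * z = z * x := by
    intro x hx
    rw [LT1_aux_mem_cj] at hx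
    have h3 := b₁.c_central _ hx
    rw [← hg]
    calc x * (g * C.c₁ * g⁻¹) = g * ((g⁻¹ * x * g) * C.c₁) * g⁻¹ := by group
      _ = g * (C.c₁ * (g⁻¹ * x * g)) * g⁻¹ := by rw [h3]
      _ = g * C.c₁ * g⁻¹ * x := by group
  have hzK₁ : z ∈ C.K₁ := by
    have h3 := h2.z_mem₁; rw [b₁.V_eq] at h3; exact h3.2
  have hzK₂ : z ∈ C.K₂ := by
    have h3 := h2.z_mem₂; rw [b₂.V_eq] at h3; exact h3.2
  have hzT : z ∈ C.T := by
    have h3 := h2.z_mem₁; rw [b₁.V_eq] at h3; exact b₁.Q_le h3.1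
  rcases h1.e8 _ hQ'T hQ'card hQ'sq with hq | hq
  · have hle : cj g C.P₁ ≤ C.P₁ := by
      calc cj g C.P₁ ≤ normalizer ((cj g C.Q₁ : Subgroup G) : Set G) := hP'norm
        _ = normalizer (C.Q₁ : Set G) := by rw [hq]
        _ = C.P₁ := h0.norm_Q₁
    have heq : cj g C.P₁ = C.P₁ :=
      Subgroup.eq_of_le_of_card_ge hle (by rw [hP'card, b₁.card_P])
    rcases b₁.center z (b₁.T_le hzT)
      (fun y hy => hz_central y (by rw [heq]; exact hy)) with h3 | h3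
    · exact h2.z_ne h3
    · exact b₁.c_not_mem (h3 ▸ hzK₁)
  · have hle : cj g C.P₁ ≤ C.P₂ := by
      calc cj g C.P₁ ≤ normalizer ((cj g C.Q₁ : Subgroup G) : Set G) := hP'norm
        _ = normalizer (C.Q₂ : Set G) := by rw [hq]
        _ = C.P₂ := h0.norm_Q₂
    have heq : cj g C.P₁ = C.P₂ :=
      Subgroup.eq_of_le_of_card_ge hle (by rw [hP'card, b₂.card_P])
    rcases b₂.center z (b₂.T_le hzT)
      (fun y hy => hz_central y (by rw [heq]; exact hy)) with h3 | h3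
    · exact h2.z_ne h3
    · exact b₂.c_not_mem (h3 ▸ hzK₂)

theorem PAIR3 [Finite G] {C : Cfg G} {z : G} (h : TBase C) (h0 : TD0 C) (h1 : TD1 C) (h2 : TD2 C z) :
    TD3 C z where
  not_conj₁ := PAIR3_aux_not_conj h h0 h1 h2
  not_conj₂ := PAIR3_aux_not_conj h.swap (SYMM_aux_d0 h0) (SYMM_aux_d1 h1) (SYMM_aux_d2 h h1 h2)
  cent_z₁ := h.b₁.cent_V z h2.z_mem₁ h2.z_ne h2.z_central
  cent_z₂ := h.b₂.cent_V z h2.z_mem₂ h2.z_ne h2.z_central

end Cfsg.Agent.S0518P
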