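import Mathlib
import Cfsg.Agent.Helper10.ChiefAction
import Cfsg.Agent.Helper26.ZJ

set_option autoImplicit false

/-! # Shared definitions for the pieces of S1983 (Glauberman: K-infinity and `p`-stable quotients)

A group `Γ` acts on a (finite, commutative) group `W` through `ρ : Γ →* MulAut W`.
`InvSub ρ K F`: the subgroup `F` of `W` is invariant under the subgroup `K` of `Γ`.
`SSi ρ K`: every `K`-invariant subgroup of `W` has a `K`-invariant complement (`W` is a
semisimple `K`-module).  `dl ρ b w = ρ b w * w⁻¹` is the map `b - 1`. -/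

namespace Cfsg.Agent.S1983P

/-- `F` is invariant under the elements of `K`, acting through `ρ` -/
def InvSub {Γ W : Type*} [Group Γ] [Group W] (ρ : Γ →* MulAut W) (K : Subgroup Γ)
    (F : Subgroup W) : Prop :=
  ∀ k ∈ K, ∀ w ∈ F, ρ k w ∈ F

/-- every `K`-invariant subgroup of `W` has a `K`-invariant complement -/
def SSi {Γ W : Type*} [Group Γ] [Group W] (ρ : Γ →* MulAut W) (K : Subgroup Γ) : Prop :=
  ∀ F : Subgroup W, InvSub ρ K F →
    ∃ F' : Subgroup W, InvSub ρ K F' ∧ F ⊓ F' = ⊥ ∧ F ⊔ F' = ⊤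

/-- the map `b - 1` on `W` -/
def dl {Γ W : Type*} [Group Γ] [Group W] (ρ : Γ →* MulAut W) (b : Γ) (w : W) : W :=
  ρ b w * w⁻¹

/-- every quotient of `G` by a normal subgroup satisfies the stability hypothesis `StabHyp` -/
def QuotStab (p : ℕ) (G : Type*) [Group G] : Prop :=
  ∀ (Y : Subgroup G) [Y.Normal], Cfsg.Agent.Helper26.StabHyp p (G ⧸ Y)

end Cfsg.Agent.S1983P
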