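import Mathlib
import Cfsg.Agent.Helper15.S1983Defs
import Cfsg.Agent.Helper3.S1983ImU

set_option autoImplicit false
set_option linter.unusedSectionVars false
set_option linter.unusedVariables false

namespace Cfsg.Agent.S1983P

open Subgroup Cfsg Cfsg.Agent.Helper10
open scoped commutatorElement

universe u

section Chief

variable {G : Type u} [Group G] [Finite G] (X Y : Subgroup G)
  [hXn : X.Normal] [hYn : Y.Normal]

theorem DLIN.aux_val (b g : G) (w : ↥(Ub X Y)) (hg : (QuotientGroup.mk' Y) g = (w : G ⧸ Y)) :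
    ((dl (rhoZ X Y) b w : ↥(Ub X Y)) : G ⧸ Y) = (QuotientGroup.mk' Y) ⁅b, g⁆ := by
  unfold dl
  rw [Subgroup.coe_mul, Subgroup.coe_inv, rhoZ_apply, ← hg, commutatorElement_def]
  simp only [map_mul, map_inv]

theorem DLIN.aux_val2 (b g : G) (w : ↥(Ub X Y)) (hg : (QuotientGroup.mk' Y) g = (w : G ⧸ Y)) :
    ((dl (rhoZ X Y) b (dl (rhoZ X Y) b w) : ↥(Ub X Y)) : G ⧸ Y) =
      (QuotientGroup.mk' Y) ⁅b, ⁅b, g⁆⁆ :=
  DLIN.aux_val X Y b ⁅b, g⁆ _ (DLIN.aux_val X Y b g w hg).symm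

theorem DLIN.aux_mem (U : Subgroup G) (b u : G) (hu : u ∈ U) :
    ⁅b, ⁅b, u⁆⁆ ∈ ⁅⁅U, zpowers b⁆, zpowers b⁆ := by
  have h1 : ⁅b, u⁆ ∈ ⁅U, zpowers b⁆ := by
    rw [commutator_comm]
    exact commutator_mem_commutator (mem_zpowers b) hu
  rw [commutator_comm]
  exact commutator_mem_commutator (mem_zpowers b) h1

theorem DLIN.sub (U : Subgroup G) (hUX : U ≤ X) (b : G)
    (h1 : ⁅⁅U, zpowers b⁆, zpowers b⁆ ≤ Y) :
    ∀ w ∈ imU X Y U, dl (rhoZ X Y) b (dl (rhoZ X Y) b w) = 1 := by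
  intro w hw
  obtain ⟨u, hu, huw⟩ := (Subgroup.mem_subgroupOf.1 hw)
  apply Subtype.ext
  rw [DLIN.aux_val2 X Y b u w huw, Subgroup.coe_one]
  exact (QuotientGroup.eq_one_iff _).2 (h1 (DLIN.aux_mem U b u hu))

theorem DLIN.quot (U : Subgroup G) (b : G)
    (h2 : ⁅⁅X, zpowers b⁆, zpowers b⁆ ≤ U) :
    ∀ w : ↥(Ub X Y), dl (rhoZ X Y) b (dl (rhoZ X Y) b w) ∈ imU X Y U := by
  intro w
  obtain ⟨x, hx, hxw⟩ := w.2
  show ((dl (rhoZ X Y) b (dl (rhoZ X Y) b w) : ↥(Ub X Y)) : G ⧸ Y) ∈ U.map (QuotientGroup.mk' Y)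
  rw [DLIN.aux_val2 X Y b x w hxw]
  exact ⟨_, h2 (DLIN.aux_mem X b x hx), rfl⟩

end Chief

end Cfsg.Agent.S1983P
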