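import Mathlib
import Cfsg.Agent.Helper15.S1983Defs
import Cfsg.Agent.Helper10.KInfStab3
import Cfsg.Agent.Helper26.FusionPStableGroup
import Cfsg.Agent.Helper21.S1983CHAIN
import Cfsg.Agent.Helper25.S1983QUAD
import Cfsg.Agent.Helper25.S1983IRR
import Cfsg.Agent.Helper3.S1983INV
import Cfsg.Agent.Helper15.S1983DLIN
import Cfsg.Agent.Helper17.S1983DLOUT

set_option autoImplicit false
set_option linter.unusedSectionVars false
set_option linter.unusedVariables false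
set_option linter.style.haveILetI false

/-! # S1983 / S1982: the key lemma.  An element `b` of a subnormal subgroup `L⟨b⟩` acting
quadratically on a `L⟨b⟩`-invariant subgroup of a chief factor and on the quotient acts
quadratically on the chief factor (Clifford: the chief factor is a semisimple `L⟨b⟩`-module). -/

namespace Cfsg.Agent.S1983P

open Subgroup Cfsg Cfsg.Agent.Helper10 Cfsg.Agent.Helper26
open scoped commutatorElement

universe u

section Chief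

variable {G : Type u} [Group G] [Finite G] {p : ℕ} [Fact p.Prime] (X Y : Subgroup G)
  [hXn : X.Normal] [hYn : Y.Normal]

theorem KEY.main (hXY : Cfsg.IsChiefFactor X Y) (hXT : X ≤ Cfsg.pCore p G)
    (hst : StabHyp p (G ⧸ Y))
    (M L : Subgroup G) [hMn : M.Normal] [hLn : L.Normal] (hLM : L ≤ M)
    (hpow : ∀ m ∈ M, ∃ k : ℕ, m ^ (p ^ k) ∈ L)
    (U : Subgroup G) (hUX : U ≤ X) (hLU : L ≤ normalizer (U : Set G))
    (b : G) (hbM : b ∈ M) (hbU : b ∈ normalizer (U : Set G))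
    (h1 : ⁅⁅U, zpowers b⁆, zpowers b⁆ ≤ Y) (h2 : ⁅⁅X, zpowers b⁆, zpowers b⁆ ≤ U) :
    ⁅X, zpowers b⁆ ≤ Y := by
  have hcomm := ub_isMulCommutative (p := p) hXY hXT
  have hc : ∀ a c : ↥(Ub X Y), a * c = c * a := fun a c => hcomm.is_comm.comm a c
  have hK : SSi (rhoZ X Y) (L ⊔ zpowers b) :=
    CHAIN.main hc p (rhoZ X Y) M L hLM hpow (IRR.main X Y hXY) (L ⊔ zpowers b) le_sup_left
      (sup_le hLM (zpowers_le.2 hbM))
  have hKU : L ⊔ zpowers b ≤ normalizer (U : Set G) := sup_le hLU (zpowers_le.2 hbU)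
  apply DLOUT.main X Y hXY hXT hst b
  exact QUAD.main hc (rhoZ X Y) (L ⊔ zpowers b) hK b (le_sup_right (a := L) (mem_zpowers b))
    (imU X Y U) (INV.main X Y _ U hKU) (DLIN.sub X Y U hUX b h1) (DLIN.quot X Y U b h2)

end Chief

section TwoQ

variable {G : Type u} [Group G]

/-- an element acting quadratically on `A / Z` and on `Z` acts quadratically on every chief factor
below `A` -/
theorem MQ.twoQ (A Z : Subgroup G) [hZn : Z.Normal] (K : Subgroup G)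
    (h1 : ⁅⁅A, K⁆, K⁆ ≤ Z) (h2 : ⁅⁅Z, K⁆, K⁆ = ⊥)
    {U V : Subgroup G} (hUV : Cfsg.IsChiefFactor U V) (hUA : U ≤ A) : ⁅⁅U, K⁆, K⁆ ≤ V := by
  haveI hUn : U.Normal := hUV.2.1
  haveI hVn : V.Normal := hUV.2.2.1
  have hNn : ((U ⊓ Z) ⊔ V).Normal := inferInstance
  rcases hUV.2.2.2 _ hNn le_sup_right (sup_le inf_le_left hUV.1.le) with h | h
  · -- `U ⊓ Z ≤ V`
    have h3 : U ⊓ Z ≤ V := by rw [← h]; exact le_sup_left
    refine le_trans (le_inf ?_ ?_) h3
    · exact (commutator_mono (Subgroup.commutator_le_left U _) le_rfl).trans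
        (Subgroup.commutator_le_left U _)
    · exact (commutator_mono (commutator_mono hUA le_rfl) le_rfl).trans h1
  · -- `U = (U ⊓ Z) V`
    have a1 : ⁅(U ⊓ Z) ⊔ V, K⁆ ≤ ⁅U ⊓ Z, K⁆ ⊔ V := commutator_sup_normal_le _ _ _
    have a2 : ⁅⁅U ⊓ Z, K⁆ ⊔ V, K⁆ ≤ ⁅⁅U ⊓ Z, K⁆, K⁆ ⊔ V := commutator_sup_normal_le _ _ _
    have a3 : ⁅⁅U ⊓ Z, K⁆, K⁆ = ⊥ := by
      rw [eq_bot_iff, ← h2]
      exact commutator_mono (commutator_mono inf_le_right le_rfl) le_rfl
    rw [a3, bot_sup_eq] at a2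
    have a4 : ⁅⁅(U ⊓ Z) ⊔ V, K⁆, K⁆ ≤ V := (commutator_mono a1 le_rfl).trans a2
    rwa [h] at a4

end TwoQ

section Back

variable {G : Type u} [Group G] [Finite G] {p : ℕ} [Fact p.Prime] (X Y : Subgroup G)
  [hXn : X.Normal] [hYn : Y.Normal]

/-- `dl`-quadratic on the chief factor gives quadratic action at the level of subgroup commutators -/
theorem MQ.dlBack (hXY : Cfsg.IsChiefFactor X Y) (hXT : X ≤ Cfsg.pCore p G) (b : G)
    (h : ∀ w : ↥(Ub X Y), dl (rhoZ X Y) b (dl (rhoZ X Y) b w) = 1) :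
    ⁅⁅X, zpowers b⁆, zpowers b⁆ ≤ Y := by
  have hcomm := ub_isMulCommutative (p := p) hXY hXT
  have hc : ∀ a c : ↥(Ub X Y), a * c = c * a := fun a c => hcomm.is_comm.comm a c
  set π := QuotientGroup.mk' Y with hπ
  have hn : π b ∈ normalizer ((Ub X Y : Subgroup (G ⧸ Y)) : Set (G ⧸ Y)) := by
    rw [normalizer_eq_top_iff.2 (Ub_normal X Y)]; exact mem_top _
  have hq : ⁅⁅Ub X Y, zpowers (π b)⁆, zpowers (π b)⁆ = ⊥ := by
    rw [show π b = ((⟨π b, hn⟩ : normalizer ((Ub X Y : Subgroup (G ⧸ Y)) : Set (G ⧸ Y))) : G ⧸ Y)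
      from rfl]
    rw [quad_iff]
    intro a
    have e1 : ∀ w : ↥(Ub X Y), (Ub X Y).normalizerMonoidHom ⟨π b, hn⟩ w = rhoZ X Y b w := by
      intro w
      apply Subtype.ext
      rw [rhoZ_apply]
      rfl
    rw [e1, e1, e1]
    have h1 := h a
    unfold dl at h1
    rw [map_mul, map_inv] at h1
    rw [map_inv]
    calc (rhoZ X Y b a)⁻¹ * a * (rhoZ X Y b a)⁻¹ * rhoZ X Y b (rhoZ X Y b a)
        = rhoZ X Y b (rhoZ X Y b a) * (rhoZ X Y b a)⁻¹ * (rhoZ X Y b a * a⁻¹)⁻¹ := by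
          rw [mul_inv_rev, inv_inv]
          rw [hc ((rhoZ X Y b a)⁻¹ * a * (rhoZ X Y b a)⁻¹) _, hc ((rhoZ X Y b a)⁻¹ * a) _,
            hc ((rhoZ X Y b a)⁻¹) a]
          simp only [mul_assoc]
      _ = 1 := h1
  have hz : zpowers (π b) = (zpowers b).map π := by rw [MonoidHom.map_zpowers]
  rw [hz, ← Subgroup.map_commutator, ← Subgroup.map_commutator, Subgroup.map_eq_bot_iff,
    QuotientGroup.ker_mk'] at hq
  exact hq

/-- KEY without the stability step: `b` is quadratic on the chief factor -/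
theorem MQ.keyQuad (hXY : Cfsg.IsChiefFactor X Y) (hXT : X ≤ Cfsg.pCore p G)
    (M L : Subgroup G) [hMn : M.Normal] [hLn : L.Normal] (hLM : L ≤ M)
    (hpow : ∀ m ∈ M, ∃ k : ℕ, m ^ (p ^ k) ∈ L)
    (U : Subgroup G) (hUX : U ≤ X) (hLU : L ≤ normalizer (U : Set G))
    (b : G) (hbM : b ∈ M) (hbU : b ∈ normalizer (U : Set G))
    (h1 : ⁅⁅U, zpowers b⁆, zpowers b⁆ ≤ Y) (h2 : ⁅⁅X, zpowers b⁆, zpowers b⁆ ≤ U) :
    ⁅⁅X, zpowers b⁆, zpowers b⁆ ≤ Y := by
  have hcomm := ub_isMulCommutative (p := p) hXY hXT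
  have hc : ∀ a c : ↥(Ub X Y), a * c = c * a := fun a c => hcomm.is_comm.comm a c
  have hK : SSi (rhoZ X Y) (L ⊔ zpowers b) :=
    CHAIN.main hc p (rhoZ X Y) M L hLM hpow (IRR.main X Y hXY) (L ⊔ zpowers b) le_sup_left
      (sup_le hLM (zpowers_le.2 hbM))
  have hKU : L ⊔ zpowers b ≤ normalizer (U : Set G) := sup_le hLU (zpowers_le.2 hbU)
  apply MQ.dlBack X Y hXY hXT b
  exact QUAD.main hc (rhoZ X Y) (L ⊔ zpowers b) hK b (le_sup_right (a := L) (mem_zpowers b))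
    (imU X Y U) (INV.main X Y _ U hKU) (DLIN.sub X Y U hUX b h1) (DLIN.quot X Y U b h2)

end Back

end Cfsg.Agent.S1983P
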