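import Mathlib
import Cfsg.Agent.Helper15.S1983Defs
import Cfsg.Agent.Helper10.KInfStab3

set_option autoImplicit false
set_option linter.unusedSectionVars false
set_option linter.unusedVariables false
set_option linter.style.haveILetI false

/-! # S1983, piece QCOPY: the parts of helper10's K-infinity argument that only use stability of
quotients `G ⧸ Y` by normal subgroups -/

namespace Cfsg.Agent.S1983P

open Subgroup Cfsg Cfsg.Agent.Helper10 Cfsg.Agent.Helper26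
open scoped commutatorElement

universe u

section LemP

variable {p : ℕ} [Fact p.Prime] {G : Type u} [Group G]

/-- stability on a normal `p`-section `X / Y` of `G` -/
theorem QCOPY.lemP (hS : QuotStab p G) (X Y : Subgroup G) [hXn : X.Normal] [hYn : Y.Normal]
    (hXp : IsPGroup p ↥X) :
    ∃ O : Subgroup G, O.Normal ∧
      (∀ o ∈ O, ∃ k : ℕ, ∀ x ∈ X, ⁅x, o ^ (p ^ k)⁆ ∈ Y) ∧
      ∀ g : G, ⁅⁅X, zpowers g⁆, zpowers g⁆ ≤ Y → g ∈ O := by
  set π := QuotientGroup.mk' Y with hπ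
  have hsurj : Function.Surjective π := QuotientGroup.mk'_surjective _
  obtain ⟨L, hLn, hCL, hLpow, hLq⟩ := hS Y (X.map π) (hXn.map π hsurj) (hXp.map π)
  haveI := hLn
  refine ⟨L.comap π, inferInstance, ?_, ?_⟩
  · intro o ho
    have ho' : π o ∈ L := ho
    obtain ⟨k, hk⟩ := hLpow _ ho'
    refine ⟨k, ?_⟩
    intro x hx
    have hxP : π x ∈ X.map π := Subgroup.mem_map_of_mem _ hx
    have h1 := (mem_centralizer_iff.1 hk) _ hxP
    have h2 : π (⁅x, o ^ (p ^ k)⁆) = 1 := by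
      rw [commutatorElement_def, map_mul, map_mul, map_mul, map_inv, map_inv, map_pow, h1]
      group
    exact (QuotientGroup.eq_one_iff _).1 h2
  · intro g hquad
    show π g ∈ L
    apply hLq
    have hz : zpowers (π g) = (zpowers g).map π := by
      rw [MonoidHom.map_zpowers]
    rw [hz, ← Subgroup.map_commutator, ← Subgroup.map_commutator, Subgroup.map_eq_bot_iff,
      QuotientGroup.ker_mk']
    exact hquad

end LemP

section LemP2

variable {p : ℕ} [Fact p.Prime] {G : Type u} [Group G] [Finite G]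

/-- two quadratic layers -/
theorem QCOPY.lemP2 (hS : QuotStab p G) (X Y : Subgroup G) [hXn : X.Normal] [hYn : Y.Normal]
    (hYX : Y ≤ X) (hXp : IsPGroup p ↥X) :
    ∃ O : Subgroup G, O.Normal ∧
      (∀ o ∈ O, ∃ k : ℕ, o ^ (p ^ k) ∈ centralizer (X : Set G)) ∧
      ∀ g : G, ⁅⁅X, zpowers g⁆, zpowers g⁆ ≤ Y → ⁅⁅Y, zpowers g⁆, zpowers g⁆ = ⊥ → g ∈ O := by
  obtain ⟨O₁, hO₁n, hpow₁, hq₁⟩ := QCOPY.lemP hS X Y hXp
  obtain ⟨O₂, hO₂n, hpow₂, hq₂⟩ := QCOPY.lemP hS Y ⊥ (hXp.to_le hYX)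
  haveI := hO₁n
  haveI := hO₂n
  obtain ⟨m, hm⟩ := IsPGroup.iff_card.1 hXp
  have hcardY : ∀ w ∈ Y, w ^ (p ^ m) = 1 := by
    intro w hw
    have h1 : (⟨w, hYX hw⟩ : ↥X) ^ (p ^ m) = 1 := by
      rw [← hm]; exact pow_card_eq_one'
    exact congrArg Subtype.val h1
  refine ⟨O₁ ⊓ O₂, inferInstance, ?_, ?_⟩
  · rintro o ⟨ho₁, ho₂⟩
    obtain ⟨k₁, hk₁⟩ := hpow₁ o ho₁
    obtain ⟨k₂, hk₂⟩ := hpow₂ o ho₂
    refine ⟨k₁ + k₂ + m, ?_⟩
    have e1 : o ^ (p ^ (k₁ + k₂)) = (o ^ (p ^ k₁)) ^ (p ^ k₂) := by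
      rw [← pow_mul, pow_add]
    have e2 : o ^ (p ^ (k₁ + k₂)) = (o ^ (p ^ k₂)) ^ (p ^ k₁) := by
      rw [← pow_mul, pow_add, mul_comm]
    have hYnorm : ∀ c : G, c ∈ normalizer (Y : Set G) := by
      intro c
      rw [normalizer_eq_top_iff.2 hYn]; exact mem_top c
    have hc1 : ∀ x ∈ X, ⁅x, o ^ (p ^ (k₁ + k₂))⁆ ∈ Y := by
      rw [e1]
      exact comm_pow_mem (hYnorm _) hk₁ _
    have hc2 : ∀ y ∈ Y, y * o ^ (p ^ (k₁ + k₂)) = o ^ (p ^ (k₁ + k₂)) * y := by
      intro y hy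
      have h3 : o ^ (p ^ k₂) ∈ centralizer ({y} : Set G) := by
        rw [mem_centralizer_iff]
        intro z hz
        rw [Set.mem_singleton_iff] at hz
        subst hz
        have := hk₂ z hy
        rw [mem_bot, commutatorElement_eq_one_iff_mul_comm] at this
        exact this
      have h4 := (centralizer ({y} : Set G)).pow_mem h3 (p ^ k₁)
      rw [← e2] at h4
      exact (mem_centralizer_iff.1 h4) y rfl
    have h5 := pow_card_mem_centralizer hYX hcardY hc1 hc2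
    rw [← pow_mul, ← pow_add] at h5
    exact h5
  · intro g h1 h2
    exact ⟨hq₁ g h1, hq₂ g (by rw [h2])⟩

end LemP2

section Bounds

variable {p : ℕ} [Fact p.Prime] {G : Type u} [Group G] [Finite G] (hS : QuotStab p G)
  (A : Subgroup G) [hAn : A.Normal] (hAT : A ≤ Cfsg.pCore p G)
  (hcrit : ⁅A, Cfsg.pCore p G⁆ ≤ A ⊓ centralizer (A : Set G))
  (hCA : centralizer (A : Set G) ≤ Cfsg.pCore p G)

include hS hAT hCA in
/-- a subgroup acting quadratically on `A` lies in `O_p(G)` -/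
theorem QCOPY.quad (D : Subgroup G) (hD : ⁅⁅A, D⁆, D⁆ = ⊥) : D ≤ Cfsg.pCore p G := by
  have hTp : IsPGroup p ↥(Cfsg.pCore p G) := Cfsg.Agent.Helper14.pCore_isPGroup p
  obtain ⟨O, hOnormal, hOpow, hOq⟩ := QCOPY.lemP hS A ⊥ (hTp.to_le hAT)
  have hOp : IsPGroup p ↥O := by
    apply isPGroup_of_pow_mem hTp
    intro o ho
    obtain ⟨k, hk⟩ := hOpow o ho
    refine ⟨k, hCA ?_⟩
    rw [mem_centralizer_iff]
    intro x hx
    have := hk x hx
    rw [mem_bot, commutatorElement_eq_one_iff_mul_comm] at this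
    exact this
  have hOT : O ≤ Cfsg.pCore p G := Cfsg.Agent.Helper14.le_pCore p hOnormal hOp
  intro d hd
  apply hOT
  apply hOq d
  rw [← hD]
  exact commutator_mono (commutator_mono le_rfl (zpowers_le.2 hd)) (zpowers_le.2 hd)

include hS hAT hCA in
/-- a subgroup acting quadratically on `A / Z(A)` and on `Z(A)` lies in `O_p(G)` -/
theorem QCOPY.twoLayer (C : Subgroup G)
    (h1 : ⁅⁅A, C⁆, C⁆ ≤ A ⊓ centralizer (A : Set G))
    (h2 : ⁅⁅A ⊓ centralizer (A : Set G), C⁆, C⁆ = ⊥) : C ≤ Cfsg.pCore p G := by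
  have hTp : IsPGroup p ↥(Cfsg.pCore p G) := Cfsg.Agent.Helper14.pCore_isPGroup p
  haveI hZn : (A ⊓ centralizer (A : Set G)).Normal := Subgroup.normal_inf_normal _ _
  obtain ⟨O, hOnormal, hOpow, hOq⟩ := QCOPY.lemP2 hS A (A ⊓ centralizer (A : Set G)) inf_le_left
    (hTp.to_le hAT)
  have hOp : IsPGroup p ↥O := by
    apply isPGroup_of_pow_mem hTp
    intro o ho
    obtain ⟨k, hk⟩ := hOpow o ho
    exact ⟨k, hCA hk⟩
  have hOT : O ≤ Cfsg.pCore p G := Cfsg.Agent.Helper14.le_pCore p hOnormal hOp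
  intro c hc
  apply hOT
  apply hOq c
  · refine le_trans ?_ h1
    exact commutator_mono (commutator_mono le_rfl (zpowers_le.2 hc)) (zpowers_le.2 hc)
  · rw [eq_bot_iff, ← h2]
    exact commutator_mono (commutator_mono le_rfl (zpowers_le.2 hc)) (zpowers_le.2 hc)

include hS hAT hCA in
/-- (I) -/
theorem QCOPY.testI (C : Subgroup G) (hC : C ∈ classTwoSubgroups G)
    (hAC : A ≤ normalizer (C : Set G)) (h1 : ⁅A, ⁅C, C⁆⁆ = ⊥)
    (h2 : ⁅⁅A ⊓ centralizer (A : Set G), C⁆, C⁆ = ⊥) : C ≤ Cfsg.pCore p G := by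
  apply QCOPY.twoLayer hS A hAT hCA C _ h2
  have h3 : ⁅A, C⁆ ≤ C := commutator_le_right_of_le_normalizer hAC
  have h4 : ⁅⁅A, C⁆, C⁆ ≤ ⁅C, C⁆ := commutator_mono h3 le_rfl
  have h5 : ⁅⁅A, C⁆, C⁆ ≤ A :=
    (commutator_mono (Subgroup.commutator_le_left A C) le_rfl).trans
      (Subgroup.commutator_le_left A C)
  have h6 : ⁅C, C⁆ ≤ centralizer (A : Set G) := by
    rw [← commutator_eq_bot_iff_le_centralizer, commutator_comm]
    exact h1
  exact le_inf h5 (h4.trans h6)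

include hS hAT hCA in
/-- (III) -/
theorem QCOPY.upper (R B : Subgroup G) (hAR : A ≤ R) (hB : B ∈ kUpperStarFamily R) :
    B ≤ Cfsg.pCore p G := by
  apply QCOPY.quad hS A hAT hCA
  rw [commutator_eq_bot_iff_le_centralizer, commutator_comm]
  exact ((commutator_mono le_rfl hAR).trans hB.2).trans inf_le_right

end Bounds

end Cfsg.Agent.S1983P
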