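import Mathlib
import Cfsg.Agent.Helper15.S1983QCOPY
import Cfsg.Agent.Helper15.S1983KEY
import Cfsg.Agent.Helper29.S1983STABSER

set_option autoImplicit false
set_option linter.unusedSectionVars false
set_option linter.unusedVariables false
set_option linter.style.haveILetI false

/-! # S1983: the lower star family, from stability of the quotients of `G` only -/

namespace Cfsg.Agent.S1983P

open Subgroup Cfsg Cfsg.Agent.Helper10 Cfsg.Agent.Helper26
open scoped commutatorElement

universe u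

theorem LOWER.le_normalizer_inf {G : Type*} [Group G] {K H₁ H₂ : Subgroup G}
    (h₁ : K ≤ normalizer (H₁ : Set G)) (h₂ : K ≤ normalizer (H₂ : Set G)) :
    K ≤ normalizer ((H₁ ⊓ H₂ : Subgroup G) : Set G) := by
  intro g hg
  have a₁ := h₁ hg
  have a₂ := h₂ hg
  rw [mem_normalizer_iff] at a₁ a₂ ⊢
  intro x
  rw [mem_inf, mem_inf, ← a₁ x, ← a₂ x]

theorem LOWER.le_normalizer_sup {G : Type*} [Group G] {K H₁ H₂ : Subgroup G}
    (h₁ : K ≤ normalizer (H₁ : Set G)) (h₂ : K ≤ normalizer (H₂ : Set G)) :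
    K ≤ normalizer ((H₁ ⊔ H₂ : Subgroup G) : Set G) := by
  apply le_normalizer_of_conj_mem
  intro g hg x hx
  have key : H₁ ⊔ H₂ ≤ (H₁ ⊔ H₂).comap (MulAut.conj g).toMonoidHom := by
    apply sup_le
    · intro y hy
      show g * y * g⁻¹ ∈ H₁ ⊔ H₂
      exact (le_sup_left : H₁ ≤ H₁ ⊔ H₂) ((mem_normalizer_iff.1 (h₁ hg) y).1 hy)
    · intro y hy
      show g * y * g⁻¹ ∈ H₁ ⊔ H₂
      exact (le_sup_right : H₂ ≤ H₁ ⊔ H₂) ((mem_normalizer_iff.1 (h₂ hg) y).1 hy)
  exact key hx

section Bounds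

variable {p : ℕ} [Fact p.Prime] {G : Type u} [Group G] [Finite G] (hS : QuotStab p G)
  (A : Subgroup G) [hAn : A.Normal] (hAT : A ≤ Cfsg.pCore p G)
  (hcrit : ⁅A, Cfsg.pCore p G⁆ ≤ A ⊓ centralizer (A : Set G))
  (hCA : centralizer (A : Set G) ≤ Cfsg.pCore p G)

include hS hAT hcrit hCA in
/-- (II), from stability of the quotients of `G` only -/
theorem LOWER.main (R B : Subgroup G) (hAR : A ≤ R) (hB : B ∈ kLowerStarFamily R)
    (hBp : IsPGroup p ↥B) : B ≤ Cfsg.pCore p G := by
  have hp : p.Prime := Fact.out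
  haveI hTn : (Cfsg.pCore p G).Normal := Cfsg.Agent.Helper14.pCore_normal p
  have hTp : IsPGroup p ↥(Cfsg.pCore p G) := Cfsg.Agent.Helper14.pCore_isPGroup p
  have hAcl : A ∈ classTwoSubgroups G := A_classTwo A (Cfsg.pCore p G) hAT hcrit
  have hA2 : ⁅A, A⁆ ≤ centralizer (A : Set G) := hAcl
  haveI hZn : (A ⊓ centralizer (A : Set G)).Normal := Subgroup.normal_inf_normal _ _
  have hAB : A ≤ normalizer (B : Set G) := hAR.trans hB.2.1
  have hBA : B ≤ normalizer (A : Set G) := le_normalizer_of_normal' B A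
  have hZZ := ZA_self_commutator A
  -- Step 0: `B` acts quadratically on `Z(A)`
  have hstarZ := hB.2.2 (A ⊓ centralizer (A : Set G))
    (by
      show ⁅A ⊓ centralizer (A : Set G), A ⊓ centralizer (A : Set G)⁆ ≤ _
      rw [hZZ]; exact bot_le)
    (inf_le_left.trans hAR) (le_normalizer_of_normal' B _)
    (by rw [hZZ]; exact commutator_bot' B)
    (by
      rw [eq_bot_iff, ← hZZ]
      exact commutator_mono (Subgroup.commutator_le_right _ _) le_rfl)
  have h2 : ⁅⁅A ⊓ centralizer (A : Set G), B⁆, B⁆ = ⊥ := by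
    rw [commutator_eq_bot_iff_le_centralizer, commutator_comm]
    exact hstarZ.trans inf_le_right
  -- Step 1: the normal closure of `B` acts on `Z(A)` as a `p`-group
  obtain ⟨OZ, hOZnormal, hOZpow, hOZq⟩ := QCOPY.lemP hS (A ⊓ centralizer (A : Set G)) ⊥
    (hTp.to_le (inf_le_left.trans hAT))
  haveI := hOZnormal
  have hBOZ : B ≤ OZ := by
    intro b hb
    apply hOZq b
    rw [← h2]
    exact commutator_mono (commutator_mono le_rfl (zpowers_le.2 hb)) (zpowers_le.2 hb)
  set M := normalClosure (B : Set G) with hM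
  have hBM : B ≤ M := le_normalClosure
  have hMOZ : M ≤ OZ := normalClosure_le_normal hBOZ
  haveI hMn : M.Normal := normalClosure_normal
  set L := closure {x : G | x ∈ M ∧ (orderOf x).Coprime p} with hL
  have hLM : L ≤ M := (closure_le _).2 fun x hx => hx.1
  haveI hLn : L.Normal := by
    apply closure_normal_of_conj_invariant
    rintro x ⟨hxM, hxo⟩ g
    refine ⟨hMn.conj_mem x hxM g, ?_⟩
    have : orderOf (g * x * g⁻¹) = orderOf x := by
      have := orderOf_injective (MulAut.conj g).toMonoidHom (MulAut.conj g).injective x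
      simpa using this
    show (orderOf (g * x * g⁻¹)).Coprime p
    rw [this]; exact hxo
  have hLZ : L ≤ centralizer ((A ⊓ centralizer (A : Set G) : Subgroup G) : Set G) := by
    rw [hL, closure_le]
    rintro x ⟨hxM, hxo⟩
    obtain ⟨k, hk⟩ := hOZpow x (hMOZ hxM)
    have h3 : x ^ (p ^ k) ∈ centralizer ((A ⊓ centralizer (A : Set G) : Subgroup G) : Set G) := by
      rw [mem_centralizer_iff]
      intro z hz
      have := hk z hz
      rw [mem_bot, commutatorElement_eq_one_iff_mul_comm] at this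
      exact this
    have hxo' : (orderOf x).Coprime p := hxo
    obtain ⟨m, hm⟩ := exists_pow_eq_self_of_coprime (x := x) (n := p ^ k)
      (Nat.Coprime.pow_left k hxo'.symm)
    rw [SetLike.mem_coe, ← hm]
    exact Subgroup.pow_mem _ h3 m
  have hLpow : ∀ m ∈ M, ∃ k : ℕ, m ^ (p ^ k) ∈ L := by
    intro m hm
    obtain ⟨e, n', hn', heq⟩ := Nat.exists_eq_pow_mul_and_not_dvd (orderOf_pos m).ne' p hp.ne_one
    refine ⟨e, subset_closure ⟨M.pow_mem hm _, ?_⟩⟩
    have h3 : orderOf (m ^ (p ^ e)) = n' := by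
      rw [orderOf_pow_of_dvd (pow_ne_zero e hp.ne_zero) (Dvd.intro _ heq.symm), heq,
        Nat.mul_div_cancel_left _ (pow_pos hp.pos e)]
    show (orderOf (m ^ (p ^ e))).Coprime p
    rw [h3]
    exact ((Nat.Prime.coprime_iff_not_dvd hp).2 hn').symm
  -- Step 2: `Z(B) ≤ O_p(G)`
  have hZB : B ⊓ centralizer (B : Set G) ≤ Cfsg.pCore p G := by
    apply QCOPY.quad hS A hAT hCA
    rw [eq_bot_iff]
    have h3 : ⁅A, B ⊓ centralizer (B : Set G)⁆ ≤ B :=
      (commutator_mono le_rfl inf_le_left).trans (commutator_le_right_of_le_normalizer hAB)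
    have h4 : ⁅B, B ⊓ centralizer (B : Set G)⁆ = ⊥ := by
      rw [commutator_comm, commutator_eq_bot_iff_le_centralizer]
      exact inf_le_right
    rw [← h4]
    exact commutator_mono h3 le_rfl
  -- Step 3: the subgroup `A_B`
  set AB := abSub A B hA2 with hABdef
  have hABle : AB ≤ A := abSub_le hA2
  have hABcl : AB ∈ classTwoSubgroups G := by
    show ⁅AB, AB⁆ ≤ centralizer (AB : Set G)
    exact ((commutator_mono hABle hABle).trans hA2).trans
      (Subgroup.centralizer_le (by exact_mod_cast hABle))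
  have hBAB : B ≤ normalizer (AB : Set G) := B_le_normalizer_abSub hA2 hBA
  have hc1 : ⁅B, ⁅AB, AB⁆⁆ = ⊥ := by
    rw [commutator_comm, commutator_eq_bot_iff_le_centralizer]
    exact commutator_abSub_le hA2
  have hc2 : ⁅⁅B ⊓ centralizer (B : Set G), AB⁆, AB⁆ = ⊥ := by
    have h3 : ⁅B ⊓ centralizer (B : Set G), AB⁆ ≤ A ⊓ centralizer (A : Set G) := by
      rw [commutator_comm]
      exact (commutator_mono hABle hZB).trans hcrit
    have h4 : ⁅A ⊓ centralizer (A : Set G), A⁆ = ⊥ := by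
      rw [commutator_eq_bot_iff_le_centralizer]; exact inf_le_right
    rw [eq_bot_iff, ← h4]
    exact commutator_mono h3 hABle
  have hstar := hB.2.2 AB hABcl (hABle.trans hAR) hBAB hc1 hc2
  have hq2 : ⁅⁅AB, B⁆, B⁆ = ⊥ := by
    rw [commutator_eq_bot_iff_le_centralizer, commutator_comm]
    exact hstar.trans inf_le_right
  have hq1 : ⁅⁅A, B⁆, B⁆ ≤ AB := by
    have h3 : ⁅A, B⁆ ≤ B := commutator_le_right_of_le_normalizer hAB
    have h4 : ⁅⁅A, B⁆, B⁆ ≤ ⁅B, B⁆ := commutator_mono h3 le_rfl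
    have h5 : ⁅⁅A, B⁆, B⁆ ≤ A :=
      (commutator_mono (Subgroup.commutator_le_left A B) le_rfl).trans
        (Subgroup.commutator_le_left A B)
    have h6 : ⁅B, B⁆ ≤ B := by
      rw [Subgroup.commutator_le]
      intro x hx y hy
      rw [commutatorElement_def]
      exact B.mul_mem (B.mul_mem (B.mul_mem hx hy) (B.inv_mem hx)) (B.inv_mem hy)
    have h7 : ⁅B, B⁆ ≤ centralizer (B : Set G) := hB.1
    exact (le_inf (le_inf (h4.trans h6) (h4.trans h7)) h5).trans
      (center_inf_le_abSub hA2 hAB)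
  have hLAB : L ≤ normalizer (AB : Set G) :=
    centralizer_le_normalizer_abSub hA2 (le_normalizer_of_normal' L A) hLZ
  -- Step 4: `B` centralizes every chief factor of `G` below `A`
  have hchief : ∀ X Y : Subgroup G, Cfsg.IsChiefFactor X Y → X ≤ A → ⁅X, B⁆ ≤ Y := by
    intro X Y hXY hXA
    haveI hXn : X.Normal := hXY.2.1
    haveI hYn : Y.Normal := hXY.2.2.1
    have hYX : Y ≤ X := hXY.1.le
    rw [Subgroup.commutator_le]
    intro x hx b hb
    have hUX : (AB ⊓ X) ⊔ Y ≤ X := sup_le inf_le_right hYX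
    have hnU : ∀ K : Subgroup G, K ≤ normalizer (AB : Set G) →
        K ≤ normalizer (((AB ⊓ X) ⊔ Y : Subgroup G) : Set G) := fun K hK =>
      LOWER.le_normalizer_sup (LOWER.le_normalizer_inf hK (le_normalizer_of_normal' K X))
        (le_normalizer_of_normal' K Y)
    have hzb : zpowers b ≤ B := zpowers_le.2 hb
    have h1 : ⁅⁅(AB ⊓ X) ⊔ Y, zpowers b⁆, zpowers b⁆ ≤ Y := by
      have a1 : ⁅(AB ⊓ X) ⊔ Y, zpowers b⁆ ≤ ⁅AB ⊓ X, zpowers b⁆ ⊔ Y :=
        commutator_sup_normal_le _ _ _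
      have a2 : ⁅⁅AB ⊓ X, zpowers b⁆ ⊔ Y, zpowers b⁆ ≤ ⁅⁅AB ⊓ X, zpowers b⁆, zpowers b⁆ ⊔ Y :=
        commutator_sup_normal_le _ _ _
      have a3 : ⁅⁅AB ⊓ X, zpowers b⁆, zpowers b⁆ = ⊥ := by
        rw [eq_bot_iff, ← hq2]
        exact commutator_mono (commutator_mono inf_le_left hzb) hzb
      rw [a3, bot_sup_eq] at a2
      exact (commutator_mono a1 le_rfl).trans a2
    have h2' : ⁅⁅X, zpowers b⁆, zpowers b⁆ ≤ (AB ⊓ X) ⊔ Y := by
      refine le_trans (le_inf ?_ ?_) le_sup_left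
      · exact (commutator_mono (commutator_mono hXA hzb) hzb).trans hq1
      · exact (commutator_mono (Subgroup.commutator_le_left X _) le_rfl).trans
          (Subgroup.commutator_le_left X _)
    have key := KEY.main X Y hXY (hXA.trans hAT) (hS Y) M L hLM hLpow ((AB ⊓ X) ⊔ Y) hUX
      (hnU L hLAB) b (hBM hb) (hnU B hBAB hb) h1 h2'
    exact key (commutator_mem_commutator hx (mem_zpowers b))
  -- Step 5: the stability group of the chief series below `A` is a `p`-group
  exact STABSER.main A hAT hCA B hBp hchief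

end Bounds

end Cfsg.Agent.S1983P
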