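import Mathlib
import Cfsg.Agent.Helper15.S1983LOWER
import Cfsg.Agent.Helper29.S1983STABSERCENT

set_option autoImplicit false
set_option linter.unusedSectionVars false
set_option linter.unusedVariables false
set_option linter.style.haveILetI false

/-! # S1982: normality of the K-infinity subgroups when quadratic action of a test element on a
chief factor below the critical subgroup forces trivial action -/

namespace Cfsg.Agent.S1983P

open Subgroup Cfsg Cfsg.Agent.Helper10 Cfsg.Agent.Helper26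
open scoped commutatorElement

universe u

section BoundsQ

variable {p : ℕ} [Fact p.Prime] {G : Type u} [Group G] [Finite G]
  (A : Subgroup G) [hAn : A.Normal] (hAT : A ≤ Cfsg.pCore p G)
  (hcrit : ⁅A, Cfsg.pCore p G⁆ ≤ A ⊓ centralizer (A : Set G))
  (hCA : centralizer (A : Set G) ≤ Cfsg.pCore p G)
  (S : Subgroup G) (hSp : IsPGroup p ↥S)
  (hQ : ∀ g ∈ S, Cfsg.iterCommutator A (zpowers g) 3 ≤ A ⊓ centralizer (A : Set G) →
    ⁅⁅A ⊓ centralizer (A : Set G), zpowers g⁆, zpowers g⁆ = ⊥ →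
    ∀ U V : Subgroup G, Cfsg.IsChiefFactor U V → U ≤ A →
      ⁅⁅U, zpowers g⁆, zpowers g⁆ ≤ V → ⁅U, zpowers g⁆ ≤ V)

include hAT hCA hSp hQ in
/-- a subgroup of `S` acting quadratically on `A / Z(A)` and on `Z(A)` lies in `O_p(G)` -/
theorem MQ.twoLayer (C : Subgroup G) (hCS : C ≤ S)
    (h1 : ⁅⁅A, C⁆, C⁆ ≤ A ⊓ centralizer (A : Set G))
    (h2 : ⁅⁅A ⊓ centralizer (A : Set G), C⁆, C⁆ = ⊥) : C ≤ Cfsg.pCore p G := by
  haveI hZn : (A ⊓ centralizer (A : Set G)).Normal := Subgroup.normal_inf_normal _ _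
  apply STABSER.main A hAT hCA C (hSp.to_le hCS)
  intro X Y hXY hXA
  rw [Subgroup.commutator_le]
  intro x hx c hc
  have hzc : zpowers c ≤ C := zpowers_le.2 hc
  have h1c : ⁅⁅A, zpowers c⁆, zpowers c⁆ ≤ A ⊓ centralizer (A : Set G) :=
    (commutator_mono (commutator_mono le_rfl hzc) hzc).trans h1
  have h2c : ⁅⁅A ⊓ centralizer (A : Set G), zpowers c⁆, zpowers c⁆ = ⊥ := by
    rw [eq_bot_iff, ← h2]
    exact commutator_mono (commutator_mono le_rfl hzc) hzc
  have h3c : Cfsg.iterCommutator A (zpowers c) 3 ≤ A ⊓ centralizer (A : Set G) := by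
    show ⁅⁅⁅A, zpowers c⁆, zpowers c⁆, zpowers c⁆ ≤ _
    exact (commutator_mono h1c le_rfl).trans (Subgroup.commutator_le_left _ _)
  have hq := MQ.twoQ A (A ⊓ centralizer (A : Set G)) (zpowers c) h1c h2c hXY hXA
  exact hQ c (hCS hc) h3c h2c X Y hXY hXA hq (commutator_mem_commutator hx (mem_zpowers c))

include hAT hCA hSp hQ in
/-- a subgroup of `S` acting quadratically on `A` lies in `O_p(G)` -/
theorem MQ.quad (D : Subgroup G) (hDS : D ≤ S) (hD : ⁅⁅A, D⁆, D⁆ = ⊥) :
    D ≤ Cfsg.pCore p G := by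
  apply MQ.twoLayer A hAT hCA S hSp hQ D hDS
  · rw [hD]; exact bot_le
  · rw [eq_bot_iff, ← hD]
    exact commutator_mono (commutator_mono inf_le_left le_rfl) le_rfl

include hAT hCA hSp hQ in
/-- (I) -/
theorem MQ.testI (C : Subgroup G) (hC : C ∈ classTwoSubgroups G) (hCS : C ≤ S)
    (hAC : A ≤ normalizer (C : Set G)) (h1 : ⁅A, ⁅C, C⁆⁆ = ⊥)
    (h2 : ⁅⁅A ⊓ centralizer (A : Set G), C⁆, C⁆ = ⊥) : C ≤ Cfsg.pCore p G := by
  apply MQ.twoLayer A hAT hCA S hSp hQ C hCS _ h2
  have h3 : ⁅A, C⁆ ≤ C := commutator_le_right_of_le_normalizer hAC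
  have h4 : ⁅⁅A, C⁆, C⁆ ≤ ⁅C, C⁆ := commutator_mono h3 le_rfl
  have h5 : ⁅⁅A, C⁆, C⁆ ≤ A :=
    (commutator_mono (Subgroup.commutator_le_left A C) le_rfl).trans
      (Subgroup.commutator_le_left A C)
  have h6 : ⁅C, C⁆ ≤ centralizer (A : Set G) := by
    rw [← commutator_eq_bot_iff_le_centralizer, commutator_comm]
    exact h1
  exact le_inf h5 (h4.trans h6)

include hAT hCA hSp hQ in
/-- (III) -/
theorem MQ.upper (R B : Subgroup G) (hAR : A ≤ R) (hB : B ∈ kUpperStarFamily R) (hBS : B ≤ S) :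
    B ≤ Cfsg.pCore p G := by
  apply MQ.quad A hAT hCA S hSp hQ B hBS
  rw [commutator_eq_bot_iff_le_centralizer, commutator_comm]
  exact ((commutator_mono le_rfl hAR).trans hB.2).trans inf_le_right

include hAT hcrit hCA hSp hQ in
/-- (II) -/
theorem MQ.lower (R B : Subgroup G) (hAR : A ≤ R) (hB : B ∈ kLowerStarFamily R)
    (hBS : B ≤ S) : B ≤ Cfsg.pCore p G := by
  have hp : p.Prime := Fact.out
  have hBp : IsPGroup p ↥B := hSp.to_le hBS
  haveI hTn : (Cfsg.pCore p G).Normal := Cfsg.Agent.Helper14.pCore_normal p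
  have hTp : IsPGroup p ↥(Cfsg.pCore p G) := Cfsg.Agent.Helper14.pCore_isPGroup p
  have hAcl : A ∈ classTwoSubgroups G := A_classTwo A (Cfsg.pCore p G) hAT hcrit
  have hA2 : ⁅A, A⁆ ≤ centralizer (A : Set G) := hAcl
  haveI hZn : (A ⊓ centralizer (A : Set G)).Normal := Subgroup.normal_inf_normal _ _
  have hAB : A ≤ normalizer (B : Set G) := hAR.trans hB.2.1
  have hBA : B ≤ normalizer (A : Set G) := le_normalizer_of_normal' B A
  have hZZ := ZA_self_commutator A
  -- Step 0: `B` acts quadratically on `Z(A)` and cubically on `A`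
  have hstarZ := hB.2.2 (A ⊓ centralizer (A : Set G))
    (by
      show ⁅A ⊓ centralizer (A : Set G), A ⊓ centralizer (A : Set G)⁆ ≤ _
      rw [hZZ]; exact bot_le)
    (inf_le_left.trans hAR) (le_normalizer_of_normal' B _)
    (by rw [hZZ]; exact commutator_bot' B)
    (by
      rw [eq_bot_iff, ← hZZ]
      exact commutator_mono (Subgroup.commutator_le_right _ _) le_rfl)
  have h2 : ⁅⁅A ⊓ centralizer (A : Set G), B⁆, B⁆ = ⊥ := by
    rw [commutator_eq_bot_iff_le_centralizer, commutator_comm]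
    exact hstarZ.trans inf_le_right
  have h3 : ⁅⁅⁅A, B⁆, B⁆, B⁆ = ⊥ := by
    have h1 : ⁅A, B⁆ ≤ B := commutator_le_right_of_le_normalizer hAB
    rw [eq_bot_iff, ← classTwo_triple hB.1]
    exact commutator_mono (commutator_mono h1 le_rfl) le_rfl
  have htest : ∀ b ∈ B, Cfsg.iterCommutator A (zpowers b) 3 ≤ A ⊓ centralizer (A : Set G) ∧
      ⁅⁅A ⊓ centralizer (A : Set G), zpowers b⁆, zpowers b⁆ = ⊥ := by
    intro b hb
    have hzb : zpowers b ≤ B := zpowers_le.2 hb
    constructor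
    · have : Cfsg.iterCommutator A (zpowers b) 3 ≤ ⁅⁅⁅A, B⁆, B⁆, B⁆ :=
        commutator_mono (commutator_mono (commutator_mono le_rfl hzb) hzb) hzb
      rw [h3] at this
      exact this.trans bot_le
    · rw [eq_bot_iff, ← h2]
      exact commutator_mono (commutator_mono le_rfl hzb) hzb
  -- Step 1: the normal closure of `B` centralizes the chief factors below `Z(A)`
  set M := normalClosure (B : Set G) with hM
  have hBM : B ≤ M := le_normalClosure
  haveI hMn : M.Normal := normalClosure_normal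
  have hMZ : ∀ X Y : Subgroup G, Cfsg.IsChiefFactor X Y → X ≤ A ⊓ centralizer (A : Set G) →
      ⁅X, M⁆ ≤ Y := by
    intro X Y hXY hXZ
    haveI hXn : X.Normal := hXY.2.1
    haveI hYn : Y.Normal := hXY.2.2.1
    have hBc : B ≤ centMod X Y := by
      rw [le_centMod_iff, Subgroup.commutator_le]
      intro x hx b hb
      have hzb : zpowers b ≤ B := zpowers_le.2 hb
      obtain ⟨t3, t2⟩ := htest b hb
      have hq : ⁅⁅X, zpowers b⁆, zpowers b⁆ ≤ Y := by
        have : ⁅⁅X, zpowers b⁆, zpowers b⁆ ≤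
            ⁅⁅A ⊓ centralizer (A : Set G), zpowers b⁆, zpowers b⁆ :=
          commutator_mono (commutator_mono hXZ le_rfl) le_rfl
        rw [t2] at this
        exact this.trans bot_le
      exact hQ b (hBS hb) t3 t2 X Y hXY (hXZ.trans inf_le_left) hq
        (commutator_mem_commutator hx (mem_zpowers b))
    have hMc : M ≤ centMod X Y := normalClosure_le_normal hBc
    exact le_centMod_iff.1 hMc
  set L := closure {x : G | x ∈ M ∧ (orderOf x).Coprime p} with hL
  have hLM : L ≤ M := (closure_le _).2 fun x hx => hx.1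
  haveI hLn : L.Normal := by
    apply closure_normal_of_conj_invariant
    rintro x ⟨hxM, hxo⟩ g
    refine ⟨hMn.conj_mem x hxM g, ?_⟩
    have : orderOf (g * x * g⁻¹) = orderOf x := by
      have := orderOf_injective (MulAut.conj g).toMonoidHom (MulAut.conj g).injective x
      simpa using this
    show (orderOf (g * x * g⁻¹)).Coprime p
    rw [this]; exact hxo
  have hLZ : L ≤ centralizer ((A ⊓ centralizer (A : Set G) : Subgroup G) : Set G) := by
    rw [hL, closure_le]
    rintro x ⟨hxM, hxo⟩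
    apply STABSER.cent (A ⊓ centralizer (A : Set G)) (hTp.to_le (inf_le_left.trans hAT)) x hxo
    intro X Y hXY hXZ
    exact (commutator_mono le_rfl (zpowers_le.2 hxM)).trans (hMZ X Y hXY hXZ)
  have hLpow : ∀ m ∈ M, ∃ k : ℕ, m ^ (p ^ k) ∈ L := by
    intro m hm
    obtain ⟨e, n', hn', heq⟩ := Nat.exists_eq_pow_mul_and_not_dvd (orderOf_pos m).ne' p hp.ne_one
    refine ⟨e, subset_closure ⟨M.pow_mem hm _, ?_⟩⟩
    have h3 : orderOf (m ^ (p ^ e)) = n' := by
      rw [orderOf_pow_of_dvd (pow_ne_zero e hp.ne_zero) (Dvd.intro _ heq.symm), heq,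
        Nat.mul_div_cancel_left _ (pow_pos hp.pos e)]
    show (orderOf (m ^ (p ^ e))).Coprime p
    rw [h3]
    exact ((Nat.Prime.coprime_iff_not_dvd hp).2 hn').symm
  -- Step 2: `Z(B) ≤ O_p(G)`
  have hZB : B ⊓ centralizer (B : Set G) ≤ Cfsg.pCore p G := by
    apply MQ.quad A hAT hCA S hSp hQ _ (inf_le_left.trans hBS)
    rw [eq_bot_iff]
    have h3 : ⁅A, B ⊓ centralizer (B : Set G)⁆ ≤ B :=
      (commutator_mono le_rfl inf_le_left).trans (commutator_le_right_of_le_normalizer hAB)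
    have h4 : ⁅B, B ⊓ centralizer (B : Set G)⁆ = ⊥ := by
      rw [commutator_comm, commutator_eq_bot_iff_le_centralizer]
      exact inf_le_right
    rw [← h4]
    exact commutator_mono h3 le_rfl
  -- Step 3: the subgroup `A_B`
  set AB := abSub A B hA2 with hABdef
  have hABle : AB ≤ A := abSub_le hA2
  have hABcl : AB ∈ classTwoSubgroups G := by
    show ⁅AB, AB⁆ ≤ centralizer (AB : Set G)
    exact ((commutator_mono hABle hABle).trans hA2).trans
      (Subgroup.centralizer_le (by exact_mod_cast hABle))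
  have hBAB : B ≤ normalizer (AB : Set G) := B_le_normalizer_abSub hA2 hBA
  have hc1 : ⁅B, ⁅AB, AB⁆⁆ = ⊥ := by
    rw [commutator_comm, commutator_eq_bot_iff_le_centralizer]
    exact commutator_abSub_le hA2
  have hc2 : ⁅⁅B ⊓ centralizer (B : Set G), AB⁆, AB⁆ = ⊥ := by
    have h3 : ⁅B ⊓ centralizer (B : Set G), AB⁆ ≤ A ⊓ centralizer (A : Set G) := by
      rw [commutator_comm]
      exact (commutator_mono hABle hZB).trans hcrit
    have h4 : ⁅A ⊓ centralizer (A : Set G), A⁆ = ⊥ := by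
      rw [commutator_eq_bot_iff_le_centralizer]; exact inf_le_right
    rw [eq_bot_iff, ← h4]
    exact commutator_mono h3 hABle
  have hstar := hB.2.2 AB hABcl (hABle.trans hAR) hBAB hc1 hc2
  have hq2 : ⁅⁅AB, B⁆, B⁆ = ⊥ := by
    rw [commutator_eq_bot_iff_le_centralizer, commutator_comm]
    exact hstar.trans inf_le_right
  have hq1 : ⁅⁅A, B⁆, B⁆ ≤ AB := by
    have h3 : ⁅A, B⁆ ≤ B := commutator_le_right_of_le_normalizer hAB
    have h4 : ⁅⁅A, B⁆, B⁆ ≤ ⁅B, B⁆ := commutator_mono h3 le_rfl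
    have h5 : ⁅⁅A, B⁆, B⁆ ≤ A :=
      (commutator_mono (Subgroup.commutator_le_left A B) le_rfl).trans
        (Subgroup.commutator_le_left A B)
    have h6 : ⁅B, B⁆ ≤ B := by
      rw [Subgroup.commutator_le]
      intro x hx y hy
      rw [commutatorElement_def]
      exact B.mul_mem (B.mul_mem (B.mul_mem hx hy) (B.inv_mem hx)) (B.inv_mem hy)
    have h7 : ⁅B, B⁆ ≤ centralizer (B : Set G) := hB.1
    exact (le_inf (le_inf (h4.trans h6) (h4.trans h7)) h5).trans
      (center_inf_le_abSub hA2 hAB)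
  have hLAB : L ≤ normalizer (AB : Set G) :=
    centralizer_le_normalizer_abSub hA2 (le_normalizer_of_normal' L A) hLZ
  -- Step 4: `B` centralizes every chief factor of `G` below `A`
  have hchief : ∀ X Y : Subgroup G, Cfsg.IsChiefFactor X Y → X ≤ A → ⁅X, B⁆ ≤ Y := by
    intro X Y hXY hXA
    haveI hXn : X.Normal := hXY.2.1
    haveI hYn : Y.Normal := hXY.2.2.1
    have hYX : Y ≤ X := hXY.1.le
    rw [Subgroup.commutator_le]
    intro x hx b hb
    have hUX : (AB ⊓ X) ⊔ Y ≤ X := sup_le inf_le_right hYX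
    have hnU : ∀ K : Subgroup G, K ≤ normalizer (AB : Set G) →
        K ≤ normalizer (((AB ⊓ X) ⊔ Y : Subgroup G) : Set G) := fun K hK =>
      LOWER.le_normalizer_sup (LOWER.le_normalizer_inf hK (le_normalizer_of_normal' K X))
        (le_normalizer_of_normal' K Y)
    have hzb : zpowers b ≤ B := zpowers_le.2 hb
    have h1 : ⁅⁅(AB ⊓ X) ⊔ Y, zpowers b⁆, zpowers b⁆ ≤ Y := by
      have a1 : ⁅(AB ⊓ X) ⊔ Y, zpowers b⁆ ≤ ⁅AB ⊓ X, zpowers b⁆ ⊔ Y :=
        commutator_sup_normal_le _ _ _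
      have a2 : ⁅⁅AB ⊓ X, zpowers b⁆ ⊔ Y, zpowers b⁆ ≤ ⁅⁅AB ⊓ X, zpowers b⁆, zpowers b⁆ ⊔ Y :=
        commutator_sup_normal_le _ _ _
      have a3 : ⁅⁅AB ⊓ X, zpowers b⁆, zpowers b⁆ = ⊥ := by
        rw [eq_bot_iff, ← hq2]
        exact commutator_mono (commutator_mono inf_le_left hzb) hzb
      rw [a3, bot_sup_eq] at a2
      exact (commutator_mono a1 le_rfl).trans a2
    have h2' : ⁅⁅X, zpowers b⁆, zpowers b⁆ ≤ (AB ⊓ X) ⊔ Y := by
      refine le_trans (le_inf ?_ ?_) le_sup_left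
      · exact (commutator_mono (commutator_mono hXA hzb) hzb).trans hq1
      · exact (commutator_mono (Subgroup.commutator_le_left X _) le_rfl).trans
          (Subgroup.commutator_le_left X _)
    have key := MQ.keyQuad X Y hXY (hXA.trans hAT) M L hLM hLpow ((AB ⊓ X) ⊔ Y) hUX
      (hnU L hLAB) b (hBM hb) (hnU B hBAB hb) h1 h2'
    obtain ⟨t3, t2⟩ := htest b hb
    exact hQ b (hBS hb) t3 t2 X Y hXY hXA key (commutator_mem_commutator hx (mem_zpowers b))
  -- Step 5: the stability group of the chief series below `A` is a `p`-group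
  exact STABSER.main A hAT hCA B hBp hchief

end BoundsQ

section MainQ

variable {G : Type u} [Group G] [Finite G] {p : ℕ} [Fact p.Prime]

/-- **Normality of the K-infinity subgroups** when every test element of `S` acting quadratically
on a chief factor below the critical subgroup `A` centralizes that chief factor. -/
theorem MQ.main (S : Sylow p G) (A : Subgroup G) [hAn : A.Normal] (hAT : A ≤ Cfsg.pCore p G)
    (hcrit : ⁅A, Cfsg.pCore p G⁆ ≤ A ⊓ centralizer (A : Set G))
    (hCA : centralizer (A : Set G) ≤ Cfsg.pCore p G)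
    (hQ : ∀ g ∈ (S : Subgroup G),
      Cfsg.iterCommutator A (zpowers g) 3 ≤ A ⊓ centralizer (A : Set G) →
      ⁅⁅A ⊓ centralizer (A : Set G), zpowers g⁆, zpowers g⁆ = ⊥ →
      ∀ U V : Subgroup G, Cfsg.IsChiefFactor U V → U ≤ A →
        ⁅⁅U, zpowers g⁆, zpowers g⁆ ≤ V → ⁅U, zpowers g⁆ ≤ V) :
    (Cfsg.inducedFunctor kInfLower (S : Subgroup G)).Normal ∧
      (Cfsg.inducedFunctor kInfUpper (S : Subgroup G)).Normal := by
  have hTS : Cfsg.pCore p G ≤ (S : Subgroup G) := Cfsg.Agent.Helper14.pCore_le_sylow p S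
  apply kInf_normal_of_bounds S
  intro n
  have hb := seq_bounds_gen A (Cfsg.pCore p G) (S : Subgroup G) hAT hTS hcrit
    (fun C hC hCS hAC h1 h2 => MQ.testI A hAT hCA (S : Subgroup G) S.2 hQ C hC hCS hAC h1 h2)
    (fun R B hAR hB hBS => MQ.lower A hAT hcrit hCA (S : Subgroup G) S.2 hQ R B hAR hB hBS)
    (fun R B hAR hB hBS => MQ.upper A hAT hCA (S : Subgroup G) S.2 hQ R B hAR hB hBS) n
  exact ⟨hb.2.2.1, hb.2.2.2⟩

/-- `C_G(A) ≤ O_p(G)` for a subgroup `A` of `O_p(G)` detecting `p'`-automorphisms, in a constrained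
group -/
theorem MQ.cent_le (A : Subgroup G) [hAn : A.Normal] (hAT : A ≤ Cfsg.pCore p G)
    (hA5 : ∀ φ : MulAut ↥(Cfsg.pCore p G), (orderOf φ).Coprime p →
      (∀ a : ↥(Cfsg.pCore p G), (a : G) ∈ A → φ a = a) → φ = 1)
    (hcon : centralizer ((Cfsg.pCore p G : Subgroup G) : Set G) ≤ Cfsg.pCore p G) :
    centralizer (A : Set G) ≤ Cfsg.pCore p G := by
  have hTp : IsPGroup p ↥(Cfsg.pCore p G) := Cfsg.Agent.Helper14.pCore_isPGroup p
  haveI hTn : (Cfsg.pCore p G).Normal := Cfsg.Agent.Helper14.pCore_normal p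
  apply Cfsg.Agent.Helper14.le_pCore p inferInstance
  apply isPGroup_of_forall_coprime_eq_one
  rintro ⟨x, hxC⟩ hcop
  have hcop' : (orderOf x).Coprime p := by
    rw [← Subgroup.orderOf_mk x hxC]; exact hcop
  have ha : Nat.Coprime (orderOf (MulAut.conjNormal (H := Cfsg.pCore p G) x)) p :=
    Nat.Coprime.coprime_dvd_left (orderOf_map_dvd _ x) hcop'
  have hfix : ∀ a : ↥(Cfsg.pCore p G), (a : G) ∈ A →
      (MulAut.conjNormal (H := Cfsg.pCore p G) x) a = a := by
    intro a haA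
    apply Subtype.ext
    rw [MulAut.conjNormal_apply]
    have := (Subgroup.mem_centralizer_iff.1 hxC) (a : G) haA
    rw [← this, mul_inv_cancel_right]
  have h1 := hA5 _ ha hfix
  have hxT : x ∈ Cfsg.pCore p G := by
    apply hcon
    rw [Subgroup.mem_centralizer_iff]
    intro t ht
    have h2 : (MulAut.conjNormal (H := Cfsg.pCore p G) x) ⟨t, ht⟩ = ⟨t, ht⟩ := by rw [h1]; rfl
    have h3 := congrArg Subtype.val h2
    rw [MulAut.conjNormal_apply] at h3
    change x * t * x⁻¹ = t at h3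
    calc t * x = (x * t * x⁻¹) * x := by rw [h3]
      _ = x * t := by group
  obtain ⟨k, hk⟩ := (hTp ⟨x, hxT⟩)
  have hk' : x ^ p ^ k = 1 := congrArg Subtype.val hk
  have hdvd : orderOf x ∣ p ^ k := orderOf_dvd_of_pow_eq_one hk'
  have hone : orderOf x = 1 := by
    have h4 : (orderOf x).Coprime (p ^ k) := Nat.Coprime.pow_right k hcop'
    exact Nat.eq_one_of_dvd_coprimes h4 dvd_rfl hdvd
  apply Subtype.ext
  exact orderOf_eq_one_iff.1 hone

end MainQ

end Cfsg.Agent.S1983P
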