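import Mathlib
import Cfsg.Agent.Helper2.S2099.DefsR
import Cfsg.Agent.Helper23.S3352UNORM

set_option autoImplicit false
set_option linter.unusedSectionVars false
set_option linter.unusedVariables false

/-! S2099 piece COMMQ (driver helper2; helper15): the commutator relations of the root group datum
of relative type `B_n` (twisted type `²D_{n+1}`): a simple root subgroup normalizes `UhE s`.
Port of `Cfsg.Agent.Helper7.S2094COMMB`. -/

namespace Cfsg.Agent.S2099P

open Matrix Cfsg.Agent.S3352P Cfsg.Agent.S3351P Cfsg.Agent.S2096P Cfsg.Agent.RGD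
open Cfsg.Agent.S2094P (RB RootB sc NgEquivariant mapB reflB MD XD XD_coe isRoot_ng_right'
  isRoot_ng_left' sw_ngEquivariant sc_ngEquivariant)

variable {n : ℕ} {F : Type*} [Field F] {P : Type*} [AddCommGroup P] [Module F P]
  {M : Type*} [Group M] {Q0 : QuadraticForm F P} {X : J n → J n → F → M} {Ys : J n → P → M}

namespace COMMQ

open POSCOMB

/-- a long positive root element other than that of `s` lies in `UhE s` -/
theorem lg_mem {s : RootB n} {a b : J n} (hab : IsRoot a b) (hpos : rk a < rk b)
    (h1 : RB.lg a b ≠ s.1) (h2 : RB.lg a b ≠ s.1.alt) (t : F) :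
    X a b t ∈ (datumQ Q0 X Ys).UhE s := by
  apply Subgroup.subset_closure
  refine ⟨⟨RB.lg a b, hab⟩, hpos, ?_, ?_, Subgroup.subset_closure ⟨t, rfl⟩⟩
  · intro h; exact h1 (congrArg Subtype.val h)
  · intro h; exact h2 (congrArg Subtype.val h)

/-- a short positive root element other than that of `s` lies in `UhE s` -/
theorem sh_mem {s : RootB n} {a : J n} (hpos : ∃ i, a = Sum.inl i)
    (h1 : RB.sh a ≠ s.1) (h2 : RB.sh a ≠ s.1.alt) (t : P) :
    Ys a t ∈ (datumQ Q0 X Ys).UhE s := by
  apply Subgroup.subset_closure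
  refine ⟨⟨RB.sh a, trivial⟩, hpos, ?_, ?_, Subgroup.subset_closure ⟨t, rfl⟩⟩
  · intro h; exact h1 (congrArg Subtype.val h)
  · intro h; exact h2 (congrArg Subtype.val h)

/-- the `UhE` of the long roots (S3352) lies in the `UhE` of the datum -/
theorem UhE_le {p p' : J n} (hpp : IsRoot p p') :
    Cfsg.Agent.S3352P.UhE X p p' ≤ (datumQ Q0 X Ys).UhE ⟨RB.lg p p', hpp⟩ := by
  apply (Subgroup.closure_le _).mpr
  rintro g ⟨a, b, t, hab, g1, g2, rfl⟩
  apply lg_mem hab.1 hab.2
  · intro h
    apply g1
    injection h with e1 e2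
    exact ⟨e1, e2⟩
  · intro h
    apply g2
    injection h with e1 e2
    exact ⟨e1, e2⟩

/-- conjugation by a commutator -/
theorem conj_eq_cm_mul (z x : M) : z * x * z⁻¹ = cm z x * x := by
  rw [cm_def]; group

theorem conj_eq_cm_inv_mul (z x : M) : z * x * z⁻¹ = (cm x z)⁻¹ * x := by
  rw [cm_def]; group

/-- the conjugate of `X c a u` by `Ys a t` -/
theorem conj_X_snd (hB : QRel Q0 X Ys) {c a : J n} (hca : IsRoot c a) (t : P) (u : F) :
    Ys a t * X c a u * (Ys a t)⁻¹ =
      (X c (ng a) (u * Q0 t))⁻¹ * (Ys c (u • t))⁻¹ * X c a u := by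
  rw [conj_eq_cm_inv_mul, hB.xy c a hca u t, _root_.mul_inv_rev]

/-- the conjugate of `X c a u` by `Ys a t`, `a = e_{n-1}`, lies in `UhE (sh a)` -/
theorem conj_X_snd_mem (hB : QRel Q0 X Ys) {j : Fin n} (hj : j.val + 1 = n) {c : J n}
    (hca : IsRoot c (Sum.inl j)) (hpos : rk c < rk (Sum.inl j : J n)) (t : P) (u : F) :
    Ys (Sum.inl j) t * X c (Sum.inl j) u * (Ys (Sum.inl j) t)⁻¹ ∈
      (datumQ Q0 X Ys).UhE ⟨RB.sh (Sum.inl j), trivial⟩ := by
  rw [conj_X_snd hB hca]
  rw [rk_inl] at hpos
  have hc : ∃ k, c = Sum.inl k := by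
    cases c with
    | inl k => exact ⟨k, rfl⟩
    | inr k =>
      exfalso
      rw [rk_inr] at hpos
      have := k.isLt
      omega
  obtain ⟨k, rfl⟩ := hc
  rw [rk_inl] at hpos
  refine Subgroup.mul_mem _ (Subgroup.mul_mem _ (Subgroup.inv_mem _ ?_) (Subgroup.inv_mem _ ?_)) ?_
  · apply lg_mem (isRoot_ng_right' hca)
    · rw [ng_inl, rk_inl, rk_inr]; omega
    · intro h; cases h
    · intro h; cases h
  · apply sh_mem ⟨k, rfl⟩
    · intro h
      injection h with e
      exact hca.1 e
    · intro h
      injection h with e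
      exact hca.1 e
  · apply lg_mem hca
    · rw [rk_inl, rk_inl]; exact hpos
    · intro h; cases h
    · intro h; cases h

end COMMQ

open COMMQ POSCOMB

theorem comm_mem_UhE (hn : 3 ≤ n) (hB : QRel Q0 X Ys) {s : RootB n} (hs : s.1.Simple) {z : M}
    (hz : z ∈ UQ X Ys s.1) {r : RootB n} (hr : r.1.Pos) (h1 : r ≠ s)
    (h2 : r ≠ (datumQ Q0 X Ys).alt s) {x : M} (hx : x ∈ UQ X Ys r.1) :
    z * x * z⁻¹ ∈ (datumQ Q0 X Ys).UhE s := by
  obtain ⟨s, hsv⟩ := s
  obtain ⟨r, hrv⟩ := r
  cases s with
  | lg p p' =>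
    obtain ⟨i, j, hij, rfl, rfl⟩ := hs
    obtain ⟨t, rfl⟩ := (mem_U_lg hB hsv).1 hz
    cases r with
    | lg c d =>
      obtain ⟨u, rfl⟩ := (mem_U_lg hB hrv).1 hx
      have hsimp : IsSimple (Sum.inl i : J n) (Sum.inl j) := Or.inl ⟨i, j, hij, rfl, rfl⟩
      have g1 : ¬ (c = Sum.inl i ∧ d = Sum.inl j) := by
        rintro ⟨rfl, rfl⟩
        exact h1 rfl
      have g2 : ¬ (c = ng (Sum.inl j) ∧ d = ng (Sum.inl i)) := by
        rintro ⟨rfl, rfl⟩
        exact h2 rfl
      have hy : X c d u ∈ Cfsg.Agent.S3352P.UhE X (Sum.inl i) (Sum.inl j) :=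
        UNORM.gen_mem_UhE u ⟨hrv, hr⟩ g1 g2
      exact UhE_le hsv (X_conj_mem_UhE hB.dX hsimp t hy)
    | sh c =>
      obtain ⟨u, rfl⟩ := (mem_U_sh hB c).1 hx
      obtain ⟨k, rfl⟩ := hr
      by_cases hc : (Sum.inl k : J n) = Sum.inl j
      · rw [hc]
        rw [conj_eq_cm_mul, hB.xy _ _ hsv t u]
        refine Subgroup.mul_mem _ (Subgroup.mul_mem _ ?_ ?_) ?_
        · apply sh_mem ⟨i, rfl⟩
          · intro h; cases h
          · intro h; cases h
        · apply lg_mem (isRoot_ng_right' hsv)
          · rw [ng_inl, rk_inl, rk_inr]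
            have := j.isLt
            omega
          · intro h; cases h
          · intro h; cases h
        · apply sh_mem ⟨j, rfl⟩
          · intro h; cases h
          · intro h; cases h
      · have hcomm := hB.ycomm (Sum.inl k) (Sum.inl i) (Sum.inl j) hsv (fun h => hc h.symm)
          (by rw [ng_inl]; intro h; cases h) u t
        rw [← hcomm, mul_inv_cancel_right]
        apply sh_mem ⟨k, rfl⟩
        · intro h; cases h
        · intro h; cases h
  | sh a =>
    obtain ⟨j, hj, rfl⟩ := hs
    obtain ⟨t, rfl⟩ := (mem_U_sh hB _).1 hz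
    cases r with
    | lg c d =>
      obtain ⟨u, rfl⟩ := (mem_U_lg hB hrv).1 hx
      have hr' : rk c < rk d := hr
      by_cases hd : d = Sum.inl j
      · subst hd
        exact conj_X_snd_mem hB hj hrv hr' t u
      · by_cases hc : c = ng (Sum.inl j)
        · subst hc
          have hfl : X (ng (Sum.inl j)) d u = X (ng d) (Sum.inl j) (-u) := by
            have hroot : IsRoot (ng d) (Sum.inl j) :=
              ⟨fun h => hrv.1 (by rw [← h, ng_ng]), fun h => hrv.2 h.symm⟩
            have h := hB.dX.flip (ng d) (Sum.inl j) hroot u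
            rw [ng_ng] at h
            exact h
          rw [hfl]
          have hroot : IsRoot (ng d) (Sum.inl j) :=
            ⟨fun h => hrv.1 (by rw [← h, ng_ng]), fun h => hrv.2 h.symm⟩
          apply conj_X_snd_mem hB hj hroot
          rw [ng_inl, rk_inr] at hr'
          rw [rk_inl]
          cases d with
          | inl k =>
            exfalso
            rw [rk_inl] at hr'
            have := k.isLt
            omega
          | inr k =>
            rw [rk_inr] at hr'
            rw [ng_inr, rk_inl]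
            have := k.isLt
            omega
        · have hcomm := hB.ycomm (Sum.inl j) c d hrv hd hc t u
          rw [hcomm, mul_inv_cancel_right]
          apply lg_mem hrv hr'
          · intro h; cases h
          · intro h; cases h
    | sh c =>
      obtain ⟨u, rfl⟩ := (mem_U_sh hB c).1 hx
      obtain ⟨k, rfl⟩ := hr
      have hne : (Sum.inl j : J n) ≠ Sum.inl k := by
        intro h
        apply h1
        rw [h]
      have hroot : IsRoot (Sum.inl j : J n) (Sum.inl k) :=
        ⟨hne, by rw [ng_inl]; intro h; cases h⟩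
      rw [conj_eq_cm_mul, hB.yy _ _ hroot t u]
      refine Subgroup.mul_mem _ ?_ ?_
      · apply lg_mem (isRoot_ng_right' hroot)
        · rw [ng_inl, rk_inl, rk_inr]
          have := k.isLt
          omega
        · intro h; cases h
        · intro h; cases h
      · apply sh_mem ⟨k, rfl⟩
        · intro h
          apply h1
          apply Subtype.ext
          exact h
        · intro h
          apply h1
          apply Subtype.ext
          exact h

end Cfsg.Agent.S2099P
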