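import Mathlib
import Cfsg.Agent.Helper2.S2099.DefsR

set_option autoImplicit false
set_option linter.unusedSectionVars false
set_option linter.unusedVariables false

/-! S2099 piece GENQ (driver helper2; helper15): the simple root subgroups and their opposites
generate a group generated by root elements with the relations `QRel` (relative type `B_n`).
Port of `Cfsg.Agent.Lead.S2094GENB`; no division by `2`: the polar form is used instead. -/

namespace Cfsg.Agent.S2099P

open Matrix Cfsg.Agent.S3352P Cfsg.Agent.S3351P Cfsg.Agent.S2096P Cfsg.Agent.RGD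
open Cfsg.Agent.S2094P (RB RootB sc NgEquivariant mapB reflB MD XD XD_coe isRoot_ng_right'
  isRoot_ng_left' sw_ngEquivariant sc_ngEquivariant)

variable {n : ℕ} {F : Type*} [Field F] {P : Type*} [AddCommGroup P] [Module F P]
  {M : Type*} [Group M] {Q0 : QuadraticForm F P} {X : J n → J n → F → M} {Ys : J n → P → M}

namespace GENQ

/-- the subgroup generated by the simple root subgroups and their opposites -/
def KS (Q0 : QuadraticForm F P) (X : J n → J n → F → M) (Ys : J n → P → M) : Subgroup M :=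
  Subgroup.closure {g | ∃ s, (datumQ Q0 X Ys).Simple s ∧
    (g ∈ (datumQ Q0 X Ys).U s ∨ g ∈ (datumQ Q0 X Ys).U ((datumQ Q0 X Ys).neg s))}

theorem cm_mem {K : Subgroup M} {x y : M} (hx : x ∈ K) (hy : y ∈ K) : cm x y ∈ K := by
  rw [cm_def]
  exact K.mul_mem (K.mul_mem (K.mul_mem hx hy) (K.inv_mem hx)) (K.inv_mem hy)

theorem isRoot_ll {i j : Fin n} (h : i ≠ j) : IsRoot (Sum.inl i : J n) (Sum.inl j) :=
  ⟨fun h' => h (Sum.inl_injective h'), by simp⟩

theorem isRoot_rr {i j : Fin n} (h : i ≠ j) : IsRoot (Sum.inr i : J n) (Sum.inr j) :=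
  ⟨fun h' => h (Sum.inr_injective h'), by simp⟩

theorem isRoot_lr {i j : Fin n} (h : i ≠ j) : IsRoot (Sum.inl i : J n) (Sum.inr j) :=
  ⟨by simp, fun h' => h (by rw [ng_inr] at h'; exact Sum.inl_injective h')⟩

theorem isRoot_rl {i j : Fin n} (h : i ≠ j) : IsRoot (Sum.inr i : J n) (Sum.inl j) :=
  ⟨by simp, fun h' => h (by rw [ng_inl] at h'; exact Sum.inr_injective h')⟩

/-- the adjacent long root elements -/
theorem adj_mem (i j : Fin n) (h : j.val = i.val + 1) (t : F) :
    X (Sum.inl i) (Sum.inl j) t ∈ KS Q0 X Ys ∧ X (Sum.inl j) (Sum.inl i) t ∈ KS Q0 X Ys := by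
  have hij : i ≠ j := fun e => by rw [e] at h; omega
  have hs : (datumQ Q0 X Ys).Simple ⟨RB.lg (Sum.inl i) (Sum.inl j), isRoot_ll hij⟩ :=
    ⟨i, j, h, rfl, rfl⟩
  constructor
  · apply Subgroup.subset_closure
    refine ⟨_, hs, Or.inl ?_⟩
    exact Subgroup.subset_closure ⟨t, rfl⟩
  · apply Subgroup.subset_closure
    refine ⟨_, hs, Or.inr ?_⟩
    exact Subgroup.subset_closure ⟨t, rfl⟩

/-- the last short root elements -/
theorem last_mem (j : Fin n) (h : j.val + 1 = n) (t : P) :
    Ys (Sum.inl j) t ∈ KS Q0 X Ys ∧ Ys (Sum.inr j) t ∈ KS Q0 X Ys := by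
  have hs : (datumQ Q0 X Ys).Simple ⟨RB.sh (Sum.inl j), trivial⟩ := ⟨j, h, rfl⟩
  constructor
  · apply Subgroup.subset_closure
    refine ⟨_, hs, Or.inl ?_⟩
    exact Subgroup.subset_closure ⟨t, rfl⟩
  · apply Subgroup.subset_closure
    refine ⟨_, hs, Or.inr ?_⟩
    exact Subgroup.subset_closure ⟨t, rfl⟩

/-- step 1: the long root elements `X (e_i) (e_j)` -/
theorem ll_mem_aux (hB : QRel Q0 X Ys) (d : ℕ) : ∀ i j : Fin n,
    (i.val + (d + 1) = j.val ∨ j.val + (d + 1) = i.val) → ∀ t : F,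
      X (Sum.inl i) (Sum.inl j) t ∈ KS Q0 X Ys := by
  induction d with
  | zero =>
    intro i j h t
    rcases h with h | h
    · exact (adj_mem i j (by omega) t).1
    · exact (adj_mem j i (by omega) t).2
  | succ d ih =>
    intro i j h t
    rcases h with h | h
    · let k : Fin n := ⟨i.val + (d + 1), by have := j.isLt; omega⟩
      have hk : k.val = i.val + (d + 1) := rfl
      have hik : i ≠ k := fun e => by rw [← e] at hk; omega
      have hkj : k ≠ j := fun e => by rw [e] at hk; omega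
      have hij : i ≠ j := fun e => by rw [e] at h; omega
      have h1 := ih i k (Or.inl hk.symm) t
      have h2 := (adj_mem (Q0 := Q0) (X := X) (Ys := Ys) k j (by omega) (1 : F)).1
      have := hB.dX.mul _ _ _ (isRoot_ll hik) (isRoot_ll hkj) (isRoot_ll hij) t 1
      rw [mul_one] at this
      rw [← this]
      exact cm_mem h1 h2
    · let k : Fin n := ⟨j.val + 1, by have := i.isLt; omega⟩
      have hk : k.val = j.val + 1 := rfl
      have hik : i ≠ k := fun e => by rw [← e] at hk; omega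
      have hkj : k ≠ j := fun e => by rw [e] at hk; omega
      have hij : i ≠ j := fun e => by rw [e] at h; omega
      have h1 := ih i k (Or.inr (by omega)) t
      have h2 := (adj_mem (Q0 := Q0) (X := X) (Ys := Ys) j k hk (1 : F)).2
      have := hB.dX.mul _ _ _ (isRoot_ll hik) (isRoot_ll hkj) (isRoot_ll hij) t 1
      rw [mul_one] at this
      rw [← this]
      exact cm_mem h1 h2

theorem ll_mem (hB : QRel Q0 X Ys) {i j : Fin n} (h : i ≠ j) (t : F) :
    X (Sum.inl i) (Sum.inl j) t ∈ KS Q0 X Ys := by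
  have hv : i.val ≠ j.val := fun e => h (Fin.ext e)
  rcases Nat.lt_or_gt_of_ne hv with h' | h'
  · exact ll_mem_aux hB (j.val - i.val - 1) i j (Or.inl (by omega)) t
  · exact ll_mem_aux hB (i.val - j.val - 1) i j (Or.inr (by omega)) t

theorem rr_mem (hB : QRel Q0 X Ys) {i j : Fin n} (h : i ≠ j) (t : F) :
    X (Sum.inr i) (Sum.inr j) t ∈ KS Q0 X Ys := by
  have := hB.dX.flip _ _ (isRoot_ll (Ne.symm h)) t
  rw [ng_inl, ng_inl] at this
  rw [this]
  exact ll_mem hB (Ne.symm h) (-t)

theorem ne_ng_self (a : J n) : a ≠ ng a := by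
  rcases a with i | i
  · rw [ng_inl]; intro h; cases h
  · rw [ng_inr]; intro h; cases h

/-- the trick: from `Ys a w * X a c (Q0 w) ∈ K` for all `w` get both factors (the polar form is
not zero) -/
theorem split_mem (hnd : ∃ w v : P, QuadraticMap.polar Q0 w v ≠ 0) (hB : QRel Q0 X Ys)
    {K : Subgroup M} {a c : J n} (hac : IsRoot a c)
    (h : ∀ w : P, Ys a w * X a c (Q0 w) ∈ K) :
    (∀ u : F, X a c u ∈ K) ∧ ∀ w : P, Ys a w ∈ K := by
  have hcomm : ∀ (w : P) (t : F), Ys a w * X a c t = X a c t * Ys a w :=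
    hB.ycomm a a c hac hac.1.symm (ne_ng_self a)
  have key : ∀ w v : P, X a c (-(QuadraticMap.polar Q0 w v)) ∈ K := by
    intro w v
    have e : X a c (-(QuadraticMap.polar Q0 w v)) =
        (Ys a w * X a c (Q0 w)) * (Ys a v * X a c (Q0 v)) *
          (Ys a (w + v) * X a c (Q0 (w + v)))⁻¹ := by
      rw [eq_mul_inv_iff_mul_eq]
      calc X a c (-(QuadraticMap.polar Q0 w v)) * (Ys a (w + v) * X a c (Q0 (w + v)))
          = Ys a (w + v) * (X a c (-(QuadraticMap.polar Q0 w v)) * X a c (Q0 (w + v))) := by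
            rw [← mul_assoc, ← hcomm, mul_assoc]
        _ = Ys a (w + v) * X a c (Q0 w + Q0 v) := by
            rw [← hB.dX.add a c hac]
            congr 2
            unfold QuadraticMap.polar
            ring
        _ = Ys a w * X a c (Q0 w) * (Ys a v * X a c (Q0 v)) := by
            rw [hB.yadd, hB.dX.add a c hac]
            rw [mul_assoc (Ys a w) (X a c (Q0 w)), ← mul_assoc (X a c (Q0 w)) (Ys a v),
              ← hcomm v (Q0 w), mul_assoc (Ys a v), ← mul_assoc (Ys a w)]
    rw [e]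
    exact K.mul_mem (K.mul_mem (h w) (h v)) (K.inv_mem (h (w + v)))
  obtain ⟨w, v, hwv⟩ := hnd
  have hX : ∀ u : F, X a c u ∈ K := by
    intro u
    have := key ((-u / QuadraticMap.polar Q0 w v) • w) v
    rw [QuadraticMap.polar_smul_left, smul_eq_mul] at this
    have e : -(-u / QuadraticMap.polar Q0 w v * QuadraticMap.polar Q0 w v) = u := by
      field_simp
    rwa [e] at this
  refine ⟨hX, fun w => ?_⟩
  have := K.mul_mem (h w) (K.inv_mem (hX (Q0 w)))
  rwa [mul_inv_cancel_right] at this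

theorem short_mem (hn : 3 ≤ n) (hnd : ∃ w v : P, QuadraticMap.polar Q0 w v ≠ 0)
    (hB : QRel Q0 X Ys) (a : J n) (u : P) :
    Ys a u ∈ KS Q0 X Ys := by
  let j₀ : Fin n := ⟨n - 1, by omega⟩
  have hj₀ : j₀.val + 1 = n := by show n - 1 + 1 = n; omega
  rcases a with i | i
  · by_cases hi : i = j₀
    · rw [hi]; exact (last_mem j₀ hj₀ u).1
    · refine (split_mem hnd hB (K := KS Q0 X Ys) (a := Sum.inl i) (c := Sum.inr j₀)
        (isRoot_lr hi) ?_).2 u
      intro w
      have := hB.xy _ _ (isRoot_ll hi) 1 w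
      rw [ng_inl, one_smul, one_mul] at this
      rw [← this]
      exact cm_mem (ll_mem hB hi 1) (last_mem j₀ hj₀ w).1
  · by_cases hi : i = j₀
    · rw [hi]; exact (last_mem j₀ hj₀ u).2
    · refine (split_mem hnd hB (K := KS Q0 X Ys) (a := Sum.inr i) (c := Sum.inl j₀)
        (isRoot_rl hi) ?_).2 u
      intro w
      have := hB.xy _ _ (isRoot_rr hi) 1 w
      rw [ng_inr, one_smul, one_mul] at this
      rw [← this]
      exact cm_mem (rr_mem hB hi 1) (last_mem j₀ hj₀ w).2

theorem long_mem (hn : 3 ≤ n) (hnd : ∃ w v : P, QuadraticMap.polar Q0 w v ≠ 0)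
    (hB : QRel Q0 X Ys) {a b : J n}
    (hab : IsRoot a b) (u : F) : X a b u ∈ KS Q0 X Ys := by
  rcases a with i | i <;> rcases b with j | j
  · exact ll_mem hB (fun e => hab.1 (by rw [e])) u
  · have hij : i ≠ j := fun e => hab.2 (by rw [e]; rfl)
    obtain ⟨w, v, hwv⟩ := id hnd
    have := hB.yy _ _ (isRoot_ll hij) ((-u / QuadraticMap.polar Q0 w v) • w) v
    rw [ng_inl, QuadraticMap.polar_smul_left, smul_eq_mul] at this
    have e : -(-u / QuadraticMap.polar Q0 w v * QuadraticMap.polar Q0 w v) = u := by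
      field_simp
    rw [e] at this
    rw [← this]
    exact cm_mem (short_mem hn hnd hB _ _) (short_mem hn hnd hB _ _)
  · have hij : i ≠ j := fun e => hab.2 (by rw [e]; rfl)
    obtain ⟨w, v, hwv⟩ := id hnd
    have := hB.yy _ _ (isRoot_rr hij) ((-u / QuadraticMap.polar Q0 w v) • w) v
    rw [ng_inr, QuadraticMap.polar_smul_left, smul_eq_mul] at this
    have e : -(-u / QuadraticMap.polar Q0 w v * QuadraticMap.polar Q0 w v) = u := by
      field_simp
    rw [e] at this
    rw [← this]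
    exact cm_mem (short_mem hn hnd hB _ _) (short_mem hn hnd hB _ _)
  · exact rr_mem hB (fun e => hab.1 (by rw [e])) u

end GENQ

/-! ### GENQ: the simple root subgroups and their opposites generate -/

theorem closure_simple_eq_top (hn : 3 ≤ n) (hnd : ∃ w v : P, QuadraticMap.polar Q0 w v ≠ 0)
    (hB : QRel Q0 X Ys)
    (hgen : Subgroup.closure ({g : M | ∃ a b, ∃ t : F, IsRoot a b ∧ g = X a b t} ∪
      {g | ∃ a, ∃ w : P, g = Ys a w}) = ⊤) :
    Subgroup.closure {g | ∃ s, (datumQ Q0 X Ys).Simple s ∧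
      (g ∈ (datumQ Q0 X Ys).U s ∨ g ∈ (datumQ Q0 X Ys).U ((datumQ Q0 X Ys).neg s))} = ⊤ := by
  rw [eq_top_iff, ← hgen]
  apply (Subgroup.closure_le _).2
  rintro g (⟨a, b, t, hab, rfl⟩ | ⟨a, t, rfl⟩)
  · exact GENQ.long_mem hn hnd hB hab t
  · exact GENQ.short_mem hn hnd hB a t

end Cfsg.Agent.S2099P
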