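import Mathlib
import Cfsg.Agent.Helper2.S2099.DefsR
import Cfsg.Agent.Helper2.S2099.DefsN
import Cfsg.Agent.Helper2.S2099.DefsZ
import Cfsg.Agent.Helper2.S2096.Defs
import Cfsg.Agent.Helper25.S2096WXID
import Cfsg.Agent.Helper5.S2096TXID
import Cfsg.Agent.Helper23.S2099WCONJWQ

set_option autoImplicit false
set_option linter.unusedSectionVars false
set_option linter.unusedVariables false

/-! S2099 chapter Z, piece HLONGQ (driver helper2; helper15): the torus element of the long root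
`ε_a + ε_b` in terms of those of `ε_a - ε_b` and of the short root `ε_b`.
Port of `Cfsg.Agent.Helper26.S2094HLONG`. -/

namespace Cfsg.Agent.S2099P

open Matrix Cfsg.Agent.S3352P Cfsg.Agent.S3351P Cfsg.Agent.S2096P Cfsg.Agent.S2086P Cfsg.Agent.RGD
  Cfsg.Agent.Helper2
open Cfsg.Agent.S2094P (RB RootB sc NgEquivariant mapB reflB MD XD XD_coe isRoot_ng_right'
  isRoot_ng_left' sw_ngEquivariant sc_ngEquivariant)

section formal

variable {n : ℕ} {F : Type*} [Field F] {P : Type*} [AddCommGroup P] [Module F P]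
  {M : Type*} [Group M] {Q0 : QuadraticForm F P} {X : J n → J n → F → M} {Ys : J n → P → M}

namespace HLONGQ

theorem conj_mul2 (g x y : M) : g * (x * y) * g⁻¹ = (g * x * g⁻¹) * (g * y * g⁻¹) := by group

theorem Q0_smul_e (e₁ : P) (he₁ : Q0 e₁ = 1) (t : F) : Q0 (t • e₁) = t * t := by
  rw [QuadraticMap.map_smul, he₁, smul_eq_mul, mul_one]

/-- first computation: factorwise -/
theorem conj_tX [Fintype F] (hn : 3 ≤ n) (hB : QRel Q0 X Ys) {e₁ : P} (he₁ : Q0 e₁ = 1)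
    {a b : J n} (hab : IsRoot a b) {t : F} (ht : t ≠ 0) :
    wY Q0 Ys b (t • e₁) * tX X a b t * (wY Q0 Ys b (t • e₁))⁻¹ = tX X a (ng b) t := by
  have hab' : IsRoot a (ng b) := isRoot_ng_right' hab
  have hX := hB.dX
  have h1 : (-1 : F) ≠ 0 := neg_ne_zero.mpr one_ne_zero
  have hq : Q0 (t • e₁) = t * t := Q0_smul_e e₁ he₁ t
  have hw : Q0 (t • e₁) ≠ 0 := by rw [hq]; exact mul_ne_zero ht ht
  have htt : -(t * t) ≠ 0 := neg_ne_zero.mpr (mul_ne_zero ht ht)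
  have e1 : wY Q0 Ys b (t • e₁) * wX X a b t * (wY Q0 Ys b (t • e₁))⁻¹ =
      wX X a (ng b) (-(t * t * t)) := by
    rw [wY_conj_wX_snd hB hab hw ht, hq]
  have e2 : wY Q0 Ys b (t • e₁) * wX X a b (-1) * (wY Q0 Ys b (t • e₁))⁻¹ =
      (wX X a (ng b) (-(t * t)))⁻¹ := by
    rw [wY_conj_wX_snd hB hab hw h1, wX_inv' hX hab', hq]
    congr 1
    ring
  have e3 : tX X a (ng b) (-(t * t * t)) = tX X a (ng b) t * tX X a (ng b) (-(t * t)) := by
    rw [← tX_mul hn hX hab' ht htt]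
    congr 1
    ring
  have e4 : wY Q0 Ys b (t • e₁) * tX X a b t * (wY Q0 Ys b (t • e₁))⁻¹ =
      (wY Q0 Ys b (t • e₁) * wX X a b t * (wY Q0 Ys b (t • e₁))⁻¹) *
        (wY Q0 Ys b (t • e₁) * wX X a b (-1) * (wY Q0 Ys b (t • e₁))⁻¹) := by
    rw [← conj_mul2]; rfl
  rw [e4, e1, e2, wX_eq_tX_mul hX hab' (-(t * t * t)), wX_eq_tX_mul hX hab' (-(t * t)), e3]
  group

/-- the torus element `tX X a b t` acting on `wY b (t • e₁)` -/
theorem tX_conj_wY (hB : QRel Q0 X Ys) (e₁ : P) {a b : J n} (hab : IsRoot a b) {t : F}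
    (ht : t ≠ 0) :
    tX X a b t * wY Q0 Ys b (t • e₁) * (tX X a b t)⁻¹ = wY Q0 Ys b e₁ := by
  have h1 : (-1 : F) ≠ 0 := neg_ne_zero.mpr one_ne_zero
  have e : tX X a b t * wY Q0 Ys b (t • e₁) * (tX X a b t)⁻¹ =
      wX X a b t * (wX X a b (-1) * wY Q0 Ys b (t • e₁) * (wX X a b (-1))⁻¹) *
        (wX X a b t)⁻¹ := by
    unfold tX; group
  rw [e, wX_conj_wY_snd hB hab h1, wX_conj_wY_fst hB hab ht]
  congr 1
  rw [smul_smul, smul_smul, ← neg_smul]
  have : -(t⁻¹ * -1 * t) = 1 := by field_simp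
  rw [this, one_smul]

end HLONGQ

/-- HLONGQ: the torus element of the long root `ε_a + ε_b` in terms of `ε_a - ε_b` and `ε_b` -/
theorem tX_ng_eq [Finite F] (hn : 3 ≤ n) (hB : QRel Q0 X Ys) {e₁ : P} (he₁ : Q0 e₁ = 1)
    {a b : J n} (hab : IsRoot a b) {t : F} (ht : t ≠ 0) :
    tX X a (ng b) t = tY Q0 Ys e₁ b (t • e₁) * tX X a b t := by
  have : Fintype F := Fintype.ofFinite F
  rw [← HLONGQ.conj_tX hn hB he₁ hab ht]
  have h1 := HLONGQ.tX_conj_wY hB e₁ hab ht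
  -- `W T W⁻¹ = W (T W T⁻¹)⁻¹ T`
  have e : wY Q0 Ys b (t • e₁) * tX X a b t * (wY Q0 Ys b (t • e₁))⁻¹ =
      wY Q0 Ys b (t • e₁) * (tX X a b t * wY Q0 Ys b (t • e₁) * (tX X a b t)⁻¹)⁻¹ *
        tX X a b t := by group
  rw [e, h1]
  rfl

end formal

end Cfsg.Agent.S2099P
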