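import Mathlib
import Cfsg.Agent.Helper2.S2099.DefsR
import Cfsg.Agent.Helper2.S2099.DefsN
import Cfsg.Agent.Helper2.S2099.DefsZ
import Cfsg.Agent.Helper2.S2096.Defs
import Cfsg.Agent.Helper25.S2096WXID
import Cfsg.Agent.Helper5.S2096TXID
import Cfsg.Agent.Helper23.S2099WCONJWQ
import Cfsg.Agent.Helper19.S2099TORUSQ

set_option autoImplicit false
set_option linter.unusedSectionVars false
set_option linter.unusedVariables false

/-! S2099 chapter Z, piece TYMOVE (driver helper2; helper15): moving the index of a short torus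
element. -/

namespace Cfsg.Agent.S2099P

open Matrix Cfsg.Agent.S3352P Cfsg.Agent.S3351P Cfsg.Agent.S2096P Cfsg.Agent.S2086P Cfsg.Agent.RGD
  Cfsg.Agent.Helper2
open Cfsg.Agent.S2094P (RB RootB sc NgEquivariant mapB reflB MD XD XD_coe isRoot_ng_right'
  isRoot_ng_left' sw_ngEquivariant sc_ngEquivariant)

section formal

variable {n : ℕ} {F : Type*} [Field F] {P : Type*} [AddCommGroup P] [Module F P]
  {M : Type*} [Group M] {Q0 : QuadraticForm F P} {X : J n → J n → F → M} {Ys : J n → P → M}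

namespace TYMOVE

theorem conj_mul2 (g x y : M) : g * (x * y) * g⁻¹ = (g * x * g⁻¹) * (g * y * g⁻¹) := by group

theorem conj_mul3 (g x y z : M) :
    g * (x * y * z) * g⁻¹ = (g * x * g⁻¹) * (g * y * g⁻¹) * (g * z * g⁻¹) := by group

theorem conj_inv' (g x : M) : g * x⁻¹ * g⁻¹ = (g * x * g⁻¹)⁻¹ := by group

/-- `tY a w` is the conjugate of `tY b w` by `wX a b 1` -/
theorem tY_eq_conj (hB : QRel Q0 X Ys) (e₁ : P) {a b : J n} (hab : IsRoot a b) (w : P) :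
    tY Q0 Ys e₁ a w = wX X a b 1 * tY Q0 Ys e₁ b w * (wX X a b 1)⁻¹ := by
  have h1 : (1 : F) ≠ 0 := one_ne_zero
  unfold tY
  rw [conj_mul2, conj_inv', wX_conj_wY_snd hB hab h1, wX_conj_wY_snd hB hab h1, one_smul,
    one_smul]

/-- `tY b w` conjugates `wX a b 1` to `wX a b q⁻¹` -/
theorem tY_conj_wX (hB : QRel Q0 X Ys) {e₁ : P} (he₁ : Q0 e₁ = 1) {a b : J n}
    (hab : IsRoot a b) {w : P} (hw : Q0 w ≠ 0) :
    tY Q0 Ys e₁ b w * wX X a b 1 * (tY Q0 Ys e₁ b w)⁻¹ = wX X a b (Q0 w)⁻¹ := by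
  unfold wX
  rw [conj_mul3, tY_conj_X_snd hB he₁ hab hw, tY_conj_X_fst hB he₁ hab.symm hw, mul_one]
  congr 3
  rw [inv_one, inv_inv, mul_neg, mul_one]

end TYMOVE

open TYMOVE

/-- TYMOVE: moving the index of a short torus element -/
theorem tY_move [Finite F] (hn : 3 ≤ n) (hB : QRel Q0 X Ys) {e₁ : P} (he₁ : Q0 e₁ = 1)
    {a b : J n} (hab : IsRoot a b) {w : P} (hw : Q0 w ≠ 0) :
    tY Q0 Ys e₁ a w = tX X a b (Q0 w) * tY Q0 Ys e₁ b w := by
  have : Fintype F := Fintype.ofFinite F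
  have hX := hB.dX
  have hqi : (Q0 w)⁻¹ ≠ 0 := inv_ne_zero hw
  have e1 : tY Q0 Ys e₁ a w =
      wX X a b 1 * (tY Q0 Ys e₁ b w * wX X a b 1 * (tY Q0 Ys e₁ b w)⁻¹)⁻¹ *
        tY Q0 Ys e₁ b w := by
    rw [tY_eq_conj hB e₁ hab w]
    group
  have e2 : tX X a b (Q0 w) * tX X a b (Q0 w)⁻¹ = 1 := by
    rw [← tX_mul hn hX hab hw hqi, mul_inv_cancel₀ hw, tX_one hX hab]
  have e3 : wX X a b 1 * (wX X a b (Q0 w)⁻¹)⁻¹ = tX X a b (Q0 w) := by
    rw [wX_eq_tX_mul hX hab (Q0 w)⁻¹, _root_.mul_inv_rev, ← mul_assoc, mul_inv_cancel, one_mul]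
    exact (eq_inv_of_mul_eq_one_left e2).symm
  rw [e1, tY_conj_wX hB he₁ hab hw, e3]

end formal

end Cfsg.Agent.S2099P
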