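import Mathlib
import Cfsg.Agent.Helper14.S2264DEGONE
import Cfsg.Agent.Helper14.S2264PARTITION

/-! S2264 piece LUNIP (driver helper29): the lcm of the exponents when all factors are `X ± 1`. -/

set_option autoImplicit false

namespace Cfsg.Agent.S2264P

open Polynomial
open scoped Classical

noncomputable section

variable {F : Type*} [Field F] [Fintype F]

namespace LUNIP

theorem expo_X_sub_one : expo (X - 1 : F[X]) = 1 := by
  unfold expo
  rw [if_pos rfl]

theorem expo_dvd_two_of_isUnip {f : F[X]} (hf : IsUnip f) : expo f ∣ 2 := by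
  rcases hf with rfl | rfl
  · rw [expo_X_sub_one]; exact one_dvd _
  · by_cases h : (X + 1 : F[X]) = X - 1
    · rw [h, expo_X_sub_one]; exact one_dvd _
    · unfold expo
      rw [if_neg h, if_pos rfl]

theorem expo_eq_one_of_isUnip (h2 : (2 : F) = 0) {f : F[X]} (hf : IsUnip f) : expo f = 1 := by
  have h : f = X - 1 := by
    rcases hf with rfl | rfl
    · rfl
    · exact X_add_one_eq_of_two_eq_zero h2
  rw [h, expo_X_sub_one]

theorem Su_lcm_dvd_two (μ : F[X]) : (Su μ).lcm expo ∣ 2 :=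
  Finset.lcm_dvd (fun _ hf => expo_dvd_two_of_isUnip (Finset.mem_filter.mp hf).2)

theorem Su_lcm_eq_one (h2 : (2 : F) = 0) (μ : F[X]) : (Su μ).lcm expo = 1 := by
  apply Nat.dvd_one.mp
  apply Finset.lcm_dvd
  intro f hf
  rw [expo_eq_one_of_isUnip h2 (Finset.mem_filter.mp hf).2]

end LUNIP

theorem Lexp_unip {μ : F[X]} (h : Sm μ ∪ Sp μ = ∅) :
    Lexp μ ∣ 2 ∧ ((2 : F) = 0 → Lexp μ = 1) := by
  have hfac : facs μ = Su μ := by
    rw [facs_eq_union, h, Finset.union_empty]
  unfold Lexp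
  rw [hfac]
  exact ⟨LUNIP.Su_lcm_dvd_two μ, fun h2 => LUNIP.Su_lcm_eq_one h2 μ⟩

end

end Cfsg.Agent.S2264P
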