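import Mathlib
import Cfsg.Agent.Helper15.S2264LUNIP
import Cfsg.Agent.Helper15.S2264LNUM
import Cfsg.Agent.Helper21.S2264SELFREC
import Cfsg.Agent.Helper7.S2264FACS

/-! S2264 piece LEXP (driver helper29): the bound on the lcm of the exponents. -/

set_option autoImplicit false

namespace Cfsg.Agent.S2264P

open Polynomial
open scoped Classical

noncomputable section

variable {F : Type*} [Field F] [Fintype F]

namespace LEXP

theorem expo_of_mem_Sm {μ f : F[X]} (hf : f ∈ Sm μ) :
    expo f = Fintype.card F ^ (f.natDegree / 2) + 1 := by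
  obtain ⟨_, hr, hu⟩ := Finset.mem_filter.mp hf
  unfold expo
  rw [if_neg (fun h => hu (Or.inl h)), if_neg (fun h => hu (Or.inr h)), if_pos hr]

theorem expo_of_mem_Sp {μ f : F[X]} (hf : f ∈ Sp μ) :
    expo f = Fintype.card F ^ f.natDegree - 1 := by
  obtain ⟨_, hr⟩ := Finset.mem_filter.mp hf
  have hu : ¬ IsUnip f := fun h => hr (recip_of_isUnip h)
  unfold expo
  rw [if_neg (fun h => hu (Or.inl h)), if_neg (fun h => hu (Or.inr h)), if_neg hr]

theorem Sm_lcm (μ : F[X]) :
    (Sm μ).lcm expo = (Dm μ).lcm (fun a => Fintype.card F ^ a + 1) := by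
  unfold Dm
  rw [Finset.lcm_image]
  exact Finset.lcm_congr rfl (fun f hf => expo_of_mem_Sm hf)

theorem Sp_lcm (μ : F[X]) :
    (Sp μ).lcm expo = (Dp μ).lcm (fun d => Fintype.card F ^ d - 1) := by
  unfold Dp
  rw [Finset.lcm_image]
  exact Finset.lcm_congr rfl (fun f hf => expo_of_mem_Sp hf)

theorem Lexp_eq (μ : F[X]) :
    Lexp μ = Nat.lcm ((Su μ).lcm expo)
      (Nat.lcm ((Dm μ).lcm (fun a => Fintype.card F ^ a + 1))
        ((Dp μ).lcm (fun d => Fintype.card F ^ d - 1))) := by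
  unfold Lexp
  rw [facs_eq_union, Finset.lcm_union, Finset.lcm_union, Sm_lcm, Sp_lcm]
  rfl

theorem two_eq_zero_of_even_card (h : Even (Fintype.card F)) : (2 : F) = 0 := by
  have h1 : ringChar F = 2 := by
    rw [FiniteField.even_card_iff_char_two]
    exact Nat.even_iff.mp h
  have h2 : ((ringChar F : ℕ) : F) = 0 := ringChar.Nat.cast_ringChar
  rw [h1] at h2
  exact_mod_cast h2

end LEXP

open LEXP in
theorem Lexp_bound {μ : F[X]} (hμ : Good μ) (h : (Sm μ ∪ Sp μ).Nonempty) :
    (Fintype.card F - 1) * Lexp μ ≤ Fintype.card F ^ (Aw μ + 1) := by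
  have hμ0 : μ ≠ 0 := hμ.monic.ne_zero
  rw [Lexp_eq]
  unfold Aw
  apply lnum
  · exact Fintype.one_lt_card
  · intro a ha
    unfold Dm at ha
    obtain ⟨f, hf, rfl⟩ := Finset.mem_image.mp ha
    obtain ⟨hfac, hr, hu⟩ := Finset.mem_filter.mp hf
    obtain ⟨hirr, hmon, _⟩ := (mem_facs hμ0).mp hfac
    have := (selfrec_even hirr hmon hr hu).1
    omega
  · intro d hd
    unfold Dp at hd
    obtain ⟨f, hf, rfl⟩ := Finset.mem_image.mp hd
    obtain ⟨hfac, _⟩ := Finset.mem_filter.mp hf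
    obtain ⟨hirr, _, _⟩ := (mem_facs hμ0).mp hfac
    exact Polynomial.natDegree_pos_iff_degree_pos.mpr (Polynomial.degree_pos_of_irreducible hirr)
  · rcases Finset.union_nonempty.mp h with h1 | h1
    · left; exact h1.image _
    · right; exact h1.image _
  · exact LUNIP.Su_lcm_dvd_two μ
  · intro he
    exact LUNIP.Su_lcm_eq_one (two_eq_zero_of_even_card he) μ

end

end Cfsg.Agent.S2264P
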