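import Cfsg.Agent.Helper21.S2286DEFS

/-! S2286 piece MAT (driver helper21): matrix lemmas in `SL(2,F)`. -/

set_option autoImplicit false
set_option linter.unusedSimpArgs false

namespace Cfsg.Agent.Helper21.S2286

open Polynomial Multiplicative

section mat
variable {F : Type*} [Field F]

namespace MAT

theorem sl_ext {A B : Matrix.SpecialLinearGroup (Fin 2) F} (h00 : A.1 0 0 = B.1 0 0)
    (h01 : A.1 0 1 = B.1 0 1) (h10 : A.1 1 0 = B.1 1 0) (h11 : A.1 1 1 = B.1 1 1) : A = B := by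
  apply Subtype.ext
  ext i j
  fin_cases i <;> fin_cases j <;> assumption

theorem mul_00 (A B : Matrix.SpecialLinearGroup (Fin 2) F) :
    (A * B).1 0 0 = A.1 0 0 * B.1 0 0 + A.1 0 1 * B.1 1 0 := by
  rw [Matrix.SpecialLinearGroup.coe_mul, Matrix.mul_apply, Fin.sum_univ_two]

theorem mul_01 (A B : Matrix.SpecialLinearGroup (Fin 2) F) :
    (A * B).1 0 1 = A.1 0 0 * B.1 0 1 + A.1 0 1 * B.1 1 1 := by
  rw [Matrix.SpecialLinearGroup.coe_mul, Matrix.mul_apply, Fin.sum_univ_two]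

theorem mul_10 (A B : Matrix.SpecialLinearGroup (Fin 2) F) :
    (A * B).1 1 0 = A.1 1 0 * B.1 0 0 + A.1 1 1 * B.1 1 0 := by
  rw [Matrix.SpecialLinearGroup.coe_mul, Matrix.mul_apply, Fin.sum_univ_two]

theorem mul_11 (A B : Matrix.SpecialLinearGroup (Fin 2) F) :
    (A * B).1 1 1 = A.1 1 0 * B.1 0 1 + A.1 1 1 * B.1 1 1 := by
  rw [Matrix.SpecialLinearGroup.coe_mul, Matrix.mul_apply, Fin.sum_univ_two]

theorem x_00 (a : F) : (x a).1 0 0 = 1 := rfl
theorem x_01 (a : F) : (x a).1 0 1 = a := rfl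
theorem x_10 (a : F) : (x a).1 1 0 = 0 := rfl
theorem x_11 (a : F) : (x a).1 1 1 = 1 := rfl
theorem hh_00 (s : Fˣ) : (hh s).1 0 0 = (s : F) := rfl
theorem hh_01 (s : Fˣ) : (hh s).1 0 1 = 0 := rfl
theorem hh_10 (s : Fˣ) : (hh s).1 1 0 = 0 := rfl
theorem hh_11 (s : Fˣ) : (hh s).1 1 1 = ((s⁻¹ : Fˣ) : F) := rfl
theorem t0_00 : (t0 : Matrix.SpecialLinearGroup (Fin 2) F).1 0 0 = 0 := rfl
theorem t0_01 : (t0 : Matrix.SpecialLinearGroup (Fin 2) F).1 0 1 = 1 := rfl
theorem t0_10 : (t0 : Matrix.SpecialLinearGroup (Fin 2) F).1 1 0 = -1 := rfl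
theorem t0_11 : (t0 : Matrix.SpecialLinearGroup (Fin 2) F).1 1 1 = 0 := rfl
theorem one_00 : (1 : Matrix.SpecialLinearGroup (Fin 2) F).1 0 0 = 1 := by simp
theorem one_01 : (1 : Matrix.SpecialLinearGroup (Fin 2) F).1 0 1 = 0 := by simp
theorem one_10 : (1 : Matrix.SpecialLinearGroup (Fin 2) F).1 1 0 = 0 := by simp
theorem one_11 : (1 : Matrix.SpecialLinearGroup (Fin 2) F).1 1 1 = 1 := by simp

end MAT

open MAT in
theorem x_add (a b : F) : x (a + b) = x a * x b := by
  apply sl_ext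
  · rw [mul_00]; simp only [x_00, x_01, x_10, x_11]; ring
  · rw [mul_01]; simp only [x_00, x_01, x_10, x_11]; ring
  · rw [mul_10]; simp only [x_00, x_01, x_10, x_11]; ring
  · rw [mul_11]; simp only [x_00, x_01, x_10, x_11]; ring

open MAT in
theorem x_zero : x (0 : F) = 1 := by
  apply sl_ext
  · rw [one_00, x_00]
  · rw [one_01, x_01]
  · rw [one_10, x_10]
  · rw [one_11, x_11]

open MAT in
theorem x_injective : Function.Injective (x : F → _) := by
  intro a b hab
  have := congrArg (fun A : Matrix.SpecialLinearGroup (Fin 2) F => A.1 0 1) hab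
  simpa only [x_01] using this

theorem MAT.unit_mul_inv (s : Fˣ) : (s : F) * ((s⁻¹ : Fˣ) : F) = 1 := by
  rw [← Units.val_mul, mul_inv_cancel, Units.val_one]

theorem MAT.unit_inv_mul (s : Fˣ) : ((s⁻¹ : Fˣ) : F) * (s : F) = 1 := by
  rw [← Units.val_mul, inv_mul_cancel, Units.val_one]

open MAT in
theorem hh_conj (s : Fˣ) (a : F) : hh s * x a * (hh s)⁻¹ = x ((s : F) ^ 2 * a) := by
  rw [mul_inv_eq_iff_eq_mul]
  apply sl_ext
  · rw [mul_00, mul_00]; simp only [x_00, x_01, x_10, x_11, hh_00, hh_01, hh_10, hh_11]; ring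
  · rw [mul_01, mul_01]; simp only [x_00, x_01, x_10, x_11, hh_00, hh_01, hh_10, hh_11]
    have := unit_mul_inv s
    linear_combination (-(s : F) * a) * this
  · rw [mul_10, mul_10]; simp only [x_00, x_01, x_10, x_11, hh_00, hh_01, hh_10, hh_11]; ring
  · rw [mul_11, mul_11]; simp only [x_00, x_01, x_10, x_11, hh_00, hh_01, hh_10, hh_11]; ring

open MAT in
theorem MAT.hh_mul (s r : Fˣ) : hh (s * r) = hh s * hh r := by
  apply sl_ext
  · rw [mul_00]; simp only [hh_00, hh_01, hh_10, hh_11, Units.val_mul]; ring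
  · rw [mul_01]; simp only [hh_00, hh_01, hh_10, hh_11]; ring
  · rw [mul_10]; simp only [hh_00, hh_01, hh_10, hh_11]; ring
  · rw [mul_11]; simp only [hh_00, hh_01, hh_10, hh_11, mul_inv, Units.val_mul]; ring

open MAT in
theorem MAT.hh_one : hh (1 : Fˣ) = 1 := by
  apply sl_ext
  · rw [one_00, hh_00, Units.val_one]
  · rw [one_01, hh_01]
  · rw [one_10, hh_10]
  · rw [one_11, hh_11, inv_one, Units.val_one]

/-- `hh` as a monoid hom. -/
def MAT.hhHom : Fˣ →* Matrix.SpecialLinearGroup (Fin 2) F where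
  toFun := hh
  map_one' := MAT.hh_one
  map_mul' := MAT.hh_mul

theorem hh_zpow (s : Fˣ) (j : ℤ) : hh s ^ j = hh (s ^ j) :=
  (map_zpow (MAT.hhHom (F := F)) s j).symm

open MAT in
theorem t0_hh (s : Fˣ) : t0 * hh s * t0⁻¹ = (hh s)⁻¹ := by
  rw [mul_inv_eq_iff_eq_mul, eq_inv_mul_iff_mul_eq]
  apply sl_ext
  · rw [mul_00, mul_00]
    simp only [t0_00, t0_01, t0_10, t0_11, hh_00, hh_01, hh_10, hh_11]; ring
  · rw [mul_01, mul_01]
    simp only [t0_00, t0_01, t0_10, t0_11, hh_00, hh_01, hh_10, hh_11]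
    have := unit_mul_inv s
    linear_combination this
  · rw [mul_10, mul_10]
    simp only [t0_00, t0_01, t0_10, t0_11, hh_00, hh_01, hh_10, hh_11]
    have := unit_mul_inv s
    linear_combination -this
  · rw [mul_11, mul_11]
    simp only [t0_00, t0_01, t0_10, t0_11, hh_00, hh_01, hh_10, hh_11]; ring

open MAT in
theorem t0_sq : (t0 : Matrix.SpecialLinearGroup (Fin 2) F) * t0 = hh (-1) := by
  apply sl_ext
  · rw [mul_00]; simp only [t0_00, t0_01, t0_10, t0_11, hh_00, hh_01, hh_10, hh_11]; simp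
  · rw [mul_01]; simp only [t0_00, t0_01, t0_10, t0_11, hh_00, hh_01, hh_10, hh_11]; simp
  · rw [mul_10]; simp only [t0_00, t0_01, t0_10, t0_11, hh_00, hh_01, hh_10, hh_11]; simp
  · rw [mul_11]; simp only [t0_00, t0_01, t0_10, t0_11, hh_00, hh_01, hh_10, hh_11]; simp

open MAT in
theorem weyl_mat (s : Fˣ) :
    t0 * x ((s⁻¹ : Fˣ) : F) * t0⁻¹ = x (-(s : F)) * hh s * t0 * x (-(s : F)) := by
  rw [mul_inv_eq_iff_eq_mul]
  have h1 := unit_mul_inv s
  have h2 := unit_inv_mul s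
  apply sl_ext
  all_goals simp only [mul_00, mul_01, mul_10, mul_11, t0_00, t0_01, t0_10, t0_11, hh_00, hh_01,
      hh_10, hh_11, x_00, x_01, x_10, x_11]
  · linear_combination (-(s : F)) * h1
  · linear_combination -h1
  · linear_combination h2
  · ring

open MAT in
theorem braid_mat_two [CharP F 2] : x (1 : F) * t0 * x 1 = t0 * x 1 * t0 := by
  have h2 : (2 : F) = 0 := CharTwo.two_eq_zero
  have hneg : (-1 : F) = 1 := by linear_combination -h2
  apply sl_ext
  all_goals simp only [mul_00, mul_01, mul_10, mul_11, t0_00, t0_01, t0_10, t0_11, x_00, x_01,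
      x_10, x_11]
  · ring
  · ring
  · linear_combination hneg
  · ring

theorem cj_mat (s : Fˣ) (a : F) (i : ℤ) : cj (hh s) (x a) i = x (((s : F) ^ 2) ^ i * a) := by
  unfold cj
  rw [hh_zpow, hh_conj]
  congr 2
  rw [Units.val_zpow_eq_zpow_val, ← zpow_natCast, ← zpow_natCast, ← zpow_mul, ← zpow_mul, mul_comm]

theorem MAT.x_pow (a : F) (n : ℕ) : x a ^ n = x ((n : F) * a) := by
  induction n with
  | zero => simp [x_zero]
  | succ k ih => rw [pow_succ, ih, ← x_add]; congr 1; push_cast; ring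

theorem prodA_mat (s : Fˣ) (c : ℕ → ℕ) (n : ℕ) :
    prodA (hh s) (x (1 : F)) c n = x (ev ((s : F) ^ 2) c n) := by
  unfold prodA ev
  induction n with
  | zero => simp [x_zero]
  | succ k ih =>
    rw [List.range_succ, List.map_append, List.prod_append, ih, Finset.sum_range_succ, x_add]
    congr 1
    rw [List.map_singleton, List.prod_singleton, cj_mat, MAT.x_pow, zpow_natCast, mul_one]

theorem MAT.det_eq (g : Matrix.SpecialLinearGroup (Fin 2) F) :
    g.1 0 0 * g.1 1 1 - g.1 0 1 * g.1 1 0 = 1 := by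
  have := g.2
  rwa [Matrix.det_fin_two] at this

open MAT in
theorem MAT.mem_of_ne (g : Matrix.SpecialLinearGroup (Fin 2) F) (hc : g.1 1 0 ≠ 0) :
    g ∈ Subgroup.closure (({t0} : Set (Matrix.SpecialLinearGroup (Fin 2) F)) ∪ Set.range x) := by
  set H := Subgroup.closure (({t0} : Set (Matrix.SpecialLinearGroup (Fin 2) F)) ∪ Set.range x)
  have ht : (t0 : Matrix.SpecialLinearGroup (Fin 2) F) ∈ H :=
    Subgroup.subset_closure (Or.inl rfl)
  have hx : ∀ a : F, x a ∈ H := fun a => Subgroup.subset_closure (Or.inr ⟨a, rfl⟩)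
  set a := g.1 0 0 with ha
  set b := g.1 0 1 with hb
  set c := g.1 1 0 with hc'
  set d := g.1 1 1 with hd
  have hdet : a * d - b * c = 1 := MAT.det_eq g
  have key : g * x (-((d - 1) / c)) * t0 = x ((a - 1) / c) * t0 * x (-c) := by
    apply sl_ext
    all_goals simp only [mul_00, mul_01, mul_10, mul_11, t0_00, t0_01, t0_10, t0_11, x_00, x_01,
      x_10, x_11, ← ha, ← hb, ← hc', ← hd]
    · field_simp
      linear_combination hdet
    · field_simp
      ring
    · field_simp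
      ring
    · ring
  have : g = (x ((a - 1) / c) * t0 * x (-c)) * t0⁻¹ * (x (-((d - 1) / c)))⁻¹ := by
    rw [← key]; group
  rw [this]
  exact H.mul_mem (H.mul_mem (H.mul_mem (H.mul_mem (hx _) ht) (hx _)) (H.inv_mem ht))
    (H.inv_mem (hx _))

open MAT in
theorem sl2_gen : Subgroup.closure (({t0} : Set (Matrix.SpecialLinearGroup (Fin 2) F)) ∪ Set.range x) = ⊤ := by
  rw [eq_top_iff]
  intro g _
  by_cases hc : g.1 1 0 = 0
  · have ht : (t0 : Matrix.SpecialLinearGroup (Fin 2) F) ∈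
        Subgroup.closure (({t0} : Set (Matrix.SpecialLinearGroup (Fin 2) F)) ∪ Set.range x) :=
      Subgroup.subset_closure (Or.inl rfl)
    have hdet := MAT.det_eq g
    rw [hc, mul_zero, sub_zero] at hdet
    have ha : g.1 0 0 ≠ 0 := left_ne_zero_of_mul_eq_one hdet
    have h2 : (t0 * g).1 1 0 ≠ 0 := by
      rw [mul_10, t0_10, t0_11, zero_mul, add_zero, neg_one_mul]
      exact neg_ne_zero.mpr ha
    have h3 := MAT.mem_of_ne (t0 * g) h2
    have : g = t0⁻¹ * (t0 * g) := by group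
    rw [this]
    exact Subgroup.mul_mem _ (Subgroup.inv_mem _ ht) h3
  · exact MAT.mem_of_ne g hc

open MAT in
/-- lower-left entries of the two Bruhat forms -/
theorem borel_entries (a : F) (s : Fˣ) :
    (x a * hh s).1 1 0 = 0 ∧ (x a * hh s).1 0 0 = (s : F) ∧ (x a * hh s).1 0 1 = a * ((s⁻¹ : Fˣ) : F) := by
  refine ⟨?_, ?_, ?_⟩
  all_goals simp only [mul_00, mul_01, mul_10, mul_11, hh_00, hh_01, hh_10, hh_11, x_00, x_01,
      x_10, x_11]
  all_goals ring

open MAT in
theorem bigcell_entry (a : F) (s : Fˣ) (b : F) : (x a * hh s * t0 * x b).1 1 0 ≠ 0 := by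
  simp only [mul_00, mul_01, mul_10, mul_11, hh_00, hh_01, hh_10, hh_11, x_00, x_01,
      x_10, x_11, t0_00, t0_01, t0_10, t0_11]
  have : ((s⁻¹ : Fˣ) : F) ≠ 0 := Units.ne_zero _
  intro h
  apply this
  linear_combination -h

end mat

end Cfsg.Agent.Helper21.S2286
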