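import Mathlib
import Cfsg.Agent.Helper14.GLk.Defs
import Cfsg.Agent.Helper14.SLk.Defs

set_option autoImplicit false

/-! S2479, piece SLGL: `SL_n(F) ≃* ker det`, class numbers, and the index of `ker det`. -/

namespace Cfsg.Agent.S2479P

open Polynomial DirectSum Cfsg.Agent.S2478P

universe u

namespace SLGL

/-- `SL_n(F)` is isomorphic to the kernel of the determinant on `GL_n(F)`. -/
def slEquivKer {F : Type u} [Field F] (n : ℕ) :
    Matrix.SpecialLinearGroup (Fin n) F ≃*
      (Matrix.GeneralLinearGroup.det : Matrix.GeneralLinearGroup (Fin n) F →* Fˣ).ker where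
  toFun A := ⟨Matrix.SpecialLinearGroup.toGL A, by
    rw [MonoidHom.mem_ker]
    exact Matrix.SpecialLinearGroup.coeToGL_det A⟩
  invFun g := ⟨(g.1 : Matrix (Fin n) (Fin n) F), by
    have h := g.2
    rw [MonoidHom.mem_ker] at h
    have h2 := congrArg Units.val h
    simpa using h2⟩
  left_inv A := Subtype.ext rfl
  right_inv g := Subtype.ext (Units.ext rfl)
  map_mul' A B := Subtype.ext (map_mul Matrix.SpecialLinearGroup.toGL A B)

theorem card_conjClasses_congr {G H : Type*} [Group G] [Group H] (e : G ≃* H) :
    Nat.card (ConjClasses G) = Nat.card (ConjClasses H) := by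
  apply Nat.card_congr
  exact
    { toFun := ConjClasses.map e.toMonoidHom
      invFun := ConjClasses.map e.symm.toMonoidHom
      left_inv := by
        intro c
        obtain ⟨a, rfl⟩ := ConjClasses.mk_surjective c
        show ConjClasses.mk (e.symm (e a)) = ConjClasses.mk a
        rw [MulEquiv.symm_apply_apply]
      right_inv := by
        intro c
        obtain ⟨a, rfl⟩ := ConjClasses.mk_surjective c
        show ConjClasses.mk (e (e.symm a)) = ConjClasses.mk a
        rw [MulEquiv.apply_symm_apply] }

end SLGL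

-- piece SLGL
theorem card_conjClasses_sl {F : Type u} [Field F] [Fintype F] (n : ℕ) :
    Nat.card (ConjClasses (Matrix.SpecialLinearGroup (Fin n) F)) =
      Nat.card (ConjClasses
        (Matrix.GeneralLinearGroup.det : Matrix.GeneralLinearGroup (Fin n) F →* Fˣ).ker) :=
  SLGL.card_conjClasses_congr (SLGL.slEquivKer n)

-- piece SLGL
theorem index_ker_det {F : Type u} [Field F] [Fintype F] (n : ℕ) (hn : 1 ≤ n) :
    (Matrix.GeneralLinearGroup.det : Matrix.GeneralLinearGroup (Fin n) F →* Fˣ).ker.index =
      Fintype.card F - 1 := by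
  haveI : Nonempty (Fin n) := ⟨⟨0, hn⟩⟩
  rw [Subgroup.index_ker, MonoidHom.range_eq_top.mpr Matrix.GeneralLinearGroup.det_surjective,
    Subgroup.card_top, Nat.card_units, Nat.card_eq_fintype_card]

end Cfsg.Agent.S2479P
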