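import Mathlib
import Cfsg.Agent.Helper14.GLk.Defs
import Cfsg.Agent.Helper14.SLk.Defs
import Cfsg.Agent.Helper14.PSLk.Defs

set_option autoImplicit false

/-! S2480, piece CENTERSL: the centre of `SL_n(F)` consists of the scalar matrices `c • 1`,
`c ^ n = 1`, and has `gcd(n, q - 1)` elements. -/

namespace Cfsg.Agent.S2480P

open Polynomial DirectSum Cfsg.Agent.S2478P Cfsg.Agent.S2479P

universe u

-- piece CENTERSL
theorem card_center_sl {F : Type*} [Field F] [Fintype F] (n : ℕ) (hn : 1 ≤ n) :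
    Nat.card (Subgroup.center (Matrix.SpecialLinearGroup (Fin n) F)) =
      Nat.gcd n (Fintype.card F - 1) := by
  have e := Matrix.SpecialLinearGroup.center_equiv_rootsOfUnity' (n := Fin n) (R := F) ⟨0, hn⟩
  rw [Nat.card_congr e.toEquiv, Fintype.card_fin]
  have hker : rootsOfUnity n F = (powMonoidHom n : Fˣ →* Fˣ).ker := by
    ext ζ
    rw [mem_rootsOfUnity, MonoidHom.mem_ker, powMonoidHom_apply]
  rw [hker, IsCyclic.card_powMonoidHom_ker, Nat.card_units, Nat.card_eq_fintype_card,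
    Nat.gcd_comm]

-- piece CENTERSL
theorem center_sl_scalar {F : Type*} [Field F] (n : ℕ) (z : Matrix.SpecialLinearGroup (Fin n) F)
    (hz : z ∈ Subgroup.center (Matrix.SpecialLinearGroup (Fin n) F)) :
    ∃ c : Fˣ, c ^ n = 1 ∧ (z : Matrix (Fin n) (Fin n) F) = Matrix.scalar (Fin n) (c : F) := by
  obtain ⟨r, hr, hrz⟩ := Matrix.SpecialLinearGroup.mem_center_iff.mp hz
  rw [Fintype.card_fin] at hr
  rcases Nat.eq_zero_or_pos n with hn | hn
  · subst hn
    exact ⟨1, one_pow 0, Subsingleton.elim _ _⟩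
  · have hr0 : r ≠ 0 := by
      rintro rfl
      rw [zero_pow (Nat.pos_iff_ne_zero.mp hn)] at hr
      exact zero_ne_one hr
    refine ⟨Units.mk0 r hr0, ?_, ?_⟩
    · apply Units.ext
      rw [Units.val_pow_eq_pow_val, Units.val_mk0, hr, Units.val_one]
    · rw [Units.val_mk0, hrz]

end Cfsg.Agent.S2480P
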