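import Cfsg.Agent.Helper28.S2510Defs
import Cfsg.Agent.Helper18.S2510ROOTR

/-! S2510 piece DIAGORD (driver helper28): `exists_diag`. -/

set_option autoImplicit false

namespace Cfsg.Agent.S2510P

open Polynomial

variable {F : Type*} [Field F] [Fintype F] {n : ℕ} {p : ℕ}

local notation "SLn" => Matrix.SpecialLinearGroup (Fin n) F
local notation "PSLn" => Matrix.ProjectiveSpecialLinearGroup (Fin n) F
local notation "Mn" => Matrix (Fin n) (Fin n) F
local notation "π" => QuotientGroup.mk' (Subgroup.center SLn)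
local notation "q" => Fintype.card F

namespace DIAGORD

omit [Fintype F] in
theorem prod_eq {b : ℕ} (hbn : b ≤ n) (lam mu : F) :
    ∏ i : Fin n, (if (i : ℕ) < b then lam else mu) = lam ^ b * mu ^ (n - b) := by
  obtain ⟨c, rfl⟩ := Nat.exists_eq_add_of_le hbn
  rw [Fin.prod_univ_eq_prod_range (fun i => if i < b then lam else mu) (b + c),
    Finset.prod_range_add, Nat.add_sub_cancel_left]
  congr 1
  · rw [Finset.prod_congr rfl (g := fun _ => lam), Finset.prod_const, Finset.card_range]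
    intro x hx
    rw [if_pos (Finset.mem_range.mp hx)]
  · rw [Finset.prod_congr rfl (g := fun _ => mu), Finset.prod_const, Finset.card_range]
    intro x _
    rw [if_neg (by omega)]

end DIAGORD

/-- DIAGORD (M): `lam = ρ ^ (n - b)`, `mu = ρ⁻¹ ^ b`. -/
theorem exists_diag (r : ℕ) (hr : r.Prime) (hrq : r ∣ q - 1) (hrn : ¬ r ∣ n) (b : ℕ) (hb1 : 1 ≤ b)
    (hbn : b + 1 ≤ n) :
    ∃ (D : SLn) (lam mu : F), (D : Mn) = diagD n b lam mu ∧ orderOf (π D : PSLn) = r := by
  haveI : Fact r.Prime := ⟨hr⟩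
  obtain ⟨ρ, hρ⟩ := exists_orderOf_eq (F := F) r hr hrq
  have hρr : ρ ^ r = 1 := by rw [← hρ]; exact pow_orderOf_eq_one ρ
  have hlamr : (ρ ^ (n - b)) ^ r = 1 := by rw [← pow_mul, mul_comm, pow_mul, hρr, one_pow]
  have hmur : ((ρ⁻¹) ^ b) ^ r = 1 := by
    rw [← pow_mul, mul_comm, pow_mul, inv_pow, hρr, inv_one, one_pow]
  have hdet : (diagD n b ((ρ ^ (n - b) : Fˣ) : F) (((ρ⁻¹) ^ b : Fˣ) : F)).det = 1 := by
    rw [diagD, Matrix.det_diagonal, DIAGORD.prod_eq (by omega), ← Units.val_pow_eq_pow_val,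
      ← Units.val_pow_eq_pow_val, ← Units.val_mul]
    rw [← pow_mul, ← pow_mul, inv_pow, mul_comm b (n - b), mul_inv_cancel]
    rfl
  set D : SLn := ⟨diagD n b ((ρ ^ (n - b) : Fˣ) : F) (((ρ⁻¹) ^ b : Fˣ) : F), hdet⟩ with hD
  refine ⟨D, _, _, rfl, ?_⟩
  apply orderOf_eq_prime
  · rw [← map_pow]
    have : D ^ r = 1 := by
      apply Subtype.ext
      rw [Matrix.SpecialLinearGroup.coe_pow]
      show (diagD n b ((ρ ^ (n - b) : Fˣ) : F) (((ρ⁻¹) ^ b : Fˣ) : F)) ^ r = 1
      rw [diagD, Matrix.diagonal_pow, ← Matrix.diagonal_one]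
      congr 1
      funext i
      simp only [Pi.pow_apply, Pi.one_apply]
      split_ifs
      · rw [← Units.val_pow_eq_pow_val, hlamr, Units.val_one]
      · rw [← Units.val_pow_eq_pow_val, hmur, Units.val_one]
    rw [this, map_one]
  · intro h
    rw [QuotientGroup.mk'_apply, QuotientGroup.eq_one_iff,
      Matrix.SpecialLinearGroup.mem_center_iff] at h
    obtain ⟨c, _, hc⟩ := h
    have hDm : (D : Mn) = diagD n b ((ρ ^ (n - b) : Fˣ) : F) (((ρ⁻¹) ^ b : Fˣ) : F) := rfl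
    rw [hDm] at hc
    have h0 := congrFun (congrFun hc ⟨0, by omega⟩) ⟨0, by omega⟩
    have hb := congrFun (congrFun hc ⟨b, by omega⟩) ⟨b, by omega⟩
    simp only [Matrix.scalar_apply, Matrix.diagonal_apply_eq, diagD] at h0 hb
    rw [if_pos (show ((⟨0, by omega⟩ : Fin n) : ℕ) < b from hb1)] at h0
    rw [if_neg (by simp)] at hb
    have e1 : ρ ^ (n - b) = (ρ⁻¹) ^ b := Units.ext (h0.symm.trans hb)
    have e2 : ρ ^ n = 1 := by
      have e : n = (n - b) + b := by omega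
      rw [e, pow_add, e1, ← mul_pow, inv_mul_cancel, one_pow]
    exact hrn (hρ ▸ orderOf_dvd_of_pow_eq_one e2)

end Cfsg.Agent.S2510P
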