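import Cfsg.Agent.Helper28.S2510Defs
import Cfsg.Agent.Helper18.S2510NPOW

/-! S2510 piece UNIPORD (driver helper28): `exists_unip`. -/

set_option autoImplicit false

namespace Cfsg.Agent.S2510P

open Polynomial

variable {F : Type*} [Field F] [Fintype F] {n : ℕ} {p : ℕ}

local notation "SLn" => Matrix.SpecialLinearGroup (Fin n) F
local notation "PSLn" => Matrix.ProjectiveSpecialLinearGroup (Fin n) F
local notation "Mn" => Matrix (Fin n) (Fin n) F
local notation "π" => QuotientGroup.mk' (Subgroup.center SLn)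
local notation "q" => Fintype.card F

namespace UNIPORD

omit [Fintype F] in
theorem blockTriangular (b : ℕ) : (1 + nilN n F b : Mn).BlockTriangular id := by
  intro i j hij
  simp only [id] at hij
  rw [Matrix.add_apply, Matrix.one_apply_ne (ne_of_gt hij)]
  simp only [nilN, Matrix.of_apply, zero_add]
  rw [if_neg]
  rintro ⟨h1, _⟩
  have : (j : ℕ) < (i : ℕ) := hij
  omega

omit [Fintype F] in
theorem det_one_add_nilN (b : ℕ) : (1 + nilN n F b : Mn).det = 1 := by
  rw [Matrix.det_of_isUpperTriangular (blockTriangular b)]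
  apply Finset.prod_eq_one
  intro i _
  simp [nilN]

theorem nilN_pow_eq_zero {b s : ℕ} (hs : 1 ≤ s) (hbs : b ≤ s) : (nilN n F b) ^ s = 0 := by
  rw [nilN_pow]
  ext i j
  simp only [Matrix.of_apply, Matrix.zero_apply]
  rw [if_neg]
  rintro ⟨h1, h2 | h2⟩ <;> omega

omit [Fintype F] in
theorem one_add_pow [CharP F p] (hp : p.Prime) (hn : 1 ≤ n) (b i : ℕ) :
    (1 + nilN n F b : Mn) ^ (p ^ i) = 1 + (nilN n F b) ^ (p ^ i) := by
  haveI : Fact p.Prime := ⟨hp⟩
  haveI : NeZero n := ⟨by omega⟩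
  haveI : CharP Mn p := inferInstance
  rw [add_pow_char_pow_of_commute _ _ (Commute.one_left _), one_pow]

end UNIPORD

/-- UNIPORD (M; NPOW): `(1 + N) ^ (p ^ i) = 1 + N ^ (p ^ i)`. -/
theorem exists_unip [CharP F p] (hp : p.Prime) (hn : 1 ≤ n) (k b : ℕ) (hbn : b ≤ n) (hk : b ≤ p ^ k)
    (hk' : k = 0 ∨ p ^ (k - 1) < b) :
    ∃ U : SLn, (U : Mn) = 1 + nilN n F b ∧ orderOf (π U : PSLn) = p ^ k := by
  haveI : Fact p.Prime := ⟨hp⟩
  refine ⟨⟨1 + nilN n F b, UNIPORD.det_one_add_nilN b⟩, rfl, ?_⟩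
  set U : SLn := ⟨1 + nilN n F b, UNIPORD.det_one_add_nilN b⟩ with hU
  have hpow : ∀ i, ((U ^ (p ^ i) : SLn) : Mn) = 1 + (nilN n F b) ^ (p ^ i) := by
    intro i
    rw [Matrix.SpecialLinearGroup.coe_pow]
    exact UNIPORD.one_add_pow hp hn b i
  have htop : (π U : PSLn) ^ (p ^ k) = 1 := by
    rw [← map_pow]
    have : U ^ (p ^ k) = 1 := by
      apply Subtype.ext
      rw [hpow, UNIPORD.nilN_pow_eq_zero (Nat.one_le_pow _ _ hp.pos) hk, add_zero]
      rfl
    rw [this, map_one]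
  rcases Nat.eq_zero_or_pos k with rfl | hkpos
  · rw [pow_zero, pow_one] at htop
    rw [pow_zero, orderOf_eq_one_iff]
    exact htop
  · obtain ⟨k', rfl⟩ : ∃ k', k = k' + 1 := ⟨k - 1, by omega⟩
    have hlt : p ^ k' < b := by
      rcases hk' with h | h
      · omega
      · simpa using h
    apply orderOf_eq_prime_pow _ htop
    intro h
    rw [← map_pow, QuotientGroup.mk'_apply, QuotientGroup.eq_one_iff,
      Matrix.SpecialLinearGroup.mem_center_iff] at h
    obtain ⟨c, _, hc⟩ := h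
    have hn0 : 0 < n := hn
    have hs : p ^ k' < n := lt_of_lt_of_le hlt hbn
    have hs1 : 1 ≤ p ^ k' := Nat.one_le_pow _ _ hp.pos
    have hne : (⟨0, hn0⟩ : Fin n) ≠ ⟨p ^ k', hs⟩ := by
      intro h
      have := congrArg Fin.val h
      simp only at this
      omega
    have e1 : (Matrix.scalar (Fin n) c) ⟨0, hn0⟩ ⟨p ^ k', hs⟩ = 0 := by
      rw [Matrix.scalar_apply, Matrix.diagonal_apply_ne _ hne]
    have e2 : ((U ^ p ^ k' : SLn) : Mn) ⟨0, hn0⟩ ⟨p ^ k', hs⟩ = 1 := by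
      rw [hpow, nilN_pow, Matrix.add_apply, Matrix.one_apply_ne hne, zero_add, Matrix.of_apply,
        if_pos]
      exact ⟨by simp, Or.inl hlt⟩
    rw [← hc, e1] at e2
    exact zero_ne_one e2

end Cfsg.Agent.S2510P
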