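import Cfsg.Agent.Helper28.S2511Defs
import Cfsg.Agent.Helper23.S2263UPFACTS
import Cfsg.Agent.S2495

/-! S2511 piece GSWQ (driver helper28): `gs_sq_odd`, `gs_sq_mul`. -/

set_option autoImplicit false

namespace Cfsg.Agent.S2511P

open Polynomial
open Cfsg.Agent.S2263P Cfsg.Agent.S2264P Cfsg.Agent.S2496P

namespace GSWQ

theorem sq_sub_one {q : ℕ} (hq : 2 ≤ q) : q ^ 2 - 1 = (q + 1) * (q - 1) := by
  obtain ⟨k, rfl⟩ := Nat.exists_eq_add_of_le' hq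
  have : (k + 2) ^ 2 = (k + 2 + 1) * (k + 1) + 1 := by ring
  rw [this]
  simp

theorem gs_succ (q n : ℕ) : Cfsg.Agent.S2495.gs q (n + 1) = Cfsg.Agent.S2495.gs q n + q ^ n := by
  unfold Cfsg.Agent.S2495.gs
  exact Finset.sum_range_succ _ n

theorem gs_odd_mod {q : ℕ} (hq : 2 ≤ q) (k : ℕ) :
    Cfsg.Agent.S2495.gs q (2 * k + 1) % (q + 1) = 1 := by
  induction k with
  | zero =>
    have : Cfsg.Agent.S2495.gs q 1 = 1 := by
      unfold Cfsg.Agent.S2495.gs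
      simp
    rw [Nat.mul_zero, Nat.zero_add, this]
    exact Nat.mod_eq_of_lt (by omega)
  | succ k ih =>
    have e : 2 * (k + 1) + 1 = (2 * k + 1) + 1 + 1 := by ring
    rw [e, gs_succ, gs_succ]
    have e2 : Cfsg.Agent.S2495.gs q (2 * k + 1) + q ^ (2 * k + 1) + q ^ (2 * k + 1 + 1) =
        Cfsg.Agent.S2495.gs q (2 * k + 1) + (q + 1) * q ^ (2 * k + 1) := by ring
    rw [e2, Nat.add_mul_mod_self_left]
    exact ih

end GSWQ

/-- GSWQ (S–M): the norm exponent `gs (q²) d = (q^(2d) - 1)/(q² - 1)`. -/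
theorem gs_sq_odd {q : ℕ} (hq : 2 ≤ q) {d : ℕ} (hd : Odd d) :
    Cfsg.Agent.S2495.gs (q ^ 2) d = wq q d * Cfsg.Agent.S2495.gs q d ∧
      Cfsg.Agent.S2495.gs q d % (q + 1) = 1 := by
  constructor
  · have hq21 : 1 ≤ q ^ 2 := Nat.one_le_pow _ _ (by omega)
    have h1 := Cfsg.Agent.S2495.gs_mul (q ^ 2) d hq21
    have h2 := Cfsg.Agent.S2495.gs_mul q d (by omega)
    have h3 := wq_mul hq d
    rw [if_neg (Nat.not_even_iff_odd.mpr hd)] at h3
    have hqd : 1 ≤ q ^ d := Nat.one_le_pow _ _ (by omega)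
    have hpos : 0 < (q + 1) * (q - 1) := Nat.mul_pos (by omega) (by omega)
    apply Nat.eq_of_mul_eq_mul_left hpos
    calc (q + 1) * (q - 1) * Cfsg.Agent.S2495.gs (q ^ 2) d
        = (q ^ 2 - 1) * Cfsg.Agent.S2495.gs (q ^ 2) d := by rw [GSWQ.sq_sub_one hq]
      _ = (q ^ 2) ^ d - 1 := h1
      _ = (q ^ d + 1) * (q ^ d - 1) := by
          rw [← pow_mul, mul_comm 2 d, pow_mul]
          obtain ⟨x, hx⟩ := Nat.exists_eq_add_of_le' hqd
          rw [hx]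
          have : (x + 1) ^ 2 = (x + 1 + 1) * x + 1 := by ring
          rw [this]
          simp
      _ = ((q + 1) * wq q d) * ((q - 1) * Cfsg.Agent.S2495.gs q d) := by rw [h3, h2]
      _ = (q + 1) * (q - 1) * (wq q d * Cfsg.Agent.S2495.gs q d) := by ring
  · obtain ⟨k, rfl⟩ := hd
    exact GSWQ.gs_odd_mod hq k

/-- GSWQ. -/
theorem gs_sq_mul {q : ℕ} (hq : 2 ≤ q) (d : ℕ) :
    Cfsg.Agent.S2495.gs (q ^ 2) d * (q - 1) = wq q (2 * d) := by
  have hq21 : 1 ≤ q ^ 2 := Nat.one_le_pow _ _ (by omega)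
  have h1 := Cfsg.Agent.S2495.gs_mul (q ^ 2) d hq21
  have h3 := wq_mul hq (2 * d)
  rw [if_pos (even_two_mul d)] at h3
  have hpos : 0 < q + 1 := by omega
  apply Nat.eq_of_mul_eq_mul_left hpos
  calc (q + 1) * (Cfsg.Agent.S2495.gs (q ^ 2) d * (q - 1))
      = ((q + 1) * (q - 1)) * Cfsg.Agent.S2495.gs (q ^ 2) d := by ring
    _ = (q ^ 2 - 1) * Cfsg.Agent.S2495.gs (q ^ 2) d := by rw [GSWQ.sq_sub_one hq]
    _ = (q ^ 2) ^ d - 1 := h1
    _ = q ^ (2 * d) - 1 := by rw [← pow_mul]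
    _ = (q + 1) * wq q (2 * d) := h3.symm

end Cfsg.Agent.S2511P
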