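import Cfsg.Agent.Helper28.S2511Defs
import Cfsg.Agent.Helper23.S2263UPFACTS

/-! S2511 piece SINGARITH (driver helper28): `singerU_pos`, `coprime_singerU`, `wq_dvd_singerU_mul`. -/

set_option autoImplicit false

namespace Cfsg.Agent.S2511P

open Polynomial
open Cfsg.Agent.S2263P Cfsg.Agent.S2264P Cfsg.Agent.S2496P

namespace SINGARITH

theorem singerU_mul_gcd (q n : ℕ) : singerU q n * Nat.gcd (wq q n) (q + 1) = wq q n :=
  Nat.div_mul_cancel (Nat.gcd_dvd_left _ _)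

theorem singerU_dvd_wq (q n : ℕ) : singerU q n ∣ wq q n :=
  Dvd.intro _ (singerU_mul_gcd q n)

end SINGARITH

/-- SINGARITH (S–M; `wq_mul`, `wq_pos` of `Helper23.S2263UPFACTS`). -/
theorem singerU_pos {q n : ℕ} (hq : 2 ≤ q) (hn : 1 ≤ n) : 0 < singerU q n := by
  have h1 : 1 ≤ wq q n := wq_pos hq hn
  have h2 := SINGARITH.singerU_mul_gcd q n
  rcases Nat.eq_zero_or_pos (singerU q n) with h0 | h0
  · rw [h0, zero_mul] at h2
    omega
  · exact h0

/-- SINGARITH: `singerU q n ∣ wq q n ∣ q ^ n ± 1`. -/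
theorem coprime_singerU {p f q n : ℕ} (hp : p.Prime) (hf : 1 ≤ f) (hq : q = p ^ f) (hn : 1 ≤ n) :
    Nat.Coprime p (singerU q n) := by
  have hpq : p ∣ q := by
    rw [hq]
    exact dvd_pow_self p (by omega)
  have hq2 : 2 ≤ q := by
    rw [hq]
    calc 2 ≤ p := hp.two_le
      _ = p ^ 1 := (pow_one p).symm
      _ ≤ p ^ f := Nat.pow_le_pow_right hp.pos hf
  have hpqn : p ∣ q ^ n := hpq.trans (dvd_pow_self q (by omega))
  have h1 : singerU q n ∣ (q + 1) * wq q n :=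
    (SINGARITH.singerU_dvd_wq q n).trans (Dvd.intro_left _ rfl)
  rw [wq_mul hq2] at h1
  rw [Nat.coprime_comm]
  apply Nat.Coprime.coprime_dvd_left h1
  have hqn1 : 1 ≤ q ^ n := Nat.one_le_pow _ _ (by omega)
  rw [Nat.coprime_comm, Nat.Prime.coprime_iff_not_dvd hp]
  intro hdvd
  split_ifs at hdvd with he
  · have : p ∣ q ^ n - (q ^ n - 1) := Nat.dvd_sub hpqn hdvd
    have e : q ^ n - (q ^ n - 1) = 1 := by omega
    rw [e] at this
    exact hp.one_lt.ne' (Nat.dvd_one.mp this)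
  · have : p ∣ (q ^ n + 1) - q ^ n := Nat.dvd_sub hdvd hpqn
    rw [Nat.add_sub_cancel_left] at this
    exact hp.one_lt.ne' (Nat.dvd_one.mp this)

/-- SINGARITH: (`Helper3.S2496ARITH34.div_gcd_mul`). -/
theorem wq_dvd_singerU_mul (q n : ℕ) : wq q n ∣ singerU q n * (q + 1) := by
  obtain ⟨c, hc⟩ := Nat.gcd_dvd_right (wq q n) (q + 1)
  refine ⟨c, ?_⟩
  calc singerU q n * (q + 1) = singerU q n * (Nat.gcd (wq q n) (q + 1) * c) := by rw [← hc]
    _ = (singerU q n * Nat.gcd (wq q n) (q + 1)) * c := by ring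
    _ = wq q n * c := by rw [SINGARITH.singerU_mul_gcd]

end Cfsg.Agent.S2511P
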