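import Cfsg.Agent.Helper28.S2511Defs
import Cfsg.Agent.Helper23.S2263UPFACTS

/-! S2511 piece WQDVD (driver helper28): `wq_mul_gcd_dvd`. -/

set_option autoImplicit false

namespace Cfsg.Agent.S2511P

open Polynomial
open Cfsg.Agent.S2263P Cfsg.Agent.S2264P Cfsg.Agent.S2496P

namespace WQDVD

/-- `g ∣ Σ_{i<m} x^i y^(m-1-i)` when `g ∣ x - y` and `g ∣ m`. -/
theorem dvd_geom_sum₂ {x y g : ℤ} (m : ℕ) (hxy : g ∣ x - y) (hm : g ∣ (m : ℤ)) :
    g ∣ ∑ i ∈ Finset.range m, x ^ i * y ^ (m - 1 - i) := by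
  have e : ∑ i ∈ Finset.range m, x ^ i * y ^ (m - 1 - i) =
      ∑ i ∈ Finset.range m, (x ^ i - y ^ i) * y ^ (m - 1 - i) + (m : ℤ) * y ^ (m - 1) := by
    have h : ∑ i ∈ Finset.range m, y ^ i * y ^ (m - 1 - i) = (m : ℤ) * y ^ (m - 1) := by
      rw [Finset.sum_congr rfl (g := fun _ => y ^ (m - 1))]
      · rw [Finset.sum_const, Finset.card_range, nsmul_eq_mul]
      · intro i hi
        rw [← pow_add]
        congr 1
        have := Finset.mem_range.mp hi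
        omega
    rw [← h, ← Finset.sum_add_distrib]
    apply Finset.sum_congr rfl
    intro i _
    ring
  rw [e]
  apply dvd_add
  · apply Finset.dvd_sum
    intro i _
    exact Dvd.dvd.mul_right (hxy.trans (sub_dvd_pow_sub_pow x y i)) _
  · exact Dvd.dvd.mul_right hm _

/-- `(q + 1) * wq q t = q ^ t - (-1) ^ t` in `ℤ`. -/
theorem wq_int {q : ℕ} (hq : 2 ≤ q) (t : ℕ) :
    ((q : ℤ) + 1) * (wq q t : ℤ) = (q : ℤ) ^ t - (-1) ^ t := by
  have h := wq_mul hq t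
  have hqt : 1 ≤ q ^ t := Nat.one_le_pow _ _ (by omega)
  by_cases he : Even t
  · rw [if_pos he] at h
    rw [he.neg_one_pow]
    have : (((q + 1) * wq q t : ℕ) : ℤ) = ((q ^ t - 1 : ℕ) : ℤ) := by rw [h]
    rw [Nat.cast_mul, Nat.cast_add, Nat.cast_one, Nat.cast_sub hqt, Nat.cast_pow,
      Nat.cast_one] at this
    exact this
  · rw [if_neg he] at h
    rw [(Nat.not_even_iff_odd.mp he).neg_one_pow]
    have : (((q + 1) * wq q t : ℕ) : ℤ) = ((q ^ t + 1 : ℕ) : ℤ) := by rw [h]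
    rw [Nat.cast_mul, Nat.cast_add, Nat.cast_one, Nat.cast_add, Nat.cast_pow,
      Nat.cast_one] at this
    rw [this]
    ring

end WQDVD

/-- WQDVD (M): `wq q (s m) = wq q s * R`, `R = (q^(sm) - (±1)) / (q^s - (±1)) ≡ ± m (mod q + 1)`. -/
theorem wq_mul_gcd_dvd {q : ℕ} (hq : 2 ≤ q) {s m : ℕ} (hs : 1 ≤ s) (hm : 1 ≤ m) :
    wq q s * Nat.gcd (q + 1) m ∣ wq q (s * m) := by
  have hW := WQDVD.wq_int hq
  have hR := geom_sum₂_mul ((q : ℤ) ^ s) ((-1 : ℤ) ^ s) m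
  have hq1 : ((q : ℤ) + 1) ≠ 0 := by positivity
  have h1 : (wq q (s * m) : ℤ) =
      (wq q s : ℤ) * ∑ i ∈ Finset.range m, ((q : ℤ) ^ s) ^ i * ((-1 : ℤ) ^ s) ^ (m - 1 - i) := by
    apply mul_left_cancel₀ hq1
    rw [hW (s * m), pow_mul, pow_mul, ← hR, ← hW s]
    ring
  have hg : ((Nat.gcd (q + 1) m : ℕ) : ℤ) ∣
      ∑ i ∈ Finset.range m, ((q : ℤ) ^ s) ^ i * ((-1 : ℤ) ^ s) ^ (m - 1 - i) := by
    apply WQDVD.dvd_geom_sum₂
    · rw [← hW s]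
      have : ((Nat.gcd (q + 1) m : ℕ) : ℤ) ∣ ((q + 1 : ℕ) : ℤ) :=
        Int.natCast_dvd_natCast.mpr (Nat.gcd_dvd_left _ _)
      rw [Nat.cast_add, Nat.cast_one] at this
      exact Dvd.dvd.mul_right this _
    · exact Int.natCast_dvd_natCast.mpr (Nat.gcd_dvd_right _ _)
  have h2 : ((wq q s * Nat.gcd (q + 1) m : ℕ) : ℤ) ∣ ((wq q (s * m) : ℕ) : ℤ) := by
    rw [h1, Nat.cast_mul]
    exact mul_dvd_mul_left _ hg
  exact Int.natCast_dvd_natCast.mp h2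

end Cfsg.Agent.S2511P
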