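import Cfsg.Agent.Helper28.S2512Defs

/-! S2512 piece BPFORM (driver helper28): `Tr(ζ x y^Q)` on `K`, `[K : F] = 2d`, `Q = q^d`,
`ζ^Q = -ζ`, is a nondegenerate symplectic form. -/

set_option autoImplicit false

namespace Cfsg.Agent.S2512P

namespace BPFORM

variable {F K : Type*} [Field F] [Fintype F] [Field K] [Fintype K] [Algebra F K]

/-- the trace is invariant under the `q^d`-power map -/
theorem trace_pow (d : ℕ) (z : K) :
    Algebra.trace F K (z ^ (Fintype.card F ^ d)) = Algebra.trace F K z := by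
  induction d with
  | zero => simp
  | succ k ih =>
    rw [pow_succ, pow_mul]
    have h1 := Algebra.trace_eq_of_algEquiv (FiniteField.frobeniusAlgEquivOfAlgebraic F K)
      (z ^ (Fintype.card F ^ k))
    rw [FiniteField.coe_frobeniusAlgEquivOfAlgebraic] at h1
    rw [← ih]
    exact h1

theorem pow_sq (d Q : ℕ) (hQ : Q = Fintype.card F ^ d) (hd : Module.finrank F K = 2 * d)
    (z : K) : (z ^ Q) ^ Q = z := by
  have h1 : Fintype.card K = Q * Q := by
    rw [Module.card_eq_pow_finrank (K := F) (V := K), hd, hQ, two_mul, pow_add]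
  rw [← pow_mul, ← h1, FiniteField.pow_card]

end BPFORM

open BPFORM in
theorem isSymp_Bp {F K : Type*} [Field F] [Fintype F] [Field K] [Fintype K] [Algebra F K]
    (d Q : ℕ) (hQ : Q = Fintype.card F ^ d) (hd : Module.finrank F K = 2 * d) (ζ : K) (hζ0 : ζ ≠ 0)
    (hζ : ζ ^ Q = -ζ) : IsSymp (Bp F K Q ζ) := by
  refine ⟨?_, ?_, ?_, ?_⟩
  · intro u u' v
    rw [Bp_apply, Bp_apply, Bp_apply, ← map_add]
    congr 1
    ring
  · intro c u v
    rw [Bp_apply, Bp_apply]
    have h1 : ζ * (c • u) * v ^ Q = c • (ζ * u * v ^ Q) := by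
      rw [Algebra.smul_def, Algebra.smul_def]
      ring
    rw [h1, map_smul, smul_eq_mul]
  · intro u v
    rw [Bp_apply, Bp_apply]
    have h1 : Algebra.trace F K ((ζ * u * v ^ Q) ^ Q) = Algebra.trace F K (ζ * u * v ^ Q) := by
      rw [hQ]; exact trace_pow d _
    rw [← h1, mul_pow, mul_pow, hζ, pow_sq d Q hQ hd, ← map_neg]
    congr 1
    ring
  · intro u hu
    have h1 : ∀ w : K, Algebra.traceForm F K (ζ * u) w = 0 := by
      intro w
      have := hu (w ^ Q)
      rw [Bp_apply, pow_sq d Q hQ hd] at this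
      rw [Algebra.traceForm_apply]
      exact this
    have h2 := (traceForm_nondegenerate F K).1 (ζ * u) h1
    rcases mul_eq_zero.mp h2 with h3 | h3
    · exact absurd h3 hζ0
    · exact h3

end Cfsg.Agent.S2512P
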