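import Cfsg.Agent.Helper4.S2522.Defs
import Cfsg.Agent.Helper18.S2522N2CRIT

/-! S2522 piece N2B (driver helper4): `g` bijective, `rank (g - 1) ≥ 3`, `e ∉ range (g - 1)`
⇒ the compression has `rank (comp - 1) ≥ 2`. -/

set_option autoImplicit false

namespace Cfsg.Agent.S2522P

open Module

namespace N2B
variable {K : Type*} [Field K] {V : Type*} [AddCommGroup V] [Module K V]

/-- two independent vectors of a subspace plus a vector outside it are independent -/
theorem li3 {a b c : V} (S : Submodule K V) (hab : LinearIndependent K ![a, b]) (ha : a ∈ S)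
    (hb : b ∈ S) (hc : c ∉ S) : LinearIndependent K ![a, b, c] := by
  rw [Fintype.linearIndependent_iff]
  intro t ht
  rw [Fin.sum_univ_three] at ht
  simp only [Matrix.cons_val_zero, Matrix.cons_val_one, Matrix.cons_val_two] at ht
  have h2 : t 2 = 0 := by
    by_contra hne
    apply hc
    have h3 : t 2 • c = -(t 0 • a + t 1 • b) := eq_neg_of_add_eq_zero_right ht
    have h4 : c = (t 2)⁻¹ • (-(t 0 • a + t 1 • b)) := by
      rw [← h3, smul_smul, inv_mul_cancel₀ hne, one_smul]
    rw [h4]
    exact S.smul_mem _ (S.neg_mem (S.add_mem (S.smul_mem _ ha) (S.smul_mem _ hb)))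
  rw [LinearIndependent.pair_iff] at hab
  have h5 := hab (t 0) (t 1) (by rw [h2, zero_smul, add_zero] at ht; exact ht)
  intro i
  fin_cases i
  · exact h5.1
  · exact h5.2
  · exact h2

/-- a subspace of dimension at least two contains two independent vectors -/
theorem exists_pair [FiniteDimensional K V] {S : Submodule K V} (h : 2 ≤ finrank K S) :
    ∃ a ∈ S, ∃ b ∈ S, LinearIndependent K ![a, b] := by
  have hpos : 0 < finrank K S := by omega
  obtain ⟨x, hx⟩ := Module.finrank_pos_iff_exists_ne_zero.mp hpos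
  have h1lt : 1 < finrank K S := by omega
  obtain ⟨y, hy⟩ := exists_linearIndependent_pair_of_one_lt_finrank h1lt hx
  refine ⟨x, x.2, y, y.2, ?_⟩
  have h6 : LinearIndependent K (⇑S.subtype ∘ ![x, y]) :=
    hy.map' S.subtype (Submodule.ker_subtype S)
  have h7 : (⇑S.subtype ∘ ![x, y]) = ![(x : V), (y : V)] := by
    ext i
    fin_cases i <;> rfl
  rw [h7] at h6
  exact h6

theorem rank_of_three [FiniteDimensional K V] (g : Module.End K V) (hbij : Function.Bijective g)
    (hr : 3 ≤ Module.finrank K (LinearMap.range (g - 1))) (e : V)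
    (he : e ∉ LinearMap.range (g - 1)) (φ : Module.Dual K V) (h1 : φ e = 1) (h : φ (g e) = 1) :
    2 ≤ Module.finrank K (LinearMap.range (comp g e φ h - 1)) := by
  -- `g e ∉ range (g - 1)`
  have hge : g e ∉ LinearMap.range (g - 1) := by
    rintro ⟨v, hv⟩
    obtain ⟨v', rfl⟩ := hbij.2 v
    apply he
    refine ⟨v', ?_⟩
    apply hbij.1
    rw [← hv]
    simp only [LinearMap.sub_apply, Module.End.one_apply, map_sub]
  -- `range (g - 1) ≤ (g - 1)(ker φ) ⊔ span {(g - 1) e}`
  set M : Submodule K V := (LinearMap.ker φ).map (g - 1) with hM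
  have hle : LinearMap.range (g - 1) ≤ M ⊔ Submodule.span K {(g - 1) e} := by
    rintro _ ⟨v, rfl⟩
    have hv : v = (v - φ v • e) + φ v • e := by abel
    rw [hv, map_add, map_smul]
    refine Submodule.add_mem_sup ?_ ?_
    · refine ⟨v - φ v • e, ?_, rfl⟩
      simp [LinearMap.mem_ker, h1]
    · exact Submodule.smul_mem _ _ (Submodule.mem_span_singleton_self _)
  have hM2 : 2 ≤ finrank K M := by
    have h3 := Submodule.finrank_mono hle
    have h4 := Submodule.finrank_add_le_finrank_add_finrank M (Submodule.span K {(g - 1) e})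
    have h5 : finrank K (Submodule.span K {(g - 1) e}) ≤ 1 := by
      have := finrank_span_le_card (R := K) ({(g - 1) e} : Set V)
      simpa using this
    omega
  obtain ⟨a, ha, b, hb, hab⟩ := exists_pair hM2
  obtain ⟨w₁, hw₁, rfl⟩ := ha
  obtain ⟨w₂, hw₂, rfl⟩ := hb
  have hMle : M ≤ LinearMap.range (g - 1) := by
    rintro _ ⟨w, _, rfl⟩
    exact ⟨w, rfl⟩
  exact N2CRIT.two_le_rank g e φ h w₁ w₂ hw₁ hw₂
    (li3 (LinearMap.range (g - 1)) hab ⟨w₁, rfl⟩ ⟨w₂, rfl⟩ hge)

end N2B

end Cfsg.Agent.S2522P
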