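import Cfsg.Agent.Helper4.S2522.Defs
import Cfsg.Agent.Helper15.S2522N2B

/-! S2522 piece N2E (driver helper4): `n = 3`, `det g = 1`, `e` non-cyclic and not an eigenvector
⇒ the compression has `rank (comp - 1) ≥ 2`. -/

set_option autoImplicit false

namespace Cfsg.Agent.S2522P

open Module

namespace N2E
variable {K : Type*} [Field K] {V : Type*} [AddCommGroup V] [Module K V]

/-- variant of `N2B.li3` with the outside vector in the middle -/
theorem li3_mid {a b c : V} (S : Submodule K V) (hac : LinearIndependent K ![a, c]) (ha : a ∈ S)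
    (hc : c ∈ S) (hb : b ∉ S) : LinearIndependent K ![a, b, c] := by
  have h1 := N2B.li3 S hac ha hc hb
  have hinj : Function.Injective (![0, 2, 1] : Fin 3 → Fin 3) := by decide
  have h2 := h1.comp _ hinj
  have h3 : (![a, c, b] ∘ (![0, 2, 1] : Fin 3 → Fin 3)) = ![a, b, c] := by
    ext i
    fin_cases i <;> rfl
  rw [h3] at h2
  exact h2

theorem rank_noncyclic [FiniteDimensional K V] (hV : Module.finrank K V = 3) (g : Module.End K V)
    (hdet : LinearMap.det g = 1) (hg : Nice g) (e : V) (hne : ∀ c : K, g e ≠ c • e)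
    (hdep : g (g e) ∈ Submodule.span K {e, g e})
    (he : LinearMap.range (g - 1) ≠ ⊤ → e ∉ LinearMap.range (g - 1))
    (φ : Module.Dual K V) (h1 : φ e = 1) (h : φ (g e) = 1) :
    2 ≤ Module.finrank K (LinearMap.range (comp g e φ h - 1)) := by
  classical
  -- `e ≠ 0`, `e, g e` independent
  have he0 : e ≠ 0 := by
    rintro rfl
    exact hne 0 (by simp)
  have hli2 : LinearIndependent K ![e, g e] := by
    rw [LinearIndependent.pair_iff' he0]
    intro a ha
    exact hne a ha.symm
  set P : Submodule K V := Submodule.span K {e, g e} with hP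
  have heP : e ∈ P := Submodule.subset_span (by simp)
  have hgeP : g e ∈ P := Submodule.subset_span (by simp)
  obtain ⟨α, β, hαβ⟩ := Submodule.mem_span_pair.mp hdep
  -- `P` is `g`-invariant
  have hinv : ∀ v ∈ P, g v ∈ P := by
    intro v hv
    obtain ⟨s, t, rfl⟩ := Submodule.mem_span_pair.mp hv
    rw [map_add, map_smul, map_smul]
    exact P.add_mem (P.smul_mem _ hgeP) (P.smul_mem _ hdep)
  have hfP : finrank K P = 2 := by
    have := finrank_span_eq_card hli2
    rw [Matrix.range_cons_cons_empty] at this
    simpa using this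
  -- a vector of `ker φ` outside `P`
  obtain ⟨w₂, hw₂φ, hw₂P⟩ : ∃ w₂ : V, φ w₂ = 0 ∧ w₂ ∉ P := by
    by_contra hcon
    push Not at hcon
    have htop : P = ⊤ := by
      rw [eq_top_iff]
      intro v _
      have h2 : v - φ v • e ∈ P := hcon _ (by simp [h1])
      have h3 : v = (v - φ v • e) + φ v • e := by abel
      rw [h3]
      exact P.add_mem h2 (P.smul_mem _ heP)
    have h4 : finrank K P = 3 := by rw [htop, finrank_top, hV]
    omega
  have hli3 : LinearIndependent K ![e, g e, w₂] := N2B.li3 P hli2 heP hgeP hw₂P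
  -- the basis `e, g e, w₂`
  have hcard : Fintype.card (Fin 3) = finrank K V := by simp [hV]
  set b : Basis (Fin 3) K V := basisOfLinearIndependentOfCardEqFinrank hli3 hcard with hbdef
  have hbcoe : ⇑b = ![e, g e, w₂] := coe_basisOfLinearIndependentOfCardEqFinrank hli3 hcard
  have hb0 : b 0 = e := by rw [hbcoe]; rfl
  have hb1 : b 1 = g e := by rw [hbcoe]; rfl
  have hb2 : b 2 = w₂ := by rw [hbcoe]; rfl
  -- every vector is a combination
  have hexp : ∀ v : V, v = b.repr v 0 • e + b.repr v 1 • g e + b.repr v 2 • w₂ := by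
    intro v
    have := b.sum_repr v
    rw [Fin.sum_univ_three, hb0, hb1, hb2] at this
    exact this.symm
  -- the determinant
  set lam : K := b.repr (g w₂) 2 with hlam
  have hdetM : -(α * lam) = 1 := by
    have h2 := LinearMap.det_toMatrix b g
    rw [hdet, Matrix.det_fin_three] at h2
    have hc0 : b.repr (g (b 0)) = Finsupp.single 1 1 := by
      rw [hb0, ← hb1, Basis.repr_self]
    have hc1 : b.repr (g (b 1)) = α • Finsupp.single 0 1 + β • Finsupp.single 1 1 := by
      rw [hb1, ← hαβ, map_add, map_smul, map_smul, ← hb1, Basis.repr_self, ← hb0, Basis.repr_self]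
    simp only [LinearMap.toMatrix_apply, hc0, hc1, hb2] at h2
    simp at h2
    rw [← h2, hlam]
  -- `(g - 1) w₂ ∉ P`
  have hRw₂ : (g - 1) w₂ ∉ P := by
    intro hin
    have hle : LinearMap.range (g - 1) ≤ P := by
      rintro _ ⟨v, rfl⟩
      rw [hexp v, map_add, map_add, map_smul, map_smul, map_smul]
      refine P.add_mem (P.add_mem (P.smul_mem _ ?_) (P.smul_mem _ ?_)) (P.smul_mem _ hin)
      · simp only [LinearMap.sub_apply, Module.End.one_apply]
        exact P.sub_mem hgeP heP
      · simp only [LinearMap.sub_apply, Module.End.one_apply]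
        exact P.sub_mem hdep hgeP
    have heq : LinearMap.range (g - 1) = P :=
      Submodule.eq_of_le_of_finrank_le hle (by rw [hfP]; exact hg.2)
    have hnt : LinearMap.range (g - 1) ≠ ⊤ := by
      intro ht
      rw [heq] at ht
      apply hw₂P
      rw [ht]
      trivial
    have := he hnt
    rw [heq] at this
    exact this heP
  have hlam1 : lam ≠ 1 := by
    intro h1'
    apply hRw₂
    have h2 := hexp (g w₂)
    rw [← hlam, h1', one_smul] at h2
    have h3 : (g - 1) w₂ = b.repr (g w₂) 0 • e + b.repr (g w₂) 1 • g e := by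
      simp only [LinearMap.sub_apply, Module.End.one_apply]
      rw [sub_eq_iff_eq_add]
      exact h2
    rw [h3]
    exact P.add_mem (P.smul_mem _ heP) (P.smul_mem _ hgeP)
  have hα : α + 1 ≠ 0 := by
    intro h0
    apply hlam1
    have : α = -1 := by linear_combination h0
    rw [this] at hdetM
    linear_combination hdetM
  -- the two vectors
  have hw₁φ : φ (g e - e) = 0 := by rw [map_sub, h, h1, sub_self]
  have hRw₁ : (g - 1) (g e - e) = (α + 1) • e + (β - 2) • g e := by
    simp only [LinearMap.sub_apply, Module.End.one_apply, map_sub]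
    rw [← hαβ]
    module
  have hRw₁P : (g - 1) (g e - e) ∈ P := by
    rw [hRw₁]
    exact P.add_mem (P.smul_mem _ heP) (P.smul_mem _ hgeP)
  have hpair : LinearIndependent K ![(g - 1) (g e - e), g e] := by
    rw [LinearIndependent.pair_iff]
    intro s t hst
    rw [hRw₁] at hst
    have h2 : (s * (α + 1)) • e + (s * (β - 2) + t) • g e = 0 := by
      rw [← hst]
      module
    have h3 := (LinearIndependent.pair_iff.mp hli2) _ _ h2
    have hs : s = 0 := by
      rcases mul_eq_zero.mp h3.1 with h4 | h4
      · exact h4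
      · exact absurd h4 hα
    refine ⟨hs, ?_⟩
    have := h3.2
    rw [hs, zero_mul, zero_add] at this
    exact this
  exact N2CRIT.two_le_rank g e φ h (g e - e) w₂ hw₁φ hw₂φ
    (li3_mid P hpair hRw₁P hgeP hRw₂)

end N2E

end Cfsg.Agent.S2522P
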