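import Mathlib
import Cfsg.Prelude.Def_Classical
import Cfsg.Prelude.Def_Characters
import Cfsg.Agent.Helper24.Linear

/-! S2548 piece M1 (driver helper10): `m = 1`: `Ω⁺_2(K)` is abelian, `PΩ⁺_2(K)` is trivial and
the trivial character is its Steinberg character. -/

set_option autoImplicit false
open scoped Matrix

namespace Cfsg.Agent.S2548P

variable {K : Type*} [Field K]

namespace M1

/-- the isometry group of `xy` -/
abbrev O1 (K : Type*) [Field K] := Cfsg.isometryGroup K (Cfsg.quadFormPlus 1 K)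

/-- matrix entries of an isometry -/
def ent (g : O1 K) (i j : Fin 1 ⊕ Fin 1) : K :=
  ((g : Matrix.GeneralLinearGroup (Fin 1 ⊕ Fin 1) K) : Matrix (Fin 1 ⊕ Fin 1) (Fin 1 ⊕ Fin 1) K) i j

theorem key (g : O1 K) (x y : K) :
    (ent g (Sum.inl 0) (Sum.inl 0) * x + ent g (Sum.inl 0) (Sum.inr 0) * y) *
      (ent g (Sum.inr 0) (Sum.inl 0) * x + ent g (Sum.inr 0) (Sum.inr 0) * y) = x * y := by
  have h := g.2 (Sum.elim (fun _ => x) (fun _ => y)) (Sum.elim (fun _ => x) (fun _ => y))
  simp only [Units.coeHom_apply, Cfsg.quadFormPlus, Matrix.mulVec, dotProduct,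
    Fintype.sum_sum_type, Finset.univ_unique, Finset.sum_singleton, Sum.elim_inl,
    Sum.elim_inr, Fin.default_eq_zero] at h
  exact h

theorem ac (g : O1 K) : ent g (Sum.inl 0) (Sum.inl 0) * ent g (Sum.inr 0) (Sum.inl 0) = 0 := by
  have := key g 1 0
  simpa using this

theorem bd (g : O1 K) : ent g (Sum.inl 0) (Sum.inr 0) * ent g (Sum.inr 0) (Sum.inr 0) = 0 := by
  have := key g 0 1
  simpa using this

theorem adbc (g : O1 K) :
    ent g (Sum.inl 0) (Sum.inl 0) * ent g (Sum.inr 0) (Sum.inr 0) +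
      ent g (Sum.inl 0) (Sum.inr 0) * ent g (Sum.inr 0) (Sum.inl 0) = 1 := by
  have h := key g 1 1
  have h1 := ac g
  have h2 := bd g
  simp only [mul_one] at h
  linear_combination h - h1 - h2

/-- `c = 0` implies `b = 0` and `a d = 1` -/
theorem of_c_zero (g : O1 K) (hc : ent g (Sum.inr 0) (Sum.inl 0) = 0) :
    ent g (Sum.inl 0) (Sum.inr 0) = 0 ∧
      ent g (Sum.inl 0) (Sum.inl 0) * ent g (Sum.inr 0) (Sum.inr 0) = 1 := by
  have h := adbc g
  rw [hc, mul_zero, add_zero] at h
  refine ⟨?_, h⟩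
  have hd : ent g (Sum.inr 0) (Sum.inr 0) ≠ 0 := by
    intro h0
    rw [h0, mul_zero] at h
    exact zero_ne_one h
  exact (mul_eq_zero.mp (bd g)).resolve_right hd

/-- `c ≠ 0` implies `a = 0`, `d = 0` -/
theorem of_c_ne_zero (g : O1 K) (hc : ent g (Sum.inr 0) (Sum.inl 0) ≠ 0) :
    ent g (Sum.inl 0) (Sum.inl 0) = 0 ∧ ent g (Sum.inr 0) (Sum.inr 0) = 0 := by
  have ha : ent g (Sum.inl 0) (Sum.inl 0) = 0 := (mul_eq_zero.mp (ac g)).resolve_right hc
  refine ⟨ha, ?_⟩
  have h := adbc g
  rw [ha, zero_mul, zero_add] at h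
  have hb : ent g (Sum.inl 0) (Sum.inr 0) ≠ 0 := by
    intro h0
    rw [h0, zero_mul] at h
    exact zero_ne_one h
  exact (mul_eq_zero.mp (bd g)).resolve_left hb

theorem ent_mul (g h : O1 K) (i j : Fin 1 ⊕ Fin 1) :
    ent (g * h) i j = ent g i (Sum.inl 0) * ent h (Sum.inl 0) j +
      ent g i (Sum.inr 0) * ent h (Sum.inr 0) j := by
  unfold ent
  rw [Subgroup.coe_mul, Units.val_mul, Matrix.mul_apply, Fintype.sum_sum_type]
  simp

open scoped Classical in
/-- the type of an isometry: `1` for diagonal, `-1` for antidiagonal -/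
noncomputable def ty : O1 K →* ℤˣ :=
  MonoidHom.mk' (fun g => if ent g (Sum.inr 0) (Sum.inl 0) = 0 then 1 else -1) (by
    classical
    intro g h
    have hgh := ent_mul g h (Sum.inr 0) (Sum.inl 0)
    by_cases hg : ent g (Sum.inr 0) (Sum.inl 0) = 0
    · by_cases hh : ent h (Sum.inr 0) (Sum.inl 0) = 0
      · have : ent (g * h) (Sum.inr 0) (Sum.inl 0) = 0 := by
          rw [hgh, hg, hh, zero_mul, mul_zero, add_zero]
        simp only [hg, hh, this, if_true, mul_one]
      · have hd : ent g (Sum.inr 0) (Sum.inr 0) ≠ 0 := by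
          intro h0
          have := (of_c_zero g hg).2
          rw [h0, mul_zero] at this
          exact zero_ne_one this
        have : ent (g * h) (Sum.inr 0) (Sum.inl 0) ≠ 0 := by
          rw [hgh, hg, zero_mul, zero_add]
          exact mul_ne_zero hd hh
        simp only [hg, hh, this, if_true, if_false, one_mul]
    · by_cases hh : ent h (Sum.inr 0) (Sum.inl 0) = 0
      · have ha : ent h (Sum.inl 0) (Sum.inl 0) ≠ 0 := by
          intro h0
          have := (of_c_zero h hh).2
          rw [h0, zero_mul] at this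
          exact zero_ne_one this
        have hd := (of_c_ne_zero g hg).2
        have : ent (g * h) (Sum.inr 0) (Sum.inl 0) ≠ 0 := by
          rw [hgh, hd, zero_mul, add_zero]
          exact mul_ne_zero hg ha
        simp only [hg, hh, this, if_true, if_false, mul_one]
      · have hd := (of_c_ne_zero g hg).2
        have ha := (of_c_ne_zero h hh).1
        have : ent (g * h) (Sum.inr 0) (Sum.inl 0) = 0 := by
          rw [hgh, hd, ha, mul_zero, zero_mul, add_zero]
        simp only [hg, hh, this, if_true, if_false]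
        norm_num)

open scoped Classical in
theorem ty_apply (g : O1 K) :
    ty g = if ent g (Sum.inr 0) (Sum.inl 0) = 0 then (1 : ℤˣ) else -1 := rfl

theorem c_zero_of_mem_ker (g : O1 K) (hg : g ∈ (ty (K := K)).ker) :
    ent g (Sum.inr 0) (Sum.inl 0) = 0 := by
  classical
  rw [MonoidHom.mem_ker] at hg
  by_contra hc
  have : ty g = -1 := by
    rw [ty_apply, if_neg hc]
  rw [this] at hg
  exact absurd hg (by decide)

/-- diagonal isometries commute -/
theorem comm_of_ker (g h : O1 K) (hg : g ∈ (ty (K := K)).ker) (hh : h ∈ (ty (K := K)).ker) :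
    g * h = h * g := by
  have hcg := c_zero_of_mem_ker g hg
  have hch := c_zero_of_mem_ker h hh
  have hbg := (of_c_zero g hcg).1
  have hbh := (of_c_zero h hch).1
  apply Subtype.ext
  apply Units.ext
  ext i j
  have e1 := ent_mul g h i j
  have e2 := ent_mul h g i j
  unfold ent at e1 e2 hcg hch hbg hbh
  rw [e1, e2]
  rcases i with i | i <;> rcases j with j | j
  all_goals
    have hi : i = 0 := Subsingleton.elim _ _
    have hj : j = 0 := Subsingleton.elim _ _
    subst hi hj
    simp only [hcg, hch, hbg, hbh, mul_zero, zero_mul, add_zero, zero_add]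
  · exact mul_comm _ _
  · exact mul_comm _ _

theorem omega_comm (x y : ↥(Cfsg.Omega K (Cfsg.quadFormPlus 1 K))) : x * y = y * x := by
  have hx : (x : O1 K) ∈ (ty (K := K)).ker := Abelianization.commutator_subset_ker ty x.2
  have hy : (y : O1 K) ∈ (ty (K := K)).ker := Abelianization.commutator_subset_ker ty y.2
  apply Subtype.ext
  rw [Subgroup.coe_mul, Subgroup.coe_mul]
  exact comm_of_ker _ _ hx hy

theorem subsingleton_POmega : Subsingleton (Cfsg.POmega K (Cfsg.quadFormPlus 1 K)) := by
  refine ⟨fun a b => ?_⟩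
  induction a using QuotientGroup.induction_on with
  | H x =>
    induction b using QuotientGroup.induction_on with
    | H y =>
      apply QuotientGroup.eq.mpr
      rw [Subgroup.mem_center_iff]
      intro z
      exact omega_comm _ _

theorem steinberg_m1 [Fintype K] (p : ℕ) [Fact p.Prime] [CharP K p] :
    ∃ χ : Cfsg.POmega K (Cfsg.quadFormPlus 1 K) → ℂ,
      Cfsg.IsIrrCharacter (Cfsg.POmega K (Cfsg.quadFormPlus 1 K)) χ ∧
      ∀ P : Sylow p (Cfsg.POmega K (Cfsg.quadFormPlus 1 K)), χ 1 = Nat.card P ∧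
        ∀ x : Cfsg.POmega K (Cfsg.quadFormPlus 1 K), x ∈ P → x ≠ 1 → χ x = 0 := by
  have hs : Subsingleton (Cfsg.POmega K (Cfsg.quadFormPlus 1 K)) := subsingleton_POmega
  have : Finite (Cfsg.POmega K (Cfsg.quadFormPlus 1 K)) := Finite.of_subsingleton
  refine ⟨fun g => (1 : Cfsg.POmega K (Cfsg.quadFormPlus 1 K) →* ℂ) g,
    Cfsg.Agent.Helper24.isIrrCharacter_of_monoidHom _, ?_⟩
  intro P
  refine ⟨?_, ?_⟩
  · have hP : Nat.card P = 1 := Nat.card_of_subsingleton (1 : P)
    rw [hP]
    simp
  · intro x _ hx1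
    exact absurd (Subsingleton.elim x 1) hx1

end M1

end Cfsg.Agent.S2548P
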