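import Mathlib
import Cfsg.Prelude.Def_Classical
import Cfsg.Agent.Helper8.MatBNDefs
import Cfsg.Agent.Helper8.S2546Defs
import Cfsg.Agent.Helper21.S2549Defs
import Cfsg.Agent.Helper19.S2549ENTRY

/-! S2549 piece COLFRAME (driver helper21): an isometry stabilising the frame lines has monomial
columns outside the middle. -/

set_option autoImplicit false
open scoped Matrix

namespace Cfsg.Agent.S2549P

open Cfsg.Agent.MatBN

variable {F : Type*} [Field F] {a b : F} {K : Type*} [Field K]

namespace COLFRAME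

theorem idx_inl_of_out (m : ℕ) (c : Fin (2 * m + 2)) (hc : ¬ (m ≤ c.val ∧ c.val ≤ m + 1)) :
    ∃ j : Fin m ⊕ Fin m, idx m c = .inl j := by
  unfold idx
  by_cases h : c.val < m
  · rw [dif_pos h]
    exact ⟨_, rfl⟩
  · rw [dif_neg h]
    have h' : ¬ c.val < m + 2 := by omega
    rw [dif_neg h']
    exact ⟨_, rfl⟩

theorem col_zero {m : ℕ} (D : Matrix (Idx m) (Idx m) F) (j : Idx m) (c' : F)
    (h : D *ᵥ Pi.single j 1 = c' • Pi.single j 1) (k : Idx m) (hk : k ≠ j) : D k j = 0 := by
  have h1 := congrFun h k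
  rw [Matrix.mulVec_single_one] at h1
  simpa [hk] using h1

end COLFRAME

/-- COLFRAME: an isometry stabilising the frame lines has monomial columns outside the middle -/
theorem hcol_of_frame (E : QExt F a b K) (m : ℕ) (d : OG m F a b)
    (hd : ∀ i : Fin m,
      (∃ c : F, ((d : Matrix.GeneralLinearGroup (Idx m) F) : Matrix (Idx m) (Idx m) F) *ᵥ eV m i = c • eV m i) ∧
      (∃ c : F, ((d : Matrix.GeneralLinearGroup (Idx m) F) : Matrix (Idx m) (Idx m) F) *ᵥ fV m i = c • fV m i)) :
    ∀ c : Fin (2 * m + 2), ¬ (m ≤ c.val ∧ c.val ≤ m + 1) → ∀ r, r ≠ c → rho E m d r c = 0 := by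
  intro c hc r hrc
  obtain ⟨j, hj⟩ := COLFRAME.idx_inl_of_out m c hc
  have hcol : ∀ k : Idx m, k ≠ idx m c →
      ((d : Matrix.GeneralLinearGroup (Idx m) F) : Matrix (Idx m) (Idx m) F) k (idx m c) = 0 := by
    intro k hk
    rw [hj] at hk ⊢
    rcases j with i | i
    · obtain ⟨c', hc'⟩ := (hd i).1
      unfold eV at hc'
      exact COLFRAME.col_zero _ _ c' hc' k hk
    · obtain ⟨c', hc'⟩ := (hd i).2
      unfold fV at hc'
      exact COLFRAME.col_zero _ _ c' hc' k hk
  by_cases hr : m ≤ r.val ∧ r.val ≤ m + 1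
  · have hr2 : r.val - m < 2 := by omega
    have hrpos : r = pos m (.inr ⟨r.val - m, hr2⟩) := by
      apply Fin.ext
      show r.val = m + (r.val - m)
      omega
    rw [hrpos, rho_apply_mo E m d _ c hc, hcol (.inr 0) (by rw [hj]; simp),
      hcol (.inr 1) (by rw [hj]; simp), map_zero, mul_zero, add_zero]
  · have hne : idx m r ≠ idx m c := by
      intro h
      apply hrc
      rw [← pos_idx m r, h, pos_idx]
    rw [rho_apply_oo E m d r c hr hc, hcol _ hne, map_zero]

end Cfsg.Agent.S2549P
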