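import Mathlib
import Cfsg.Prelude.Def_Classical
import Cfsg.Agent.Helper8.MatBNDefs
import Cfsg.Agent.Helper8.S2546Defs
import Cfsg.Agent.Helper21.S2549Defs
import Cfsg.Agent.Helper7.S2549QJCOORD
import Cfsg.Agent.Helper26.S2549EXTSC

/-! S2549 piece PRES (driver helper21): `rho g` preserves the split form `QJ`. -/

set_option autoImplicit false
open scoped Matrix

namespace Cfsg.Agent.S2549P

open Cfsg.Agent.MatBN

variable {F : Type*} [Field F] {a b : F} {K : Type*} [Field K]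

namespace PRES

/-- `QJ` after reindexing by `pos ∘ idx = id` -/
theorem QJ_reindex (m : ℕ) (x : Fin (2 * m + 2) → K) :
    QJ (2 * m + 2) (fun c => (x ∘ pos m) (idx m c)) = QJ (2 * m + 2) x := by
  congr 1
  funext c
  simp only [Function.comp_apply, pos_idx]

theorem rhoM_mulVec (E : QExt F a b K) (m : ℕ) (g : Matrix (Idx m) (Idx m) F)
    (x : Fin (2 * m + 2) → K) :
    rhoM E m g *ᵥ x =
      fun c => (PMinv E m *ᵥ (g.map E.inc *ᵥ (PM E m *ᵥ (x ∘ pos m)))) (idx m c) := by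
  unfold rhoM
  rw [Matrix.reindex_apply, Matrix.submatrix_mulVec_equiv, Matrix.mulVec_mulVec,
    Matrix.mulVec_mulVec]
  rfl

end PRES

theorem presQ_rho (E : QExt F a b K) (m : ℕ) (g : OG m F a b) : PresQ (2 * m + 2) (rho E m g) := by
  intro x
  show QJ (2 * m + 2) (rhoM E m ((g : Matrix.GeneralLinearGroup (Idx m) F) :
    Matrix (Idx m) (Idx m) F) *ᵥ x) = QJ (2 * m + 2) x
  rw [PRES.rhoM_mulVec, QJ_coord, quadFormMinus_map_mulVec, ← PRES.QJ_reindex m x]
  have h : x ∘ pos m = PMinv E m *ᵥ (PM E m *ᵥ (x ∘ pos m)) := by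
    rw [Matrix.mulVec_mulVec, PMinv_mul_PM, Matrix.one_mulVec]
  conv_rhs => rw [h]
  rw [QJ_coord]

end Cfsg.Agent.S2549P
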