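import Mathlib
import Cfsg.Agent.Helper7.S2863Defs
import Cfsg.Agent.Helper7.S2863Basic
import Cfsg.Agent.Lead.ThompsonPQ

/-! Board `s2863pieces`, row G10 (`exists_fixed`): a `p`-group fixed point modulo `C`. -/

set_option autoImplicit false
set_option linter.unusedVariables false
set_option linter.unusedSectionVars false

namespace Cfsg.Agent.S2863P

open Cfsg
open Cfsg.Agent.Helper14 (cj)
open Subgroup
open scoped commutatorElement

variable {G : Type*} [Group G] [Finite G] {p : ℕ} [Fact p.Prime]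
variable {L Y A C : Subgroup G}

/-- if `R` normalises `W` then `R` normalises `⁅W, R⁆` -/
theorem G10_aux_comm_inv {W R : Subgroup G} (hRW : R ≤ normalizer (W : Set G)) :
    R ≤ normalizer ((⁅W, R⁆ : Subgroup G) : Set G) := by
  intro u hu
  have hmap : (⁅W, R⁆).map (MulAut.conj u).toMonoidHom = ⁅W, R⁆ := by
    rw [Subgroup.map_commutator]
    have h1 : W.map (MulAut.conj u).toMonoidHom = W := by
      apply le_antisymm
      · rintro _ ⟨w, hw, rfl⟩
        exact (mem_normalizer_iff.mp (hRW hu) w).mp hw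
      · intro w hw
        refine ⟨u⁻¹ * w * u, ?_, by simp [MulAut.conj_apply]; group⟩
        have := (mem_normalizer_iff.mp (hRW hu) (u⁻¹ * w * u)).mpr
        apply this
        have e : u * (u⁻¹ * w * u) * u⁻¹ = w := by group
        rw [e]; exact hw
    have h2 : R.map (MulAut.conj u).toMonoidHom = R := by
      apply le_antisymm
      · rintro _ ⟨w, hw, rfl⟩
        simp only [MulEquiv.coe_toMonoidHom, MulAut.conj_apply]
        exact R.mul_mem (R.mul_mem hu hw) (R.inv_mem hu)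
      · intro w hw
        exact ⟨u⁻¹ * w * u, R.mul_mem (R.mul_mem (R.inv_mem hu) hw) hu, by simp [MulAut.conj_apply]; group⟩
    rw [h1, h2]
  rw [mem_normalizer_iff]
  intro x
  constructor
  · intro hx
    rw [← hmap]
    exact ⟨x, hx, by simp [MulAut.conj_apply]⟩
  · intro hx
    rw [← hmap] at hx
    obtain ⟨y, hy, hyx⟩ := hx
    have : y = x := by
      simp only [MulEquiv.coe_toMonoidHom, MulAut.conj_apply] at hyx
      have e1 : y = u⁻¹ * (u * y * u⁻¹) * u := by group
      rw [e1, hyx]; group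
    rwa [← this]

/-- G10 : a `p`-group normalising `U` with `C < U ≤ A` fixes some element of `U ∖ C` modulo `C`. -/
theorem exists_fixed (h : FHyp p L Y A C) {R U : Subgroup G} (hR : IsPGroup p ↥R) (hRL : R ≤ L)
    (hRU : R ≤ normalizer (U : Set G)) (hCU : C < U) (hUA : U ≤ A) :
    ∃ a ∈ U, a ∉ C ∧ ∀ r ∈ R, Fixes C r a := by
  have hUp : IsPGroup p ↥U := h.hAp.to_le hUA
  let S : Set (Subgroup G) := {W | W ≤ U ∧ R ≤ normalizer (W : Set G) ∧ ¬ W ≤ C}
  have hSne : S.Nonempty := ⟨U, le_rfl, hRU, fun hle => (lt_irrefl _ (lt_of_lt_of_le hCU hle))⟩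
  obtain ⟨W, hWS, hWmin⟩ := S.toFinite.exists_minimal hSne
  obtain ⟨hWU, hRW, hWC⟩ := hWS
  have hWne : W ≠ ⊥ := by
    rintro rfl
    exact hWC bot_le
  have hlt' : ⁅W, R⁆ < W := Cfsg.Agent.Lead.commutator_lt_of_isPGroup (hUp.to_le hWU) hR hRW hWne
  have hcom : ⁅W, R⁆ ≤ C := by
    by_contra hnot
    have hmem : ⁅W, R⁆ ∈ S := ⟨hlt'.le.trans hWU, G10_aux_comm_inv hRW, hnot⟩
    have := hWmin hmem hlt'.le
    exact absurd (le_antisymm hlt'.le this) hlt'.ne
  obtain ⟨a, haW, haC⟩ := SetLike.not_le_iff_exists.mp hWC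
  refine ⟨a, hWU haW, haC, fun r hr => ?_⟩
  have h1 : ⁅r, a⁆ ∈ ⁅R, W⁆ := Subgroup.commutator_mem_commutator hr haW
  rw [Subgroup.commutator_comm] at h1
  have h2 := hcom h1
  unfold Fixes
  rwa [commutatorElement_def] at h2

end Cfsg.Agent.S2863P
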