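import Mathlib
import Cfsg.Agent.Helper7.S2863Defs
import Cfsg.Agent.Helper7.S2863Basic

/-! Board `s2863pieces`, row G3 (`inf_far`). -/

set_option autoImplicit false
set_option linter.unusedVariables false
set_option linter.unusedSectionVars false

namespace Cfsg.Agent.S2863P

open Cfsg
open Cfsg.Agent.Helper14 (cj)
open Subgroup

variable {G : Type*} [Group G] [Finite G] {p : ℕ} [Fact p.Prime]
variable {L Y A C : Subgroup G}

/-- G3 : `Y0 ∩ Y0^l = C` for `l` far. -/
theorem inf_far (h : FHyp p L Y A C) {l : G} (hl : l ∈ L) (hl0 : l ∉ normalizer (Y : Set G)) :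
    (Y ⊓ A) ⊓ cjs l (Y ⊓ A) = C := by
  apply le_antisymm
  · rintro x ⟨⟨hxY, hxA⟩, hxl⟩
    have hxl' : l⁻¹ * x * l ∈ Y := (FHyp.mem_cjs.mp hxl).1
    -- `x` is centralised by `Y` and by `cjs l Y`
    have hK : Y ⊔ cjs l Y ≤ centralizer ({x} : Set G) := by
      apply sup_le
      · intro y hy
        rw [Subgroup.mem_centralizer_iff]
        intro z hz
        rw [Set.mem_singleton_iff] at hz
        subst hz
        exact h.hYab z hxY y hy
      · rintro _ ⟨y, hy, rfl⟩
        rw [Subgroup.mem_centralizer_iff]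
        intro z hz
        rw [Set.mem_singleton_iff] at hz
        subst hz
        simp only [Cfsg.Agent.Helper14.cj_apply]
        have hc := h.hYab (l⁻¹ * z * l) hxl' y hy
        calc z * (l * y * l⁻¹) = l * ((l⁻¹ * z * l) * y) * l⁻¹ := by group
          _ = l * (y * (l⁻¹ * z * l)) * l⁻¹ := by rw [hc]
          _ = l * y * l⁻¹ * z := by group
    rw [h.hgen l hl hl0] at hK
    apply h.mem_C_iff.mpr
    refine ⟨hxY, fun g hg => ?_⟩
    have := Subgroup.mem_centralizer_iff.mp (hK hg) x (Set.mem_singleton x)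
    exact this.symm
  · apply le_inf h.hCY0
    have h1 : cjs l C ≤ cjs l (Y ⊓ A) := Subgroup.map_mono h.hCY0
    rwa [h.cjs_C hl] at h1

end Cfsg.Agent.S2863P
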