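import Mathlib
import Cfsg.Agent.Helper26.S64A
import Cfsg.Agent.Helper26.S64C
import Cfsg.Agent.Helper8.S64B1
import Cfsg.Agent.Helper8.S64B2
import Cfsg.Agent.Helper19.S2933QUOT
import Cfsg.Agent.Helper8.S2933FPF
import Cfsg.Agent.Helper16.S2933B64
import Cfsg.Agent.Helper15.S2933Defs

set_option autoImplicit false

namespace Cfsg.Agent.S2933P

open scoped commutatorElement
open Cfsg.Agent.Helper16.S64 Cfsg.Agent.S2933P

universe u

/-- a subgroup of order four invariant under a fixed-point-free `ρ` of order three is `{1, z, ρ z, ρ² z}` -/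
theorem NO256A_aux_four {Q : Type*} [Group Q] {ρ : MulAut Q} (hf : Fpf3 ρ) (Z : Subgroup Q)
    (hZ : Nat.card Z = 4) (hρZ : ∀ z ∈ Z, ρ z ∈ Z) (z : Q) (hz : z ∈ Z) (hz1 : z ≠ 1) :
    ∀ y ∈ Z, y = 1 ∨ y = z ∨ y = ρ z ∨ y = ρ (ρ z) := by
  classical
  haveI : Finite Z := Nat.finite_of_card_ne_zero (by rw [hZ]; norm_num)
  haveI : Fintype Z := Fintype.ofFinite Z
  have hρz_ne : ρ z ≠ z := fun he => hz1 (hf.fpf z he)
  have hρρz_ne : ρ (ρ z) ≠ z := by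
    intro he
    apply hρz_ne
    have := congrArg ρ he
    rw [hf.cube] at this
    exact this.symm
  have hρz1 : ρ z ≠ 1 := fun he => hz1 (ρ.injective (he.trans (map_one ρ).symm))
  have hρρz1 : ρ (ρ z) ≠ 1 := fun he => hρz1 (ρ.injective (he.trans (map_one ρ).symm))
  have hρρz_ne' : ρ (ρ z) ≠ ρ z := fun he => hρz_ne (ρ.injective he)
  let S : Finset Z := {⟨1, Z.one_mem⟩, ⟨z, hz⟩, ⟨ρ z, hρZ z hz⟩, ⟨ρ (ρ z), hρZ _ (hρZ z hz)⟩}
  have hS : S.card = 4 := by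
    rw [Finset.card_insert_of_notMem, Finset.card_insert_of_notMem,
      Finset.card_insert_of_notMem, Finset.card_singleton]
    · simp only [Finset.mem_singleton, Subtype.mk.injEq]; exact fun he => hρρz_ne' he.symm
    · simp only [Finset.mem_insert, Finset.mem_singleton, Subtype.mk.injEq]
      rintro (he | he)
      · exact hρz_ne he.symm
      · exact hρρz_ne he.symm
    · simp only [Finset.mem_insert, Finset.mem_singleton, Subtype.mk.injEq]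
      rintro (he | he | he)
      · exact hz1 he.symm
      · exact hρz1 he.symm
      · exact hρρz1 he.symm
  have hSu : S = Finset.univ := by
    apply Finset.eq_univ_of_card
    rw [hS, ← Nat.card_eq_fintype_card, hZ]
  intro y hy
  have : (⟨y, hy⟩ : Z) ∈ S := by rw [hSu]; exact Finset.mem_univ _
  simp only [S, Finset.mem_insert, Finset.mem_singleton, Subtype.mk.injEq] at this
  exact this

/-- conjugating two commuting elements: `⁅g, ⁅k, h⁆⁆ = ⁅h, ⁅k, g⁆⁆` when `g h = h g`, the two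
inner commutators commute and the outer commutators are central. -/
theorem NO256A_aux_hw {T : Type*} [Group T] (g h k : T) (hgh : g * h = h * g)
    (hab : ⁅k, g⁆ * ⁅k, h⁆ = ⁅k, h⁆ * ⁅k, g⁆)
    (hc1 : ∀ u : T, ⁅g, ⁅k, h⁆⁆ * u = u * ⁅g, ⁅k, h⁆⁆)
    (hc2 : ∀ u : T, ⁅h, ⁅k, g⁆⁆ * u = u * ⁅h, ⁅k, g⁆⁆) :
    ⁅g, ⁅k, h⁆⁆ = ⁅h, ⁅k, g⁆⁆ := by
  set a := ⁅k, g⁆ with ha
  set a' := ⁅k, h⁆ with ha'
  have e1 : k * g * k⁻¹ = a * g := by rw [ha, commutatorElement_def]; group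
  have e2 : k * h * k⁻¹ = a' * h := by rw [ha', commutatorElement_def]; group
  have e3 : (a * g) * (a' * h) = (a' * h) * (a * g) := by
    rw [← e1, ← e2]
    calc k * g * k⁻¹ * (k * h * k⁻¹) = k * (g * h) * k⁻¹ := by group
      _ = k * (h * g) * k⁻¹ := by rw [hgh]
      _ = k * h * k⁻¹ * (k * g * k⁻¹) := by group
  have e4 : g * a' = ⁅g, a'⁆ * a' * g := by rw [commutatorElement_def]; group
  have e5 : h * a = ⁅h, a⁆ * a * h := by rw [commutatorElement_def]; group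
  have l : (a * g) * (a' * h) = ⁅g, a'⁆ * (a * a' * (g * h)) := by
    calc (a * g) * (a' * h) = a * (g * a') * h := by group
      _ = a * (⁅g, a'⁆ * a' * g) * h := by rw [e4]
      _ = (a * ⁅g, a'⁆) * (a' * (g * h)) := by group
      _ = (⁅g, a'⁆ * a) * (a' * (g * h)) := by rw [hc1 a]
      _ = ⁅g, a'⁆ * (a * a' * (g * h)) := by group
  have r : (a' * h) * (a * g) = ⁅h, a⁆ * (a * a' * (g * h)) := by
    calc (a' * h) * (a * g) = a' * (h * a) * g := by group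
      _ = a' * (⁅h, a⁆ * a * h) * g := by rw [e5]
      _ = (a' * ⁅h, a⁆) * (a * (h * g)) := by group
      _ = (⁅h, a⁆ * a') * (a * (h * g)) := by rw [hc2 a']
      _ = ⁅h, a⁆ * (a' * a * (h * g)) := by group
      _ = ⁅h, a⁆ * (a * a' * (g * h)) := by rw [← hab, ← hgh]
  rw [l, r] at e3
  exact mul_right_cancel e3

/-- NO256A (blueprint L6 (a)-(d)). -/
theorem NO256A {T : Type u} [Group T] [Finite T] (hT : IsPGroup 2 T) {τ ρ : MulAut T}
    {V : Subgroup T} (h : PData τ ρ V) [V.Normal] (hc : Nat.card (T ⧸ V) = 64)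
    (hna : ¬ IsMulCommutative (T ⧸ V)) :
    ∃ V2 : Subgroup T, V ≤ V2 ∧ V2 ≤ Subgroup.center T ∧ Nat.card V2 = 16 ∧
      (∀ x ∈ V2, ρ x ∈ V2) ∧ (∀ g : T, g * g ∈ V2) := by
  classical
  have hne : V ≠ ⊤ := by
    intro htop
    have : Nat.card (T ⧸ V) = 1 := by
      rw [← Subgroup.index_eq_card, htop, Subgroup.index_top]
    omega
  obtain ⟨τ', ρ', V', h', hτ', hρ', hV'⟩ := QUOT hT h hne
  have hQ : IsPGroup 2 (T ⧸ V) := hT.to_quotient V
  have hf : Fpf3 ρ := FPF hT h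
  have hf' : Fpf3 ρ' := FPF hQ h'
  have F : Fpf3Facts ρ := Cfsg.Agent.Helper26.S64.fpf3Facts_of_fpf3 hf
  have F' : Fpf3Facts ρ' := Cfsg.Agent.Helper26.S64.fpf3Facts_of_fpf3 hf'
  obtain ⟨hZ', hcen'⟩ := Cfsg.Agent.Helper8.S64.center_and_class hc hna F'
    (fun N M hNn hN hM => Cfsg.Agent.Helper8.S64.index_ne_four F' N M hNn hN hM)
  have C' : Cl2Facts ρ' := Cfsg.Agent.Helper26.S64.cl2Facts F' hZ' hcen'
  have hV'Z : V' = Subgroup.center (T ⧸ V) :=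
    Subgroup.eq_of_le_of_card_ge h'.central (by rw [hZ', h'.card])
  -- notation
  let π : T →* T ⧸ V := QuotientGroup.mk' V
  have hπ : ∀ x : T, π x = (QuotientGroup.mk x : T ⧸ V) := fun _ => rfl
  have hπ1 : ∀ x : T, π x = 1 ↔ x ∈ V := fun x => QuotientGroup.eq_one_iff x
  have hπρ : ∀ x : T, π (ρ x) = ρ' (π x) := fun x => (hρ' x).symm
  have hπeq : ∀ x y : T, π x = π y → ∃ v ∈ V, y = x * v := by
    intro x y hxy
    refine ⟨x⁻¹ * y, ?_, by group⟩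
    exact QuotientGroup.eq.mp hxy
  have hVc : ∀ v ∈ V, ∀ g : T, g * v = v * g := fun v hv g =>
    Subgroup.mem_center_iff.mp (h.central hv) g
  have hVc' : ∀ v ∈ V, ∀ g : T, v * g = g * v := fun v hv g => (hVc v hv g).symm
  -- V2
  let V2 : Subgroup T := V'.comap π
  have hmem : ∀ x, x ∈ V2 ↔ π x ∈ V' := fun x => Iff.rfl
  have hVV2 : V ≤ V2 := by
    intro x hx
    rw [hmem, (hπ1 x).mpr hx]; exact V'.one_mem
  have hρV2 : ∀ x ∈ V2, ρ x ∈ V2 := by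
    intro x hx
    rw [hmem, hπρ]; exact h'.rho_mem _ hx
  have hsq : ∀ g : T, g * g ∈ V2 := by
    intro g
    rw [hmem, map_mul, hV'Z, Subgroup.mem_center_iff]
    intro u
    exact (C'.sq_central (π g) u).symm
  have hcard : Nat.card V2 = 16 := by
    have hidx : V2.index = V'.index :=
      Subgroup.index_comap_of_surjective V' (QuotientGroup.mk'_surjective V)
    have h1 := Subgroup.card_mul_index V2
    have h2 := Subgroup.card_mul_index V'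
    have h3 : Nat.card T = 256 := by
      rw [Subgroup.card_eq_card_quotient_mul_card_subgroup V, hc, h.card]
    rw [h'.card, hc] at h2
    rw [hidx, h3] at h1
    have : V'.index = 16 := by omega
    rw [this] at h1
    omega
  -- commutators with V2 lie in V
  have hcomV : ∀ b ∈ V2, ∀ g : T, ⁅b, g⁆ ∈ V := by
    intro b hb g
    rw [← hπ1, map_commutatorElement, commutatorElement_eq_one_iff_mul_comm]
    have : π b ∈ Subgroup.center (T ⧸ V) := by rw [← hV'Z]; exact hb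
    exact (Subgroup.mem_center_iff.mp this (π g)).symm
  have hcomV2 : ∀ x y : T, ⁅x, y⁆ ∈ V2 := by
    intro x y
    rw [hmem, map_commutatorElement, hV'Z, Subgroup.mem_center_iff]
    intro u
    exact (hcen' (π x) (π y) u).symm
  -- bi-multiplicativity
  have hmulr : ∀ b ∈ V2, ∀ g₁ g₂ : T, ⁅b, g₁ * g₂⁆ = ⁅b, g₁⁆ * ⁅b, g₂⁆ := by
    intro b hb g₁ g₂
    have e : ⁅b, g₁ * g₂⁆ = ⁅b, g₁⁆ * (g₁ * ⁅b, g₂⁆ * g₁⁻¹) := by
      simp only [commutatorElement_def]; group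
    rw [e, hVc _ (hcomV b hb g₂) g₁, mul_inv_cancel_right]
  have hmull : ∀ b₁ : T, ∀ b₂ ∈ V2, ∀ g : T, ⁅b₁ * b₂, g⁆ = ⁅b₁, g⁆ * ⁅b₂, g⁆ := by
    intro b₁ b₂ hb₂ g
    have e : ⁅b₁ * b₂, g⁆ = b₁ * ⁅b₂, g⁆ * b₁⁻¹ * ⁅b₁, g⁆ := by
      simp only [commutatorElement_def]; group
    rw [e, hVc _ (hcomV b₂ hb₂ g) b₁, mul_inv_cancel_right, hVc' _ (hcomV b₂ hb₂ g)]
  have hcomv : ∀ v ∈ V, ∀ g : T, ⁅v, g⁆ = 1 := by
    intro v hv g
    rw [commutatorElement_eq_one_iff_mul_comm]; exact hVc' v hv g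
  -- V2 is abelian
  have hab : ∀ b₁ ∈ V2, ∀ b₂ ∈ V2, b₁ * b₂ = b₂ * b₁ := by
    intro b₁ hb₁ b₂ hb₂
    by_cases hb1 : π b₁ = 1
    · exact hVc' b₁ ((hπ1 b₁).mp hb1) b₂
    · rcases NO256A_aux_four hf' V' h'.card h'.rho_mem (π b₁) hb₁ hb1 (π b₂) hb₂ with
        h1 | h1 | h1 | h1
      · exact hVc b₂ ((hπ1 b₂).mp h1) b₁
      · obtain ⟨v, hv, rfl⟩ := hπeq _ _ h1.symm
        rw [← mul_assoc, mul_assoc b₁ v b₁, hVc' v hv b₁, ← mul_assoc]
      · rw [← hπρ] at h1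
        obtain ⟨v, hv, rfl⟩ := hπeq _ _ h1.symm
        rw [← mul_assoc, F.comm b₁, mul_assoc (ρ b₁) v b₁, hVc' v hv b₁, ← mul_assoc]
      · rw [← hπρ, ← hπρ] at h1
        obtain ⟨v, hv, rfl⟩ := hπeq _ _ h1.symm
        have := F.comm (ρ (ρ b₁))
        rw [hf.cube] at this
        rw [← mul_assoc, ← this, mul_assoc (ρ (ρ b₁)) v b₁, hVc' v hv b₁, ← mul_assoc]
  -- (c): the key identity
  have hkey : ∀ g k : T, ⁅ρ (ρ ⁅k, g⁆), g⁆ = ⁅⁅k, g⁆, ρ g⁆ := by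
    intro g k
    have hcen1 : ∀ u : T, ⁅g, ⁅k, ρ g⁆⁆ * u = u * ⁅g, ⁅k, ρ g⁆⁆ := by
      intro u
      have : ⁅g, ⁅k, ρ g⁆⁆ ∈ V := by
        rw [← commutatorElement_inv]
        exact V.inv_mem (hcomV _ (hcomV2 _ _) _)
      exact hVc' _ this u
    have hcen2 : ∀ u : T, ⁅ρ g, ⁅k, g⁆⁆ * u = u * ⁅ρ g, ⁅k, g⁆⁆ := by
      intro u
      have : ⁅ρ g, ⁅k, g⁆⁆ ∈ V := by
        rw [← commutatorElement_inv]
        exact V.inv_mem (hcomV _ (hcomV2 _ _) _)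
      exact hVc' _ this u
    have hw := NO256A_aux_hw g (ρ g) k (F.comm g) (hab _ (hcomV2 _ _) _ (hcomV2 _ _)) hcen1 hcen2
    -- invert
    have hw' : ⁅⁅k, ρ g⁆, g⁆ = ⁅⁅k, g⁆, ρ g⁆ := by
      rw [← commutatorElement_inv g ⁅k, ρ g⁆, ← commutatorElement_inv (ρ g) ⁅k, g⁆, hw]
    -- ⁅k, ρ g⁆ = ρρ⁅k,g⁆ * v
    have hπe : π (ρ (ρ ⁅k, g⁆)) = π ⁅k, ρ g⁆ := by
      calc π (ρ (ρ ⁅k, g⁆)) = ρ' (ρ' (π ⁅k, g⁆)) := by rw [hπρ, hπρ]
        _ = ρ' (ρ' ⁅π k, π g⁆) := by rw [map_commutatorElement]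
        _ = ⁅π k, ρ' (π g)⁆ := (C'.rho_right _ _).symm
        _ = ⁅π k, π (ρ g)⁆ := by rw [hπρ]
        _ = π ⁅k, ρ g⁆ := (map_commutatorElement π k (ρ g)).symm
    obtain ⟨v, hv, hv'⟩ := hπeq _ _ hπe
    rw [hv', hmull _ v (hVV2 hv) g, hcomv v hv, mul_one] at hw'
    exact hw'
  -- (b)+(c): for g ∉ V2
  have hstar : ∀ g : T, g ∉ V2 → ∀ b ∈ V2, ⁅ρ (ρ b), g⁆ = ⁅b, ρ g⁆ := by
    intro g hg b hb
    have hgc : π g ∉ Subgroup.center (T ⧸ V) := by rw [← hV'Z]; exact hg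
    have hbc : π b ∈ Subgroup.center (T ⧸ V) := by rw [← hV'Z]; exact hb
    obtain ⟨k', hk'⟩ := B64 hc hna hf' (π g) hgc (π b) hbc
    obtain ⟨k, rfl⟩ := QuotientGroup.mk'_surjective V k'
    rw [← map_commutatorElement] at hk'
    obtain ⟨v, hv, rfl⟩ := hπeq _ _ hk'
    have hρρv : ρ (ρ v) ∈ V := h.rho_mem _ (h.rho_mem _ hv)
    rw [map_mul, map_mul, hmull _ _ (hVV2 hρρv) g, hcomv _ hρρv, mul_one,
      hmull _ _ (hVV2 hv) (ρ g), hcomv _ hv, mul_one]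
    exact hkey g k
  -- (d)
  have hd : ∀ g : T, g ∉ V2 → ∀ b ∈ V2, ⁅b, g⁆ = 1 := by
    intro g hg b hb
    apply h.rho_fpf _ (hcomV b hb g)
    rw [map_commutatorElement, ← hstar g hg (ρ b) (hρV2 b hb), hf.cube]
  refine ⟨V2, hVV2, ?_, hcard, hρV2, hsq⟩
  intro b hb
  rw [Subgroup.mem_center_iff]
  intro g
  by_cases hg : g ∈ V2
  · exact hab g hg b hb
  · have := hd g hg b hb
    rw [commutatorElement_eq_one_iff_mul_comm] at this
    exact this.symm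

end Cfsg.Agent.S2933P
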