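import Mathlib
import Cfsg.Agent.Helper8.S2933FPF
import Cfsg.Agent.Helper26.S2933NO256B
import Cfsg.Agent.Helper15.S2933Defs
import Cfsg.Agent.Helper15.S2933NO256A

set_option autoImplicit false

namespace Cfsg.Agent.S2933P

open scoped commutatorElement
open Cfsg.Agent.Helper16.S64 Cfsg.Agent.S2933P

universe u

/-- class-two squaring of a commutator -/
theorem NO256_aux_sq {T : Type*} [Group T] (g k : T)
    (hc : ∀ u : T, ⁅g, k⁆ * u = u * ⁅g, k⁆) (hg : ∀ u : T, (g * g) * u = u * (g * g)) :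
    ⁅g, k⁆ * ⁅g, k⁆ = 1 := by
  -- ⁅g*g, k⁆ = g ⁅g,k⁆ g⁻¹ ⁅g,k⁆ = ⁅g,k⁆ ⁅g,k⁆ and ⁅g*g,k⁆ = 1
  have h1 : ⁅g * g, k⁆ = 1 := by
    rw [commutatorElement_def, hg k]; group
  have h2 : ⁅g * g, k⁆ = g * ⁅g, k⁆ * g⁻¹ * ⁅g, k⁆ := by
    simp only [commutatorElement_def]; group
  rw [h2, ← hc g, mul_inv_cancel_right] at h1
  exact h1

/-- NO256 (blueprint L6): contradiction. -/
theorem NO256 {T : Type u} [Group T] [Finite T] (hT : IsPGroup 2 T) {τ ρ : MulAut T}
    {V : Subgroup T} (h : PData τ ρ V) [V.Normal] (hc : Nat.card (T ⧸ V) = 64)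
    (hna : ¬ IsMulCommutative (T ⧸ V)) : False := by
  classical
  have hf : Fpf3 ρ := FPF hT h
  obtain ⟨V2, hVV2, hcen, h16, hρ2, hsq⟩ := NO256A hT h hc hna
  have hcardT : Nat.card T = 256 := by
    rw [Subgroup.card_eq_card_quotient_mul_card_subgroup V, hc, h.card]
  obtain ⟨D, hD4, hD⟩ := NO256B hf hcardT V2 hcen h16 hρ2 hsq
  -- central squares
  have hsqc : ∀ g u : T, (g * g) * u = u * (g * g) := fun g u =>
    (Subgroup.mem_center_iff.mp (hcen (hsq g)) u).symm
  -- commutators lie in V2 (T/V2 has exponent 2)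
  have hcomV2 : ∀ g k : T, ⁅g, k⁆ ∈ V2 := by
    intro g k
    -- ⁅g,k⁆ = (g k)² (k⁻¹ g⁻¹ k)² k⁻² … ; use: ⁅g,k⁆ = (g*k)*(g*k) * ((k⁻¹ * g⁻¹ * k) * (k⁻¹ * g⁻¹ * k)) * (k⁻¹ * k⁻¹)
    have e : ⁅g, k⁆ = ((g * k) * (g * k)) * ((k⁻¹ * g⁻¹ * k) * (k⁻¹ * g⁻¹ * k)) * (k⁻¹ * k⁻¹) := by
      rw [commutatorElement_def]; group
    rw [e]
    exact V2.mul_mem (V2.mul_mem (hsq _) (hsq _)) (hsq _)
  have hcomc : ∀ g k u : T, ⁅g, k⁆ * u = u * ⁅g, k⁆ := fun g k u =>
    (Subgroup.mem_center_iff.mp (hcen (hcomV2 g k)) u).symm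
  -- a non-trivial commutator
  have hex : ∃ g k : T, ⁅g, k⁆ ≠ 1 := by
    by_contra hno
    push_neg at hno
    apply hna
    refine ⟨⟨fun a b => ?_⟩⟩
    induction a using QuotientGroup.induction_on with
    | H x =>
      induction b using QuotientGroup.induction_on with
      | H y =>
        have := hno x y
        rw [commutatorElement_eq_one_iff_mul_comm] at this
        rw [← QuotientGroup.mk_mul, ← QuotientGroup.mk_mul, this]
  obtain ⟨g, k, hgk⟩ := hex
  set c : T := ⁅g, k⁆ with hcdef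
  have hc2 : c * c = 1 := NO256_aux_sq g k (hcomc g k) (hsqc g)
  have hτc : τ c = ⁅τ g, τ k⁆ := by rw [hcdef, map_commutatorElement]
  -- the derived subgroup C
  set C : Subgroup T := commutator T with hCdef
  have hCD : C ≤ D := by
    rw [hCdef, commutator_def, Subgroup.commutator_le]
    intro a _ b _
    exact hD a b
  have hcC : c ∈ C := by
    rw [hCdef, commutator_def]
    exact Subgroup.commutator_mem_commutator (Subgroup.mem_top g) (Subgroup.mem_top k)
  have hτcC : τ c ∈ C := by
    rw [hτc, hCdef, commutator_def]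
    exact Subgroup.commutator_mem_commutator (Subgroup.mem_top _) (Subgroup.mem_top _)
  have hρC : ∀ d ∈ C, ρ d ∈ C := by
    intro d hd
    have hchar : C.Characteristic := by rw [hCdef]; infer_instance
    have := (Subgroup.characteristic_iff_map_eq.mp hchar) ρ
    rw [← this]
    exact ⟨d, hd, rfl⟩
  -- a non-trivial element of V ∩ C
  have hv : ∃ v : T, v ∈ V ∧ v ∈ C ∧ v ≠ 1 := by
    by_cases hd : c * τ c = 1
    · refine ⟨c, ?_, hcC, hgk⟩
      rw [← h.tau_fix]
      have : τ c = c⁻¹ := (eq_inv_of_mul_eq_one_right hd)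
      rw [this]
      exact inv_eq_of_mul_eq_one_left hc2
    · refine ⟨c * τ c, ?_, C.mul_mem hcC hτcC, hd⟩
      rw [← h.tau_fix, map_mul, h.tau_sq]
      rw [hτc]
      exact (hcomc _ _ c)
  obtain ⟨v, hvV, hvC, hv1⟩ := hv
  have hρvV : ρ v ∈ V := h.rho_mem v hvV
  have hρρvV : ρ (ρ v) ∈ V := h.rho_mem _ hρvV
  have hρv_ne : ρ v ≠ v := fun he => hv1 (h.rho_fpf v hvV he)
  have hρρv_ne : ρ (ρ v) ≠ v := by
    intro he
    apply hρv_ne
    have := congrArg ρ he
    rw [h.rho_cube] at this
    exact this.symm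
  have hρv1 : ρ v ≠ 1 := fun he => hv1 (by
    have := ρ.injective (he.trans (map_one ρ).symm); exact this)
  have hρρv1 : ρ (ρ v) ≠ 1 := fun he => hρv1 (by
    have := ρ.injective (he.trans (map_one ρ).symm); exact this)
  have hρρv_ne' : ρ (ρ v) ≠ ρ v := fun he => hρv_ne (ρ.injective he)
  -- V ≤ C
  have hVC : V ≤ C := by
    -- V ⊓ C contains four distinct elements
    haveI : Fintype T := Fintype.ofFinite T
    have h4 : 4 ≤ Nat.card (V ⊓ C : Subgroup T) := by
      have hsub : ({1, v, ρ v, ρ (ρ v)} : Finset T) ⊆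
          (Set.toFinset ((V ⊓ C : Subgroup T) : Set T)) := by
        intro y hy
        simp only [Finset.mem_insert, Finset.mem_singleton] at hy
        rw [Set.mem_toFinset]
        rcases hy with rfl | rfl | rfl | rfl
        · exact Subgroup.one_mem _
        · exact ⟨hvV, hvC⟩
        · exact ⟨hρvV, hρC _ hvC⟩
        · exact ⟨hρρvV, hρC _ (hρC _ hvC)⟩
      have hcard : ({1, v, ρ v, ρ (ρ v)} : Finset T).card = 4 := by
        rw [Finset.card_insert_of_notMem, Finset.card_insert_of_notMem,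
          Finset.card_insert_of_notMem, Finset.card_singleton]
        · simp only [Finset.mem_singleton]; exact fun he => hρρv_ne' he.symm
        · simp only [Finset.mem_insert, Finset.mem_singleton]
          rintro (he | he)
          · exact hρv_ne he.symm
          · exact hρρv_ne he.symm
        · simp only [Finset.mem_insert, Finset.mem_singleton]
          rintro (he | he | he)
          · exact hv1 he.symm
          · exact hρv1 he.symm
          · exact hρρv1 he.symm
      have := Finset.card_le_card hsub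
      rw [hcard, Set.toFinset_card] at this
      rw [Nat.card_eq_fintype_card]
      convert this
      exact Iff.rfl
    have hle : (V ⊓ C : Subgroup T) ≤ V := inf_le_left
    have heq : (V ⊓ C : Subgroup T) = V := by
      apply Subgroup.eq_of_le_of_card_ge hle
      rw [h.card]; exact h4
    rw [← heq]; exact inf_le_right
  have hCV : C = V := by
    symm
    apply Subgroup.eq_of_le_of_card_ge hVC
    calc Nat.card C ≤ Nat.card D := Subgroup.card_le_of_le hCD
      _ ≤ 4 := hD4
      _ = Nat.card V := h.card.symm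
  -- T ⧸ V commutative
  apply hna
  refine ⟨⟨fun a b => ?_⟩⟩
  induction a using QuotientGroup.induction_on with
  | H x =>
    induction b using QuotientGroup.induction_on with
    | H y =>
      have hxy : ⁅x, y⁆ ∈ V := by
        rw [← hCV, hCdef, commutator_def]
        exact Subgroup.commutator_mem_commutator (Subgroup.mem_top x) (Subgroup.mem_top y)
      rw [← QuotientGroup.mk_mul, ← QuotientGroup.mk_mul, QuotientGroup.eq]
      have e : (x * y)⁻¹ * (y * x) = ⁅y⁻¹, x⁻¹⁆ := by
        rw [commutatorElement_def]; group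
      rw [e]
      rw [← hCV, hCdef, commutator_def]
      exact Subgroup.commutator_mem_commutator (Subgroup.mem_top _) (Subgroup.mem_top _)

end Cfsg.Agent.S2933P
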