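import Mathlib
import Cfsg.Agent.Helper19.S2933QUOT
import Cfsg.Agent.Helper8.S2933FPF
import Cfsg.Agent.Helper25.S2933K2
import Cfsg.Agent.Helper25.S2933HOMO
import Cfsg.Agent.Helper14.S2933NAB
import Cfsg.Agent.Helper15.S2933Defs
import Cfsg.Agent.Helper15.S2933NO256

set_option autoImplicit false

namespace Cfsg.Agent.S2933P

open scoped commutatorElement
open Cfsg.Agent.Helper16.S64 Cfsg.Agent.S2933P

universe u

theorem IND_aux_klein {T : Type*} [Group T] [Finite T] (hc : Nat.card T = 4)
    (he : ∀ x : T, x * x = 1) : IsKleinFour T := by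
  refine ⟨hc, ?_⟩
  have hd : Monoid.exponent T ∣ 2 := by
    apply Monoid.exponent_dvd_of_forall_pow_eq_one
    intro x; rw [pow_two]; exact he x
  have h1 : Monoid.exponent T ≠ 1 := by
    intro h
    rw [Monoid.exp_eq_one_iff] at h
    have := Nat.card_unique (α := T)
    omega
  have h0 : Monoid.exponent T ≠ 0 := Monoid.exponent_ne_zero_of_finite
  have := Nat.le_of_dvd (by norm_num) hd
  interval_cases hE : Monoid.exponent T <;> simp_all

theorem IND_aux_card_zz (n : ℕ) :
    Nat.card (Multiplicative (ZMod (2 ^ n)) × Multiplicative (ZMod (2 ^ n))) = 2 ^ n * 2 ^ n := by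
  haveI : NeZero (2 ^ n) := ⟨by positivity⟩
  rw [Nat.card_prod]
  simp [Nat.card_eq_fintype_card, ZMod.card]

theorem IND_aux (n : ℕ) : ∀ (T : Type u) [Group T] [Finite T], IsPGroup 2 T →
    ∀ (τ ρ : MulAut T) (V : Subgroup T), PData τ ρ V → Nat.card T = n → Concl T := by
  induction n using Nat.strong_induction_on with
  | _ n ih =>
    intro T _ _ hT τ ρ V h hn
    have := h.normal
    have hcardT : Nat.card T = Nat.card (T ⧸ V) * 4 := by
      rw [Subgroup.card_eq_card_quotient_mul_card_subgroup V, h.card]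
    by_cases htop : V = ⊤
    · right; left
      refine ⟨1, le_rfl, ?_⟩
      have hc4 : Nat.card T = 4 := by
        rw [← h.card, htop, Subgroup.card_top]
      have hexp : ∀ x : T, x * x = 1 := fun x => h.exp x (by rw [htop]; trivial)
      haveI := IND_aux_klein hc4 hexp
      haveI : IsKleinFour (Multiplicative (ZMod (2 ^ 1)) × Multiplicative (ZMod (2 ^ 1))) :=
        IND_aux_klein (by rw [IND_aux_card_zz]; norm_num) (by decide)
      exact IsKleinFour.nonempty_mulEquiv
    · obtain ⟨τ', ρ', V', h', -, -, -⟩ := QUOT hT h htop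
      have hpos : 0 < Nat.card (T ⧸ V) := Nat.card_pos
      have hlt : Nat.card (T ⧸ V) < n := by rw [← hn, hcardT]; omega
      have hTq : IsPGroup 2 (T ⧸ V) := hT.to_quotient V
      have hq := ih _ hlt (T ⧸ V) hTq τ' ρ' V' h' rfl
      rcases hq with ⟨h16, hexp⟩ | ⟨m, hm, ⟨e⟩⟩ | ⟨h64, hna⟩
      · right; right
        have hc : Nat.card T = 64 := by rw [hcardT, h16]
        refine ⟨hc, NAB h (fun x => ?_) hc⟩
        have := hexp (QuotientGroup.mk x)
        rw [← QuotientGroup.mk_mul, QuotientGroup.eq_one_iff] at this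
        exact this
      · by_cases hm1 : m = 1
        · subst hm1
          have hc : Nat.card T = 16 := by
            rw [hcardT, Nat.card_congr e.toEquiv, IND_aux_card_zz]; norm_num
          rcases K2 h (FPF hT h) hc with hexp | e2
          · left; exact ⟨hc, hexp⟩
          · right; left; exact ⟨2, by norm_num, e2⟩
        · have hm2 : 2 ≤ m := by omega
          obtain ⟨e2⟩ := HOMO h m hm2 e
          right; left; exact ⟨m + 1, by omega, ⟨e2⟩⟩
      · exact (NO256 hT h h64 hna).elim

/-- IND = Theorem A. -/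
theorem IND {T : Type u} [Group T] [Finite T] (hT : IsPGroup 2 T) {τ ρ : MulAut T}
    {V : Subgroup T} (h : PData τ ρ V) : Concl T :=
  IND_aux _ T hT τ ρ V h rfl

end Cfsg.Agent.S2933P
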