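import Mathlib
import Cfsg.Prelude.Def_Classical
import Cfsg.Agent.Helper16.S64F
import Cfsg.Agent.Helper18.S64G
import Cfsg.Agent.Helper26.S64A
import Cfsg.Agent.Helper26.S64C
import Cfsg.Agent.Helper8.S64B1
import Cfsg.Agent.Helper8.S64B2
import Cfsg.Agent.Helper9.S2933NORM
import Cfsg.Agent.Helper18.S2933MODEL
import Cfsg.Agent.Helper16.S2933UNIQ
import Cfsg.Agent.Helper21.S2933CASEA
import Cfsg.Agent.Helper15.S2933Defs

set_option autoImplicit false

namespace Cfsg.Agent.S2933P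

open scoped commutatorElement
open Cfsg.Agent.Helper16.S64 Cfsg.Agent.S2933P

universe u

/-- THMB = Theorem B. -/
theorem THMB {T : Type u} [Group T] [Finite T] (hT : Nat.card T = 64) (hna : ¬ IsMulCommutative T)
    {ρ : MulAut T} (hf : Fpf3 ρ) :
    (∃ (F : Type) (_ : Field F) (_ : Fintype F), Fintype.card F = 4 ∧
      ∀ P : Sylow 2 (Matrix.ProjectiveSpecialLinearGroup (Fin 3) F),
        Nonempty (T ≃* ↥(P : Subgroup (Matrix.ProjectiveSpecialLinearGroup (Fin 3) F)))) ∨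
    (∃ (F : Type) (_ : Field F) (_ : Fintype F), Fintype.card F = 16 ∧
      ∀ P : Sylow 2 (Cfsg.PSU 3 F 4), Nonempty (T ≃* ↥(P : Subgroup (Cfsg.PSU 3 F 4)))) := by
  classical
  by_cases hall : ∀ u : T, u * u = 1 → u ∈ Subgroup.center T
  · right
    obtain ⟨s, x, w, hU⟩ := NORM hT hna hf hall
    obtain ⟨F, iF, iFt, hcard, hP⟩ := MODEL
    refine ⟨F, iF, iFt, hcard, fun P => ?_⟩
    obtain ⟨ρ', s', x', w', hU'⟩ := hP P
    exact UNIQ hU hU'
  · left
    push_neg at hall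
    obtain ⟨u, hu, hnc⟩ := hall
    obtain ⟨t1, t2, h1, h2, h12⟩ := CASEA hT hna hf u hu hnc
    have h : Fpf3Facts ρ := Cfsg.Agent.Helper26.S64.fpf3Facts_of_fpf3 hf
    obtain ⟨hZ, hcen⟩ := Cfsg.Agent.Helper8.S64.center_and_class hT hna h
      (fun N M hNn hN hM => Cfsg.Agent.Helper8.S64.index_ne_four h N M hNn hN hM)
    have hc : Cl2Facts ρ := Cfsg.Agent.Helper26.S64.cl2Facts h hZ hcen
    obtain ⟨e⟩ := nonempty_equiv_heis hT h hc t1 t2 h1 h2 h12
    obtain ⟨S, ⟨e'⟩⟩ := Cfsg.Agent.Helper18.S64.heis_sylow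
    haveI : Fact (Nat.Prime 2) := ⟨Nat.prime_two⟩
    haveI : Finite (Matrix.ProjectiveSpecialLinearGroup (Fin 3) F4) := inferInstance
    refine ⟨F4, inferInstance, inferInstance, Cfsg.Agent.Helper19.Sp4.F4.card_eq, fun P => ?_⟩
    exact ⟨(e.trans e').trans (Sylow.equiv S P)⟩

end Cfsg.Agent.S2933P
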