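import Mathlib
import Cfsg.Prelude.Def_JComponents
import Cfsg.Agent.Helper5.S2951Defs

set_option autoImplicit false

/-! S2951 board, piece CONJ (blueprint §1 P2(iv)). -/

universe u

namespace Cfsg.Agent.S2951P

open Cfsg Subgroup Cfsg.Agent.Helper15.JComp Cfsg.Agent.S2951P

variable {G : Type u} [Group G]

/-- the image of a 2-local under an automorphism is a 2-local -/
theorem CONJ_aux_twoLocal (e : G ≃* G) {N : Subgroup G} (h : IsTwoLocal N) :
    IsTwoLocal (N.map e.toMonoidHom) := by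
  obtain ⟨Q, hQ2, hQ1, rfl⟩ := h
  refine ⟨Q.map e.toMonoidHom, hQ2.map _, ?_, map_equiv_normalizer_eq Q e⟩
  rw [Ne, map_eq_bot_iff_of_injective Q e.injective]
  exact hQ1

/-- the image of a maximal 2-local under an automorphism is a maximal 2-local -/
theorem CONJ_aux_max (e : G ≃* G) {L : Subgroup G} (h : IsMaximalTwoLocal L) :
    IsMaximalTwoLocal (L.map e.toMonoidHom) := by
  refine ⟨CONJ_aux_twoLocal e h.1, fun N' hN' hle => ?_⟩
  have h1 : L ≤ N'.comap e.toMonoidHom := map_le_iff_le_comap.mp hle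
  have h2 : IsTwoLocal (N'.comap e.toMonoidHom) := by
    rw [comap_equiv_eq_map_symm']
    exact CONJ_aux_twoLocal e.symm hN'
  have h3 := h.2 _ h2 h1
  rw [← h3, map_comap_eq_self_of_surjective e.surjective]

variable [Finite G] {M T K L : Subgroup G}

/-- CONJ (M) = P2(iv): conjugating by `m ∈ N_G(J(T))`. -/
theorem CONJ (c : StraddleCtx M T) (hK : IsJComponent T K) (hKM : ¬ K ≤ M) (h : IsLK T K L) {m : G}
    (hm : m ∈ normalizer ((thompsonSubgroupOf 2 T : Subgroup G) : Set G)) :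
    IsJComponent T (cj m K) ∧ ¬ cj m K ≤ M ∧ IsLK T (cj m K) (cj m L) ∧
      cj m (Z0 T) = Z0 T ∧ Z1 T (cj m K) = cj m (Z1 T K) := by
  have hinj : Function.Injective (MulAut.conj m).toMonoidHom := (MulAut.conj m).injective
  have hJ : cj m (thompsonSubgroupOf 2 T) = thompsonSubgroupOf 2 T :=
    Cfsg.Agent.Helper7.map_conj_eq_of_mem_normalizer hm
  have hZ0 : cj m (Z0 T) = Z0 T := by
    show (omegaCenterOf (thompsonSubgroupOf 2 T)).map (MulAut.conj m).toMonoidHom = _
    rw [← omegaCenterOf_map hinj]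
    show omegaCenterOf (cj m (thompsonSubgroupOf 2 T)) = _
    rw [hJ]
  refine ⟨StraddleCtx.conj_component hK hm, StraddleCtx.not_map_conj_le (c.hNJ hm) hKM,
    ⟨CONJ_aux_max (MulAut.conj m) h.1, ?_⟩, hZ0, ?_⟩
  · refine sup_le (map_mono (le_sup_left.trans h.2)) ?_
    rw [← hJ]
    exact map_mono (le_sup_right.trans h.2)
  · unfold Z1
    show _ = (Z0 T ⊓ centralizer (K : Set G)).map (MulAut.conj m).toMonoidHom
    rw [map_inf _ _ _ hinj]
    show _ = cj m (Z0 T) ⊓ _
    rw [hZ0]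
    congr 1
    ext y
    rw [mem_centralizer_iff, mem_map]
    constructor
    · intro hy
      refine ⟨m⁻¹ * y * m, ?_, ?_⟩
      · rw [mem_centralizer_iff]
        intro k hk
        have := hy (m * k * m⁻¹) ⟨k, hk, rfl⟩
        -- (m k m⁻¹) y = y (m k m⁻¹)
        calc k * (m⁻¹ * y * m) = m⁻¹ * ((m * k * m⁻¹) * y) * m := by group
          _ = m⁻¹ * (y * (m * k * m⁻¹)) * m := by rw [this]
          _ = m⁻¹ * y * m * k := by group
      · simp [MulAut.conj_apply, mul_assoc]
    · rintro ⟨x, hx, rfl⟩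
      rintro _ ⟨k, hk, rfl⟩
      have := mem_centralizer_iff.mp hx k hk
      simp only [MulEquiv.coe_toMonoidHom, MulAut.conj_apply]
      calc m * k * m⁻¹ * (m * x * m⁻¹) = m * (k * x) * m⁻¹ := by group
        _ = m * (x * k) * m⁻¹ := by rw [this]
        _ = m * x * m⁻¹ * (m * k * m⁻¹) := by group

end Cfsg.Agent.S2951P
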