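import Mathlib
import Cfsg.Prelude.Def_JComponents
import Cfsg.Agent.Helper5.S2951Defs
import Cfsg.Agent.Helper19.S2951P1
import Cfsg.Agent.Helper16.S2951LEMB
import Cfsg.Agent.Helper26.S2951LEMC
import Cfsg.Agent.Helper17.S2951MZERO
import Cfsg.Agent.Helper23.S2951X
import Cfsg.Agent.Helper15.S2951CONJ
import Cfsg.Agent.S2949

set_option autoImplicit false

/-! S2951 board, piece PAIREQ (blueprint §9). -/

universe u

namespace Cfsg.Agent.S2951P

open Cfsg Subgroup Cfsg.Agent.Helper15.JComp Cfsg.Agent.S2951P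

variable {G : Type u} [Group G] [Finite G] {M T K K' L L' : Subgroup G}

omit [Finite G] in
/-- conjugation commutes with centralizers -/
theorem PAIREQ_aux_cj_centralizer (m : G) (K : Subgroup G) :
    cj m (centralizer (K : Set G)) = centralizer ((cj m K : Subgroup G) : Set G) := by
  ext y
  rw [mem_centralizer_iff, mem_map]
  constructor
  · rintro ⟨x, hx, rfl⟩
    rintro _ ⟨k, hk, rfl⟩
    have := mem_centralizer_iff.mp hx k hk
    simp only [MulEquiv.coe_toMonoidHom, MulAut.conj_apply]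
    calc m * k * m⁻¹ * (m * x * m⁻¹) = m * (k * x) * m⁻¹ := by group
      _ = m * (x * k) * m⁻¹ := by rw [this]
      _ = m * x * m⁻¹ * (m * k * m⁻¹) := by group
  · intro hy
    refine ⟨m⁻¹ * y * m, ?_, ?_⟩
    · rw [mem_centralizer_iff]
      intro k hk
      have := hy (m * k * m⁻¹) ⟨k, hk, rfl⟩
      calc k * (m⁻¹ * y * m) = m⁻¹ * ((m * k * m⁻¹) * y) * m := by group
        _ = m⁻¹ * (y * (m * k * m⁻¹)) * m := by rw [this]
        _ = m⁻¹ * y * m * k := by group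
    · simp [MulAut.conj_apply, mul_assoc]

omit [Finite G] in
/-- `cj m L = L` means `m ∈ N_G(L)` -/
theorem PAIREQ_aux_mem_normalizer {m : G} {L : Subgroup G} (h : L = cj m L) :
    m ∈ normalizer (L : Set G) := by
  rw [mem_normalizer_iff]
  intro x
  constructor
  · intro hx
    rw [h]
    exact ⟨x, hx, rfl⟩
  · intro hx
    rw [h] at hx
    obtain ⟨y, hy, hyx⟩ := hx
    have : y = x := by
      have h2 : m * y * m⁻¹ = m * x * m⁻¹ := hyx
      exact mul_left_cancel (mul_right_cancel h2)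
    rw [← this]; exact hy

/-- PAIREQ (L) = §9. -/
theorem PAIREQ (g : Glob G) (S : Sylow 2 G) {M : Subgroup G} (hM : IsTwoLocal M)
    (hMJ : normalizer ((thompsonSubgroupOf 2 (S : Subgroup G) : Subgroup G) : Set G) ≤ M)
    (hS : (S : Subgroup G) ∈ maxStraddlingTwoSubgroups M) {K : Subgroup G}
    (hK : K ∈ jComponentsOutside M (S : Subgroup G))
    (hmain : ∀ L : Subgroup G, IsTwoLocal L → ∀ S' : Sylow 2 G,
      normalizer ((thompsonSubgroupOf 2 (S' : Subgroup G) : Subgroup G) : Set G) ≤ L →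
      ∀ T' : Subgroup G, T' ∈ maxStraddlingTwoSubgroups L → T' ≤ (S' : Subgroup G) →
        T' ≠ (S' : Subgroup G) → Concl54 T') :
    ∃ K₂ L₁ L₂ : Subgroup G,
      PairData (normalizer ((thompsonSubgroupOf 2 (S : Subgroup G) : Subgroup G) : Set G))
        (S : Subgroup G) K K₂ L₁ L₂ ∧
      omegaCenterOf (S : Subgroup G) = Z0 (S : Subgroup G) ∧
      (Nat.card ↥(Z0 (S : Subgroup G)) = 2 ∨ Nat.card ↥(Z0 (S : Subgroup G)) = 4) := by
  haveI : Fact (Nat.Prime 2) := ⟨Nat.prime_two⟩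
  set M₀ : Subgroup G :=
    normalizer ((thompsonSubgroupOf 2 (S : Subgroup G) : Subgroup G) : Set G) with hM₀
  obtain ⟨hS2, hS1, hSM, H₀, hH₀2, hSH₀, hH₀M⟩ := hS.1
  have c₀ : StraddleCtx M₀ (S : Subgroup G) :=
    MZERO_ctx g S ⟨H₀, hH₀2, hSH₀, fun h => hH₀M (h.trans hMJ)⟩
  have c : StraddleCtx M (S : Subgroup G) := straddleCtx_mk g.hL g.hN g.hZ S hMJ hS
  have hKc : IsJComponent (S : Subgroup G) K := hK.1.1
  have hKM₀ : ¬ K ≤ M₀ := fun h => hK.2.1 (h.trans hMJ)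
  obtain ⟨L, hLmax, hKJL, -, -, hSL'⟩ := c.unique_maximal hK
  have hSL : (S : Subgroup G) ≤ L := hSL'.1
  have hLK : IsLK (S : Subgroup G) K L := ⟨hLmax, hKJL⟩
  have hKL : K ≤ L := le_sup_left.trans hKJL
  -- the common end
  have fin : ∀ K₂ L₂ : Subgroup G, IsJComponent (S : Subgroup G) K₂ → ¬ K₂ ≤ M₀ →
      IsLK (S : Subgroup G) K₂ L₂ → (S : Subgroup G) ≤ L₂ → L ≠ L₂ →
      ∃ K₂ L₁ L₂ : Subgroup G, PairData M₀ (S : Subgroup G) K K₂ L₁ L₂ ∧
        omegaCenterOf (S : Subgroup G) = Z0 (S : Subgroup G) ∧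
        (Nat.card ↥(Z0 (S : Subgroup G)) = 2 ∨ Nat.card ↥(Z0 (S : Subgroup G)) = 4) := by
    intro K₂ L₂ hK₂c hK₂M₀ hLK₂ hSL₂ hne
    obtain ⟨hZ, hcard⟩ := LEMB S c₀ hKc hLK hSL hK₂c hLK₂ hne
    have hZ0c : Z0 (S : Subgroup G) ≤ centralizer ((S : Subgroup G) : Set G) := by
      rw [← hZ]; exact (omegaCenterOf_le _).trans inf_le_right
    exact ⟨K₂, L, L₂, ⟨c₀, ⟨S, le_rfl, le_rfl⟩, hKc, hKM₀, hLK, hSL,
      LEMC c₀ hKc hKM₀ hLK hSL (inf_le_left.trans hZ0c), hK₂c, hK₂M₀, hLK₂, hSL₂,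
      LEMC c₀ hK₂c hK₂M₀ hLK₂ hSL₂ (inf_le_left.trans hZ0c), hne⟩, hZ, hcard⟩
  by_cases hA : M₀ ≤ L
  · -- case (B)
    by_cases hB1 : ∃ H : Subgroup G, IsTwoLocal H ∧ (S : Subgroup G) ≤ H ∧ ¬ H ≤ L
    · -- (B1)
      obtain ⟨H, hH2, hSH, hHL⟩ := hB1
      have hSstr : (S : Subgroup G) ∈ straddlingTwoSubgroups L :=
        ⟨hS2, hS1, hSL, H, hH2, hSH, hHL⟩
      have hSmaxL : (S : Subgroup G) ∈ maxStraddlingTwoSubgroups L := MZERO_max S hSstr
      obtain ⟨K₃, hK₃⟩ := Cfsg.Agent.S2949.result g.hL g.hN g.hZ g.hO S L hLmax.1 hA _ hSmaxL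
      have cL : StraddleCtx L (S : Subgroup G) := straddleCtx_mk g.hL g.hN g.hZ S hA hSmaxL
      obtain ⟨L₃, hL₃max, hK₃JL₃, -, -, hSL₃⟩ := cL.unique_maximal hK₃
      have hne : L ≠ L₃ := by
        intro heq
        apply hK₃.2.1
        rw [heq]
        exact le_sup_left.trans hK₃JL₃
      exact fin K₃ L₃ hK₃.1.1 (fun h => hK₃.2.1 (h.trans hA)) ⟨hL₃max, hK₃JL₃⟩ hSL₃.1 hne
    · -- (B2)
      exfalso
      push Not at hB1
      refine X g hLmax S hSL hA hKc hKL ?_ (fun S' h => hmain L hLmax.1 S' h)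
      intro H hH2 S' hS'L hS'H
      -- S' = S^l with l ∈ L
      obtain ⟨l, hlL, hl⟩ := isSylowTwoIn_conj (isSylowTwoIn_of_sylow_le S hSL)
        (isSylowTwoIn_of_sylow_le S' hS'L)
      -- H' = H^{l⁻¹} contains S
      have h2 : IsTwoLocal (cj l⁻¹ H) := CONJ_aux_twoLocal (MulAut.conj l⁻¹) hH2
      have h3 : (S : Subgroup G) ≤ cj l⁻¹ H := by
        intro s hs
        have : l * s * l⁻¹ ∈ H := hS'H (by rw [hl]; exact ⟨s, hs, rfl⟩)
        refine ⟨l * s * l⁻¹, this, ?_⟩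
        simp [MulAut.conj_apply, mul_assoc]
      have h4 := hB1 _ h2 h3
      intro x hx
      have h5 : l⁻¹ * x * l ∈ L := h4 ⟨x, hx, by simp [MulAut.conj_apply]⟩
      have : x = l * (l⁻¹ * x * l) * l⁻¹ := by group
      rw [this]
      exact L.mul_mem (L.mul_mem hlL h5) (L.inv_mem hlL)
  · -- case (A)
    obtain ⟨n, hnM₀, hnL⟩ := SetLike.not_le_iff_exists.mp hA
    obtain ⟨hK₂c, hK₂M₀, hLK₂, hcjZ0, -⟩ := CONJ c₀ hKc hKM₀ hLK hnM₀
    have hne : L ≠ cj n L := by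
      intro heq
      apply hnL
      have := PAIREQ_aux_mem_normalizer heq
      rw [P1 hLmax] at this
      exact this
    obtain ⟨hZ, -⟩ := LEMB S c₀ hKc hLK hSL hK₂c hLK₂ hne
    -- n normalizes S
    have hcjS : cj n (S : Subgroup G) ≤ (S : Subgroup G) := by
      have h1 : (S : Subgroup G) ≤ centralizer ((Z0 (S : Subgroup G) : Subgroup G) : Set G) := by
        rw [le_centralizer_iff, ← hZ]
        exact (omegaCenterOf_le _).trans inf_le_right
      have h2 : cj n (S : Subgroup G) ≤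
          centralizer ((Z0 (S : Subgroup G) : Subgroup G) : Set G) := by
        have := map_mono (f := (MulAut.conj n).toMonoidHom) h1
        rw [show (centralizer ((Z0 (S : Subgroup G) : Subgroup G) : Set G)).map
          (MulAut.conj n).toMonoidHom = cj n (centralizer ((Z0 (S : Subgroup G) : Subgroup G) : Set G))
          from rfl, PAIREQ_aux_cj_centralizer, hcjZ0] at this
        exact this
      have h3 : cj n (S : Subgroup G) ≤ normalizer ((S : Subgroup G) : Set G) := by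
        refine h2.trans ?_
        rw [← hZ]
        exact g.hZ S
      have h4 : IsPGroup 2 ↥(cj n (S : Subgroup G)) := S.isPGroup'.map _
      exact h4.sylow_mem_fixedPoints_iff.mp
        ((Subgroup.sylow_mem_fixedPoints_iff (cj n (S : Subgroup G))).mpr h3)
    have hcjS' : cj n (S : Subgroup G) = (S : Subgroup G) := by
      apply eq_of_le_of_card_ge hcjS
      rw [show cj n (S : Subgroup G) = (S : Subgroup G).map (MulAut.conj n).toMonoidHom from rfl,
        card_map_of_injective (MulAut.conj n).injective]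
    have hSL₂ : (S : Subgroup G) ≤ cj n L := by
      rw [← hcjS']; exact map_mono hSL
    exact fin (cj n K) (cj n L) hK₂c hK₂M₀ hLK₂ hSL₂ hne

end Cfsg.Agent.S2951P
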