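import Mathlib
import Cfsg.Prelude.Def_JComponents
import Cfsg.Agent.Helper5.S2951Defs
import Cfsg.Agent.Helper19.S2951P1
import Cfsg.Agent.Helper5.S2951LEMA
import Cfsg.Agent.Helper26.S2951LEMC
import Cfsg.Agent.Helper15.S2951CONJ

set_option autoImplicit false

/-! S2951 board, piece PAIRLT (blueprint §7). -/

universe u

namespace Cfsg.Agent.S2951P

open Cfsg Subgroup Cfsg.Agent.Helper15.JComp Cfsg.Agent.S2951P

variable {G : Type u} [Group G] [Finite G] {M T K K' L L' : Subgroup G}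

/-- a 2-subgroup of `L` containing a Sylow 2-subgroup `T` of `L` equals `T` -/
theorem PAIRLT_aux_sylow_max {T Q L : Subgroup G} (hTL : IsSylowTwoIn T L) (hTQ : T ≤ Q) (hQL : Q ≤ L)
    (hQ : IsPGroup 2 ↥Q) : Q ≤ T := by
  have h1 := relIndex_mul_relIndex T Q L hTQ hQL
  have hodd : Odd (T.relIndex Q) := by
    have := hTL.2.2
    rw [← h1] at this
    exact (Nat.odd_mul.mp this).1
  obtain ⟨n, hn⟩ := hQ.index (T.subgroupOf Q)
  have hn' : T.relIndex Q = 2 ^ n := hn
  rw [hn'] at hodd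
  have hn0 : n = 0 := by
    by_contra h0
    have : Even (2 ^ n) := (Nat.even_pow' h0).mpr even_two
    exact (Nat.not_even_iff_odd.mpr hodd) this
  rw [hn0, pow_zero] at hn'
  exact relIndex_eq_one.mp hn'

/-- PAIRLT (M) = §7 without the amalgam theorem: the pair `(K, K^t)`. -/
theorem PAIRLT (g : Glob G) (S : Sylow 2 G) {M : Subgroup G} (hM : IsTwoLocal M)
    (hMJ : normalizer ((thompsonSubgroupOf 2 (S : Subgroup G) : Subgroup G) : Set G) ≤ M)
    {T : Subgroup G} (hT : T ∈ maxStraddlingTwoSubgroups M) (hTS : T ≤ (S : Subgroup G))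
    (hne : T ≠ (S : Subgroup G)) {K : Subgroup G} (hK : K ∈ jComponentsOutside M T) :
    ∃ K₂ L₁ L₂ : Subgroup G, PairData M T K K₂ L₁ L₂ := by
  have c : StraddleCtx M T := straddleCtx_mk g.hL g.hN g.hZ S hMJ hT
  have hKc : IsJComponent T K := hK.1.1
  have hKM : ¬ K ≤ M := hK.2.1
  obtain ⟨L, hLmax, hKJL, -, -, hTL⟩ := c.unique_maximal hK
  have hLK : IsLK T K L := ⟨hLmax, hKJL⟩
  -- an element of N_S(T) outside T
  obtain ⟨t, htS, htN, htT⟩ : ∃ t, t ∈ (S : Subgroup G) ∧ t ∈ normalizer (T : Set G) ∧ t ∉ T := by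
    by_contra hno
    push Not at hno
    apply hne
    apply eq_of_inf_normalizer_le S.isPGroup' hTS
    intro x hx
    exact hno x hx.1 hx.2
  have htJ : t ∈ normalizer ((thompsonSubgroupOf 2 T : Subgroup G) : Set G) :=
    normalizer_le_normalizer_thompsonSubgroupOf 2 T htN
  have hcjT : cj t T = T := Cfsg.Agent.Helper7.map_conj_eq_of_mem_normalizer htN
  -- t ∉ L
  have htL : t ∉ L := by
    intro htL
    apply htT
    have hQ : IsPGroup 2 ↥(T ⊔ zpowers t) := by
      apply S.isPGroup'.to_le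
      exact sup_le hTS ((zpowers_le).mpr htS)
    have hle := PAIRLT_aux_sylow_max hTL le_sup_left (sup_le hTL.1 ((zpowers_le).mpr htL)) hQ
    exact hle (le_sup_right (a := T) (mem_zpowers t))
  obtain ⟨hK2c, hK2M, hLK2, -, -⟩ := CONJ c hKc hKM hLK htJ
  -- the hypothesis of Lemma C
  have hZ0c : Z0 T ≤ centralizer (T : Set G) := by
    rcases LEMA c S hMJ hTS hne hK hLK with ⟨h1, -⟩ | ⟨h1, -, -⟩
    · rw [← h1]
      exact ((omegaCenterOf_le _).trans inf_le_right).trans (centralizer_le hTS)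
    · rw [← h1]
      exact (omegaCenterOf_le _).trans inf_le_right
  have hTN : T ≤ normalizer (K : Set G) :=
    LEMC c hKc hKM hLK hTL.1 (inf_le_left.trans hZ0c)
  refine ⟨cj t K, L, cj t L, ⟨c, ⟨S, hTS, hMJ⟩, hKc, hKM, hLK, hTL.1, hTN, hK2c, hK2M, hLK2, ?_, ?_, ?_⟩⟩
  · rw [← hcjT]; exact map_mono hTL.1
  · have : cj t T ≤ cj t (normalizer (K : Set G)) := map_mono hTN
    rw [hcjT] at this
    refine this.trans (le_of_eq ?_)
    exact map_equiv_normalizer_eq K (MulAut.conj t)
  · intro heq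
    apply htL
    have h1 : t ∈ normalizer (L : Set G) := by
      rw [mem_normalizer_iff]
      intro x
      constructor
      · intro hx
        rw [heq]
        exact ⟨x, hx, rfl⟩
      · intro hx
        rw [heq] at hx
        obtain ⟨y, hy, hyx⟩ := hx
        have : y = x := by
          have h2 : t * y * t⁻¹ = t * x * t⁻¹ := hyx
          exact mul_left_cancel (mul_right_cancel h2)
        rw [← this]; exact hy
    rw [P1 hLmax] at h1
    exact h1

end Cfsg.Agent.S2951P
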