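import Mathlib
import Cfsg.Agent.Helper25.S2981BDefs
import Cfsg.Agent.Helper8.S2981BOREL1
import Cfsg.Agent.Helper8.S2981T2
import Cfsg.Agent.Helper28.S2981GENN
import Cfsg.Agent.Helper20.S3000TOOLa

/-! Board `s2981pieces` (S2981 part (B), `q > 2` half), row B1N, core with the row TORN as a hypothesis:
a strict offender `B₁ ≤ T` of order `> 3` lies in `N` (its own package has a `p'`-torus `H' ≤ N` and `B₁ = [B₁, H']`). -/

set_option autoImplicit false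

namespace Cfsg.Agent.S2981P

open Cfsg.Agent.S2789P Cfsg.Agent.S2999P Cfsg.Agent.S3000P
open scoped commutatorElement

variable {G : Type*} [Group G] [Finite G] {p : ℕ} [Fact p.Prime] {V P : Subgroup G} {T : Sylow p ↥P} {M : Subgroup ↥P} {q : ℕ}
variable {A E : Subgroup G}

/-- B1N with TORN as a hypothesis -/
theorem B1N_aux_core (hTORN : ∀ Y : Subgroup G, Y ≤ P → (Nat.card ↥Y).Coprime p → Y ≤ Ncomp (TT T) E)
    (Hy : Hyp p V P T M) (X : PkgT p V P T M q A E) {B₁ : Subgroup G} (hBT : B₁ ≤ TT T)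
    (hB : StrictOff p V B₁) (h3 : 3 < Nat.card ↥B₁) : B₁ ≤ Ncomp (TT T) E := by
  have hTP : TT T ≤ P := Subgroup.map_subtype_le _
  have hBP : B₁ ≤ P := hBT.trans hTP
  have hIn : InA p V P (Nat.card ↥B₁) B₁ := ⟨hBP, hB, rfl⟩
  obtain ⟨E', g, _, hK', _⟩ := PKG1nq Hy hIn hBT
  obtain ⟨F, iF, iFt, hF, ⟨c⟩⟩ := hK'.hco
  have htool := TOOLa Hy (by omega : 2 < Nat.card ↥B₁) hIn hK'.hAE hK'.hEP hF c
  have hHN : c.torus ≤ Ncomp (TT T) E := hTORN _ (htool.1.trans hK'.hEP) htool.2.2.2.2.2.1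
  have hnorm := NNORM Hy X
  intro a ha
  obtain ⟨h, hh, a', ha', rfl⟩ := T4 c hK'.hAE (by rw [hF]; exact h3) a ha
  have h1 : a' * h⁻¹ * a'⁻¹ ∈ Ncomp (TT T) E := by
    have : a' * h⁻¹ * a'⁻¹ ∈ cjs a' (Ncomp (TT T) E) :=
      cj_mem_conj.mpr ((Ncomp (TT T) E).inv_mem (hHN hh))
    rwa [hnorm a' (hBP ha')] at this
  have : h * a' * h⁻¹ * a'⁻¹ = h * (a' * h⁻¹ * a'⁻¹) := by group
  rw [this]
  exact (Ncomp (TT T) E).mul_mem (hHN hh) h1

end Cfsg.Agent.S2981P
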