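import Mathlib
import Cfsg.Agent.Helper15.S2981B1Ncore
import Cfsg.Agent.Helper6.S2981TORN

/-! Board `s2981pieces` (S2981 part (B), `q > 2` half), row B1N. -/

set_option autoImplicit false

namespace Cfsg.Agent.S2981P

open Cfsg.Agent.S2789P Cfsg.Agent.S2999P Cfsg.Agent.S3000P
open scoped commutatorElement

variable {G : Type*} [Group G] [Finite G] {p : ℕ} [Fact p.Prime] {V P : Subgroup G} {T : Sylow p ↥P} {M : Subgroup ↥P} {q : ℕ}
variable {A E : Subgroup G}

/-- B1N (M): a strict offender `B₁ ≤ T` of order `> 3` lies in `N` (its own package has a `p'`-torus `H' ≤ N` and `B₁ = [B₁, H']`). -/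
theorem B1N (Hy : Hyp p V P T M) (X : PkgT p V P T M q A E) {B₁ : Subgroup G} (hBT : B₁ ≤ TT T)
    (hB : StrictOff p V B₁) (h3 : 3 < Nat.card ↥B₁) : B₁ ≤ Ncomp (TT T) E :=
  B1N_aux_core (fun _ hY hcop => TORN Hy X hY hcop) Hy X hBT hB h3

end Cfsg.Agent.S2981P
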