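import Mathlib
import Cfsg.Agent.Helper15.S2981B1N
import Cfsg.Agent.Helper19.S2981ONEORB
import Cfsg.Agent.Helper28.S2981NORMA
import Cfsg.Agent.Helper25.S2981NRMCOMM
import Cfsg.Agent.Helper22.S2981BOREL
import Cfsg.Agent.Helper28.S2981PKGT
import Cfsg.Agent.Helper28.S3000TOOL
import Cfsg.Agent.Helper9.S3000TKD2

/-! Board `s2981pieces` (S2981 part (B), `q > 2` half), row ALLQ: every strict offender inside `T` is a `T`-conjugate of `A`.
`|B₁| = q`: ONEORB.  Else `|B₁| > q ≥ 3`: `B₁ ≤ N` (B1N), so `B₁` normalises every component `E_t` (NNORMC), every `A_t` (NORMA),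
centralises every `A_t` (NRMCOMM), `V = C_V(B₁) C_V(A_t)` (F6_cor); `b = a c` with `a ∈ A_t`, `c ∈ C_T(E_t)` (BOREL), `[V,c] ≤ C_V(E_t)` (TK6);
`a ≠ 1` would give `C_V(B₁) ≤ C_V(A_t)` (hquot), `V = C_V(A_t)`; so `B₁` centralises every `E_t`, hence `N`: CTN. -/

set_option autoImplicit false

namespace Cfsg.Agent.S2981P

open Cfsg.Agent.S2789P Cfsg.Agent.S2999P Cfsg.Agent.S3000P
open scoped commutatorElement

variable {G : Type*} [Group G] [Finite G] {p : ℕ} [Fact p.Prime] {V P : Subgroup G} {T : Sylow p ↥P} {M : Subgroup ↥P} {q : ℕ}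
variable {A E : Subgroup G}

/-- a strict offender `B₁ ≤ T ∩ N` of order `> q` centralises the component `E` -/
theorem ALLQ_aux_cent (Hy : Hyp p V P T M) (hq : MinQ p V P q) (hq2 : 2 < q) (X : PkgT p V P T M q A E)
    {B₁ : Subgroup G} (hBT : B₁ ≤ TT T) (hB : StrictOff p V B₁) (hBN : B₁ ≤ Ncomp (TT T) E)
    (hcard : q < Nat.card ↥B₁) : ∀ b ∈ B₁, ∀ e ∈ E, b * e = e * b := by
  have hTP : TT T ≤ P := Subgroup.map_subtype_le _
  have hBP : B₁ ≤ P := hBT.trans hTP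
  have hAP : A ≤ P := X.hK.hA.le
  have hAso : StrictOff p V A := X.hK.hA.so
  have hAcard : Nat.card ↥A = q := X.hK.hA.card
  have hnE : ∀ b ∈ B₁, cjs b E = E := fun b hb => NNORMC Hy hq hq2 X b (hBN hb)
  have hnA : ∀ b ∈ B₁, cjs b A = A := fun b hb => NORMA Hy hq hq2 X (hBT hb) (hnE b hb)
  have hcomm : ∀ a ∈ A, ∀ b ∈ B₁, a * b = b * a :=
    NRMCOMM Hy X.hAT hAso hBT hB (by rw [hAcard]; exact hcard.le) hnA
  have hne : A ≠ B₁ := by
    intro h
    rw [h] at hAcard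
    omega
  obtain ⟨hsup, _, _⟩ := F6_cor Hy hAP hAso hBP hB hne hcomm
  obtain ⟨H, w, K⟩ := TOOL Hy hq2 X.hK
  have hTp : IsPGroup p ↥(TT T) := T.isPGroup'.map P.subtype
  -- the `p`-group `F₀ = C_T(E)`
  set F₀ : Subgroup G := TT T ⊓ Subgroup.centralizer ((E : Subgroup G) : Set G) with hF₀
  have hF₀P : F₀ ≤ P := inf_le_left.trans hTP
  have hF₀p : IsPGroup p ↥F₀ := hTp.to_le inf_le_left
  have hF₀c : ∀ x ∈ F₀, ∀ e ∈ E, x * e = e * x := by
    intro x hx e he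
    exact ((Subgroup.mem_centralizer_iff.mp hx.2) e he).symm
  have hTK6 : ⁅V, F₀⁆ ≤ fixV V E := K.TK6 Hy F₀ hF₀P hF₀p hF₀c
  intro b hb
  obtain ⟨a, haA, hc⟩ := BOREL Hy hq2 X.hK (hBP hb) ⟨1, by rw [pow_one]; exact hB.hA.2 b hb⟩ (hnE b hb)
    (fun a ha => (hcomm a ha b hb).symm)
  by_cases ha1 : a = 1
  · rw [ha1, inv_one, one_mul] at hc
    exact hc
  · exfalso
    have hcF : a⁻¹ * b ∈ F₀ := by
      refine ⟨(TT T).mul_mem ((TT T).inv_mem (X.hAT haA)) (hBT hb), ?_⟩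
      show a⁻¹ * b ∈ Subgroup.centralizer ((E : Subgroup G) : Set G)
      rw [Subgroup.mem_centralizer_iff]
      intro e he
      exact (hc e he).symm
    -- `C_V(B₁) ≤ C_V(A)`
    have hle : fixV V B₁ ≤ fixV V A := by
      intro v hv
      rw [mem_fix] at hv
      obtain ⟨hvV, hvB⟩ := hv
      have hbv : b * v = v * b := hvB b hb
      have hz : ⁅v, a⁻¹ * b⁆ ∈ fixV V E := hTK6 (Subgroup.commutator_mem_commutator hvV hcF)
      have hz' := hz
      rw [mem_fix] at hz'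
      have haz : a * ⁅v, a⁻¹ * b⁆ = ⁅v, a⁻¹ * b⁆ * a := hz'.2 a (X.hK.hAE haA)
      -- `⁅v, a⁻¹ b⁆ = v a⁻¹ v⁻¹ a` as `b v b⁻¹ = v`
      have h1 : ⁅v, a⁻¹ * b⁆ = v * a⁻¹ * v⁻¹ * a := by
        rw [commutatorElement_def]
        have : b * v⁻¹ * b⁻¹ = v⁻¹ := by
          have h2 : b * v * b⁻¹ = v := by rw [hbv, mul_inv_cancel_right]
          calc b * v⁻¹ * b⁻¹ = (b * v * b⁻¹)⁻¹ := by group
            _ = v⁻¹ := by rw [h2]
        calc v * (a⁻¹ * b) * v⁻¹ * (a⁻¹ * b)⁻¹ = v * a⁻¹ * (b * v⁻¹ * b⁻¹) * a := by group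
          _ = v * a⁻¹ * v⁻¹ * a := by rw [this]
      have h3 : a * v * a⁻¹ * v⁻¹ = ⁅v, a⁻¹ * b⁆ := by
        have h4 : a * ⁅v, a⁻¹ * b⁆ * a⁻¹ = ⁅v, a⁻¹ * b⁆ := by rw [haz, mul_inv_cancel_right]
        rw [← h4, h1]
        group
      have := K.hquot a haA ha1 v hvV (by rw [h3]; exact hz)
      exact this
    have hVA : fixV V A = V := by
      apply le_antisymm (fix_le V A)
      calc V = fixV V A ⊔ fixV V B₁ := hsup.symm
        _ ≤ fixV V A := sup_le le_rfl hle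
    have haC : a ∈ P ⊓ Subgroup.centralizer ((V : Subgroup G) : Set G) := by
      refine ⟨hAP haA, ?_⟩
      show a ∈ Subgroup.centralizer ((V : Subgroup G) : Set G)
      rw [Subgroup.mem_centralizer_iff]
      intro v hv
      have hv' : v ∈ fixV V A := by rw [hVA]; exact hv
      rw [mem_fix] at hv'
      exact (hv'.2 a haA).symm
    rw [Hy.hf, Subgroup.mem_bot] at haC
    exact ha1 haC

/-- ALLQ (L): every strict offender inside `T` is a `T`-conjugate of `A`. -/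
theorem ALLQ (Hy : Hyp p V P T M) (hq : MinQ p V P q) (hq2 : 2 < q) (X : PkgT p V P T M q A E)
    {B₁ : Subgroup G} (hBT : B₁ ≤ TT T) (hB : StrictOff p V B₁) : ∃ t ∈ TT T, B₁ = cjs t A := by
  have hTP : TT T ≤ P := Subgroup.map_subtype_le _
  have hBP : B₁ ≤ P := hBT.trans hTP
  have hge : q ≤ Nat.card ↥B₁ := hq.2 B₁ hBP hB
  rcases hge.eq_or_lt with heq | hlt
  · exact ONEORB Hy hq hq2 X ⟨hBP, hB, heq.symm⟩ hBT
  · exfalso
    have hBN : B₁ ≤ Ncomp (TT T) E := B1N Hy X hBT hB (by omega)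
    have hcen : ∀ t ∈ TT T, ∀ b ∈ B₁, ∀ e ∈ cjs t E, b * e = e * b := by
      intro t ht
      have Xt := PkgT.conj Hy X ht
      exact ALLQ_aux_cent Hy hq hq2 Xt hBT hB (by rw [Ncomp_conj ht]; exact hBN) hlt
    apply hB.ne
    rw [eq_bot_iff]
    intro b hb
    rw [Subgroup.mem_bot]
    apply CTN Hy X (hBT hb)
    have hle : Ncomp (TT T) E ≤ Subgroup.centralizer ({b} : Set G) := by
      refine Ncomp_le fun t ht => ?_
      intro e he
      rw [Subgroup.mem_centralizer_iff]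
      intro h hh
      rw [Set.mem_singleton_iff] at hh
      rw [hh]
      exact hcen t ht b hb e he
    intro n hn
    exact (Subgroup.mem_centralizer_iff.mp (hle hn)) b (Set.mem_singleton b)

end Cfsg.Agent.S2981P
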