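import Mathlib
import Cfsg.Agent.Helper28.S3000Defs
import Cfsg.Agent.Helper15.S3000C0twoCore
import Cfsg.Agent.Helper9.S3000PT1
import Cfsg.Agent.Helper1.S3000PT3
import Cfsg.Agent.Helper18.S3000ZC

/-!
# s3000pieces, piece C0two (helper15)

`p = 2`: for two packages `(A,E)`, `(A,E')` over the same `A`, both based at `M`:
`[V,A] ∩ C_V(E) = [V,A] ∩ C_V(E')`.  Wrapper of `C0two_aux_le` (core) with PT1, PT3, ZCEQ.
-/

set_option autoImplicit false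

namespace Cfsg.Agent.S3000P

open Cfsg.Agent.S2789P Cfsg.Agent.S2999P
open scoped commutatorElement

variable {G : Type*} [Group G] [Finite G] {p : ℕ} [Fact p.Prime] {V P : Subgroup G} {T : Sylow p ↥P} {M : Subgroup ↥P} {q : ℕ}

section COV
variable {A E H : Subgroup G} {w : G}
variable {E' H' : Subgroup G} {w' : G}

/-- the pointed-vector package for `C0two_aux_le` -/
theorem C0two_aux_pt (Hy : Hyp p V P T M) (hq : MinQ p V P q) (hq2 : 2 < q) (K : Tool p V P q A E H w)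
    (K' : Tool p V P q A E' H' w') (hB : Based (MM M) A E) (hB' : Based (MM M) A E') (hAT : A ≤ TT T) :
    ∃ z₀ : G, (∀ x ∈ P, x * z₀ = z₀ * x → x ∈ MM M) ∧ (∀ h ∈ H, h ∈ MM M) ∧
      ∃ r₀ ∈ ⁅fixV V A, H⁆, ∃ c₀ ∈ fixV V E ⊓ fixV V E', z₀ = r₀ * c₀ ∧ r₀ ≠ 1 := by
  obtain ⟨z₀, hz₀, hzM⟩ := PT1 Hy
  obtain ⟨hHM, _, ⟨r₀, hr₀, c₀, hc₀, hz₀rc, hr₀1⟩, _⟩ := PT3 Hy hq hq2 K hB hAT hz₀ hzM
  have hZC := ZCEQ Hy hq K K' hB hB' hAT hz₀ hzM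
  have hc₀C' : c₀ ∈ fixV V E' := by
    have : c₀ ∈ Zpt P (MM M) (JJ2 p V (TT T) q A) V z₀ 1 ⊓ fixV V E' := by rw [← hZC]; exact hc₀
    exact this.2
  exact ⟨z₀, hzM, hHM, r₀, hr₀, c₀, ⟨hc₀.2, hc₀C'⟩, hz₀rc, hr₀1⟩

/-- C0two (L): `p = 2`: the `Y`-argument. -/
theorem C0two (Hy : Hyp p V P T M) (hq : MinQ p V P q) (hq2 : 2 < q) (K : Tool p V P q A E H w)
    (K' : Tool p V P q A E' H' w') (hB : Based (MM M) A E) (hB' : Based (MM M) A E') (hAT : A ≤ TT T) (hp : p = 2) :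
    ⁅V, A⁆ ⊓ fixV V E = ⁅V, A⁆ ⊓ fixV V E' := by
  apply le_antisymm
  · refine le_inf inf_le_left (C0two_aux_le Hy hq2 K' K hB hp ?_)
    obtain ⟨z₀, h1, h2, r₀, hr₀, c₀, hc₀, h3, h4⟩ := C0two_aux_pt Hy hq hq2 K' K hB' hB hAT
    exact ⟨z₀, h1, h2, r₀, hr₀, c₀, hc₀, h3, h4⟩
  · refine le_inf inf_le_left (C0two_aux_le Hy hq2 K K' hB' hp ?_)
    exact C0two_aux_pt Hy hq hq2 K K' hB hB' hAT

end COV

end Cfsg.Agent.S3000P
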