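import Mathlib
import Cfsg.Agent.Helper27.S3001TOP

/-! S3001 endgame board `s3001pieces`, row CFIX: with the data of case (c) (`m` odd, `m ≥ 3`), a vector of `Ut` centralised by
`K₁ = [E₁,E₁]` lies in `U₀`, and `K₁` is generated by its elements of order 3. -/

set_option autoImplicit false

namespace Cfsg.Agent.S3001P

open Cfsg.Agent.S2789P Cfsg.Agent.S2999P Cfsg.Agent.S3000P

open scoped commutatorElement

universe u

variable {G : Type u} [Group G]

/-- a 3-cycle is a commutator (with itself) -/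
theorem CFIX_aux_three_comm {m : ℕ} {c : Equiv.Perm (Fin m)} (hc : c.IsThreeCycle) :
    ∃ τ : Equiv.Perm (Fin m), ⁅τ, c⁆ = c := by
  have h1 : IsConj c c⁻¹ := by
    rw [Equiv.Perm.isConj_iff_cycleType_eq, Equiv.Perm.cycleType_inv]
  obtain ⟨τ, hτ⟩ := isConj_iff.mp h1
  refine ⟨τ, ?_⟩
  rw [commutatorElement_def, hτ]
  have h3 : c ^ 3 = 1 := by
    have := hc.orderOf
    rw [← this]; exact pow_orderOf_eq_one c
  rw [← mul_inv_rev, inv_eq_iff_mul_eq_one]
  rw [← h3, pow_succ, pow_two]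

/-- the commutator `[(j k), (i j)]` maps `i` to `j` -/
theorem CFIX_aux_swap {m : ℕ} {i j k : Fin m} (_hij : i ≠ j) (hik : k ≠ i) (hjk : k ≠ j) :
    (⁅Equiv.swap i j, Equiv.swap j k⁆ : Equiv.Perm (Fin m))⁻¹ i = j := by
  rw [commutatorElement_inv, commutatorElement_def, Equiv.swap_inv, Equiv.swap_inv]
  simp only [Equiv.Perm.mul_apply]
  rw [Equiv.swap_apply_left, Equiv.swap_apply_left, Equiv.swap_apply_of_ne_of_ne hik hjk,
    Equiv.swap_apply_right]

/-- the module of case (c) is not trivial: some `u ∈ Ut` is not in `U₀` -/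
theorem CFIX_aux_exists_not_mem {m : ℕ} (hm : 2 ≤ m) {E₁ Ut U₀ : Subgroup G}
    (hact : Cfsg.ActsAsOddPermModuleOnSection m ⊤ E₁ Ut U₀) : ∃ u ∈ Ut, u ∉ U₀ := by
  obtain ⟨_, _, ρ, ψ, _, _, hsurj, hker, _⟩ := hact
  classical
  let i0 : Fin m := ⟨0, by omega⟩
  let i1 : Fin m := ⟨1, by omega⟩
  have h01 : i0 ≠ i1 := by
    intro h
    have := congrArg Fin.val h
    simp [i0, i1] at this
  obtain ⟨u, hu⟩ := hsurj (fun i => if i = i0 then 1 else if i = i1 then 1 else 0) (by
    rw [Finset.sum_eq_add_of_mem i0 i1 (Finset.mem_univ _) (Finset.mem_univ _) h01]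
    · simp only [if_true, if_neg h01.symm]
      decide
    · intro c _ hc
      rw [if_neg hc.1, if_neg hc.2])
  refine ⟨(u : G), u.2, fun hmem => ?_⟩
  have h1 : ψ u = 1 := (hker u).mpr hmem
  rw [h1] at hu
  have := congrFun hu i0
  simp at this

theorem CFIX [Finite G] {m : ℕ} (hm : 3 ≤ m) (hodd : Odd m) {E₁ Ut U₀ : Subgroup G}
    (hiso : Nonempty (↥E₁ ≃* Equiv.Perm (Fin m)))
    (hact : Cfsg.ActsAsOddPermModuleOnSection m ⊤ E₁ Ut U₀) :
    (∀ u ∈ Ut, (∀ k ∈ ⁅E₁, E₁⁆, k * u = u * k) → u ∈ U₀) ∧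
      ⁅E₁, E₁⁆ = Subgroup.closure {x | x ∈ ⁅E₁, E₁⁆ ∧ orderOf x = 3} := by
  constructor
  · obtain ⟨_, _, ρ, ψ, hρ, hsum, _, hker, heq⟩ := hact
    intro u hu hcen
    have hsurj : Function.Surjective ρ := MonoidHom.range_eq_top.mp hρ
    set x : Fin m → ZMod 2 := Multiplicative.toAdd (ψ ⟨u, hu⟩) with hx
    have hpair : ∀ i j : Fin m, i ≠ j → x i = x j := by
      intro i j hij
      obtain ⟨k, hki, hkj⟩ := Fin.exists_ne_and_ne_of_two_lt i j (by omega)
      obtain ⟨a, ha⟩ := hsurj (Equiv.swap i j)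
      obtain ⟨b, hb⟩ := hsurj (Equiv.swap j k)
      have hg : ((⁅a, b⁆ : ↥E₁) : G) ∈ ⁅E₁, E₁⁆ := by
        have : ((⁅a, b⁆ : ↥E₁) : G) = ⁅(a : G), (b : G)⁆ := by
          simp [commutatorElement_def]
        rw [this]
        exact Subgroup.commutator_mem_commutator a.2 b.2
      obtain ⟨w, hw1, hw2⟩ := heq ⁅a, b⁆ ⟨u, hu⟩
      have hwu : w = ⟨u, hu⟩ := by
        apply Subtype.ext
        rw [hw1]
        change ((⁅a, b⁆ : ↥E₁) : G) * u * ((⁅a, b⁆ : ↥E₁) : G)⁻¹ = u
        rw [hcen _ hg, mul_inv_cancel_right]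
      have h2 := hw2 i
      rw [hwu, map_commutatorElement, ha, hb, CFIX_aux_swap hij hki hkj] at h2
      exact h2
    let i0 : Fin m := ⟨0, by omega⟩
    have hconst : ∀ i, x i = x i0 := by
      intro i
      by_cases h : i = i0
      · rw [h]
      · exact hpair i i0 h
    have hs := hsum ⟨u, hu⟩
    rw [← hx] at hs
    rw [Finset.sum_congr rfl (fun i _ => hconst i), Finset.sum_const, Finset.card_univ,
      Fintype.card_fin, nsmul_eq_mul, ZMod.natCast_eq_one_iff_odd.mpr hodd, one_mul] at hs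
    have hx0 : x = 0 := by
      funext i
      rw [hconst i, hs]; rfl
    have : ψ ⟨u, hu⟩ = 1 := by
      have : Multiplicative.toAdd (ψ ⟨u, hu⟩) = 0 := hx0
      exact this
    exact (hker ⟨u, hu⟩).mp this
  · apply le_antisymm
    · obtain ⟨e⟩ := hiso
      let f : Equiv.Perm (Fin m) →* G := E₁.subtype.comp e.symm.toMonoidHom
      have hf : Function.Injective f := by
        intro a b hab
        exact e.symm.injective (Subtype.ext hab)
      have hfE : ∀ σ, f σ ∈ E₁ := fun σ => (e.symm σ).2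
      have himg : ∀ σ ∈ {σ : Equiv.Perm (Fin m) | σ.IsThreeCycle},
          f σ ∈ Subgroup.closure {x | x ∈ ⁅E₁, E₁⁆ ∧ orderOf x = 3} := by
        intro c hc
        apply Subgroup.subset_closure
        obtain ⟨τ, hτ⟩ := CFIX_aux_three_comm hc
        constructor
        · rw [← hτ, map_commutatorElement]
          exact Subgroup.commutator_mem_commutator (hfE τ) (hfE c)
        · rw [orderOf_injective f hf]
          exact hc.orderOf
      rw [Subgroup.commutator_le]
      intro a ha b hb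
      have hab : ⁅a, b⁆ = f ⁅e ⟨a, ha⟩, e ⟨b, hb⟩⁆ := by
        rw [map_commutatorElement]
        simp [f]
      rw [hab]
      have hσ : ⁅e ⟨a, ha⟩, e ⟨b, hb⟩⁆ ∈ alternatingGroup (Fin m) := by
        apply alternatingGroup.commutator_perm_le
        rw [commutator_def]
        exact Subgroup.commutator_mem_commutator (Subgroup.mem_top _) (Subgroup.mem_top _)
      rw [← Equiv.Perm.closure_three_cycles_eq_alternating] at hσ
      have : Subgroup.closure {σ : Equiv.Perm (Fin m) | σ.IsThreeCycle} ≤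
          (Subgroup.closure {x | x ∈ ⁅E₁, E₁⁆ ∧ orderOf x = 3}).comap f := by
        rw [Subgroup.closure_le]
        intro σ hσ
        exact himg σ hσ
      exact this hσ
    · rw [Subgroup.closure_le]
      intro x hx
      exact hx.1

end Cfsg.Agent.S3001P
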