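import Mathlib
import Cfsg.Agent.Helper27.S3001TOP
import Cfsg.Agent.Helper15.S3001CFIX
import Cfsg.Agent.Helper23.S3001GENORB
import Cfsg.Agent.Helper10.S3001S3C
import Cfsg.Agent.Helper18.S3001CSPLIT

/-! S3001 endgame board `s3001pieces`, row CASM: assembly of case (c) (`E i₀ ≅ Sym(2ⁿ+1)`, `n ≥ 2`) with GENORB.
`K₀ := [E i₀, E i₀]`, `Ut := [V, E i₀] R`, `U := [Ut, K₀]`, `R' := K₀`.
h1: a vector of `U ≤ Ut` centralised by `K₀` lies in `U₀` (CFIX), and `[Ut, K₀] ∩ U₀ = 1` (CSPLIT; `hcen` from `mem_fixMod` + G3R,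
here helper10's copy `S3C_aux_g3r`).
h2: `ᵗ(E i₀) = E j`; `j = i₀`: `ᵗU = U`; `j ≠ i₀`: `ᵗU ≤ [V, E j] R`, centralised by the elements of order 3 of `K₀` (S3C), which
generate `K₀` (CFIX).  `U ≠ 1`: else `K₀` centralises `Ut`, so `Ut = U₀` (CFIX), but the module is not zero. -/

set_option autoImplicit false

namespace Cfsg.Agent.S3001P

open Cfsg.Agent.S2789P Cfsg.Agent.S2999P Cfsg.Agent.S3000P

open scoped commutatorElement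

universe u

variable {G : Type u} [Group G]

/-- `[A, B] ≤ A` when `B` normalises `A` -/
theorem CASM_aux_comm_le {A B : Subgroup G} (h : B ≤ Subgroup.normalizer (A : Set G)) : ⁅A, B⁆ ≤ A := by
  rw [Subgroup.commutator_le]
  intro a ha b hb
  have h1 : b * a⁻¹ * b⁻¹ ∈ A := (Subgroup.mem_normalizer_iff.mp (h hb) a⁻¹).mp (A.inv_mem ha)
  have : ⁅a, b⁆ = a * (b * a⁻¹ * b⁻¹) := by
    rw [commutatorElement_def]; group
  rw [this]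
  exact A.mul_mem ha h1

/-- `[E, E] ≤ E` -/
theorem CASM_aux_der_le (E : Subgroup G) : ⁅E, E⁆ ≤ E :=
  CASM_aux_comm_le Subgroup.le_normalizer

variable [Finite G] {p : ℕ} [Fact p.Prime] {V P : Subgroup G} {r : ℕ} {E : Fin r → Subgroup G}

theorem CASM (H : Hyp1 p V P) (T : Sylow p ↥P) (hC : ConclPBB p (V0 p V P) V P (TT T) r E)
    (hT : ∀ i, ∀ t ∈ TT T, ∃ j, cjs t (E i) = E j)
    (hp : p = 2) (i₀ : Fin r) {n : ℕ} (hn : 2 ≤ n) (hiso : Nonempty (↥(E i₀) ≃* Equiv.Perm (Fin (2 ^ n + 1))))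
    (hact : Cfsg.ActsAsOddPermModuleOnSection (2 ^ n + 1) ⊤ (E i₀) (⁅V, E i₀⁆ ⊔ V0 p V P)
      (fixMod (V0 p V P) (⁅V, E i₀⁆ ⊔ V0 p V P) (E i₀))) :
    ⁅fixV V (TT T), P⁆ ≠ ⊥ := by
  have hEP : ∀ i, E i ≤ P := hC.2.1
  have hTP : ∀ t ∈ TT T, t ∈ P := by
    rintro t ⟨x, _, rfl⟩
    exact x.2
  have h4 : 4 ≤ 2 ^ n := by
    calc 4 = 2 ^ 2 := by norm_num
      _ ≤ 2 ^ n := Nat.pow_le_pow_right (by norm_num) hn
  have hodd : Odd (2 ^ n + 1) := by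
    refine ⟨2 ^ (n - 1), ?_⟩
    have : 2 ^ n = 2 * 2 ^ (n - 1) := by
      rw [← pow_succ']
      congr 1
      omega
    omega
  -- the subgroups
  have hVE : ∀ i, ⁅V, E i⁆ ≤ V := fun i => CASM_aux_comm_le ((hEP i).trans H.hPV)
  have hUtV : ∀ i, ⁅V, E i⁆ ⊔ V0 p V P ≤ V := fun i => sup_le (hVE i) (V0_le_V p V P)
  have hKE : ⁅E i₀, E i₀⁆ ≤ E i₀ := CASM_aux_der_le _
  have hKP : ⁅E i₀, E i₀⁆ ≤ P := hKE.trans (hEP i₀)
  have hUUt : ⁅⁅V, E i₀⁆ ⊔ V0 p V P, ⁅E i₀, E i₀⁆⁆ ≤ ⁅V, E i₀⁆ ⊔ V0 p V P :=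
    CASM_aux_comm_le (hKE.trans hact.1)
  have hUV : ⁅⁅V, E i₀⁆ ⊔ V0 p V P, ⁅E i₀, E i₀⁆⁆ ≤ V := hUUt.trans (hUtV i₀)
  have hUtN : ⁅V, E i₀⁆ ⊔ V0 p V P ≤ NR (V0 p V P) := (hUtV i₀).trans (V_le_NR H.hV)
  have hEN : E i₀ ≤ NR (V0 p V P) := (hEP i₀).trans (P_le_NR H.hPV)
  have hcop3 : ∀ x : G, orderOf x = 3 → (orderOf x).Coprime p := by
    intro x hx
    rw [hx, hp]
    norm_num
  obtain ⟨hfix, hgen⟩ := CFIX (by omega : 3 ≤ 2 ^ n + 1) hodd hiso hact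
  -- CSPLIT
  have hsplit : ⁅⁅V, E i₀⁆ ⊔ V0 p V P, ⁅E i₀, E i₀⁆⁆ ⊓
      fixMod (V0 p V P) (⁅V, E i₀⁆ ⊔ V0 p V P) (E i₀) = ⊥ := by
    refine CSPLIT (by omega : 5 ≤ 2 ^ n + 1) ?_ ?_ hiso hact ?_
    · intro u hu v hv
      exact S1_aux_comm H.hV (hUtV i₀ hu) (hUtV i₀ hv)
    · intro u hu
      have := H.hV.2 u (hUtV i₀ hu)
      rw [hp, pow_two] at this
      exact this
    · intro x hx hx3 u hu
      rw [mem_fixMod hUtN hEN] at hu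
      exact S3C_aux_g3r H (hEP i₀ hx) (hcop3 x hx3) (hUtV i₀ hu.1) (hu.2 x hx)
  refine GENORB H.hV H.hPV T hUV hKP ?_ ?_ ?_
  · -- `U ≠ ⊥`
    intro hbot
    obtain ⟨u, hu, hu0⟩ := CFIX_aux_exists_not_mem (by omega : 2 ≤ 2 ^ n + 1) hact
    apply hu0
    apply hfix u hu
    intro k hk
    have h1 : ⁅u, k⁆ ∈ ⁅⁅V, E i₀⁆ ⊔ V0 p V P, ⁅E i₀, E i₀⁆⁆ := Subgroup.commutator_mem_commutator hu hk
    rw [hbot, Subgroup.mem_bot, commutatorElement_eq_one_iff_mul_comm] at h1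
    exact h1.symm
  · -- h1
    intro u hu hcen
    have h1 : u ∈ fixMod (V0 p V P) (⁅V, E i₀⁆ ⊔ V0 p V P) (E i₀) := hfix u (hUUt hu) hcen
    have h2 : u ∈ ⁅⁅V, E i₀⁆ ⊔ V0 p V P, ⁅E i₀, E i₀⁆⁆ ⊓
        fixMod (V0 p V P) (⁅V, E i₀⁆ ⊔ V0 p V P) (E i₀) := ⟨hu, h1⟩
    rw [hsplit, Subgroup.mem_bot] at h2
    exact h2
  · -- h2
    intro t ht
    have htP : t ∈ P := hTP t ht
    obtain ⟨j, hj⟩ := hT i₀ t ht
    have hcV : cjs t V = V := cj_norm (H.hPV htP)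
    have hcR : cjs t (V0 p V P) = V0 p V P := cj_norm (P_le_NR H.hPV htP)
    have hcUt : cjs t (⁅V, E i₀⁆ ⊔ V0 p V P) = ⁅V, E j⁆ ⊔ V0 p V P := by
      rw [cj_sup, cj_comm, hcV, hcR, hj]
    by_cases hji : j = i₀
    · left
      rw [hji] at hj hcUt
      rw [cj_comm, cj_comm, hcUt, hj]
    · right
      have hcen : ⁅E i₀, E i₀⁆ ≤ Subgroup.centralizer ((⁅V, E j⁆ ⊔ V0 p V P : Subgroup G) : Set G) := by
        rw [hgen, Subgroup.closure_le]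
        rintro x ⟨hxK, hx3⟩
        rw [SetLike.mem_coe, Subgroup.mem_centralizer_iff]
        intro u hu
        exact (S3C H T hC hji (hKE hxK) (hcop3 x hx3) u hu).symm
      intro k hk u hu
      have huj : u ∈ ⁅V, E j⁆ ⊔ V0 p V P := by
        rw [← hcUt]
        exact cj_mono hUUt hu
      exact ((Subgroup.mem_centralizer_iff.mp (hcen hk)) u huj).symm

end Cfsg.Agent.S3001P
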