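import Mathlib
import Cfsg.Agent.Helper26.S3050Defs

/-! # S3050, piece C1 (board `s3050pieces`): `Λ = C_Λ(w) ⊕ u C_Λ(w)` when `4Λ = 0` and `Fpf` -/

set_option autoImplicit false

namespace Cfsg.Agent.S3050P

open Cfsg.Agent.Helper18.NatMod

section

variable {F : Type*} [Field F] [CharP F 2]
variable {Λ : Type*} [AddCommGroup Λ] [DistribMulAction (Matrix.SpecialLinearGroup (Fin 2) F) Λ]

local notation "SF" => Matrix.SpecialLinearGroup (Fin 2) F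

theorem C1_aux_uwl : (uu (1 : F) * ww * ll 1 : SF) = ww := by
  apply Subtype.ext
  rw [Matrix.SpecialLinearGroup.coe_mul, Matrix.SpecialLinearGroup.coe_mul, uu_coe, ww_coe, ll_coe]
  ext i j
  fin_cases i <;> fin_cases j <;> simp [CharTwo.neg_eq, CharTwo.add_self_eq_zero]

/-- the `S₃` relation `u + w + l = 0` (blueprint A1; no exponent hypothesis) -/
theorem C1_aux_s3_rel (h3 : Fpf F Λ) (m : Λ) :
    (uu (1 : F) : SF) • m + (ww : SF) • m + (ll (1 : F) : SF) • m = 0 := by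
  have h := h3 (uu (1 : F) * ww) tr_uu_ww ((uu (1 : F) : SF) • m)
  have e1 : (uu (1 : F) * ww : SF) • (uu (1 : F) : SF) • m = (ll (1 : F) : SF) • m := by
    rw [← mul_smul, uu_ww_uu]
  have e2 : (uu (1 : F) * ww : SF) • (ll (1 : F) : SF) • m = (ww : SF) • m := by
    rw [← mul_smul, C1_aux_uwl]
  rw [e1, e2] at h
  rw [add_right_comm]; exact h

theorem C1_aux_ww_ww (m : Λ) : (ww : SF) • (ww : SF) • m = m := by
  rw [← mul_smul, ww_sq, one_smul]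

theorem C1_aux_uu_uu (c : F) (m : Λ) : (uu c : SF) • (uu c : SF) • m = m := by
  rw [← mul_smul, uu_sq, one_smul]

/-- C1 (existence) -/
theorem ab_dec (h4 : ∀ l : Λ, (l + l) + (l + l) = 0) (h3 : Fpf F Λ) (l : Λ) :
    ∃ l₁ l₂ : Λ, (ww : SF) • l₁ = l₁ ∧ (ww : SF) • l₂ = l₂ ∧ l = l₁ + (uu (1 : F) : SF) • l₂ := by
  obtain ⟨μ, hμ⟩ : ∃ μ : Λ, μ = -((l + l) + (uu (1 : F) : SF) • l) := ⟨_, rfl⟩
  refine ⟨μ + (ww : SF) • μ, (uu (1 : F) : SF) • μ + (ww : SF) • (uu (1 : F) : SF) • μ, ?_, ?_, ?_⟩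
  · rw [smul_add, C1_aux_ww_ww, add_comm]
  · rw [smul_add, C1_aux_ww_ww, add_comm]
  · have hs := C1_aux_s3_rel h3 μ
    have e1 : (uu (1 : F) : SF) • ((uu (1 : F) : SF) • μ + (ww : SF) • (uu (1 : F) : SF) • μ)
        = μ + (ll (1 : F) : SF) • μ := by
      rw [smul_add, C1_aux_uu_uu, ← mul_smul, ← mul_smul, uu_ww_uu]
    have e2 : (ll (1 : F) : SF) • μ = -((uu (1 : F) : SF) • μ + (ww : SF) • μ) := by
      rw [eq_neg_iff_add_eq_zero, add_comm]; exact hs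
    have e3 : (uu (1 : F) : SF) • μ = -(((uu (1 : F) : SF) • l + (uu (1 : F) : SF) • l) + l) := by
      rw [hμ, smul_neg, smul_add, smul_add, C1_aux_uu_uu]
    rw [e1, e2, e3]
    have e4 : μ + (ww : SF) • μ + (μ + -(-(((uu (1 : F) : SF) • l + (uu (1 : F) : SF) • l) + l)
        + (ww : SF) • μ)) = (μ + μ) + (((uu (1 : F) : SF) • l + (uu (1 : F) : SF) • l) + l) := by
      abel
    rw [e4, hμ]
    have e5 : -((l + l) + (uu (1 : F) : SF) • l) + -((l + l) + (uu (1 : F) : SF) • l)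
        + (((uu (1 : F) : SF) • l + (uu (1 : F) : SF) • l) + l) = l - ((l + l) + (l + l)) := by
      abel
    rw [e5, h4, sub_zero]

/-- C1 (uniqueness) -/
theorem ab_uniq (h4 : ∀ l : Λ, (l + l) + (l + l) = 0) (h3 : Fpf F Λ) {l₁ l₂ : Λ}
    (h₁ : (ww : SF) • l₁ = l₁) (h₂ : (ww : SF) • l₂ = l₂)
    (h : l₁ + (uu (1 : F) : SF) • l₂ = 0) : l₁ = 0 ∧ l₂ = 0 := by
  have hx : l₁ = -((uu (1 : F) : SF) • l₂) := eq_neg_of_add_eq_zero_left h
  -- `l(1)` fixes `l₁`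
  have hl : (ll (1 : F) : SF) • l₁ = l₁ := by
    rw [hx, smul_neg, ← mul_smul, ← uu_ww_uu, mul_assoc, uu_sq, mul_one, mul_smul, h₂]
  have hwl : (ww * ll (1 : F) : SF) • l₁ = l₁ := by
    rw [mul_smul, hl, h₁]
  have h3' := h3 (ww * ll (1 : F)) tr_ww_ll l₁
  rw [hwl, hwl] at h3'
  have h0 : l₁ = 0 := by
    have e : l₁ = ((l₁ + l₁) + (l₁ + l₁)) - (l₁ + l₁ + l₁) := by abel
    rw [e, h4, h3', sub_zero]
  refine ⟨h0, ?_⟩
  rw [h0, zero_add] at h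
  have := congrArg (fun y => (uu (1 : F) : SF) • y) h
  simp only [C1_aux_uu_uu, smul_zero] at this
  exact this

end

end Cfsg.Agent.S3050P
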