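import Mathlib
import Cfsg.Agent.Helper26.S3050Defs
import Cfsg.Agent.Helper29.S3050A11

/-! # S3050, piece C1 (second half, blueprint C2): the 2-torsion of `Λ` is a natural-structure module -/

set_option autoImplicit false

namespace Cfsg.Agent.S3050P

open Cfsg.Agent.Helper18.NatMod

section

variable {F : Type*} [Field F] [CharP F 2]
variable {Λ : Type*} [AddCommGroup Λ] [DistribMulAction (Matrix.SpecialLinearGroup (Fin 2) F) Λ]

local notation "SF" => Matrix.SpecialLinearGroup (Fin 2) F

/-- C2 -/
theorem natStr_twoTors [Finite F] (h3 : Fpf F Λ) : NatStr F ↥(twoTors Λ) := by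
  apply natStr_of_fpf
  · intro m
    exact Subtype.ext m.2
  · intro g hg m
    exact Subtype.ext (h3 g hg (m : Λ))

end

end Cfsg.Agent.S3050P
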