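import Mathlib
import Cfsg.Agent.Helper26.S3050Defs
import Cfsg.Agent.Helper15.S3050C1

/-! # S3050, piece C3a (board `s3050pieces`): `v = U_a = [[P,R],[R,P]]` on `C(w) ⊕ u C(w)`, `PR + RP = 0` -/

set_option autoImplicit false

namespace Cfsg.Agent.S3050P

open Cfsg.Agent.Helper18.NatMod

section

variable (F : Type*) [Field F]
variable {Λ : Type*} [AddCommGroup Λ] [DistribMulAction (Matrix.SpecialLinearGroup (Fin 2) F) Λ]

local notation "SF" => Matrix.SpecialLinearGroup (Fin 2) F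

/-- `μ(l) = -(2l + u l)` -/
def C3a_aux_mu : Λ →+ Λ :=
  AddMonoidHom.mk' (fun l => -((l + l) + (uu (1 : F) : SF) • l))
    (by intro a b; simp only [smul_add]; abel)

/-- the `C(w)`-component of `l` -/
def C3a_aux_p1 : Λ →+ Λ :=
  AddMonoidHom.mk' (fun l => C3a_aux_mu F l + (ww : SF) • C3a_aux_mu F l)
    (by intro a b; simp only [map_add, smul_add]; abel)

/-- the `u C(w)`-component of `l` (before applying `u`) -/
def C3a_aux_p2 : Λ →+ Λ :=
  AddMonoidHom.mk' (fun l => (uu (1 : F) : SF) • C3a_aux_mu F l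
      + (ww : SF) • (uu (1 : F) : SF) • C3a_aux_mu F l)
    (by intro a b; simp only [map_add, smul_add]; abel)

variable {F}

theorem C3a_aux_mu_apply (l : Λ) : C3a_aux_mu F l = -((l + l) + (uu (1 : F) : SF) • l) := rfl

theorem C3a_aux_p1_apply (l : Λ) :
    C3a_aux_p1 F l = C3a_aux_mu F l + (ww : SF) • C3a_aux_mu F l := rfl

theorem C3a_aux_p2_apply (l : Λ) :
    C3a_aux_p2 F l = (uu (1 : F) : SF) • C3a_aux_mu F l
      + (ww : SF) • (uu (1 : F) : SF) • C3a_aux_mu F l := rfl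

variable [CharP F 2]

/-- the explicit form of `ab_dec` -/
theorem C3a_aux_dec (h4 : ∀ l : Λ, (l + l) + (l + l) = 0) (h3 : Fpf F Λ) (l : Λ) :
    (ww : SF) • C3a_aux_p1 F l = C3a_aux_p1 F l ∧ (ww : SF) • C3a_aux_p2 F l = C3a_aux_p2 F l ∧
      l = C3a_aux_p1 F l + (uu (1 : F) : SF) • C3a_aux_p2 F l := by
  rw [C3a_aux_p1_apply, C3a_aux_p2_apply]
  obtain ⟨μ, hμ⟩ : ∃ μ : Λ, μ = C3a_aux_mu F l := ⟨_, rfl⟩
  rw [← hμ]
  rw [C3a_aux_mu_apply] at hμ
  refine ⟨?_, ?_, ?_⟩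
  · rw [smul_add, C1_aux_ww_ww, add_comm]
  · rw [smul_add, C1_aux_ww_ww, add_comm]
  · have hs := C1_aux_s3_rel h3 μ
    have e1 : (uu (1 : F) : SF) • ((uu (1 : F) : SF) • μ + (ww : SF) • (uu (1 : F) : SF) • μ)
        = μ + (ll (1 : F) : SF) • μ := by
      rw [smul_add, C1_aux_uu_uu, ← mul_smul, ← mul_smul, uu_ww_uu]
    have e2 : (ll (1 : F) : SF) • μ = -((uu (1 : F) : SF) • μ + (ww : SF) • μ) := by
      rw [eq_neg_iff_add_eq_zero, add_comm]; exact hs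
    have e3 : (uu (1 : F) : SF) • μ = -(((uu (1 : F) : SF) • l + (uu (1 : F) : SF) • l) + l) := by
      rw [hμ, smul_neg, smul_add, smul_add, C1_aux_uu_uu]
    rw [e1, e2, e3]
    have e4 : μ + (ww : SF) • μ + (μ + -(-(((uu (1 : F) : SF) • l + (uu (1 : F) : SF) • l) + l)
        + (ww : SF) • μ)) = (μ + μ) + (((uu (1 : F) : SF) • l + (uu (1 : F) : SF) • l) + l) := by
      abel
    rw [e4, hμ]
    have e5 : -((l + l) + (uu (1 : F) : SF) • l) + -((l + l) + (uu (1 : F) : SF) • l)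
        + (((uu (1 : F) : SF) • l + (uu (1 : F) : SF) • l) + l) = l - ((l + l) + (l + l)) := by
      abel
    rw [e5, h4, sub_zero]

/-- C3a -/
theorem ab_PR (h4 : ∀ l : Λ, (l + l) + (l + l) = 0) (h3 : Fpf F Λ) (a : F) :
    ∃ P R : Λ →+ Λ,
      (∀ l : Λ, (ww : SF) • l = l →
        (ww : SF) • P l = P l ∧ (ww : SF) • R l = R l ∧
          (uu a : SF) • l = P l + (uu (1 : F) : SF) • R l) ∧
      (∀ l : Λ, (ww : SF) • l = l → P (R l) + R (P l) = 0) := by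
  let v : Λ →+ Λ := DistribSMul.toAddMonoidHom Λ (uu a : SF)
  have hv : ∀ l : Λ, v l = (uu a : SF) • l := fun l => rfl
  let P : Λ →+ Λ := (C3a_aux_p1 F).comp v
  let R : Λ →+ Λ := (C3a_aux_p2 F).comp v
  have hP : ∀ l : Λ, P l = C3a_aux_p1 F ((uu a : SF) • l) := fun l => rfl
  have hR : ∀ l : Λ, R l = C3a_aux_p2 F ((uu a : SF) • l) := fun l => rfl
  have key : ∀ l : Λ, (ww : SF) • P l = P l ∧ (ww : SF) • R l = R l ∧
      (uu a : SF) • l = P l + (uu (1 : F) : SF) • R l := by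
    intro l
    rw [hP, hR]
    exact C3a_aux_dec h4 h3 _
  refine ⟨P, R, fun l _ => key l, ?_⟩
  intro l hl
  obtain ⟨hwP, hwR, hvl⟩ := key l
  obtain ⟨hwPP, hwRP, hvP⟩ := key (P l)
  obtain ⟨hwPR, hwRR, hvR⟩ := key (R l)
  -- `l = v v l`
  have h1 : l = (uu a : SF) • (uu a : SF) • l := (C1_aux_uu_uu a l).symm
  have hcomm : ∀ x : Λ, (uu a : SF) • (uu (1 : F) : SF) • x = (uu (1 : F) : SF) • (uu a : SF) • x := by
    intro x
    rw [← mul_smul, ← mul_smul, uu_comm]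
  rw [hvl, smul_add, hcomm, hvP, hvR, smul_add, C1_aux_uu_uu] at h1
  -- `h1 : l = P (P l) + u R (P l) + (u P (R l) + R (R l))`
  have h2 : (P (P l) + R (R l) - l) + (uu (1 : F) : SF) • (R (P l) + P (R l)) = 0 := by
    rw [smul_add]
    have : P (P l) + R (R l) - l + ((uu (1 : F) : SF) • R (P l) + (uu (1 : F) : SF) • P (R l))
        = (P (P l) + (uu (1 : F) : SF) • R (P l) + ((uu (1 : F) : SF) • P (R l) + R (R l))) - l := by
      abel
    rw [this, ← h1, sub_self]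
  have h3' := ab_uniq h4 h3 (l₁ := P (P l) + R (R l) - l) (l₂ := R (P l) + P (R l))
    (by rw [smul_sub, smul_add, hwPP, hwRR, hl]) (by rw [smul_add, hwRP, hwPR]) h2
  rw [add_comm]; exact h3'.2

end

end Cfsg.Agent.S3050P
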