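import Mathlib
import Cfsg.Agent.Helper26.S3050Defs
import Cfsg.Agent.Helper26.S3050NS
import Cfsg.Agent.Helper15.S3050C1

/-! # S3050, piece C3b, core (board `s3050pieces`; `NatStr` of the 2-torsion as a hypothesis): on the 2-torsion of `C(w)`, `R = κ_a` and `P = 1 + κ_a` -/

set_option autoImplicit false

namespace Cfsg.Agent.S3050P

open Cfsg.Agent.Helper18.NatMod

section

variable {F : Type*} [Field F] [CharP F 2]
variable {Λ : Type*} [AddCommGroup Λ] [DistribMulAction (Matrix.SpecialLinearGroup (Fin 2) F) Λ]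

local notation "SF" => Matrix.SpecialLinearGroup (Fin 2) F

/-- on `N₀ = Λ[2] ∩ C(w)`: `R = κ_a`, `P = 1 + κ_a` -/
theorem C3b_aux_core (ns : NatStr F ↥(twoTors Λ)) (h4 : ∀ l : Λ, (l + l) + (l + l) = 0)
    (h3 : Fpf F Λ) (a : F) (P R : Λ →+ Λ)
    (hPR : ∀ l : Λ, (ww : SF) • l = l →
        (ww : SF) • P l = P l ∧ (ww : SF) • R l = R l ∧
          (uu a : SF) • l = P l + (uu (1 : F) : SF) • R l)
    (m' : ↥(twoTors Λ)) (hm : (ww : SF) • m' = m') :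
    R (m' : Λ) = ((ka F a m' : ↥(twoTors Λ)) : Λ) ∧
      P (m' : Λ) = (m' : Λ) + ((ka F a m' : ↥(twoTors Λ)) : Λ) := by
  have h2N : ∀ x : ↥(twoTors Λ), x + x = 0 := fun x => Subtype.ext x.2
  obtain ⟨a₀, b₀, ha₀, hb₀, hdec⟩ : ∃ a₀ b₀ : ↥(twoTors Λ), a₀ ∈ fixu F ↥(twoTors Λ) ∧
      b₀ ∈ fixu F ↥(twoTors Λ) ∧ m' = a₀ + (ww : SF) • b₀ := ⟨_, _, ns.dec m'⟩
  subst hdec
  have hab : a₀ = b₀ := by
    have h1 := hm
    rw [smul_add, C1_aux_ww_ww] at h1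
    have h5 : (b₀ - a₀) + (ww : SF) • (a₀ - b₀) = 0 := by
      rw [smul_sub]
      have : b₀ - a₀ + ((ww : SF) • a₀ - (ww : SF) • b₀)
          = ((ww : SF) • a₀ + b₀) - (a₀ + (ww : SF) • b₀) := by abel
      rw [this, h1, sub_self]
    have h6 := ns.uniq _ (sub_mem hb₀ ha₀) _ (sub_mem ha₀ hb₀) h5
    exact sub_eq_zero.mp h6.2
  subst hab
  obtain ⟨b₁, hb₁def⟩ : ∃ b₁ : ↥(twoTors Λ), b₁ = ka F a a₀ := ⟨_, rfl⟩
  have hb₁ : b₁ ∈ fixu F ↥(twoTors Λ) := by rw [hb₁def]; exact ns.ka_mem a ha₀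
  have hvm : (uu a : SF) • (a₀ + (ww : SF) • a₀) = a₀ + (b₁ + (ww : SF) • a₀) := by
    rw [smul_add, ns.uu_fix a ha₀, ns.uu_ww a ha₀, hb₁def]
  obtain ⟨Y, hY⟩ : ∃ Y : ↥(twoTors Λ), Y = b₁ + (ww : SF) • b₁ := ⟨_, rfl⟩
  have hwY : (ww : SF) • Y = Y := by
    rw [hY, smul_add, C1_aux_ww_ww, add_comm]
  have huY : (uu (1 : F) : SF) • Y = (ww : SF) • b₁ := by
    rw [hY, smul_add, ns.uu_fix 1 hb₁, ns.uu_ww 1 hb₁, ns.ka_one, ← add_assoc, h2N, zero_add]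
  have hYka : Y = ka F a (a₀ + (ww : SF) • a₀) := by
    rw [hY, ns.ka_map_add, ns.ka_ww, hb₁def]
  have hsum : (uu a : SF) • (a₀ + (ww : SF) • a₀)
      = ((a₀ + (ww : SF) • a₀) + Y) + (uu (1 : F) : SF) • Y := by
    rw [hvm, huY, hY]
    have : a₀ + (ww : SF) • a₀ + (b₁ + (ww : SF) • b₁) + (ww : SF) • b₁
        = a₀ + (b₁ + (ww : SF) • a₀) + ((ww : SF) • b₁ + (ww : SF) • b₁) := by abel
    rw [this, h2N, add_zero]
  -- transport to `Λ`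
  have hΛ : (uu a : SF) • ((a₀ + (ww : SF) • a₀ : ↥(twoTors Λ)) : Λ)
      = (((a₀ + (ww : SF) • a₀ : ↥(twoTors Λ)) : Λ) + (Y : Λ)) + (uu (1 : F) : SF) • (Y : Λ) := by
    have h7 := congrArg Subtype.val hsum
    exact h7
  have hmΛ : (ww : SF) • ((a₀ + (ww : SF) • a₀ : ↥(twoTors Λ)) : Λ)
      = ((a₀ + (ww : SF) • a₀ : ↥(twoTors Λ)) : Λ) := congrArg Subtype.val hm
  have hwYΛ : (ww : SF) • (Y : Λ) = (Y : Λ) := congrArg Subtype.val hwY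
  obtain ⟨hwP, hwR, hv⟩ := hPR _ hmΛ
  obtain ⟨m, hmdef⟩ : ∃ m : Λ, m = ((a₀ + (ww : SF) • a₀ : ↥(twoTors Λ)) : Λ) := ⟨_, rfl⟩
  rw [← hYka]
  rw [← hmdef] at hΛ hmΛ hwP hwR hv ⊢
  have h8 : (P m - (m + (Y : Λ))) + (uu (1 : F) : SF) • (R m - (Y : Λ)) = 0 := by
    rw [smul_sub]
    have : P m - (m + (Y : Λ)) + ((uu (1 : F) : SF) • R m - (uu (1 : F) : SF) • (Y : Λ))
        = (P m + (uu (1 : F) : SF) • R m) - ((m + (Y : Λ)) + (uu (1 : F) : SF) • (Y : Λ)) := by abel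
    rw [this, ← hv, ← hΛ, sub_self]
  have h9 := ab_uniq h4 h3 (l₁ := P m - (m + (Y : Λ))) (l₂ := R m - (Y : Λ))
    (by rw [smul_sub, smul_add, hwP, hmΛ, hwYΛ]) (by rw [smul_sub, hwR, hwYΛ]) h8
  exact ⟨sub_eq_zero.mp h9.2, sub_eq_zero.mp h9.1⟩

/-- C3b with the natural structure of `Λ[2]` as a hypothesis -/
theorem C3b_aux_onN [Finite F] (ns : NatStr F ↥(twoTors Λ)) (h4 : ∀ l : Λ, (l + l) + (l + l) = 0) (h3 : Fpf F Λ) (a : F)
    (ha0 : a ≠ 0) (ha1 : a ≠ 1) (P R : Λ →+ Λ)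
    (hPR : ∀ l : Λ, (ww : SF) • l = l →
        (ww : SF) • P l = P l ∧ (ww : SF) • R l = R l ∧
          (uu a : SF) • l = P l + (uu (1 : F) : SF) • R l) :
    ∀ m : Λ, (ww : SF) • m = m → m + m = 0 →
      R m + R m = 0 ∧ P m = R m + m ∧ (⇑R)^[Nat.card F - 1] m = m ∧ (R m + m = 0 → m = 0) := by
  intro m hwm h2m
  have core := fun (x : ↥(twoTors Λ)) hx => C3b_aux_core ns h4 h3 a P R hPR x hx
  obtain ⟨m', hm'def⟩ : ∃ m' : ↥(twoTors Λ), (m' : Λ) = m := ⟨⟨m, h2m⟩, rfl⟩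
  have hm' : (ww : SF) • m' = m' := Subtype.ext (by rw [twoTors_coe_smul, hm'def]; exact hwm)
  obtain ⟨hR, hP⟩ := core m' hm'
  rw [hm'def] at hR hP
  have hiter : ∀ j : ℕ, (⇑R)^[j] m = ((ka F (a ^ j) m' : ↥(twoTors Λ)) : Λ) := by
    intro j
    induction j with
    | zero => rw [Function.iterate_zero, id, pow_zero, ns.ka_one, hm'def]
    | succ j ih =>
      rw [Function.iterate_succ_apply', ih, pow_succ', ns.ka_mul]
      exact (core (ka F (a ^ j) m') (by rw [← ns.ka_ww, hm'])).1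
  refine ⟨?_, ?_, ?_, ?_⟩
  · rw [hR]; exact (ka F a m').2
  · rw [hP, hR, add_comm]
  · have := Fintype.ofFinite F
    rw [hiter, Nat.card_eq_fintype_card, FiniteField.pow_card_sub_one_eq_one a ha0, ns.ka_one, hm'def]
  · intro h
    rw [hR, ← hm'def] at h
    have h1 : ka F (a + 1) m' = 0 := by
      rw [ns.ka_add, ns.ka_one]; exact Subtype.ext h
    have h2 : a + 1 ≠ 0 := by
      intro h0
      apply ha1
      have := eq_neg_of_add_eq_zero_left h0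
      rw [this, CharTwo.neg_eq]
    have h3' := ns.ka_inj h2 h1
    rw [← hm'def, h3']; rfl

end

end Cfsg.Agent.S3050P
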