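import Mathlib
import Cfsg.Agent.Helper26.S3050Defs
import Cfsg.Agent.Helper15.S3050C2
import Cfsg.Agent.Helper15.S3050C3bCore

/-! # S3050, piece C3b (board `s3050pieces`): on the 2-torsion of `C(w)`, `R = κ_a` and `P = 1 + κ_a` -/

set_option autoImplicit false

namespace Cfsg.Agent.S3050P

open Cfsg.Agent.Helper18.NatMod

section

variable {F : Type*} [Field F] [CharP F 2]
variable {Λ : Type*} [AddCommGroup Λ] [DistribMulAction (Matrix.SpecialLinearGroup (Fin 2) F) Λ]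

local notation "SF" => Matrix.SpecialLinearGroup (Fin 2) F

/-- C3b -/
theorem ab_onN [Finite F] (h4 : ∀ l : Λ, (l + l) + (l + l) = 0) (h3 : Fpf F Λ) (a : F)
    (ha0 : a ≠ 0) (ha1 : a ≠ 1) (P R : Λ →+ Λ)
    (hPR : ∀ l : Λ, (ww : SF) • l = l →
        (ww : SF) • P l = P l ∧ (ww : SF) • R l = R l ∧
          (uu a : SF) • l = P l + (uu (1 : F) : SF) • R l) :
    ∀ m : Λ, (ww : SF) • m = m → m + m = 0 →
      R m + R m = 0 ∧ P m = R m + m ∧ (⇑R)^[Nat.card F - 1] m = m ∧ (R m + m = 0 → m = 0) :=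
  C3b_aux_onN (natStr_twoTors h3) h4 h3 a ha0 ha1 P R hPR

end

end Cfsg.Agent.S3050P
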