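import Mathlib
import Cfsg.Agent.Helper26.S3050Defs
import Cfsg.Agent.Helper15.S3050C1
import Cfsg.Agent.Helper15.S3050C3a
import Cfsg.Agent.Helper15.S3050C3bCore

/-! # S3050, piece C3c, core (board `s3050pieces`; `NatStr` of the 2-torsion as a hypothesis): `4Λ = 0` and `Fpf` imply `2Λ = 0` (`q ≥ 4`) -/

set_option autoImplicit false

namespace Cfsg.Agent.S3050P

open Cfsg.Agent.Helper18.NatMod

section

variable {F : Type*} [Field F] [CharP F 2]
variable {Λ : Type*} [AddCommGroup Λ] [DistribMulAction (Matrix.SpecialLinearGroup (Fin 2) F) Λ]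

local notation "SF" => Matrix.SpecialLinearGroup (Fin 2) F

theorem C3c_aux_odd [Finite F] : Odd (Nat.card F - 1) := by
  have := Fintype.ofFinite F
  obtain ⟨n, -, hn⟩ := FiniteField.card F 2
  obtain ⟨k, hk⟩ : ∃ k, (n : ℕ) = k + 1 := Nat.exists_eq_succ_of_ne_zero n.ne_zero
  rw [Nat.card_eq_fintype_card, hn, hk, pow_succ]
  refine ⟨2 ^ k - 1, ?_⟩
  have := Nat.one_le_two_pow (n := k)
  omega

theorem C3c_aux_odd_nsmul {J : ℕ} (hJ : Odd J) {x : Λ} (hx : x + x = 0) : J • x = x := by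
  obtain ⟨k, rfl⟩ := hJ
  rw [add_nsmul, one_nsmul, mul_nsmul, two_nsmul, hx, nsmul_zero, zero_add]

/-- the core of C3c: `2 l = 0` for `l ∈ C(w)` -/
theorem C3c_aux_L0 [Finite F] (ns : NatStr F ↥(twoTors Λ)) (hbig : ∃ a : F, a ≠ 0 ∧ a ≠ 1)
    (h4 : ∀ l : Λ, (l + l) + (l + l) = 0) (h3 : Fpf F Λ) (l : Λ) (hl : (ww : SF) • l = l) :
    l + l = 0 := by
  obtain ⟨a, ha0, ha1⟩ := hbig
  obtain ⟨P, R, hPR, hanti⟩ := ab_PR h4 h3 a
  have onN := C3b_aux_onN ns h4 h3 a ha0 ha1 P R hPR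
  obtain ⟨J, hJ⟩ : ∃ J, J = Nat.card F - 1 := ⟨_, rfl⟩
  rw [← hJ] at onN
  have hJodd : Odd J := by rw [hJ]; exact C3c_aux_odd
  obtain ⟨Z, hZdef⟩ : ∃ Z : Λ →+ Λ, ∀ x, Z x = P x - R x - x :=
    ⟨P - R - AddMonoidHom.id Λ, fun x => rfl⟩
  have hP : ∀ x, P x = R x + x + Z x := by
    intro x; rw [hZdef]; abel
  -- `Z` kills `N₀`
  have hZ0 : ∀ m : Λ, (ww : SF) • m = m → m + m = 0 → Z m = 0 := by
    intro m h1 h2
    rw [hZdef, (onN m h1 h2).2.1]; abel
  -- `R` preserves `N₀`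
  have hRN : ∀ m : Λ, (ww : SF) • m = m → m + m = 0 →
      (ww : SF) • R m = R m ∧ R m + R m = 0 :=
    fun m h1 h2 => ⟨(hPR m h1).2.1, (onN m h1 h2).1⟩
  -- doubles of `Λ₀` lie in `N₀`
  have hdbl : ∀ x : Λ, (ww : SF) • x = x → (ww : SF) • (x + x) = x + x := by
    intro x hx; rw [smul_add, hx]
  -- `Z` maps `Λ₀` into `N₀`
  have hZN : ∀ x : Λ, (ww : SF) • x = x → (ww : SF) • Z x = Z x ∧ Z x + Z x = 0 := by
    intro x hx
    refine ⟨by rw [hZdef, smul_sub, smul_sub, (hPR x hx).1, (hPR x hx).2.1, hx], ?_⟩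
    have h5 := hZ0 (x + x) (hdbl x hx) (h4 x)
    rw [map_add] at h5
    exact h5
  -- the key relation
  have key : ∀ x : Λ, (ww : SF) • x = x → Z (R x) = R (Z x) + (R (R (x + x)) + R (x + x)) := by
    intro x hx
    have hA := hanti x hx
    rw [hP (R x), hP x, map_add, map_add] at hA
    have e1 : R (Z x) + R (Z x) = 0 := (hRN (Z x) (hZN x hx).1 (hZN x hx).2).2
    obtain ⟨h6, h7⟩ := hRN (x + x) (hdbl x hx) (h4 x)
    obtain ⟨h8, h9⟩ := hRN (R (x + x)) h6 h7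
    have e2 : (R (R (x + x)) + R (x + x)) + (R (R (x + x)) + R (x + x)) = 0 := by
      have : (R (R (x + x)) + R (x + x)) + (R (R (x + x)) + R (x + x))
          = (R (R (x + x)) + R (R (x + x))) + (R (x + x) + R (x + x)) := by abel
      rw [this, h9, h7, add_zero]
    have e3 : R (R (x + x)) + R (x + x) = (R (R x) + R (R x)) + (R x + R x) := by
      rw [map_add, map_add]
    rw [← sub_eq_zero]
    have : Z (R x) - (R (Z x) + (R (R (x + x)) + R (x + x)))
        = (R (R x) + R x + Z (R x) + (R (R x) + R x + R (Z x))) - (R (Z x) + R (Z x))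
          - ((R (R (x + x)) + R (x + x)) + (R (R (x + x)) + R (x + x))) := by
      rw [e3]; abel
    rw [this, hA, e1, e2, sub_zero, sub_zero]
  -- iterates stay in `Λ₀`
  have hLj : ∀ j : ℕ, (ww : SF) • (⇑R)^[j] l = (⇑R)^[j] l := by
    intro j
    induction j with
    | zero => exact hl
    | succ j ih =>
      rw [Function.iterate_succ_apply']
      exact (hPR _ ih).2.1
  -- the induction
  have claim : ∀ j : ℕ, Z ((⇑R)^[j] l)
      = (⇑R)^[j] (Z l) + j • (R ((⇑R)^[j] (l + l)) + (⇑R)^[j] (l + l)) := by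
    intro j
    induction j with
    | zero => simp
    | succ j ih =>
      rw [Function.iterate_succ_apply', key _ (hLj j), ih, Function.iterate_succ_apply',
        Function.iterate_succ_apply', ← iterate_map_add, map_add, map_nsmul, map_add, succ_nsmul,
        add_assoc]
  have hJ1 := claim J
  obtain ⟨hz1, hz2⟩ := hZN l hl
  rw [(onN (Z l) hz1 hz2).2.2.1, (onN (l + l) (hdbl l hl) (h4 l)).2.2.1] at hJ1
  -- `Z (R^J l) = Z l`
  have hJ2 : Z ((⇑R)^[J] l) = Z l := by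
    have h5 : Z ((⇑R)^[J] l - l) = 0 := by
      apply hZ0
      · rw [smul_sub, hLj J, hl]
      · have : (⇑R)^[J] l - l + ((⇑R)^[J] l - l) = ((⇑R)^[J] l + (⇑R)^[J] l) - (l + l) := by abel
        rw [this, ← iterate_map_add, (onN (l + l) (hdbl l hl) (h4 l)).2.2.1, sub_self]
    rw [map_sub] at h5
    exact sub_eq_zero.mp h5
  obtain ⟨h6, h7⟩ := hRN (l + l) (hdbl l hl) (h4 l)
  have hx2 : (R (l + l) + (l + l)) + (R (l + l) + (l + l)) = 0 := by
    have : (R (l + l) + (l + l)) + (R (l + l) + (l + l))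
        = (R (l + l) + R (l + l)) + ((l + l) + (l + l)) := by abel
    rw [this, h7, h4, add_zero]
  rw [hJ2, C3c_aux_odd_nsmul hJodd hx2] at hJ1
  have h0 : R (l + l) + (l + l) = 0 := by
    have := hJ1
    exact (left_eq_add.mp this)
  exact (onN (l + l) (hdbl l hl) (h4 l)).2.2.2 h0

/-- C3c with the natural structure of `Λ[2]` as a hypothesis -/
theorem C3c_aux_main [Finite F] (ns : NatStr F ↥(twoTors Λ)) (hbig : ∃ a : F, a ≠ 0 ∧ a ≠ 1)
    (h4 : ∀ l : Λ, (l + l) + (l + l) = 0) (h3 : Fpf F Λ) : ∀ l : Λ, l + l = 0 := by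
  intro l
  obtain ⟨l₁, l₂, h1, h2, rfl⟩ := ab_dec h4 h3 l
  have e1 := C3c_aux_L0 ns hbig h4 h3 l₁ h1
  have e2 := C3c_aux_L0 ns hbig h4 h3 l₂ h2
  have : l₁ + (uu (1 : F) : SF) • l₂ + (l₁ + (uu (1 : F) : SF) • l₂)
      = (l₁ + l₁) + (uu (1 : F) : SF) • (l₂ + l₂) := by
    rw [smul_add]; abel
  rw [this, e1, e2, smul_zero, add_zero]

end

end Cfsg.Agent.S3050P
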