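import Mathlib
import Cfsg.Agent.Helper26.S3050Defs
import Cfsg.Agent.Helper15.S3050C2
import Cfsg.Agent.Helper15.S3050C3cCore

/-! # S3050, piece C3c (board `s3050pieces`): `4Λ = 0` and `Fpf` imply `2Λ = 0` (`q ≥ 4`) -/

set_option autoImplicit false

namespace Cfsg.Agent.S3050P

open Cfsg.Agent.Helper18.NatMod

section

variable {F : Type*} [Field F] [CharP F 2]
variable {Λ : Type*} [AddCommGroup Λ] [DistribMulAction (Matrix.SpecialLinearGroup (Fin 2) F) Λ]

local notation "SF" => Matrix.SpecialLinearGroup (Fin 2) F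

/-- C3c -/
theorem ab_main [Finite F] (hbig : ∃ a : F, a ≠ 0 ∧ a ≠ 1)
    (h4 : ∀ l : Λ, (l + l) + (l + l) = 0) (h3 : Fpf F Λ) : ∀ l : Λ, l + l = 0 :=
  C3c_aux_main (natStr_twoTors h3) hbig h4 h3

end

end Cfsg.Agent.S3050P
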