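import Mathlib
import Cfsg.Prelude.Def_Transfer

set_option autoImplicit false
set_option linter.unusedSectionVars false
set_option linter.unusedVariables false

/-! # S3154, piece QUAD -/

namespace Cfsg.Agent.S3154P

/-- QUAD helper: exponent 2 implies commutative. -/
theorem QUAD.aux_comm {X : Type*} [Group X] (H : Subgroup X) (h2 : ∀ x ∈ H, x ^ 2 = 1) :
    IsMulCommutative H := by
  refine ⟨⟨fun a b => Subtype.ext ?_⟩⟩
  have ha := h2 a a.2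
  have hb := h2 b b.2
  have hab := h2 (a * b) (H.mul_mem a.2 b.2)
  simp only [Subgroup.coe_mul]
  -- a b = (a b)⁻¹ = b⁻¹ a⁻¹ = b a
  have ha' : (a : X)⁻¹ = a := by
    rw [inv_eq_iff_mul_eq_one, ← sq]; exact ha
  have hb' : (b : X)⁻¹ = b := by
    rw [inv_eq_iff_mul_eq_one, ← sq]; exact hb
  have hab' : ((a : X) * b)⁻¹ = a * b := by
    rw [inv_eq_iff_mul_eq_one, ← sq]; exact hab
  calc (a : X) * b = ((a : X) * b)⁻¹ := hab'.symm
    _ = (b : X)⁻¹ * (a : X)⁻¹ := mul_inv_rev _ _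
    _ = b * a := by rw [ha', hb']

/-- QUAD: a central extension `H` of an elementary abelian group of order ≥ 8 by a central
elementary abelian 2-group `Z`, all of whose non-central... elements are conjugate modulo `Z`
(in an overgroup centralising `Z`), is elementary abelian. -/
theorem QUAD {X : Type*} [Group X] (Z H : Subgroup X) (hZc : Z ≤ Subgroup.center X) (hZH : Z ≤ H)
    (hZ2 : ∀ z ∈ Z, z ^ 2 = 1)
    (hcomm : ∀ x ∈ H, ∀ y ∈ H, x * y * x⁻¹ * y⁻¹ ∈ Z) (hsq : ∀ x ∈ H, x ^ 2 ∈ Z)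
    (hbig : ∃ x ∈ H, ∃ y ∈ H, ∃ w ∈ H, x ∉ Z ∧ y ∉ Z ∧ w ∉ Z ∧ x * y ∉ Z ∧ x * w ∉ Z ∧ y * w ∉ Z ∧
      x * (y * w) ∉ Z)
    (htr : ∀ x ∈ H, x ∉ Z → ∀ y ∈ H, y ∉ Z → ∃ g : X, ∃ z ∈ Z, g * x * g⁻¹ = y * z) :
    Cfsg.IsElementaryAbelian 2 H := by
  -- elements of Z commute with everything
  have hcen : ∀ z ∈ Z, ∀ g : X, g * z = z * g := fun z hz g =>
    (Subgroup.mem_center_iff.1 (hZc hz)) g
  -- squares are constant off Z
  have hsqeq : ∀ x ∈ H, x ∉ Z → ∀ y ∈ H, y ∉ Z → x ^ 2 = y ^ 2 := by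
    intro x hx hxZ y hy hyZ
    obtain ⟨g, z, hz, hg⟩ := htr x hx hxZ y hy hyZ
    have h1 : (g * x * g⁻¹) ^ 2 = x ^ 2 := by
      have : (g * x * g⁻¹) ^ 2 = g * x ^ 2 * g⁻¹ := by
        rw [sq, sq]; group
      rw [this, hcen _ (hsq x hx) g, mul_inv_cancel_right]
    have h2 : (y * z) ^ 2 = y ^ 2 := by
      have : (y * z) ^ 2 = y * (z * y) * z := by rw [sq]; group
      rw [this, ← hcen z hz y, sq]
      have hz2 := hZ2 z hz
      rw [sq] at hz2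
      calc y * (y * z) * z = y * y * (z * z) := by group
        _ = y * y := by rw [hz2, mul_one]
    rw [← h1, hg, h2]
  -- the commutator of an independent pair is the common square
  have hk : ∀ x ∈ H, x ∉ Z → ∀ y ∈ H, y ∉ Z → x * y ∉ Z → x * y * x⁻¹ * y⁻¹ = x ^ 2 := by
    intro x hx hxZ y hy hyZ hxyZ
    have hy2 : y ^ 2 = x ^ 2 := hsqeq y hy hyZ x hx hxZ
    have hxy2 : (x * y) ^ 2 = x ^ 2 := hsqeq (x * y) (H.mul_mem hx hy) hxyZ x hx hxZ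
    set k := x * y * x⁻¹ * y⁻¹ with hkdef
    have hkZ : k ∈ Z := hcomm x hx y hy
    have hc2 : (x ^ 2) ^ 2 = 1 := hZ2 _ (hsq x hx)
    -- x y = k y x
    have hxy : x * y = k * (y * x) := by rw [hkdef]; group
    -- (x y)^2 = x (y x) y, and y x = k⁻¹ x y
    have hyx : y * x = k⁻¹ * (x * y) := by rw [hxy]; group
    have h3 : (x * y) ^ 2 = k⁻¹ * (x ^ 2 * y ^ 2) := by
      have : (x * y) ^ 2 = x * (y * x) * y := by rw [sq]; group
      rw [this, hyx]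
      have hkc : x * k⁻¹ = k⁻¹ * x := hcen _ (Z.inv_mem hkZ) x
      calc x * (k⁻¹ * (x * y)) * y = (x * k⁻¹) * x * y * y := by group
        _ = k⁻¹ * x * x * y * y := by rw [hkc]
        _ = k⁻¹ * (x ^ 2 * y ^ 2) := by rw [sq, sq]; group
    rw [hxy2, hy2] at h3
    -- x^2 = k⁻¹ x^2 x^2 = k⁻¹ (as (x^2)^2 = 1)
    have h4 : x ^ 2 * x ^ 2 = 1 := by rw [← sq]; exact hc2
    rw [h4, mul_one] at h3
    -- x^2 = k⁻¹, and k^2 = 1
    have hk2 : k ^ 2 = 1 := hZ2 k hkZ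
    have hkinv : k⁻¹ = k := by
      rw [inv_eq_iff_mul_eq_one, ← sq]; exact hk2
    rw [h3, hkinv]
  obtain ⟨x, hx, y, hy, w, hw, hxZ, hyZ, hwZ, hxyZ, hxwZ, hywZ, hxywZ⟩ := hbig
  have h1 := hk x hx hxZ y hy hyZ hxyZ
  have h2 := hk x hx hxZ w hw hwZ hxwZ
  have h3 := hk x hx hxZ (y * w) (H.mul_mem hy hw) hywZ hxywZ
  -- bimultiplicativity
  have h4 : x * (y * w) * x⁻¹ * (y * w)⁻¹ = (x * w * x⁻¹ * w⁻¹) * (x * y * x⁻¹ * y⁻¹) := by
    have hc := hcen _ (hcomm x hx w hw)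
    calc x * (y * w) * x⁻¹ * (y * w)⁻¹ = x * y * x⁻¹ * (x * w * x⁻¹ * w⁻¹) * y⁻¹ := by group
      _ = (x * w * x⁻¹ * w⁻¹) * (x * y * x⁻¹) * y⁻¹ := by rw [hc (x * y * x⁻¹)]
      _ = (x * w * x⁻¹ * w⁻¹) * (x * y * x⁻¹ * y⁻¹) := by group
  rw [h4, h1, h2] at h3
  have hc1 : x ^ 2 = 1 := by
    have := mul_left_cancel (a := x ^ 2) (b := x ^ 2) (c := 1) (by rw [h3, mul_one])
    exact this
  have hexp : ∀ a ∈ H, a ^ 2 = 1 := by
    intro a ha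
    by_cases haZ : a ∈ Z
    · exact hZ2 a haZ
    · rw [hsqeq a ha haZ x hx hxZ, hc1]
  exact ⟨QUAD.aux_comm H hexp, hexp⟩

end Cfsg.Agent.S3154P
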