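import Mathlib
import Cfsg.Prelude.Def_Solvable
import Cfsg.Prelude.Def_TwoFusion

set_option autoImplicit false
set_option linter.unusedSectionVars false
set_option linter.unusedVariables false

/-! # S3206, piece SYLOWT: a Sylow 2-subgroup of `G` containing `t` and the image of `V`. -/

namespace Cfsg.Agent.S3206P

/-- SYLOWT: a Sylow 2-subgroup of `G` containing `t` and (the image of) `V`. -/
theorem SYLOWT {G : Type*} [Group G] [Finite G] (t : G) (ht : orderOf t = 2) (E : Subgroup G)
    (hE : Cfsg.IsInternalDirectProduct (Subgroup.zpowers t) E (Subgroup.centralizer ({t} : Set G)))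
    (N : Subgroup ↥E) (V : Sylow 2 ↥N) :
    ∃ S : Sylow 2 G, t ∈ (S : Subgroup G) ∧
      ∀ v : ↥N, v ∈ (V : Subgroup ↥N) → ((v : ↥E) : G) ∈ (S : Subgroup G) := by
  have : Fact (Nat.Prime 2) := ⟨Nat.prime_two⟩
  -- the image of V in G
  set W : Subgroup G := ((V : Subgroup ↥N).map N.subtype).map E.subtype with hW
  have hWp : IsPGroup 2 W := by
    have h1 : IsPGroup 2 ((V : Subgroup ↥N).map N.subtype) := V.isPGroup'.map _
    exact h1.map _
  have htp : IsPGroup 2 (Subgroup.zpowers t) := by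
    intro x
    refine ⟨1, ?_⟩
    obtain ⟨x, hx⟩ := x
    obtain ⟨k, rfl⟩ := Subgroup.mem_zpowers_iff.1 hx
    apply Subtype.ext
    simp only [pow_one, Subgroup.coe_pow, Subgroup.coe_one]
    rw [← zpow_natCast, ← zpow_mul, mul_comm, zpow_mul, zpow_natCast, ← ht, pow_orderOf_eq_one, one_zpow]
  have hcomm : ∀ w ∈ W, w * t = t * w := by
    intro w hw
    obtain ⟨e, he, rfl⟩ := Subgroup.mem_map.1 hw
    have := hE.2.2.1 t (Subgroup.mem_zpowers t) (e : G) e.2
    simpa using this.symm
  have hnorm : W ≤ Subgroup.normalizer ((Subgroup.zpowers t : Subgroup G) : Set G) := by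
    intro w hw
    rw [Subgroup.mem_normalizer_iff]
    intro x
    have hc : ∀ y ∈ Subgroup.zpowers t, w * y * w⁻¹ = y := by
      intro y hy
      obtain ⟨k, rfl⟩ := Subgroup.mem_zpowers_iff.1 hy
      have h1 : Commute w t := hcomm w hw
      have h2 : Commute w (t ^ k) := h1.zpow_right k
      rw [h2.eq, mul_inv_cancel_right]
    constructor
    · intro hx
      rw [hc x hx]; exact hx
    · intro hx
      have h3 := hc _ hx
      have h4 : x = w⁻¹ * (w * x * w⁻¹) * w := by group
      have h5 : w⁻¹ * (w * x * w⁻¹) * w = w * x * w⁻¹ := by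
        have h1 : Commute w t := hcomm w hw
        obtain ⟨k, hk⟩ := Subgroup.mem_zpowers_iff.1 hx
        have h2 : Commute w (t ^ k) := h1.zpow_right k
        rw [← hk]
        have h6 : w⁻¹ * t ^ k * w = t ^ k := by
          rw [mul_assoc, ← h2.eq, inv_mul_cancel_left]
        exact h6
      rw [h4, h5]; exact hx
  have hP : IsPGroup 2 ↥(W ⊔ Subgroup.zpowers t : Subgroup G) := IsPGroup.to_sup_of_normal_right' hWp htp hnorm
  obtain ⟨S, hS⟩ := hP.exists_le_sylow
  refine ⟨S, hS (Subgroup.mem_sup_right (Subgroup.mem_zpowers t)), ?_⟩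
  intro v hv
  apply hS
  apply Subgroup.mem_sup_left
  exact Subgroup.mem_map.2 ⟨(v : ↥E), Subgroup.mem_map.2 ⟨v, hv, rfl⟩, rfl⟩

end Cfsg.Agent.S3206P
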