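import Cfsg.Agent.Helper15.S3412.Defs

/-! S3412 piece AUTBOUND (helper15): the incidence graph of `PG(2,3)` has at most `11232 = 2 · 5616`
automorphisms.  Stabilizer chain along the frame `inl 0, inl 1, inl 2, inl 9`. -/

set_option autoImplicit false

namespace Cfsg.Agent.S3412P

namespace AUTBOUND

/-- orbit–stabilizer bound for a subgroup of a symmetric group -/
theorem card_le_mul {V : Type*} [Fintype V] [DecidableEq V] (K : Subgroup (Equiv.Perm V)) (b : V)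
    (C : Finset V) (hC : ∀ σ ∈ K, σ b ∈ C) :
    Nat.card K ≤ C.card *
      Nat.card (K ⊓ MulAction.stabilizer (Equiv.Perm V) b : Subgroup (Equiv.Perm V)) := by
  classical
  -- the action of `K` on `V`
  have h1 := Subgroup.card_eq_card_quotient_mul_card_subgroup (MulAction.stabilizer K b)
  have h2 : Nat.card (K ⧸ MulAction.stabilizer K b) = Nat.card (MulAction.orbit K b) :=
    (Nat.card_congr (MulAction.orbitEquivQuotientStabilizer K b)).symm
  have h3 : Nat.card (MulAction.orbit K b) ≤ C.card := by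
    have hsub : MulAction.orbit K b ⊆ (C : Set V) := by
      rintro _ ⟨σ, rfl⟩
      exact hC σ.1 σ.2
    calc Nat.card (MulAction.orbit K b) ≤ Nat.card (C : Set V) :=
          Nat.card_mono (Set.toFinite _) hsub
      _ = C.card := by rw [Nat.card_coe_set_eq, Set.ncard_coe_finset]
  have h4 : Nat.card (MulAction.stabilizer K b) =
      Nat.card (K ⊓ MulAction.stabilizer (Equiv.Perm V) b : Subgroup (Equiv.Perm V)) := by
    refine Nat.card_congr
      { toFun := fun σ => ⟨σ.1.1, σ.1.2, σ.2⟩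
        invFun := fun σ => ⟨⟨σ.1, σ.2.1⟩, σ.2.2⟩
        left_inv := fun σ => rfl
        right_inv := fun σ => rfl }
  rw [h1, h2, h4]
  exact Nat.mul_le_mul_right _ h3

/-- an automorphism fixing `u, w` fixes their unique common neighbour -/
theorem fix_of_unique {σ : Equiv.Perm V₀} (hσ : σ ∈ AutΓ) {u w x : V₀} (hu : σ u = u)
    (hw : σ w = w) (hxu : adj₀ u x) (hxw : adj₀ w x)
    (huniq : ∀ z, adj₀ u z → adj₀ w z → z = x) : σ x = x := by
  apply huniq
  · have := (hσ u x).mpr hxu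
    rwa [hu] at this
  · have := (hσ w x).mpr hxw
    rwa [hw] at this

/-- an automorphism fixing the frame is the identity -/
theorem eq_one_of_fix {σ : Equiv.Perm V₀} (hσ : σ ∈ AutΓ)
    (hl0 : σ (Sum.inl 0 : V₀) = Sum.inl 0) (hl1 : σ (Sum.inl 1 : V₀) = Sum.inl 1)
    (hl2 : σ (Sum.inl 2 : V₀) = Sum.inl 2) (hl9 : σ (Sum.inl 9 : V₀) = Sum.inl 9) : σ = 1 := by
  have hr0 : σ (Sum.inr 0 : V₀) = (Sum.inr 0 : V₀) :=
    fix_of_unique hσ hl1 hl2 (by decide) (by decide) (by decide)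
  have hr1 : σ (Sum.inr 1 : V₀) = (Sum.inr 1 : V₀) :=
    fix_of_unique hσ hl0 hl2 (by decide) (by decide) (by decide)
  have hr2 : σ (Sum.inr 2 : V₀) = (Sum.inr 2 : V₀) :=
    fix_of_unique hσ hl0 hl1 (by decide) (by decide) (by decide)
  have hr4 : σ (Sum.inr 4 : V₀) = (Sum.inr 4 : V₀) :=
    fix_of_unique hσ hl2 hl9 (by decide) (by decide) (by decide)
  have hr6 : σ (Sum.inr 6 : V₀) = (Sum.inr 6 : V₀) :=
    fix_of_unique hσ hl1 hl9 (by decide) (by decide) (by decide)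
  have hr8 : σ (Sum.inr 8 : V₀) = (Sum.inr 8 : V₀) :=
    fix_of_unique hσ hl0 hl9 (by decide) (by decide) (by decide)
  have hl3 : σ (Sum.inl 3 : V₀) = (Sum.inl 3 : V₀) :=
    fix_of_unique hσ hr2 hr4 (by decide) (by decide) (by decide)
  have hl5 : σ (Sum.inl 5 : V₀) = (Sum.inl 5 : V₀) :=
    fix_of_unique hσ hr1 hr6 (by decide) (by decide) (by decide)
  have hl7 : σ (Sum.inl 7 : V₀) = (Sum.inl 7 : V₀) :=
    fix_of_unique hσ hr0 hr8 (by decide) (by decide) (by decide)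
  have hr10 : σ (Sum.inr 10 : V₀) = (Sum.inr 10 : V₀) :=
    fix_of_unique hσ hl5 hl7 (by decide) (by decide) (by decide)
  have hr11 : σ (Sum.inr 11 : V₀) = (Sum.inr 11 : V₀) :=
    fix_of_unique hσ hl3 hl7 (by decide) (by decide) (by decide)
  have hr12 : σ (Sum.inr 12 : V₀) = (Sum.inr 12 : V₀) :=
    fix_of_unique hσ hl3 hl5 (by decide) (by decide) (by decide)
  have hl4 : σ (Sum.inl 4 : V₀) = (Sum.inl 4 : V₀) :=
    fix_of_unique hσ hr2 hr10 (by decide) (by decide) (by decide)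
  have hl6 : σ (Sum.inl 6 : V₀) = (Sum.inl 6 : V₀) :=
    fix_of_unique hσ hr1 hr11 (by decide) (by decide) (by decide)
  have hl8 : σ (Sum.inl 8 : V₀) = (Sum.inl 8 : V₀) :=
    fix_of_unique hσ hr0 hr12 (by decide) (by decide) (by decide)
  have hl10 : σ (Sum.inl 10 : V₀) = (Sum.inl 10 : V₀) :=
    fix_of_unique hσ hr4 hr10 (by decide) (by decide) (by decide)
  have hl11 : σ (Sum.inl 11 : V₀) = (Sum.inl 11 : V₀) :=
    fix_of_unique hσ hr6 hr11 (by decide) (by decide) (by decide)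
  have hl12 : σ (Sum.inl 12 : V₀) = (Sum.inl 12 : V₀) :=
    fix_of_unique hσ hr8 hr12 (by decide) (by decide) (by decide)
  have hr3 : σ (Sum.inr 3 : V₀) = (Sum.inr 3 : V₀) :=
    fix_of_unique hσ hl2 hl4 (by decide) (by decide) (by decide)
  have hr5 : σ (Sum.inr 5 : V₀) = (Sum.inr 5 : V₀) :=
    fix_of_unique hσ hl1 hl6 (by decide) (by decide) (by decide)
  have hr7 : σ (Sum.inr 7 : V₀) = (Sum.inr 7 : V₀) :=
    fix_of_unique hσ hl0 hl8 (by decide) (by decide) (by decide)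
  have hr9 : σ (Sum.inr 9 : V₀) = (Sum.inr 9 : V₀) :=
    fix_of_unique hσ hl9 hl4 (by decide) (by decide) (by decide)
  apply Equiv.ext
  intro x
  rw [Equiv.Perm.one_apply]
  rcases x with i | i <;> fin_cases i <;> first | exact hl0 | exact hl1 | exact hl2 | exact hl3 | exact hl4 | exact hl5 | exact hl6 | exact hl7 | exact hl8 | exact hl9 | exact hl10 | exact hl11 | exact hl12 | exact hr0 | exact hr1 | exact hr2 | exact hr3 | exact hr4 | exact hr5 | exact hr6 | exact hr7 | exact hr8 | exact hr9 | exact hr10 | exact hr11 | exact hr12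

theorem mem_stab {σ : Equiv.Perm V₀} {b : V₀} :
    σ ∈ MulAction.stabilizer (Equiv.Perm V₀) b ↔ σ b = b := by
  rw [MulAction.mem_stabilizer_iff, Equiv.Perm.smul_def]

/-- images of a vertex at distance two from a fixed vertex -/
theorem mem_dist2 {σ : Equiv.Perm V₀} (hσ : σ ∈ AutΓ) {b x z : V₀} (hb : σ b = b) (hx : x ≠ b)
    (hz1 : adj₀ b z) (hz2 : adj₀ x z) : σ x ≠ b ∧ ∃ z, adj₀ b z ∧ adj₀ (σ x) z := by
  refine ⟨?_, σ z, ?_, ?_⟩
  · intro h
    apply hx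
    apply σ.injective
    rw [h, hb]
  · have := (hσ b z).mpr hz1
    rwa [hb] at this
  · exact (hσ x z).mpr hz2

theorem not_adj_of_fix {σ : Equiv.Perm V₀} (hσ : σ ∈ AutΓ) {x l : V₀} (hl : σ l = l)
    (h : ¬ adj₀ x l) : ¬ adj₀ (σ x) l := by
  intro h1
  apply h
  rw [← hl] at h1
  exact (hσ x l).mp h1

/-- candidates for the image of the second, third, fourth frame point -/
def C2 : Finset V₀ :=
  Finset.univ.filter fun x => x ≠ (Sum.inl 0 : V₀) ∧ ∃ z, adj₀ (Sum.inl 0) z ∧ adj₀ x z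

def C3 : Finset V₀ :=
  Finset.univ.filter fun x => (x ≠ (Sum.inl 0 : V₀) ∧ ∃ z, adj₀ (Sum.inl 0) z ∧ adj₀ x z) ∧
    ¬ adj₀ x (Sum.inr 2)

def C4 : Finset V₀ :=
  Finset.univ.filter fun x => (x ≠ (Sum.inl 0 : V₀) ∧ ∃ z, adj₀ (Sum.inl 0) z ∧ adj₀ x z) ∧
    ¬ adj₀ x (Sum.inr 2) ∧ ¬ adj₀ x (Sum.inr 1) ∧ ¬ adj₀ x (Sum.inr 0)

theorem card_univ : (Finset.univ : Finset V₀).card = 26 := by decide
theorem card_C2 : C2.card = 12 := by decide
theorem card_C3 : C3.card = 9 := by decide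
theorem card_C4 : C4.card = 4 := by decide

/-- the stabilizer chain -/
def K1 : Subgroup (Equiv.Perm V₀) := AutΓ ⊓ MulAction.stabilizer (Equiv.Perm V₀) (Sum.inl 0 : V₀)
def K2 : Subgroup (Equiv.Perm V₀) := K1 ⊓ MulAction.stabilizer (Equiv.Perm V₀) (Sum.inl 1 : V₀)
def K3 : Subgroup (Equiv.Perm V₀) := K2 ⊓ MulAction.stabilizer (Equiv.Perm V₀) (Sum.inl 2 : V₀)
def K4 : Subgroup (Equiv.Perm V₀) := K3 ⊓ MulAction.stabilizer (Equiv.Perm V₀) (Sum.inl 9 : V₀)

theorem mem_K1 {σ : Equiv.Perm V₀} : σ ∈ K1 ↔ σ ∈ AutΓ ∧ σ (Sum.inl 0 : V₀) = Sum.inl 0 := by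
  rw [K1, Subgroup.mem_inf, mem_stab]
theorem mem_K2 {σ : Equiv.Perm V₀} : σ ∈ K2 ↔ σ ∈ K1 ∧ σ (Sum.inl 1 : V₀) = Sum.inl 1 := by
  rw [K2, Subgroup.mem_inf, mem_stab]
theorem mem_K3 {σ : Equiv.Perm V₀} : σ ∈ K3 ↔ σ ∈ K2 ∧ σ (Sum.inl 2 : V₀) = Sum.inl 2 := by
  rw [K3, Subgroup.mem_inf, mem_stab]
theorem mem_K4 {σ : Equiv.Perm V₀} : σ ∈ K4 ↔ σ ∈ K3 ∧ σ (Sum.inl 9 : V₀) = Sum.inl 9 := by
  rw [K4, Subgroup.mem_inf, mem_stab]

theorem card_AutΓ_le : Nat.card AutΓ ≤ 11232 := by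
  classical
  have e0 : Nat.card AutΓ ≤ 26 * Nat.card K1 := by
    have := card_le_mul AutΓ (Sum.inl 0 : V₀) Finset.univ (fun σ _ => Finset.mem_univ _)
    rwa [card_univ] at this
  have e1 : Nat.card K1 ≤ 12 * Nat.card K2 := by
    have := card_le_mul K1 (Sum.inl 1 : V₀) C2 (by
      intro σ hσK
      obtain ⟨hσ, h0⟩ := mem_K1.mp hσK
      rw [C2, Finset.mem_filter]
      exact ⟨Finset.mem_univ _, mem_dist2 (z := Sum.inr 2) hσ h0 (by decide) (by decide) (by decide)⟩)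
    rwa [card_C2] at this
  have e2 : Nat.card K2 ≤ 9 * Nat.card K3 := by
    have := card_le_mul K2 (Sum.inl 2 : V₀) C3 (by
      intro σ hσK
      obtain ⟨hσK1, h1⟩ := mem_K2.mp hσK
      obtain ⟨hσ, h0⟩ := mem_K1.mp hσK1
      have hr2 : σ (Sum.inr 2 : V₀) = Sum.inr 2 :=
        fix_of_unique hσ h0 h1 (by decide) (by decide) (by decide)
      rw [C3, Finset.mem_filter]
      exact ⟨Finset.mem_univ _, mem_dist2 (z := Sum.inr 1) hσ h0 (by decide) (by decide) (by decide),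
        not_adj_of_fix hσ hr2 (by decide)⟩)
    rwa [card_C3] at this
  have e3 : Nat.card K3 ≤ 4 * Nat.card K4 := by
    have := card_le_mul K3 (Sum.inl 9 : V₀) C4 (by
      intro σ hσK
      obtain ⟨hσK2, h2⟩ := mem_K3.mp hσK
      obtain ⟨hσK1, h1⟩ := mem_K2.mp hσK2
      obtain ⟨hσ, h0⟩ := mem_K1.mp hσK1
      have hr2 : σ (Sum.inr 2 : V₀) = Sum.inr 2 :=
        fix_of_unique hσ h0 h1 (by decide) (by decide) (by decide)
      have hr1 : σ (Sum.inr 1 : V₀) = Sum.inr 1 :=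
        fix_of_unique hσ h0 h2 (by decide) (by decide) (by decide)
      have hr0 : σ (Sum.inr 0 : V₀) = Sum.inr 0 :=
        fix_of_unique hσ h1 h2 (by decide) (by decide) (by decide)
      rw [C4, Finset.mem_filter]
      exact ⟨Finset.mem_univ _, mem_dist2 (z := Sum.inr 8) hσ h0 (by decide) (by decide) (by decide),
        not_adj_of_fix hσ hr2 (by decide), not_adj_of_fix hσ hr1 (by decide),
        not_adj_of_fix hσ hr0 (by decide)⟩)
    rwa [card_C4] at this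
  have e4 : Nat.card K4 = 1 := by
    rw [Subgroup.card_eq_one, Subgroup.eq_bot_iff_forall]
    intro σ hσK
    obtain ⟨hσK3, h9⟩ := mem_K4.mp hσK
    obtain ⟨hσK2, h2⟩ := mem_K3.mp hσK3
    obtain ⟨hσK1, h1⟩ := mem_K2.mp hσK2
    obtain ⟨hσ, h0⟩ := mem_K1.mp hσK1
    exact eq_one_of_fix hσ h0 h1 h2 h9
  calc Nat.card AutΓ ≤ 26 * Nat.card K1 := e0
    _ ≤ 26 * (12 * Nat.card K2) := Nat.mul_le_mul_left _ e1
    _ ≤ 26 * (12 * (9 * Nat.card K3)) := Nat.mul_le_mul_left _ (Nat.mul_le_mul_left _ e2)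
    _ ≤ 26 * (12 * (9 * (4 * Nat.card K4))) :=
        Nat.mul_le_mul_left _ (Nat.mul_le_mul_left _ (Nat.mul_le_mul_left _ e3))
    _ = 11232 := by rw [e4]

end AUTBOUND

end Cfsg.Agent.S3412P
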