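import Mathlib
import Cfsg.Agent.Helper15.S3412.Defs2
import Cfsg.Agent.Helper15.S3412SCLASS

/-! S3412 piece GAMMA2 (helper15 hedge): every `IsQ` subgroup of `SL₃(3)` is one of the 26 `sub0 x`. -/

set_option autoImplicit false

namespace Cfsg.Agent.S3412P

open Matrix Cfsg.Agent.Helper2.RootSLn Cfsg.Agent.Helper7.AutPSL

namespace GAMMA2

set_option maxRecDepth 100000 in
theorem norm_pt : ∀ v : Fin 3 → ZMod 3, v ≠ 0 →
    ∃ i : Fin 13, ∃ a : ZMod 3, a ≠ 0 ∧ v = a • pt i := by decide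

theorem sub0_surj (A : Subgroup L33) (hA : IsQ A) : ∃ x : V₀, sub0 x = A := by
  rcases SCLASS.isQ_cases hA with ⟨v, hv, rfl⟩ | ⟨φ, hφ, rfl⟩
  · obtain ⟨i, a, ha, hva⟩ := norm_pt v hv
    refine ⟨Sum.inl i, ?_⟩
    rw [sub0_inl, hva, TP_smul ha]
  · obtain ⟨j, a, ha, hφa⟩ := norm_pt φ hφ
    refine ⟨Sum.inr j, ?_⟩
    rw [sub0_inr, hφa, TH_smul ha]

end GAMMA2

end Cfsg.Agent.S3412P
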