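import Mathlib
import Cfsg.Agent.Helper15.S3412.Defs2
import Cfsg.Agent.Helper7.AutPSL5
import Cfsg.Agent.Helper27.SL3Invol2
import Cfsg.Agent.Helper26.S3412CONJISQ

/-! S3412 piece STM1 (helper15 hedge): a transvection of `SL₃(3)` has centralizer order divisible
by 27 (it is conjugate into the centre of the unitriangular group). -/

set_option autoImplicit false

namespace Cfsg.Agent.S3412P

open Matrix Cfsg.Agent.Helper2.RootSLn Cfsg.Agent.Helper7.AutPSL

namespace STM1

theorem card_L33 : Nat.card L33 = 5616 := Cfsg.Agent.Helper27.card_sl3_three (ZMod.card 3)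

theorem card_USL : Nat.card (USL 3 (ZMod 3)) = 27 := by
  have h1 : 27 ≤ Nat.card (USL 3 (ZMod 3)) := by
    have := card_USL_ge (n := 3) (F := ZMod 3)
    rw [ZMod.card] at this
    exact this
  have : Fact (Nat.Prime 3) := ⟨by norm_num⟩
  obtain ⟨k, hk⟩ := (isPGroup_USL (F := ZMod 3) (n := 3) 3).exists_card_eq
  have h2 : Nat.card (USL 3 (ZMod 3)) ∣ 5616 := by
    rw [← card_L33]
    exact Subgroup.card_subgroup_dvd_card _
  rw [hk] at h1 h2 ⊢
  have hk7 : k < 8 := by
    by_contra hcon
    have h8 : 8 ≤ k := by omega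
    have h3 : 3 ^ 8 ≤ 3 ^ k := Nat.pow_le_pow_right (by norm_num) h8
    have h4 := Nat.le_of_dvd (by norm_num) h2
    omega
  interval_cases k <;> first | rfl | omega

theorem dvd_card_centralizer_of_isTm {a : L33} (ha : IsTm a) :
    27 ∣ Nat.card (Subgroup.centralizer ({a} : Set L33)) := by
  rcases isTm_cases ha with rfl | ⟨v, φ, h, hv, hφ, rfl⟩
  · have htop : Subgroup.centralizer ({(1 : L33)} : Set L33) = ⊤ := by
      rw [eq_top_iff]
      intro g _
      rw [Subgroup.mem_centralizer_iff]
      intro x hx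
      rw [Set.mem_singleton_iff] at hx
      subst hx
      rw [one_mul, mul_one]
    rw [htop, Subgroup.card_top, card_L33]
    norm_num
  · have h3 : 3 ≤ Fintype.card (Fin 3) := by simp
    have h02 : (0 : Fin 3) ≠ 2 := by decide
    obtain ⟨g, hg⟩ := move_pair h3 hv hφ h (single_ne_zero (k := ZMod 3) (0 : Fin 3))
      (single_ne_zero (k := ZMod 3) (2 : Fin 3)) (single_dot_single_of_ne h02)
    -- the conjugate lies in the centre of `USL`
    have hmem : g * ts v φ h 1 * g⁻¹ ∈
        X (Pi.single (0 : Fin 3) 1 : Fin 3 → ZMod 3) (Pi.single (2 : Fin 3) 1) := by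
      rw [← hg]
      exact Subgroup.mem_map.2 ⟨ts v φ h 1, ts_mem_X h 1, rfl⟩
    have hcen := X_le_centralizer_USL (F := ZMod 3) (0 : Fin 3) (2 : Fin 3)
      (fun j => Fin.zero_le j) (fun j => Fin.le_last j) h02 hmem
    have hle : USL 3 (ZMod 3) ≤ Subgroup.centralizer ({g * ts v φ h 1 * g⁻¹} : Set L33) := by
      intro u hu
      rw [Subgroup.mem_centralizer_iff]
      intro x hx
      rw [Set.mem_singleton_iff] at hx
      subst hx
      rw [Subgroup.mem_centralizer_iff] at hcen
      exact (hcen u hu).symm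
    have hdvd := Subgroup.card_dvd_of_le hle
    rw [card_USL, CONJISQ.centralizer_conj_singleton, CONJISQ.card_map_conj] at hdvd
    exact hdvd

end STM1

end Cfsg.Agent.S3412P
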