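import Mathlib

set_option autoImplicit false
set_option linter.unusedSectionVars false
set_option linter.unusedVariables false

/-! # S3641, piece ARITH: what the set of Sylow numbers `{18, 136, 153}` says. -/

namespace Cfsg.Agent.S3641P

/-- ARITH helper: a Sylow number is `1` mod `r` and divides the order. -/
theorem ARITH.aux_mod {G : Type*} [Group G] [Finite G] (r : ℕ) (hr : r.Prime) :
    Nat.card (Sylow r G) % r = 1 ∧ Nat.card (Sylow r G) ∣ Nat.card G := by
  have : Fact r.Prime := ⟨hr⟩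
  constructor
  · have h := card_sylow_modEq_one r G
    unfold Nat.ModEq at h
    rw [h, Nat.mod_eq_of_lt hr.one_lt]
  · obtain ⟨P⟩ : Nonempty (Sylow r G) := inferInstance
    exact (Sylow.card_dvd_index P).trans (Subgroup.index_dvd_card _)

/-- ARITH helper: a prime `r` with `n % r = 1` divides `n - 1`. -/
theorem ARITH.aux_dvd {n r : ℕ} (h : n % r = 1) : r ∣ n - 1 := by
  have h1 : n = r * (n / r) + 1 := by
    have := Nat.div_add_mod n r
    omega
  exact ⟨n / r, by omega⟩

/-- ARITH: what the set of Sylow numbers says. -/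
theorem ARITH {G : Type*} [Group G] [Finite G]
    (hNS : {c : ℕ | ∃ r : ℕ, r.Prime ∧ r ∣ Nat.card G ∧ c = Nat.card (Sylow r G)} =
      ({18, 136, 153} : Set ℕ)) :
    Nat.card (Sylow 17 G) = 18 ∧ Nat.card (Sylow 2 G) = 153 ∧ Nat.card (Sylow 3 G) = 136 ∧
    (∀ r : ℕ, r.Prime → r ∣ Nat.card G → r = 2 ∨ r = 3 ∨ r = 5 ∨ r = 17 ∨ r = 19) ∧
    (5 ∣ Nat.card G → Nat.card (Sylow 5 G) = 136) ∧
    (19 ∣ Nat.card G → Nat.card (Sylow 19 G) = 153) := by
  -- membership of every Sylow number
  have hmem : ∀ r : ℕ, r.Prime → r ∣ Nat.card G →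
      Nat.card (Sylow r G) = 18 ∨ Nat.card (Sylow r G) = 136 ∨ Nat.card (Sylow r G) = 153 := by
    intro r hr hrG
    have h1 : Nat.card (Sylow r G) ∈
        {c : ℕ | ∃ r : ℕ, r.Prime ∧ r ∣ Nat.card G ∧ c = Nat.card (Sylow r G)} :=
      ⟨r, hr, hrG, rfl⟩
    rw [hNS] at h1
    simpa using h1
  -- the primes
  have hprimes : ∀ r : ℕ, r.Prime → r ∣ Nat.card G → r = 2 ∨ r = 3 ∨ r = 5 ∨ r = 17 ∨ r = 19 := by
    intro r hr hrG
    have hm := (ARITH.aux_mod (G := G) r hr).1
    rcases hmem r hr hrG with h | h | h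
    · rw [h] at hm
      have hd : r ∣ 17 := ARITH.aux_dvd hm
      have := (Nat.prime_dvd_prime_iff_eq hr (by norm_num)).1 hd
      omega
    · rw [h] at hm
      have hd : r ∣ 3 ^ 3 * 5 := ARITH.aux_dvd hm
      rcases (Nat.Prime.dvd_mul hr).1 hd with h3 | h5
      · have := (Nat.prime_dvd_prime_iff_eq hr (by norm_num)).1 (hr.dvd_of_dvd_pow h3)
        omega
      · have := (Nat.prime_dvd_prime_iff_eq hr (by norm_num)).1 h5
        omega
    · rw [h] at hm
      have hd : r ∣ 2 ^ 3 * 19 := ARITH.aux_dvd hm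
      rcases (Nat.Prime.dvd_mul hr).1 hd with h2 | h19
      · have := (Nat.prime_dvd_prime_iff_eq hr (by norm_num)).1 (hr.dvd_of_dvd_pow h2)
        omega
      · have := (Nat.prime_dvd_prime_iff_eq hr (by norm_num)).1 h19
        omega
  -- 18 is attained, necessarily at r = 17
  have h18 : (18 : ℕ) ∈ {c : ℕ | ∃ r : ℕ, r.Prime ∧ r ∣ Nat.card G ∧ c = Nat.card (Sylow r G)} := by
    rw [hNS]; simp
  obtain ⟨r, hr, hrG, hr18⟩ := h18
  have hr17 : r = 17 := by
    have hm := (ARITH.aux_mod (G := G) r hr).1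
    rw [← hr18] at hm
    have hd : r ∣ 17 := ARITH.aux_dvd hm
    exact (Nat.prime_dvd_prime_iff_eq hr (by norm_num)).1 hd
  subst hr17
  have h17 : Nat.card (Sylow 17 G) = 18 := hr18.symm
  have h18G : 18 ∣ Nat.card G := by
    have := (ARITH.aux_mod (G := G) 17 hr).2
    rwa [h17] at this
  have h2G : 2 ∣ Nat.card G := (by norm_num : 2 ∣ 18).trans h18G
  have h3G : 3 ∣ Nat.card G := (by norm_num : 3 ∣ 18).trans h18G
  refine ⟨h17, ?_, ?_, hprimes, ?_, ?_⟩
  · have hm := (ARITH.aux_mod (G := G) 2 Nat.prime_two).1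
    rcases hmem 2 Nat.prime_two h2G with h | h | h
    · rw [h] at hm; omega
    · rw [h] at hm; omega
    · exact h
  · have hm := (ARITH.aux_mod (G := G) 3 Nat.prime_three).1
    rcases hmem 3 Nat.prime_three h3G with h | h | h
    · rw [h] at hm; omega
    · exact h
    · rw [h] at hm; omega
  · intro h5G
    have hm := (ARITH.aux_mod (G := G) 5 Nat.prime_five).1
    rcases hmem 5 Nat.prime_five h5G with h | h | h
    · rw [h] at hm; omega
    · exact h
    · rw [h] at hm; omega
  · intro h19G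
    have h19 : Nat.Prime 19 := by norm_num
    have hm := (ARITH.aux_mod (G := G) 19 h19).1
    rcases hmem 19 h19 h19G with h | h | h
    · rw [h] at hm; omega
    · rw [h] at hm; omega
    · exact h

end Cfsg.Agent.S3641P
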