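import Cfsg.Agent.Helper15.S3786LYfaith
import Cfsg.Agent.Helper6.S3786ThatCent

/-! # S3786 (Hall–Higman), board `s3786pieces`, row LY_faith (official): `T̂` is faithful on `C/Z(C)`. -/

set_option autoImplicit false

namespace Cfsg.Agent.S3786P

open Subgroup

universe u

section K

variable {F : Type*} [Field F] {p : ℕ} [Fact p.Prime] [CharP F p] {V : Type*} [AddCommGroup V] [Module F V]
  [FiniteDimensional F V] [Nontrivial V] {H : Type u} [Group H] [Finite H] {ρ₀ : Representation F H V}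
  {T : Sylow p H} {n : ℕ}

/-- K5c. `T̂` is faithful on `C/Z(C)`: `b ∈ T̂` centralises `Z(C) = C ∩ C_H(C)` (`That_cent`: a `T`-invariant abelian 2-group); if moreover
`[b, C] ≤ Z(C)` then `b` centralises `C` (`COPR`), hence `S₂` (`C_crit`), hence `b = 1` (`S_faith`). -/
theorem LY_faith (S : KSet ρ₀ p (T : Subgroup H) n) {S₂ C : Subgroup H} (hC : CSet p (T : Subgroup H) n S₂ C) {b : H}
    (hb : b ∈ That (T : Subgroup H) p n) (h : ∀ a ∈ C, b * a * b⁻¹ * a⁻¹ ∈ centralizer (C : Set H)) : b = 1 := by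
  obtain ⟨hR2, hRn, hRab⟩ := LY_faith_aux_R hC
  have hp2' : (2 : ℕ) ≠ p := fun h2 => S.p_odd h2.symm
  have hcen := That_cent S 2 Nat.prime_two hp2' _ hR2 hRn (Or.inr hRab)
  refine LY_faith_aux_core S.p_odd hC hb (fun a ha haZ => ?_) h
  exact ((mem_centralizer_iff.1 (hcen hb)) a (mem_inf.2 ⟨ha, haZ⟩)).symm

end K

end Cfsg.Agent.S3786P
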