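import Cfsg.Agent.Helper11.S3786Defs
import Cfsg.Agent.Helper9.PLenExpC
import Cfsg.Agent.Helper10.AGStrongA
import Cfsg.Agent.Helper10.CoreBasic
import Cfsg.Agent.Lead.PLength

/-! # S3786 (Hall–Higman), board `s3786pieces`, row STEP2' (core): `x^(p^n)` lies in the 4th term of the upper `p`-series.
The statement of row STEP2 enters as the hypothesis `hstep`. -/

set_option autoImplicit false

namespace Cfsg.Agent.S3786P

open Subgroup

universe u

/-- `O_{p',p}(Y) ≤` the second term of the upper `p`-series of `Y` -/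
theorem STEP2'_aux_le_upper_two {Y : Type*} [Group Y] [Finite Y] (p : ℕ) [Fact p.Prime] :
    Cfsg.pPrimePCore p Y ≤ (Cfsg.upperPSeries p Y 2).1 := by
  have hU1 : (Cfsg.upperPSeries p Y 1).1 =
      (Cfsg.pPrimeCore p (Y ⧸ (Cfsg.upperPSeries p Y 0).1)).comap (QuotientGroup.mk' _) :=
    Cfsg.Agent.Lead.upperPSeries_succ_of_even p Y (n := 0) (by decide)
  have hU2 : (Cfsg.upperPSeries p Y 2).1 =
      (Cfsg.pCore p (Y ⧸ (Cfsg.upperPSeries p Y 1).1)).comap (QuotientGroup.mk' _) :=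
    Cfsg.Agent.Lead.upperPSeries_succ_of_not_even p Y (n := 1) (by decide)
  have hKn : (Cfsg.pPrimeCore p Y).Normal := inferInstance
  have hK1 : Cfsg.pPrimeCore p Y ≤ (Cfsg.upperPSeries p Y 1).1 := by
    rw [hU1, ← Subgroup.map_le_iff_le_comap]
    apply Cfsg.Agent.Helper7.le_pPrimeCore (hKn.map _ (QuotientGroup.mk'_surjective _))
    exact Nat.Coprime.coprime_dvd_left (Subgroup.card_map_dvd _ _)
      (Cfsg.Agent.Helper23.pPrimeCore_card_coprime p Y)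
  have hLn : (Cfsg.pPrimePCore p Y).Normal := by
    unfold Cfsg.pPrimePCore
    exact (inferInstance : (Cfsg.pCore p (Y ⧸ Cfsg.pPrimeCore p Y)).Normal).comap _
  rw [hU2, ← Subgroup.map_le_iff_le_comap]
  apply Cfsg.Agent.Helper10.le_pCore_of_normal_pGroup p (hLn.map _ (QuotientGroup.mk'_surjective _))
  rintro ⟨y, hy⟩
  obtain ⟨x, hx, rfl⟩ := hy
  have hx' : QuotientGroup.mk' (Cfsg.pPrimeCore p Y) x ∈ Cfsg.pCore p (Y ⧸ Cfsg.pPrimeCore p Y) := hx
  obtain ⟨m, hm⟩ := (Cfsg.Agent.Helper10.pCore_isPGroup (G := Y ⧸ Cfsg.pPrimeCore p Y) p) ⟨_, hx'⟩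
  have hm' : x ^ p ^ m ∈ Cfsg.pPrimeCore p Y := by
    have h1 := congrArg Subtype.val hm
    rw [Subgroup.coe_pow, Subgroup.coe_one, ← map_pow] at h1
    exact (QuotientGroup.eq_one_iff _).mp h1
  refine ⟨m, Subtype.ext ?_⟩
  rw [Subgroup.coe_pow, Subgroup.coe_one, ← map_pow]
  exact (QuotientGroup.eq_one_iff _).mpr (hK1 hm')

/-- STEP2' (core). -/
theorem STEP2'_aux_core {G : Type u} [Group G] [Finite G] {p : ℕ} [Fact p.Prime] (hsol : Cfsg.IsPSolvable p G)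
    {n : ℕ} (hexp : ExpLE p (n + 1) G) (P : Sylow p G) (x : G) (hx : x ∈ (P : Subgroup G))
    (hstep : ∀ (X : Type u) [Group X] [Finite X], Cfsg.IsPSolvable p X → Cfsg.pPrimeCore p X = ⊥ →
      ExpLE p (n + 1) X → ∀ (P : Sylow p X) (x : X), x ∈ (P : Subgroup X) →
        QuotientGroup.mk' (Cfsg.pCore p X) (x ^ p ^ n) ∈ Cfsg.pPrimePCore p (X ⧸ Cfsg.pCore p X)) :
    x ^ p ^ n ∈ (Cfsg.upperPSeries p G 4).1 := by
  set A := (Cfsg.upperPSeries p G 1).1 with hA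
  have hfA : Function.Surjective (QuotientGroup.mk' A) := QuotientGroup.mk'_surjective A
  have hBeq : (Cfsg.upperPSeries p G 2).1 = (Cfsg.pCore p (G ⧸ A)).comap (QuotientGroup.mk' A) :=
    Cfsg.Agent.Lead.upperPSeries_succ_of_not_even p G (n := 1) (by decide)
  -- STEP2 in `X = G ⧸ A`
  have hexpX : ExpLE p (n + 1) (G ⧸ A) :=
    Cfsg.Agent.Helper9.PLenExp.ExpLE.of_surjective (p := p) hexp (QuotientGroup.mk' A) hfA
  have hxP : QuotientGroup.mk' A x ∈ ((P.mapSurjective hfA : Sylow p (G ⧸ A)) : Subgroup (G ⧸ A)) := by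
    rw [Sylow.coe_mapSurjective]
    exact ⟨x, hx, rfl⟩
  have h1 := hstep (G ⧸ A) (Cfsg.Agent.Lead.isPSolvable_quotient hsol A)
    Cfsg.Agent.Helper9.PLenExp.pPrimeCore_quotient_one hexpX (P.mapSurjective hfA) _ hxP
  rw [← map_pow] at h1
  -- the isomorphism `G ⧸ U₂ ≃* (G ⧸ A) ⧸ O_p(G ⧸ A)`
  obtain ⟨e₂, he₂⟩ := Cfsg.Agent.Lead.exists_quotient_comap_equiv A (Cfsg.pCore p (G ⧸ A))
  let e₁ : G ⧸ (Cfsg.upperPSeries p G 2).1 ≃* G ⧸ (Cfsg.pCore p (G ⧸ A)).comap (QuotientGroup.mk' A) :=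
    QuotientGroup.quotientMulEquivOfEq hBeq
  have he₁ : ∀ g : G, e₁ (QuotientGroup.mk' _ g) = QuotientGroup.mk' _ g := fun g => rfl
  let e := e₁.trans e₂
  have he : ∀ g : G, e (QuotientGroup.mk' _ g) =
      QuotientGroup.mk' (Cfsg.pCore p (G ⧸ A)) (QuotientGroup.mk' A g) := by
    intro g
    change e₂ (e₁ (QuotientGroup.mk' _ g)) = _
    rw [he₁, he₂]
  have hmap := Cfsg.Agent.Helper10.pPrimePCore_map_equiv p e
  rw [← hmap] at h1
  obtain ⟨y, hy, hye⟩ := h1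
  have hy' : y = QuotientGroup.mk' (Cfsg.upperPSeries p G 2).1 (x ^ p ^ n) := by
    apply e.injective
    rw [he]
    exact hye
  -- conclude with the shift lemma
  have h4 := Cfsg.Agent.Lead.upperPSeries_add p G (m := 2) (by decide) 2
  change (Cfsg.upperPSeries p G 4).1 = _ at h4
  rw [h4, mem_comap, ← hy']
  exact STEP2'_aux_le_upper_two p hy

end Cfsg.Agent.S3786P
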