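import Cfsg.Agent.Helper15.S3786STEP2p
import Cfsg.Agent.Helper11.S3786STEP2

/-! # S3786 (Hall–Higman), board `s3786pieces`, row STEP2' (official). -/

set_option autoImplicit false

namespace Cfsg.Agent.S3786P

open Subgroup

universe u

/-- E4a. In general: `x^{p^n} ∈ O_{p',p,p',p}(G)` (the 4th term of the upper `p`-series) when the exponent is at most `p^{n+1}`. -/
theorem STEP2' {G : Type u} [Group G] [Finite G] {p : ℕ} [Fact p.Prime] (hp2 : p ≠ 2) (hsol : Cfsg.IsPSolvable p G)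
    {n : ℕ} (hexp : ExpLE p (n + 1) G) (P : Sylow p G) (x : G) (hx : x ∈ (P : Subgroup G)) :
    x ^ p ^ n ∈ (Cfsg.upperPSeries p G 4).1 :=
  STEP2'_aux_core hsol hexp P x hx (fun _ _ _ hs hO he P x hx => STEP2 hp2 hs hO he P x hx)

end Cfsg.Agent.S3786P
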