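import Cfsg.Agent.Helper15.S3818A6
import Cfsg.Agent.Helper11.S3818A4

/-! # S3818 (Flavell, Theorem A), row A6: official wrapper (A6 = A4 + A5) -/

set_option autoImplicit false

namespace Cfsg.Agent.S3818P

open Module

/-- A6 = A4 + A5. -/
theorem A6_abelian_normal_central {G : Type*} [Group G] [Finite G] [Group.IsSolvable G] {p : ℕ}
    (hp : p.Prime) (hp3 : 3 < p) (x : G) (hx : x ^ p = 1)
    (hgen : Subgroup.normalClosure ({x} : Set G) = ⊤)
    {k : Type*} [Field k] {V : Type*} [AddCommGroup V] [Module k V] [FiniteDimensional k V]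
    (ρ : Representation k G V) [ρ.IsIrreducible] (hfaith : Function.Injective ρ)
    (N : Subgroup G) [N.Normal] (hN : ∀ a ∈ N, ∀ b ∈ N, a * b = b * a) :
    Bound ρ x ∨ N ≤ Subgroup.center G :=
  A6_aux_core hp hp3 x hx hgen ρ hfaith N (A4_abelian_normal hp hp3 x hx hgen ρ N hN)

end Cfsg.Agent.S3818P
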