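import Mathlib

/-! Board `s3822pieces`, row ABS (`ABS_count`): the abstract complement-counting lemma. -/

set_option autoImplicit false

namespace Cfsg.Agent.S3822P

/-- Sylow conjugacy of two complements of a normal `r'`-subgroup `N` when one of them is an `r`-group. -/
theorem ABS_aux_sylconj {Γ : Type*} [Group Γ] [Finite Γ] (r : ℕ) [Fact r.Prime] (N R T : Subgroup Γ) [N.Normal]
    (hN : ¬ r ∣ Nat.card N) (hR : IsPGroup r R) (hRN : R ⊓ N = ⊥) (hRNt : R ⊔ N = ⊤)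
    (hTN : T ⊓ N = ⊥) (hTNt : T ⊔ N = ⊤) :
    ∃ g : Γ, ∀ x, x ∈ T ↔ ∃ y ∈ R, g * y * g⁻¹ = x := by
  have key : ∀ K : Subgroup Γ, K ⊓ N = ⊥ → K ⊔ N = ⊤ → N.index = Nat.card K ∧ K.index = Nat.card N := by
    intro K h1 h2
    have e1 : N.index = Nat.card K := by
      have := Subgroup.relIndex_sup_right (H := K) (K := N)
      rw [h2, Subgroup.relIndex_top_right] at this
      rw [this, ← Subgroup.inf_relIndex_right, inf_comm, h1, Subgroup.relIndex_bot_left]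
    refine ⟨e1, ?_⟩
    have c1 := Subgroup.card_mul_index N
    have c2 := Subgroup.card_mul_index K
    rw [e1] at c1
    have hpos : 0 < Nat.card K := Nat.card_pos
    have : Nat.card K * K.index = Nat.card K * Nat.card N := by rw [c2, ← c1, mul_comm]
    exact Nat.eq_of_mul_eq_mul_left hpos this
  obtain ⟨eR1, eR2⟩ := key R hRN hRNt
  obtain ⟨eT1, eT2⟩ := key T hTN hTNt
  have hcard : Nat.card T = Nat.card R := by rw [← eT1, eR1]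
  have hT : IsPGroup r T := by
    obtain ⟨j, hj⟩ := IsPGroup.iff_card.1 hR
    exact IsPGroup.of_card (hcard.trans hj)
  have hRi : ¬ r ∣ R.index := by rw [eR2]; exact hN
  have hTi : ¬ r ∣ T.index := by rw [eT2]; exact hN
  obtain ⟨g, hg⟩ := MulAction.exists_smul_eq Γ (hR.toSylow hRi) (hT.toSylow hTi)
  refine ⟨g, fun x => ?_⟩
  have h1 : x ∈ T ↔ x ∈ ((hT.toSylow hTi : Sylow r Γ) : Subgroup Γ) := Iff.rfl
  rw [h1, ← hg, Sylow.coe_subgroup_smul, Subgroup.mem_smul_pointwise_iff_exists]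
  constructor
  · rintro ⟨s, hs, rfl⟩
    exact ⟨s, hs, by simp [MulAut.smul_def, MulAut.conj_apply]⟩
  · rintro ⟨y, hy, rfl⟩
    exact ⟨y, hy, by simp [MulAut.smul_def, MulAut.conj_apply]⟩


/-- two complements `Rb`, `H ⊓ (Rb ⊔ Wb)` of `Wb` in `Rb ⊔ Wb` are conjugate. -/
theorem ABS_aux_conj {X : Type*} [Group X] [Finite X] (r : ℕ) [Fact r.Prime] (Wb Rb H : Subgroup X) [Wb.Normal]
    (hWr : ¬ r ∣ Nat.card Wb) (hRr : IsPGroup r Rb) (hRW : Rb ⊓ Wb = ⊥) (hHW : H ⊓ Wb = ⊥) (hHWt : H ⊔ Wb = ⊤) :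
    ∃ g ∈ Rb ⊔ Wb, ∀ x, x ∈ H ⊓ (Rb ⊔ Wb) ↔ ∃ y ∈ Rb, g * y * g⁻¹ = x := by
  set M : Subgroup X := Rb ⊔ Wb with hM
  have hRM : Rb ≤ M := le_sup_left
  have hWM : Wb ≤ M := le_sup_right
  haveI : (Wb.subgroupOf M).Normal := Subgroup.Normal.subgroupOf inferInstance M
  have hN : ¬ r ∣ Nat.card (Wb.subgroupOf M) := by
    rw [Nat.card_congr (Subgroup.subgroupOfEquivOfLe hWM).toEquiv]; exact hWr
  have hR : IsPGroup r (Rb.subgroupOf M) := hRr.comap_subtype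
  have h1 : Rb.subgroupOf M ⊓ Wb.subgroupOf M = ⊥ := by
    rw [eq_bot_iff]
    rintro x ⟨hx1, hx2⟩
    rw [Subgroup.mem_bot]
    have : (x : X) ∈ Rb ⊓ Wb := ⟨Subgroup.mem_subgroupOf.1 hx1, Subgroup.mem_subgroupOf.1 hx2⟩
    rw [hRW, Subgroup.mem_bot] at this
    exact Subtype.ext this
  have h2 : Rb.subgroupOf M ⊔ Wb.subgroupOf M = ⊤ := by
    rw [← Subgroup.subgroupOf_sup hRM hWM, ← hM, Subgroup.subgroupOf_self]
  have h3 : (H ⊓ M).subgroupOf M ⊓ Wb.subgroupOf M = ⊥ := by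
    rw [eq_bot_iff]
    rintro x ⟨hx1, hx2⟩
    rw [Subgroup.mem_bot]
    have hx1' : (x : X) ∈ H ⊓ M := Subgroup.mem_subgroupOf.1 hx1
    have : (x : X) ∈ H ⊓ Wb := ⟨hx1'.1, Subgroup.mem_subgroupOf.1 hx2⟩
    rw [hHW, Subgroup.mem_bot] at this
    exact Subtype.ext this
  have h4 : (H ⊓ M).subgroupOf M ⊔ Wb.subgroupOf M = ⊤ := by
    rw [eq_top_iff]
    rintro ⟨m, hm⟩ _
    have hmem : m ∈ ((H ⊔ Wb : Subgroup X) : Set X) := by rw [hHWt]; trivial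
    rw [Subgroup.mul_normal] at hmem
    obtain ⟨h, hh, w, hw, rfl⟩ := Set.mem_mul.1 hmem
    have hhM : h ∈ M := by
      have : h = (h * w) * w⁻¹ := by group
      rw [this]; exact M.mul_mem hm (M.inv_mem (hWM hw))
    have e : (⟨h * w, hm⟩ : ↥M) = ⟨h, hhM⟩ * ⟨w, hWM hw⟩ := rfl
    rw [e]
    apply Subgroup.mul_mem
    · exact Subgroup.mem_sup_left (Subgroup.mem_subgroupOf.2 ⟨hh, hhM⟩)
    · exact Subgroup.mem_sup_right (Subgroup.mem_subgroupOf.2 hw)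
  obtain ⟨g, hg⟩ := ABS_aux_sylconj r (Wb.subgroupOf M) (Rb.subgroupOf M) ((H ⊓ M).subgroupOf M) hN hR h1 h2 h3 h4
  refine ⟨(g : X), g.2, fun x => ?_⟩
  constructor
  · intro hx
    have hxM : x ∈ M := hx.2
    obtain ⟨y, hy, hyx⟩ := (hg ⟨x, hxM⟩).1 (Subgroup.mem_subgroupOf.2 hx)
    refine ⟨(y : X), Subgroup.mem_subgroupOf.1 hy, ?_⟩
    have := congrArg (fun z : ↥M => (z : X)) hyx
    simpa using this
  · rintro ⟨y, hy, rfl⟩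
    have hyM : y ∈ M := hRM hy
    have := (hg (g * ⟨y, hyM⟩ * g⁻¹)).2 ⟨⟨y, hyM⟩, Subgroup.mem_subgroupOf.2 hy, rfl⟩
    exact Subgroup.mem_subgroupOf.1 this


/-- ABS: the abstract complement-counting lemma (steps (5) and (7) of the blueprint). -/
theorem ABS_count {X : Type*} [Group X] [Finite X] (Wb Ab Rb Pb : Subgroup X) [Wb.Normal]
    (hWab : ∀ w ∈ Wb, ∀ w' ∈ Wb, w * w' = w' * w) (q r : ℕ) (hq : q.Prime) (hr : r.Prime)
    (hqr : q ≠ r) (hWq : IsPGroup q Wb) (hRr : IsPGroup r Rb)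
    (hc1 : Ab ⊓ Wb = ⊥) (hc2 : Ab ⊔ Wb = ⊤)
    (hRA : Rb ≤ Ab) (hRn : ∀ a ∈ Ab, ∀ y ∈ Rb, a * y * a⁻¹ ∈ Rb)
    (hfix : ∀ w ∈ Wb, (∀ y ∈ Rb, y * w = w * y) → w = 1)
    (a : X) (ha : a ∈ Ab) (hgenA : Ab = Pb ⊔ Pb.map (MulAut.conj a).toMonoidHom)
    (hpairs : ∀ u ∈ Wb, ∀ v ∈ Wb,
      (Pb.map (MulAut.conj u).toMonoidHom ⊔ Pb.map (MulAut.conj (v * a)).toMonoidHom) ⊓ Wb = ⊥) :
    Nat.card Wb ≤ (Nat.card ↥(Wb ⊓ Subgroup.centralizer (Pb : Set X))) ^ 2 := by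
  haveI : Fact r.Prime := ⟨hr⟩
  haveI : Fact q.Prime := ⟨hq⟩
  -- basic facts
  have hAW : ∀ x ∈ Ab, x ∈ Wb → x = 1 := by
    intro x h1 h2
    have : x ∈ Ab ⊓ Wb := ⟨h1, h2⟩
    rwa [hc1, Subgroup.mem_bot] at this
  have hPA : Pb ≤ Ab := by rw [hgenA]; exact le_sup_left
  have hdec : ∀ x : X, ∃ a' ∈ Ab, ∃ w' ∈ Wb, x = a' * w' := by
    intro x
    have hmem : x ∈ ((Ab ⊔ Wb : Subgroup X) : Set X) := by rw [hc2]; trivial
    rw [Subgroup.mul_normal] at hmem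
    obtain ⟨a', ha', w', hw', rfl⟩ := Set.mem_mul.1 hmem
    exact ⟨a', ha', w', hw', rfl⟩
  -- the normaliser of `Rb` is `Ab`
  have normA : ∀ x : X, (∀ y ∈ Rb, x * y * x⁻¹ ∈ Rb) → x ∈ Ab := by
    intro x hx
    obtain ⟨a', ha', w', hw', rfl⟩ := hdec x
    have hw1 : w' = 1 := by
      apply hfix w' hw'
      intro y hy
      have h1 : w' * y * w'⁻¹ ∈ Rb := by
        have := hRn a'⁻¹ (Ab.inv_mem ha') _ (hx y hy)
        have e : a'⁻¹ * (a' * w' * y * (a' * w')⁻¹) * a'⁻¹⁻¹ = w' * y * w'⁻¹ := by group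
        rwa [e] at this
      have h2 : w' * y * w'⁻¹ * y⁻¹ ∈ Ab := Ab.mul_mem (hRA h1) (Ab.inv_mem (hRA hy))
      have h3 : w' * y * w'⁻¹ * y⁻¹ ∈ Wb := by
        have : y * w'⁻¹ * y⁻¹ ∈ Wb := ‹Wb.Normal›.conj_mem _ (Wb.inv_mem hw') y
        have e : w' * y * w'⁻¹ * y⁻¹ = w' * (y * w'⁻¹ * y⁻¹) := by group
        rw [e]; exact Wb.mul_mem hw' this
      have h4 := hAW _ h2 h3
      have : w' * y = (w' * y * w'⁻¹ * y⁻¹) * (y * w') := by group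
      rw [this, h4, one_mul]
    rw [hw1, mul_one]; exact ha'
  -- `r` does not divide `|Wb|`
  have hWr : ¬ r ∣ Nat.card Wb := by
    obtain ⟨k, hk⟩ := IsPGroup.iff_card.1 hWq
    rw [hk]
    intro hdvd
    have := (Nat.prime_dvd_prime_iff_eq hr hq).1 (hr.dvd_of_dvd_pow hdvd)
    exact hqr this.symm
  have hRW : Rb ⊓ Wb = ⊥ := by
    rw [eq_bot_iff, ← hc1]
    exact inf_le_inf_right _ hRA
  -- `M = Rb ⊔ Wb` is closed under conjugation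
  have conjM : ∀ x : X, ∀ m ∈ Rb ⊔ Wb, x * m * x⁻¹ ∈ Rb ⊔ Wb := by
    have hA : ∀ a' ∈ Ab, ∀ m ∈ Rb ⊔ Wb, a' * m * a'⁻¹ ∈ Rb ⊔ Wb := by
      intro a' ha' m hm
      have h1 : (Rb ⊔ Wb).map (MulAut.conj a').toMonoidHom ≤ Rb ⊔ Wb := by
        rw [Subgroup.map_sup]
        apply sup_le_sup
        · rintro _ ⟨y, hy, rfl⟩
          simpa [MulAut.conj_apply] using hRn a' ha' y hy
        · rintro _ ⟨w, hw, rfl⟩
          simpa [MulAut.conj_apply] using ‹Wb.Normal›.conj_mem w hw a'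
      have : a' * m * a'⁻¹ ∈ (Rb ⊔ Wb).map (MulAut.conj a').toMonoidHom := ⟨m, hm, by simp [MulAut.conj_apply]⟩
      exact h1 this
    intro x m hm
    obtain ⟨a', ha', w', hw', rfl⟩ := hdec x
    have hw'M : w' ∈ Rb ⊔ Wb := Subgroup.mem_sup_right hw'
    have h1 : w' * m * w'⁻¹ ∈ Rb ⊔ Wb := Subgroup.mul_mem _ (Subgroup.mul_mem _ hw'M hm) (Subgroup.inv_mem _ hw'M)
    have := hA a' ha' _ h1
    have e : a' * (w' * m * w'⁻¹) * a'⁻¹ = a' * w' * m * (a' * w')⁻¹ := by group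
    rwa [e] at this
  -- the key claim: every `v ∈ Wb` is a product `c₁ * (a c₂ a⁻¹)` with `c₁, c₂ ∈ C`
  have hone : Pb.map (MulAut.conj (1 : X)).toMonoidHom = Pb := by
    ext x; simp
  have key : ∀ v ∈ Wb, ∃ c₁ ∈ Wb ⊓ Subgroup.centralizer (Pb : Set X),
      ∃ c₂ ∈ Wb ⊓ Subgroup.centralizer (Pb : Set X), v = c₁ * (a * c₂ * a⁻¹) := by
    intro v hv
    set H : Subgroup X := Pb ⊔ Pb.map (MulAut.conj (v * a)).toMonoidHom with hH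
    have hHW : H ⊓ Wb = ⊥ := by
      have := hpairs 1 (Wb.one_mem) v hv
      rwa [hone] at this
    have hPH : Pb ≤ H := le_sup_left
    have hP2H : ∀ y ∈ Pb, (v * a) * y * (v * a)⁻¹ ∈ H := by
      intro y hy
      apply Subgroup.mem_sup_right
      exact ⟨y, hy, by simp only [MulEquiv.coe_toMonoidHom, MulAut.conj_apply]⟩
    have hHWt : H ⊔ Wb = ⊤ := by
      rw [eq_top_iff, ← hc2]
      apply sup_le _ le_sup_right
      rw [hgenA]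
      apply sup_le (hPH.trans le_sup_left)
      rintro _ ⟨y, hy, rfl⟩
      have h1 := hP2H y hy
      have e : (MulAut.conj a).toMonoidHom y = v⁻¹ * ((v * a) * y * (v * a)⁻¹) * v := by
        simp only [MulEquiv.coe_toMonoidHom, MulAut.conj_apply]; group
      rw [e]
      apply Subgroup.mul_mem
      · apply Subgroup.mul_mem
        · exact Subgroup.mem_sup_right (Wb.inv_mem hv)
        · exact Subgroup.mem_sup_left h1
      · exact Subgroup.mem_sup_right hv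
    obtain ⟨g, hgM, hg⟩ := ABS_aux_conj r Wb Rb H hWr hRr hRW hHW hHWt
    -- `g = w * y₀`
    have hgm : g ∈ ((Rb ⊔ Wb : Subgroup X) : Set X) := hgM
    rw [Subgroup.mul_normal] at hgm
    obtain ⟨y₀, hy₀, w₀, hw₀, hgeq⟩ := Set.mem_mul.1 hgm
    set w := y₀ * w₀ * y₀⁻¹ with hwdef
    have hw : w ∈ Wb := ‹Wb.Normal›.conj_mem w₀ hw₀ y₀
    have hgw : g = w * y₀ := by rw [← hgeq, hwdef]; group
    -- every `h ∈ H` satisfies `w⁻¹ h w ∈ Ab`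
    have hHA : ∀ h ∈ H, w⁻¹ * h * w ∈ Ab := by
      intro h hh
      apply normA
      intro y hy
      have hy₁ : y₀⁻¹ * y * y₀ ∈ Rb := by
        have := hRn y₀⁻¹ (Ab.inv_mem (hRA hy₀)) y hy
        rwa [inv_inv] at this
      have ht : g * (y₀⁻¹ * y * y₀) * g⁻¹ ∈ H ⊓ (Rb ⊔ Wb) := (hg _).2 ⟨_, hy₁, rfl⟩
      have ht' : h * (g * (y₀⁻¹ * y * y₀) * g⁻¹) * h⁻¹ ∈ H ⊓ (Rb ⊔ Wb) :=
        ⟨H.mul_mem (H.mul_mem hh ht.1) (H.inv_mem hh), conjM h _ ht.2⟩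
      obtain ⟨y₂, hy₂, hy₂e⟩ := (hg _).1 ht'
      have h3 : y₀ * y₂ * y₀⁻¹ ∈ Rb := hRn y₀ (hRA hy₀) y₂ hy₂
      have e : w⁻¹ * h * w * y * (w⁻¹ * h * w)⁻¹ = y₀ * y₂ * y₀⁻¹ := by
        have e1 : y₀ * y₂ * y₀⁻¹ = w⁻¹ * (g * y₂ * g⁻¹) * w := by rw [hgw]; group
        rw [e1, hy₂e, hgw]; group
      rw [e]; exact h3
    -- `w ∈ C`
    have hwC : w ∈ Wb ⊓ Subgroup.centralizer (Pb : Set X) := by
      refine Subgroup.mem_inf.2 ⟨hw, ?_⟩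
      rw [Subgroup.mem_centralizer_iff]
      intro y hy
      have h1 : w⁻¹ * y * w ∈ Ab := hHA y (hPH hy)
      have h2 : w⁻¹ * y * w * y⁻¹ ∈ Ab := Ab.mul_mem h1 (Ab.inv_mem (hPA hy))
      have h3 : w⁻¹ * y * w * y⁻¹ ∈ Wb := by
        have : y * w * y⁻¹ ∈ Wb := ‹Wb.Normal›.conj_mem w hw y
        have e : w⁻¹ * y * w * y⁻¹ = w⁻¹ * (y * w * y⁻¹) := by group
        rw [e]; exact Wb.mul_mem (Wb.inv_mem hw) this
      have h4 := hAW _ h2 h3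
      have : y * w = w * (w⁻¹ * y * w * y⁻¹) * y := by group
      rw [this, h4, mul_one]
    -- `c₂ := a⁻¹ (w⁻¹ v) a ∈ C`
    have hcW : w⁻¹ * v ∈ Wb := Wb.mul_mem (Wb.inv_mem hw) hv
    have hc2W : a⁻¹ * (w⁻¹ * v) * a ∈ Wb := by
      have := ‹Wb.Normal›.conj_mem _ hcW a⁻¹
      rwa [inv_inv] at this
    have hc2C : a⁻¹ * (w⁻¹ * v) * a ∈ Wb ⊓ Subgroup.centralizer (Pb : Set X) := by
      refine Subgroup.mem_inf.2 ⟨hc2W, ?_⟩
      rw [Subgroup.mem_centralizer_iff]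
      intro y hy
      have hy' : a * y * a⁻¹ ∈ Ab := Ab.mul_mem (Ab.mul_mem ha (hPA hy)) (Ab.inv_mem ha)
      have h1 : w⁻¹ * ((v * a) * y * (v * a)⁻¹) * w ∈ Ab := hHA _ (hP2H y hy)
      have e1 : w⁻¹ * ((v * a) * y * (v * a)⁻¹) * w = (w⁻¹ * v) * (a * y * a⁻¹) * (w⁻¹ * v)⁻¹ := by group
      rw [e1] at h1
      have h2 : (w⁻¹ * v) * (a * y * a⁻¹) * (w⁻¹ * v)⁻¹ * (a * y * a⁻¹)⁻¹ ∈ Ab := Ab.mul_mem h1 (Ab.inv_mem hy')
      have h3 : (w⁻¹ * v) * (a * y * a⁻¹) * (w⁻¹ * v)⁻¹ * (a * y * a⁻¹)⁻¹ ∈ Wb := by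
        have : (a * y * a⁻¹) * (w⁻¹ * v)⁻¹ * (a * y * a⁻¹)⁻¹ ∈ Wb :=
          ‹Wb.Normal›.conj_mem _ (Wb.inv_mem hcW) _
        have e : (w⁻¹ * v) * (a * y * a⁻¹) * (w⁻¹ * v)⁻¹ * (a * y * a⁻¹)⁻¹ =
            (w⁻¹ * v) * ((a * y * a⁻¹) * (w⁻¹ * v)⁻¹ * (a * y * a⁻¹)⁻¹) := by group
        rw [e]; exact Wb.mul_mem hcW this
      have h4 := hAW _ h2 h3
      have e2 : y * (a⁻¹ * (w⁻¹ * v) * a) =
          a⁻¹ * ((w⁻¹ * v) * (a * y * a⁻¹) * (w⁻¹ * v)⁻¹ * (a * y * a⁻¹)⁻¹)⁻¹ * (w⁻¹ * v) * a * y := by group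
      rw [e2, h4]; group
    refine ⟨w, hwC, a⁻¹ * (w⁻¹ * v) * a, hc2C, ?_⟩
    group
  -- counting
  set C : Subgroup X := Wb ⊓ Subgroup.centralizer (Pb : Set X) with hC
  let f : ↥C × ↥C → ↥Wb := fun c =>
    ⟨(c.1 : X) * (a * (c.2 : X) * a⁻¹),
      Wb.mul_mem c.1.2.1 (‹Wb.Normal›.conj_mem _ c.2.2.1 a)⟩
  have hf : Function.Surjective f := by
    rintro ⟨v, hv⟩
    obtain ⟨c₁, hc₁, c₂, hc₂, he⟩ := key v hv
    exact ⟨(⟨c₁, hc₁⟩, ⟨c₂, hc₂⟩), Subtype.ext he.symm⟩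
  have h1 := Nat.card_le_card_of_surjective f hf
  rw [Nat.card_prod] at h1
  rw [pow_two]; exact h1

end Cfsg.Agent.S3822P
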