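import Mathlib
import Cfsg.Agent.Helper27.S4009Defs

/-!
# S4009 board, piece MAXB (helper15)

The last term of the lower central series containing a nontrivial subgroup of a finite `p`-group.
-/

set_option autoImplicit false

namespace Cfsg.Agent.S4009P

open Subgroup

variable {P : Type*} [Group P]

/-- MAXB: the last term of the lower central series containing a nontrivial subgroup. -/
theorem MAXB [Finite P] {p : ℕ} [Fact p.Prime] (hP : IsPGroup p P) {D : Subgroup P} (hD : D ≠ ⊥) :
    ∃ b' : ℕ, D ≤ Gam P b' ∧ ¬ D ≤ Gam P (b' + 1) := by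
  classical
  have hnil : Group.IsNilpotent P := hP.isNilpotent
  obtain ⟨n, hn⟩ := (Subgroup.nilpotent_iff_lowerCentralSeries (G := P)).1 hnil
  have hex : ∃ b : ℕ, ¬ D ≤ Gam P b := by
    refine ⟨n, fun h => hD ?_⟩
    have h' : D ≤ (⊥ : Subgroup P) := by
      have := h
      unfold Gam at this
      rwa [hn] at this
    exact le_bot_iff.1 h'
  have hmin : ∀ m : ℕ, m < Nat.find hex → ¬ ¬ D ≤ Gam P m := fun m hm => Nat.find_min hex hm
  have hspec := Nat.find_spec hex
  have h0 : Nat.find hex ≠ 0 := by
    intro h0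
    rw [h0] at hspec
    exact hspec (by
      show D ≤ (⊤ : Subgroup P).lowerCentralSeries 0
      rw [Subgroup.lowerCentralSeries_zero]
      exact le_top)
  obtain ⟨k, hk⟩ := Nat.exists_eq_succ_of_ne_zero h0
  refine ⟨k, ?_, ?_⟩
  · by_contra hc
    exact hmin k (by omega) hc
  · have : k + 1 = Nat.find hex := by omega
    rw [this]
    exact hspec

end Cfsg.Agent.S4009P
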