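import Mathlib
import Cfsg.Agent.Helper27.S4009Defs

/-!
# S4009 board, piece SIG (helper15)

The order of the image of `X ≤ Gam b` in `Gam b / Gam (b+1)`.
-/

set_option autoImplicit false

namespace Cfsg.Agent.S4009P

open Subgroup

variable {P : Type*} [Group P]

theorem SIG_aux_card {H K : Subgroup P} (h : H ≤ K) :
    H.relIndex K * Nat.card ↥H = Nat.card ↥K := by
  have h1 := (H.subgroupOf K).card_mul_index
  have h2 : Nat.card ↥(H.subgroupOf K) = Nat.card ↥H :=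
    Nat.card_congr (Subgroup.subgroupOfEquivOfLe h).toEquiv
  rw [h2] at h1
  rw [Subgroup.relIndex, mul_comm]
  exact h1

/-- SIG: the order of the image of `X ≤ Gam b` in `Gam b / Gam (b+1)` is `p ^ σ`, `σ ≥ 1`
unless `X ≤ Gam (b+1)`. -/
theorem SIG [Finite P] {p : ℕ} [Fact p.Prime] (hP : IsPGroup p P) {X : Subgroup P} {b : ℕ} (hX : X ≤ Gam P b)
    (hX' : ¬ X ≤ Gam P (b + 1)) :
    ∃ σ : ℕ, 1 ≤ σ ∧ (Gam P (b + 1)).relIndex (X ⊔ Gam P (b + 1)) = p ^ σ ∧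
      p ^ σ * Nat.card ↥(Gam P (b + 1)) ≤ Nat.card ↥(Gam P b) := by
  have hpK : IsPGroup p ↥(X ⊔ Gam P (b + 1)) := hP.to_subgroup _
  obtain ⟨σ, hσ⟩ := hpK.index ((Gam P (b + 1)).subgroupOf (X ⊔ Gam P (b + 1)))
  have hrel : (Gam P (b + 1)).relIndex (X ⊔ Gam P (b + 1)) = p ^ σ := hσ
  have hle : Gam P (b + 1) ≤ Gam P b := Subgroup.lowerCentralSeries_antitone _ (Nat.le_succ b)
  have hsup : X ⊔ Gam P (b + 1) ≤ Gam P b := sup_le hX hle
  refine ⟨σ, ?_, hrel, ?_⟩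
  · rcases Nat.eq_zero_or_pos σ with h0 | h0
    · exfalso
      rw [h0, pow_zero] at hrel
      have := Subgroup.relIndex_eq_one.1 hrel
      exact hX' (le_trans le_sup_left this)
    · exact h0
  · rw [← hrel, SIG_aux_card (le_sup_right : Gam P (b + 1) ≤ X ⊔ Gam P (b + 1))]
    exact Subgroup.card_le_of_le hsup

end Cfsg.Agent.S4009P
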