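import Mathlib

/-! # S4079, row BRG: an `a`-invariant normal subgroup of `L` is normal in `L ⋊ ⟨a⟩`. -/

set_option autoImplicit false

namespace Cfsg.Agent.S4079P

open scoped Pointwise

variable {L : Type*} [Group L] [Finite L]

private theorem BRG_zpow_mem (a : MulAut L) (H : Subgroup L) (hH : ∀ h ∈ H, a h ∈ H)
    (b : MulAut L) (hb : b ∈ Subgroup.zpowers a) : ∀ h ∈ H, b h ∈ H := by
  have hmap : H.map a.toMonoidHom = H := by
    apply Subgroup.eq_of_le_of_card_ge
    · rintro _ ⟨h, hh, rfl⟩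
      exact hH h hh
    · rw [Subgroup.card_map_of_injective a.injective]
  have hstab : a ∈ MulAction.stabilizer (MulAut L) H := by
    rw [MulAction.mem_stabilizer_iff]
    exact hmap
  have hb' : b ∈ MulAction.stabilizer (MulAut L) H :=
    (Subgroup.zpowers_le.2 hstab) hb
  rw [MulAction.mem_stabilizer_iff] at hb'
  intro h hh
  rw [← hb']
  exact ⟨h, hh, rfl⟩

/-- BRG: an `a`-invariant normal subgroup of `L` gives a normal subgroup of `G = L ⋊ ⟨a⟩` of the same order. -/
theorem BRG (a : MulAut L) (H : Subgroup L) [H.Normal] (hH : ∀ h ∈ H, a h ∈ H) :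
    (H.map (SemidirectProduct.inl : L →* L ⋊[(Subgroup.zpowers a).subtype] ↥(Subgroup.zpowers a))).Normal ∧
      Nat.card (H.map (SemidirectProduct.inl :
        L →* L ⋊[(Subgroup.zpowers a).subtype] ↥(Subgroup.zpowers a))) = Nat.card H := by
  refine ⟨⟨?_⟩, Subgroup.card_map_of_injective SemidirectProduct.inl_injective⟩
  rintro _ ⟨h, hh, rfl⟩ g
  have hg : g = SemidirectProduct.inl g.left * SemidirectProduct.inr g.right :=
    (SemidirectProduct.inl_left_mul_inr_right g).symm
  have hbh : ((Subgroup.zpowers a).subtype g.right) h ∈ H :=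
    BRG_zpow_mem a H hH _ g.right.2 h hh
  refine ⟨g.left * ((Subgroup.zpowers a).subtype g.right) h * g.left⁻¹,
    ‹H.Normal›.conj_mem _ hbh _, ?_⟩
  rw [map_mul, map_mul, SemidirectProduct.inl_aut]
  conv_rhs => rw [hg]
  simp only [mul_inv_rev, map_inv, mul_assoc]

end Cfsg.Agent.S4079P
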