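import Mathlib

/-!
# S4150 piece CYCP (driver helper27; helper15): an element of prime order `p` on fewer than `2p`
points is a `p`-cycle
-/

set_option autoImplicit false
set_option linter.unusedSectionVars false

namespace Cfsg.Agent.S4150P

open Equiv Equiv.Perm MulAction

section
variable {α : Type*} [Fintype α] [DecidableEq α]

/-- CYCP [S]: an element of prime order `p` on fewer than `2p` points is a `p`-cycle.
(`Equiv.Perm.cycleType_prime_order`.) -/
theorem CYCP.main {p : ℕ} (hp : p.Prime) (hα : Fintype.card α < 2 * p) {x : Perm α}
    (hx : orderOf x = p) : x.IsCycle ∧ x.support.card = p := by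
  have hp' : (orderOf x).Prime := by rw [hx]; exact hp
  have hsupp : x.support.card < 2 * orderOf x := by
    rw [hx]
    exact lt_of_le_of_lt (Finset.card_le_univ _) hα
  have hc : x.IsCycle := isCycle_of_prime_order hp' hsupp
  refine ⟨hc, ?_⟩
  rw [← hc.orderOf, hx]

end

end Cfsg.Agent.S4150P
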