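import Mathlib

/-!
# S4150 piece PRIM (driver helper27; helper15): a transitive group containing a cycle of prime
length `q > n/2` is primitive
-/

set_option autoImplicit false
set_option linter.unusedSectionVars false

namespace Cfsg.Agent.S4150P

open Equiv Equiv.Perm MulAction
open scoped Pointwise

section
variable {α : Type*} [Fintype α] [DecidableEq α]

namespace PRIM

/-- the orbit of a point of the support of a cycle `g` under powers of `g` is the support -/
theorem exists_pow_of_mem_support {g : Perm α} (hgc : g.IsCycle) {a b : α}
    (ha : a ∈ g.support) (hb : b ∈ g.support) : ∃ i : ℕ, (g ^ i) a = b := by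
  have := hgc.sameCycle (mem_support.mp ha) (mem_support.mp hb)
  exact this.exists_nat_pow_eq

theorem pow_smul_eq {G : Type*} [Group G] [MulAction G α] (γ : G) (B : Set α) (h : γ • B = B)
    (i : ℕ) : (γ ^ i) • B = B := by
  induction i with
  | zero => simp
  | succ k ih => rw [pow_succ, mul_smul, h, ih]

/-- a transitive group containing a cycle of prime length `q > n/2` is primitive -/
theorem isPreprimitive_of_prime_cycle (G : Subgroup (Perm α)) (hG : IsPretransitive G α)
    {q : ℕ} (hq : q.Prime) (hqn : Fintype.card α < 2 * q)
    {g : Perm α} (hgc : g.IsCycle) (hgq : g.support.card = q) (hg : g ∈ G) :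
    IsPreprimitive G α := by
  classical
  have hord : orderOf g = q := by rw [hgc.orderOf, hgq]
  obtain ⟨a, ha⟩ : ∃ a, a ∈ g.support := by
    apply Finset.card_pos.mp
    rw [hgq]; exact hq.pos
  let γ : G := ⟨g, hg⟩
  have hγord : orderOf γ = q := by
    rw [← hord]; exact Subgroup.orderOf_mk g hg
  have hγa : ∀ (i : ℕ) (x : α), (γ ^ i) • x = (g ^ i) x := by
    intro i x
    rfl
  -- key claim for blocks containing `a`
  have key : ∀ B : Set α, IsBlock G B → a ∈ B → IsTrivialBlock B := by
    intro B hB haB
    by_cases hfix : γ • B = B
    · -- B contains the support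
      right
      apply hB.eq_univ_of_card_lt
      have hsub : (g.support : Set α) ⊆ B := by
        intro b hb
        obtain ⟨i, hi⟩ := exists_pow_of_mem_support hgc ha (Finset.mem_coe.mp hb)
        rw [← pow_smul_eq γ B hfix i, ← hi, ← hγa]
        exact Set.smul_mem_smul_set haB
      have hle : q ≤ B.ncard := by
        rw [← hgq, ← Set.ncard_coe_finset]
        exact Set.ncard_le_ncard hsub (Set.toFinite B)
      rw [Nat.card_eq_fintype_card]
      omega
    · -- many translates
      left
      apply hB.subsingleton_of_card_lt
      have hne : ∀ i : ℕ, 0 < i → i < q → (γ ^ i) • B ≠ B := by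
        intro i hi0 hiq h
        apply hfix
        have hcop : Nat.Coprime i q :=
          Nat.Coprime.symm ((Nat.Prime.coprime_iff_not_dvd hq).mpr (Nat.not_dvd_of_pos_of_lt hi0 hiq))
        obtain ⟨m, -, hm⟩ := Nat.exists_mul_mod_eq_one_of_coprime hcop hq.one_lt
        have h1 : (γ ^ i) ^ m = γ := by
          rw [← pow_mul, ← pow_mod_orderOf, hγord, hm, pow_one]
        rw [← h1]
        exact pow_smul_eq (γ ^ i) B h m
      have hinj : Function.Injective
          (fun i : Fin q => (⟨(γ ^ (i : ℕ)) • B, ⟨γ ^ (i : ℕ), rfl⟩⟩ : orbit G B)) := by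
        intro i j hij
        have hij' : (γ ^ (i : ℕ)) • B = (γ ^ (j : ℕ)) • B := congrArg Subtype.val hij
        by_contra hne'
        rcases lt_or_gt_of_ne (fun h => hne' (Fin.ext h)) with hlt | hlt
        · -- i < j
          have : (γ ^ ((j : ℕ) - i)) • B = B := by
            have hj : (γ ^ (j : ℕ)) = γ ^ (i : ℕ) * γ ^ ((j : ℕ) - i) := by
              rw [← pow_add]; congr 1; omega
            rw [hj, mul_smul] at hij'
            exact (smul_left_cancel _ hij').symm
          exact hne _ (by omega) (by omega) this
        · have : (γ ^ ((i : ℕ) - j)) • B = B := by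
            have hj : (γ ^ (i : ℕ)) = γ ^ (j : ℕ) * γ ^ ((i : ℕ) - j) := by
              rw [← pow_add]; congr 1; omega
            rw [hj, mul_smul] at hij'
            exact smul_left_cancel _ hij'
          exact hne _ (by omega) (by omega) this
      have hcard : q ≤ (orbit G B).ncard := by
        have := Nat.card_le_card_of_injective _ hinj
        rw [Nat.card_eq_fintype_card, Fintype.card_fin] at this
        rwa [Nat.card_coe_set_eq] at this
      rw [Nat.card_eq_fintype_card]
      omega
  refine ⟨fun {B} hB => ?_⟩
  rcases Set.eq_empty_or_nonempty B with rfl | ⟨b, hb⟩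
  · left; exact Set.subsingleton_empty
  obtain ⟨h, hh⟩ := exists_smul_eq G b a
  have hB' : IsBlock G (h • B) := hB.translate h
  have := key (h • B) hB' (by rw [← hh]; exact Set.smul_mem_smul_set hb)
  exact (IsTrivialBlock.smul_iff h).mp this

end PRIM

/-- PRIM [M-L]: a transitive group containing a cycle of prime length `q > n/2` is primitive
(a block system moved by the cycle has `≥ q` blocks of size `b`, `qb ≤ n < 2q`; a block system
fixed blockwise has blocks of size `< q`, on which the cycle acts trivially). -/
theorem PRIM.main (K : Subgroup (Perm α)) (htr : IsPretransitive K α) {q : ℕ} (hq : q.Prime)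
    {y : Perm α} (hy : y ∈ K) (hyc : y.IsCycle) (hys : y.support.card = q)
    (hcard : Fintype.card α < 2 * q) : IsPreprimitive K α :=
  PRIM.isPreprimitive_of_prime_cycle K htr hq hcard hyc hys hy

end

end Cfsg.Agent.S4150P
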