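import Mathlib
import Cfsg.Agent.Helper5.S4330Defs
import Cfsg.Agent.Helper5.S4330L3
import Cfsg.Agent.Helper19.S4330MAXFIX
import Cfsg.Agent.Helper6.S4330PROJ
import Cfsg.Agent.Helper6.S4330P4

/-!
# S4330 board, piece CASEA : `x` moves some member of `MaxFix E`
-/

set_option autoImplicit false
open Pointwise
open scoped commutatorElement

namespace Cfsg.Agent.Helper5.S4330

universe u

section module
variable {V : Type u} [CommGroup V] [Finite V]

/-- the conjugation action of (the elements of) `D` on subgroups of `MulAut V` -/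
@[reducible] def CASEA_aux_act (D : Subgroup (MulAut V)) : MulAction D (Subgroup (MulAut V)) where
  smul d K := cj d.1 K
  one_smul K := cj_one K
  mul_smul a b K := cj_mul a.1 b.1 K

open Classical in
/-- projection of the product vector onto `Fix K₀`, `K₀ ∈ MaxFix E` -/
theorem CASEA_aux_proj_prod {E : Subgroup (MulAut V)} (hE : Comm E)
    (hcop : (Nat.card E).Coprime (Nat.card V)) (c : Subgroup (MulAut V) → V)
    (hc : ∀ K ∈ MaxFix E, c K ∈ Fix (K : Set (MulAut V)))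
    (S : Finset (Subgroup (MulAut V))) (hS : ∀ K ∈ S, K ∈ MaxFix E)
    {K₀ : Subgroup (MulAut V)} (hK₀ : K₀ ∈ MaxFix E) :
    proj K₀ (∏ K ∈ S, c K) = if K₀ ∈ S then c K₀ else 1 := by
  rw [map_prod]
  have hcopK : (Nat.card K₀).Coprime (Nat.card V) :=
    Nat.Coprime.coprime_dvd_left (Subgroup.card_dvd_of_le hK₀.1) hcop
  by_cases hmem : K₀ ∈ S
  · rw [if_pos hmem, Finset.prod_eq_single_of_mem K₀ hmem]
    · exact proj_of_mem_Fix hcopK (hc K₀ hK₀)
    · intro K hK hne
      exact proj_eq_one hE hK₀ (hS K hK) (Ne.symm hne) (hc K (hS K hK))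
  · rw [if_neg hmem]
    apply Finset.prod_eq_one
    intro K hK
    have hne : K₀ ≠ K := fun h => hmem (h ▸ hK)
    exact proj_eq_one hE hK₀ (hS K hK) hne (hc K (hS K hK))

theorem good_of_moves {p : ℕ} [Fact p.Prime] (hp : p ≠ 2) {𝓛 D E : Subgroup (MulAut V)}
    (hD𝓛 : D ≤ 𝓛) (hDn : NormBy 𝓛 D) (hDp : IsPGroup p D) (hE : Comm E) (hEn : NormBy 𝓛 E)
    (hcop : (Nat.card E).Coprime (Nat.card V))
    {x : MulAut V} (hx : x ∈ D) {K : Subgroup (MulAut V)} (hK : K ∈ MaxFix E)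
    (hxK : cj x K ≠ K) : Good 𝓛 x := by
  classical
  have : Finite (MulAut V) := inferInstance
  have : Finite (Subgroup (MulAut V)) := inferInstance
  let act : MulAction D (Subgroup (MulAut V)) := CASEA_aux_act D
  have hsmul : ∀ (g : D) (ω : Subgroup (MulAut V)), g • ω = cj g.1 ω := fun _ _ => rfl
  obtain ⟨S, hST, hSstab⟩ := exists_subset_stabilizer_le_kernel (p := p) hp (Q := D) hDp
    (Ω := Subgroup (MulAut V)) (MaxFix E) (Set.toFinite _)
    (fun g ω hω => by rw [hsmul]; exact cj_mem_MaxFix hEn (hD𝓛 g.2) hω)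
  -- choice of nontrivial fixed vectors
  have hex : ∀ K' : Subgroup (MulAut V), ∃ w : V, K' ∈ MaxFix E →
      w ∈ Fix (K' : Set (MulAut V)) ∧ w ≠ 1 := by
    intro K'
    by_cases hK' : K' ∈ MaxFix E
    · obtain ⟨w, hw1⟩ := (Subgroup.ne_bot_iff_exists_ne_one).mp hK'.2.1
      exact ⟨w.1, fun _ => ⟨w.2, fun h => hw1 (Subtype.ext h)⟩⟩
    · exact ⟨1, fun h => absurd h hK'⟩
  choose c hc using hex
  have hSfin : S.Finite := Set.toFinite S
  set Sf : Finset (Subgroup (MulAut V)) := hSfin.toFinset with hSf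
  have hSf_mem : ∀ K', K' ∈ Sf ↔ K' ∈ S := fun K' => by rw [hSf, Set.Finite.mem_toFinset]
  have hSfT : ∀ K' ∈ Sf, K' ∈ MaxFix E := fun K' h => hST ((hSf_mem K').mp h)
  have hprod := fun {K₀ : Subgroup (MulAut V)} (hK₀ : K₀ ∈ MaxFix E) =>
    CASEA_aux_proj_prod hE hcop c (fun K' h => (hc K' h).1) Sf hSfT hK₀
  refine ⟨∏ K' ∈ Sf, c K', ?_⟩
  intro l hl hfix
  set v := ∏ K' ∈ Sf, c K' with hv
  set y := l * x * l⁻¹ with hy
  have hyD : y ∈ D := hDn l hl x hx
  -- `y` stabilises `S`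
  have hyS : ∀ ω ∈ S, (⟨y, hyD⟩ : D) • ω ∈ S := by
    intro ω hω
    rw [hsmul]
    show cj y ω ∈ S
    have hωT : ω ∈ MaxFix E := hST hω
    have hyωT : cj y ω ∈ MaxFix E := cj_mem_MaxFix hEn (hD𝓛 hyD) hωT
    by_contra hnot
    have h1 : proj (cj y ω) v = 1 := by
      rw [hprod hyωT, if_neg (fun h => hnot ((hSf_mem _).mp h))]
    have h2 : proj (cj y ω) v = y (c ω) := by
      have := proj_cj y ω v
      rw [hfix] at this
      rw [← this, hprod hωT, if_pos ((hSf_mem _).mpr hω)]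
    rw [h2] at h1
    have : c ω = 1 := by
      have := congrArg (y⁻¹ : MulAut V) h1
      simpa using this
    exact (hc ω hωT).2 this
  have hyfix := hSstab ⟨y, hyD⟩ hyS
  -- transfer to `x`
  apply hxK
  have hlK : cj l K ∈ MaxFix E := cj_mem_MaxFix hEn hl hK
  have h3 : cj y (cj l K) = cj l K := by
    have := hyfix (cj l K) hlK
    rwa [hsmul] at this
  have hxe : x = l⁻¹ * y * l := by rw [hy]; group
  rw [hxe, cj_mul, cj_mul, h3, cj_inv_cj]

end module

end Cfsg.Agent.Helper5.S4330
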