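import Mathlib
import Cfsg.Agent.Helper5.S4330Defs
import Cfsg.Prelude.Def_Solvable
import Cfsg.Agent.Helper14.Subnormal2

/-! s4330pieces, piece R0 : `A` subnormal in `A ⊔ A^g` forces `A ⊔ A^g` to be a `p`-group. -/

set_option autoImplicit false
open Pointwise
open scoped commutatorElement

namespace Cfsg.Agent.Helper5.S4330

universe u

section reduction
variable {G : Type*} [Group G]

theorem isPGroup_sup_of_isSubnormal [Finite G] {p : ℕ} [Fact p.Prime] {A : Subgroup G}
    (hA : IsPGroup p A) (g : G) (h : (A.subgroupOf (A ⊔ MulAut.conj g • A)).IsSubnormal) :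
    IsPGroup p ↥(A ⊔ MulAut.conj g • A) := by
  obtain ⟨H, hH⟩ : ∃ H : Subgroup G, H = A ⊔ MulAut.conj g • A := ⟨_, rfl⟩
  rw [← hH] at h ⊢
  have hAH : A ≤ H := by rw [hH]; exact le_sup_left
  have hBH : MulAut.conj g • A ≤ H := by rw [hH]; exact le_sup_right
  -- `A` lies in `O_p(H)`
  have hA' : IsPGroup p ↥(A.subgroupOf H) := hA.of_equiv (Subgroup.subgroupOfEquivOfLe hAH).symm
  have hle : A.subgroupOf H ≤ Cfsg.pCore p ↥H := Cfsg.Agent.Helper14.le_pCore_of_isSubnormal h hA'
  -- the conjugate is a `p`-group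
  have hB : IsPGroup p ↥(MulAut.conj g • A) := by
    have e : MulAut.conj g • A = A.map (MulAut.conj g).toMonoidHom := rfl
    rw [e]
    exact hA.map _
  have hB' : IsPGroup p ↥((MulAut.conj g • A).subgroupOf H) :=
    hB.of_equiv (Subgroup.subgroupOfEquivOfLe hBH).symm
  have hN : IsPGroup p ↥(Cfsg.pCore p ↥H) := Cfsg.Agent.Helper14.pCore_isPGroup p
  have : (Cfsg.pCore p ↥H).Normal := Cfsg.Agent.Helper14.pCore_normal p
  have hsup : IsPGroup p ↥(Cfsg.pCore p ↥H ⊔ (MulAut.conj g • A).subgroupOf H) :=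
    hN.to_sup_of_normal_left hB'
  have htop : Cfsg.pCore p ↥H ⊔ (MulAut.conj g • A).subgroupOf H = ⊤ := by
    rw [eq_top_iff]
    have h1 : (A ⊔ MulAut.conj g • A).subgroupOf H = ⊤ := by
      rw [← hH]
      exact Subgroup.subgroupOf_self H
    rw [← h1, Subgroup.subgroupOf_sup hAH hBH]
    exact sup_le_sup_right hle _
  rw [htop] at hsup
  exact hsup.of_equiv Subgroup.topEquiv

end reduction

end Cfsg.Agent.Helper5.S4330
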