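import Mathlib
import Cfsg.Agent.Helper26.S4395Defs

set_option autoImplicit false

/-! s4395pieces, BND sub-board, piece BG2. -/

namespace Cfsg.Agent.S4395P

open Cfsg Cfsg.Agent.S4395P Cfsg.Agent.S4394P

/-- BG2 (S/M): `|P| = |C_P(y)| |F|`. -/
theorem BG2 (p q r : ℕ)
    {F : Type*} [Field F] [Finite F] (ζ : F)
    {X : Type*} [Group X] [Finite X] (P : Subgroup X) (y : X) (lam : X → F)
    (h : NFData p q r ζ P y lam) :
    Nat.card P = Nat.card ↥(P ⊓ Subgroup.centralizer {y}) * Nat.card F := by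
  classical
  let φ : ↥P →* Multiplicative F := MonoidHom.mk' (fun u => Multiplicative.ofAdd (lam u.1))
    (fun a b => by
      show Multiplicative.ofAdd (lam (a.1 * b.1)) = _
      rw [h.add a.1 a.2 b.1 b.2]
      rfl)
  have hsurj : Function.Surjective φ := by
    intro f
    obtain ⟨u, hu, hf⟩ := h.surj (Multiplicative.toAdd f)
    refine ⟨⟨u, hu⟩, ?_⟩
    show Multiplicative.ofAdd (lam u) = f
    rw [hf]
    rfl
  have hker : φ.ker = (P ⊓ Subgroup.centralizer {y}).subgroupOf P := by
    ext u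
    rw [MonoidHom.mem_ker, Subgroup.mem_subgroupOf, Subgroup.mem_inf]
    constructor
    · intro hu
      have h0 : lam u.1 = 0 := by
        have : Multiplicative.ofAdd (lam u.1) = 1 := hu
        exact Multiplicative.ofAdd.injective this
      exact ⟨u.2, (h.ker u.1 u.2).mp h0⟩
    · rintro ⟨_, hc⟩
      have h0 : lam u.1 = 0 := (h.ker u.1 u.2).mpr hc
      show Multiplicative.ofAdd (lam u.1) = 1
      rw [h0]
      rfl
  have h1 := Subgroup.card_mul_index φ.ker
  have h2 : φ.ker.index = Nat.card F := by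
    rw [Subgroup.index_ker, MonoidHom.range_eq_top.mpr hsurj, Subgroup.card_top]
    rfl
  have h3 : Nat.card φ.ker = Nat.card ↥(P ⊓ Subgroup.centralizer {y}) := by
    rw [hker]
    exact Nat.card_congr (Subgroup.subgroupOfEquivOfLe inf_le_left).toEquiv
  rw [← h1, h2, h3]

end Cfsg.Agent.S4395P
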