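import Mathlib
import Cfsg.Agent.Helper26.S4395Defs

set_option autoImplicit false

/-! s4395pieces, BND sub-board, piece BG3. -/

namespace Cfsg.Agent.S4395P

open Cfsg Cfsg.Agent.S4395P Cfsg.Agent.S4394P

/-- BG3 (S/M): counting with `g`. -/
theorem BG3 {F : Type*} [Field F] [Finite F] {X : Type*} [Group X] (C : Subgroup X)
    (g : F → X) (hadd : ∀ f f' : F, g (f + f') = g f * g f') (hsurj : ∀ c ∈ C, ∃ f : F, g f = c)
    (T : Set F) (hT : ∀ t ∈ T, g t = 1) :
    Nat.card C * Nat.card ↥(AddSubgroup.closure T) ≤ Nat.card F := by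
  classical
  let ψ : F →+ Additive X := AddMonoidHom.mk' (fun f => Additive.ofMul (g f))
    (fun a b => by
      show Additive.ofMul (g (a + b)) = _
      rw [hadd]
      rfl)
  have hψ : ∀ f, ψ f = Additive.ofMul (g f) := fun _ => rfl
  have hker : AddSubgroup.closure T ≤ ψ.ker := by
    rw [AddSubgroup.closure_le]
    intro t ht
    rw [SetLike.mem_coe, AddMonoidHom.mem_ker, hψ, hT t ht]
    rfl
  have h1 : Nat.card ↥(AddSubgroup.closure T) ≤ Nat.card ψ.ker :=
    AddSubgroup.card_le_of_le hker
  have h2 : Nat.card ψ.ker * ψ.ker.index = Nat.card F := AddSubgroup.card_mul_index _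
  have h3 : ψ.ker.index = Nat.card ψ.range := AddSubgroup.index_ker ψ
  have : Finite ψ.range := by
    have : Finite (Set.range ψ) := Set.finite_range ψ
    exact this
  have h4 : Nat.card C ≤ Nat.card ψ.range := by
    have hmem : ∀ c : C, Additive.ofMul c.1 ∈ ψ.range := by
      intro c
      obtain ⟨f, hf⟩ := hsurj c.1 c.2
      exact ⟨f, by rw [hψ, hf]⟩
    apply Nat.card_le_card_of_injective (fun c : C => (⟨Additive.ofMul c.1, hmem c⟩ : ψ.range))
    intro c c' hcc
    apply Subtype.ext
    have := congrArg Subtype.val hcc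
    exact Additive.ofMul.injective this
  calc Nat.card C * Nat.card ↥(AddSubgroup.closure T)
      ≤ Nat.card ψ.range * Nat.card ψ.ker := Nat.mul_le_mul h4 h1
    _ = Nat.card F := by rw [← h3, mul_comm]; exact h2

end Cfsg.Agent.S4395P
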