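import Mathlib
import Cfsg.Agent.Helper26.S4395Defs

set_option autoImplicit false

/-! s4395pieces, piece FGEN : `F = F_p(ζ)` has no proper nonzero `ζ`-invariant additive subgroups. -/

namespace Cfsg.Agent.S4395P

open Cfsg

/-- the multipliers of an additive subgroup of a finite field form a subfield -/
def FGEN_aux_T {F : Type*} [Field F] [Finite F] (W : AddSubgroup F) : Subfield F where
  carrier := {s | ∀ w ∈ W, s * w ∈ W}
  mul_mem' := fun {a b} ha hb w hw => by
    rw [mul_assoc]
    exact ha _ (hb w hw)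
  one_mem' := fun w hw => by rwa [one_mul]
  add_mem' := fun {a b} ha hb w hw => by
    rw [add_mul]
    exact W.add_mem (ha w hw) (hb w hw)
  zero_mem' := fun w _ => by
    rw [zero_mul]
    exact W.zero_mem
  neg_mem' := fun {a} ha w hw => by
    rw [neg_mul]
    exact W.neg_mem (ha w hw)
  inv_mem' := by
    intro s hs
    by_cases h0 : s = 0
    · subst h0
      rw [inv_zero]
      intro w _
      rw [zero_mul]
      exact W.zero_mem
    · have hpow : ∀ n : ℕ, ∀ w ∈ W, s ^ n * w ∈ W := by
        intro n
        induction n with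
        | zero => intro w hw; rwa [pow_zero, one_mul]
        | succ n ih =>
          intro w hw
          rw [pow_succ, mul_assoc]
          exact ih _ (hs w hw)
      have h1 : s ^ orderOf (Units.mk0 s h0) = 1 := by
        have h := pow_orderOf_eq_one (Units.mk0 s h0)
        have h' := congrArg Units.val h
        rwa [Units.val_pow_eq_pow_val, Units.val_mk0, Units.val_one] at h'
      have hpos : 0 < orderOf (Units.mk0 s h0) := orderOf_pos _
      have h2 : s⁻¹ = s ^ (orderOf (Units.mk0 s h0) - 1) := by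
        apply inv_eq_of_mul_eq_one_right
        rw [← pow_succ', Nat.sub_add_cancel hpos, h1]
      intro w hw
      show s⁻¹ * w ∈ W
      rw [h2]
      exact hpow _ w hw

theorem FGEN_aux_mem_T {F : Type*} [Field F] [Finite F] (W : AddSubgroup F) (s : F) :
    s ∈ FGEN_aux_T W ↔ ∀ w ∈ W, s * w ∈ W := Iff.rfl

/-- FGEN (M/L): `F = F_p(ζ)`: the only `ζ`-invariant additive subgroups of `F` are `⊥` and `⊤`. -/
theorem FGEN (p q : ℕ) [Fact p.Prime] [Fact q.Prime] (hpq : p ≠ q)
    {F : Type*} [Field F] [Finite F] [CharP F p] (hF : Nat.card F = p ^ orderOf (p : ZMod q))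
    (ζ : F) (hζ : orderOf ζ = q) (W : AddSubgroup F) (hW : ∀ w ∈ W, ζ * w ∈ W) : W = ⊥ ∨ W = ⊤ := by
  classical
  have hp : p.Prime := Fact.out
  have hq : q.Prime := Fact.out
  have hζq : ζ ^ q = 1 := by rw [← hζ]; exact pow_orderOf_eq_one ζ
  have hζ0 : ζ ≠ 0 := by
    rintro rfl
    rw [zero_pow hq.ne_zero] at hζq
    exact zero_ne_one hζq
  -- the subfield generated by ζ is everything
  have hS : Subfield.closure ({ζ} : Set F) = ⊤ := by
    obtain ⟨S, hSdef⟩ : ∃ S : Subfield F, S = Subfield.closure ({ζ} : Set F) := ⟨_, rfl⟩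
    rw [← hSdef]
    have hζS : ζ ∈ S := by rw [hSdef]; exact Subfield.subset_closure (Set.mem_singleton ζ)
    have hdvd : Nat.card S ∣ Nat.card F := S.toAddSubgroup.card_addSubgroup_dvd_card
    rw [hF] at hdvd
    obtain ⟨m, hm, hcard⟩ := (Nat.dvd_prime_pow hp).mp hdvd
    -- ζ as a unit of S
    have hζS0 : (⟨ζ, hζS⟩ : S) ≠ 0 := by
      intro h
      exact hζ0 (congrArg Subtype.val h)
    have hord : orderOf (Units.mk0 (⟨ζ, hζS⟩ : S) hζS0) = q := by
      rw [← hζ]
      have hinj : Function.Injective ((S.subtype : S →* F).comp (Units.coeHom S)) :=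
        Subtype.val_injective.comp Units.val_injective
      exact (orderOf_injective _ hinj (Units.mk0 (⟨ζ, hζS⟩ : S) hζS0)).symm
    have hq1 : q ∣ Nat.card Sˣ := by
      rw [← hord]
      exact orderOf_dvd_natCard _
    rw [Nat.card_units, hcard] at hq1
    have hpm : (p : ZMod q) ^ m = 1 := by
      have h1 : ((p ^ m - 1 : ℕ) : ZMod q) = 0 := (ZMod.natCast_eq_zero_iff _ _).mpr hq1
      rw [Nat.cast_sub (Nat.one_le_pow _ _ hp.pos), Nat.cast_pow, Nat.cast_one, sub_eq_zero] at h1
      exact h1
    have ham : orderOf (p : ZMod q) ∣ m := orderOf_dvd_of_pow_eq_one hpm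
    have hm0 : 0 < m := by
      rcases Nat.eq_zero_or_pos m with h0 | h0
      · exfalso
        rw [h0, pow_zero] at hcard
        have h2 : 1 < Nat.card S := Finite.one_lt_card
        omega
      · exact h0
    have hma : m = orderOf (p : ZMod q) := le_antisymm hm (Nat.le_of_dvd hm0 ham)
    have hcardF : Nat.card S.toAddSubgroup = Nat.card F := by
      rw [hF, ← hma]
      exact hcard
    have htop : S.toAddSubgroup = ⊤ := AddSubgroup.eq_top_of_card_eq _ hcardF
    apply SetLike.ext
    intro x
    constructor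
    · intro _; trivial
    · intro _
      have : x ∈ S.toAddSubgroup := by rw [htop]; trivial
      exact this
  have hT : ∀ s : F, ∀ w ∈ W, s * w ∈ W := by
    intro s
    have hle : Subfield.closure ({ζ} : Set F) ≤ FGEN_aux_T W := by
      rw [Subfield.closure_le]
      intro x hx
      rw [Set.mem_singleton_iff.mp hx]
      exact hW
    have hs : s ∈ Subfield.closure ({ζ} : Set F) := by rw [hS]; trivial
    exact hle hs
  by_cases hbot : W = ⊥
  · exact Or.inl hbot
  · right
    obtain ⟨w, hw, hw0⟩ : ∃ w ∈ W, w ≠ 0 := by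
      by_contra hcon
      push Not at hcon
      exact hbot ((AddSubgroup.eq_bot_iff_forall W).mpr hcon)
    rw [AddSubgroup.eq_top_iff']
    intro x
    have h := hT (x * w⁻¹) w hw
    rwa [mul_assoc, inv_mul_cancel₀ hw0, mul_one] at h

end Cfsg.Agent.S4395P
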