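import Mathlib
import Cfsg.Agent.Helper9.S4415Defs

/-! Board `s4415pieces`, row MOD10 (`card_range_sq`). -/

set_option autoImplicit false
set_option linter.unusedVariables false

namespace Cfsg.Agent.S4415P

open Subgroup

variable {S : Type*} [Group S] [Finite S] {E : Type*} [AddCommGroup E] [Module (ZMod 3) E] [Finite E]

omit [Finite E] in
theorem MOD10_aux_three (w : E) : w + w + w = 0 := by
  have h : (3 : ZMod 3) • w = 0 := by
    rw [show (3 : ZMod 3) = 0 from rfl, zero_smul]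
  have h3 : (3 : ZMod 3) = 1 + 1 + 1 := by norm_num
  rw [h3, add_smul, add_smul, one_smul] at h
  exact h

omit [Finite S] [Finite E] in
/-- `(ρ b - 1)³ = 0` when `b³ = 1` (characteristic `3`). -/
theorem MOD10_aux_cube (ρ : Representation (ZMod 3) S E) (b : S) (hb : b ^ 3 = 1) (v : E) :
    Nb ρ b (Nb ρ b (Nb ρ b v)) = 0 := by
  have h3 : ρ b (ρ b (ρ b v)) = v := by
    have : ρ (b ^ 3) v = ρ b (ρ b (ρ b v)) := by
      rw [pow_succ, pow_succ, pow_one, map_mul, map_mul]; rfl
    rw [← this, hb]; simp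
  simp only [Nb_apply, map_sub, h3]
  have := MOD10_aux_three (ρ b v - ρ b (ρ b v))
  calc v - ρ b (ρ b v) - (ρ b (ρ b v) - ρ b v) - (ρ b (ρ b v) - ρ b v - (ρ b v - v))
      = (ρ b v - ρ b (ρ b v)) + (ρ b v - ρ b (ρ b v)) + (ρ b v - ρ b (ρ b v)) := by abel
    _ = 0 := this

/-- card of the domain = card of the kernel times card of the range. -/
theorem MOD10_aux_card {M M' : Type*} [AddCommGroup M] [Module (ZMod 3) M] [AddCommGroup M']
    [Module (ZMod 3) M'] (f : M →ₗ[ZMod 3] M') :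
    Nat.card M = Nat.card ↥(LinearMap.ker f) * Nat.card ↥(LinearMap.range f) := by
  rw [Submodule.card_eq_card_quotient_mul_card (LinearMap.ker f)]
  congr 1
  exact Nat.card_congr (LinearMap.quotKerEquivRange f).toEquiv

/-- MOD10 : `|range (ρ b - 1)²| = 3`. -/
theorem card_range_sq (ρ : Representation (ZMod 3) S E) (b : S) (hc : Cubic ρ b) :
    Nat.card ↥(LinearMap.range (Nb ρ b ∘ₗ Nb ρ b)) = 3 := by
  set N := Nb ρ b with hN
  set R := LinearMap.range N with hR
  set f : ↥R →ₗ[ZMod 3] E := N.domRestrict R with hf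
  have hrange : LinearMap.range f = LinearMap.range (N ∘ₗ N) := by
    rw [hf, LinearMap.range_domRestrict, LinearMap.range_comp]
  have hcard := MOD10_aux_card f
  rw [hrange, hc.card_range] at hcard
  obtain ⟨v, hv⟩ := hc.sq_ne
  -- the kernel is nontrivial
  have hker : 1 < Nat.card ↥(LinearMap.ker f) := by
    have hmem : N (N v) ∈ R := ⟨N v, rfl⟩
    have hk : (⟨N (N v), hmem⟩ : ↥R) ∈ LinearMap.ker f := by
      rw [LinearMap.mem_ker, hf, LinearMap.domRestrict_apply]
      exact MOD10_aux_cube ρ b hc.pow v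
    have hne : (⟨⟨N (N v), hmem⟩, hk⟩ : ↥(LinearMap.ker f)) ≠ 0 := by
      intro h
      apply hv
      have := congrArg (fun x : ↥(LinearMap.ker f) => ((x : ↥R) : E)) h
      simpa using this
    exact Finite.one_lt_card_iff_nontrivial.2 ⟨⟨_, _, hne⟩⟩
  -- the range of N² is nontrivial
  have hrg : 1 < Nat.card ↥(LinearMap.range (N ∘ₗ N)) := by
    have hmem : N (N v) ∈ LinearMap.range (N ∘ₗ N) := ⟨v, rfl⟩
    have hne : (⟨N (N v), hmem⟩ : ↥(LinearMap.range (N ∘ₗ N))) ≠ 0 := by
      intro h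
      apply hv
      have := congrArg (fun x : ↥(LinearMap.range (N ∘ₗ N)) => (x : E)) h
      simpa using this
    exact Finite.one_lt_card_iff_nontrivial.2 ⟨⟨_, _, hne⟩⟩
  -- 9 = k * r with k, r > 1
  generalize Nat.card ↥(LinearMap.ker f) = k at hcard hker
  generalize Nat.card ↥(LinearMap.range (N ∘ₗ N)) = r at hcard hrg ⊢
  have hk9 : k ≤ 9 := Nat.le_of_dvd (by norm_num) ⟨r, hcard⟩
  have hr9 : r ≤ 9 := Nat.le_of_dvd (by norm_num) ⟨k, by rw [mul_comm]; exact hcard⟩
  interval_cases k <;> interval_cases r <;> omega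

end Cfsg.Agent.S4415P
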