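import Mathlib
import Cfsg.Prelude.Def_Characters
import Cfsg.Agent.Helper21.S4751KEY

set_option autoImplicit false

/-! S4751 piece CENTa (helper15): a `p`-element centralizing `P` lies in `P`. -/

namespace Cfsg.Agent.S4751P

open scoped ComplexConjugate

universe u

variable {G : Type u} [Group G] [Finite G]

/-- CENTa -/
theorem mem_of_pElement (p : ℕ) [Fact p.Prime] (χ : G → ℂ) (hχ : Cfsg.IsCharacter G χ) (hnl : χ 1 ≠ 1)
    (P : Subgroup G) (hPp : IsPGroup p P)
    (habs : ∀ g : G, p ∣ orderOf g → χ g * conj (χ g) = 1)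
    (hab : ∀ a ∈ P, ∀ b ∈ P, a * b = b * a) (h1 : χ 1 = (Nat.card P : ℂ) - 1)
    (hm1 : ∀ y ∈ P, y ≠ 1 → χ y = -1) (c : G) (hc : ∀ y ∈ P, c * y = y * c)
    (k : ℕ) (hck : c ^ (p ^ k) = 1) : c ∈ P := by
  classical
  have hp : p.Prime := Fact.out
  by_contra hcP
  haveI : Fintype ↥P := Fintype.ofFinite _
  have hterm : ∀ y : ↥P, χ (c * (y : G)) * conj (χ (c * (y : G))) = 1 := by
    intro y
    apply habs
    obtain ⟨m, hm⟩ := hPp y
    have hym : (y : G) ^ (p ^ m) = 1 := by
      have := congrArg Subtype.val hm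
      simpa using this
    have hcomm : Commute c (y : G) := hc y y.2
    have hpow : (c * (y : G)) ^ (p ^ (k + m)) = 1 := by
      rw [hcomm.mul_pow, pow_add, pow_mul, hck, one_pow, mul_comm (p ^ k) (p ^ m), pow_mul, hym,
        one_pow, one_mul]
    have hdvd : orderOf (c * (y : G)) ∣ p ^ (k + m) := orderOf_dvd_of_pow_eq_one hpow
    obtain ⟨j, _, hj⟩ := (Nat.dvd_prime_pow hp).mp hdvd
    have hne : c * (y : G) ≠ 1 := by
      intro h
      apply hcP
      have : c = (y : G)⁻¹ := eq_inv_of_mul_eq_one_left h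
      rw [this]
      exact P.inv_mem y.2
    have hj0 : j ≠ 0 := by
      intro h0
      rw [h0, pow_zero] at hj
      exact hne (orderOf_eq_one_iff.mp hj)
    rw [hj]
    exact dvd_pow_self p hj0
  have hkey := key_sum χ hχ P hab h1 hm1 c hc
  simp only [hterm, Finset.sum_const, Finset.card_univ, nsmul_eq_mul, mul_one] at hkey
  rw [← Nat.card_eq_fintype_card] at hkey
  have hq0 : (Nat.card ↥P : ℂ) ≠ 0 := by
    exact_mod_cast (Nat.card_pos (α := ↥P)).ne'
  have h3 : (Nat.card ↥P : ℂ) - 1 = 1 := by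
    have : (Nat.card ↥P : ℂ) * 1 = (Nat.card ↥P : ℂ) * ((Nat.card ↥P : ℂ) - 1) := by
      rw [mul_one]; exact hkey
    exact (mul_left_cancel₀ hq0 this).symm
  exact hnl (h1.trans h3)

end Cfsg.Agent.S4751P
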