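import Mathlib
import Cfsg.Prelude.Def_Characters
import Cfsg.Agent.Helper21.S4751KEY
import Cfsg.Agent.Helper21.S4751ZCH

set_option autoImplicit false

/-! S4751 piece CENTb (helper15): a `p'`-element centralizing `P` is central. -/

namespace Cfsg.Agent.S4751P

open scoped ComplexConjugate

universe u

variable {G : Type u} [Group G] [Finite G]

/-- CENTb -/
theorem mem_center_of_pPrime (p : ℕ) [Fact p.Prime] (χ : G → ℂ) (hχ : Cfsg.IsIrrCharacter G χ)
    (hfaith : ∀ g : G, χ g = χ 1 → g = 1)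
    (P : Subgroup G) (hPp : IsPGroup p P)
    (habs : ∀ g : G, p ∣ orderOf g → χ g * conj (χ g) = 1)
    (hab : ∀ a ∈ P, ∀ b ∈ P, a * b = b * a) (h1 : χ 1 = (Nat.card P : ℂ) - 1)
    (hm1 : ∀ y ∈ P, y ≠ 1 → χ y = -1) (c : G) (hc : ∀ y ∈ P, c * y = y * c)
    (hcp : ¬ p ∣ orderOf c) : c ∈ Subgroup.center G := by
  classical
  have hp : p.Prime := Fact.out
  haveI : Fintype ↥P := Fintype.ofFinite _
  have hχ' : Cfsg.IsCharacter G χ := by
    obtain ⟨n, ρ, _, h⟩ := hχ
    exact ⟨n, ρ, h⟩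
  have hterm : ∀ y : ↥P, y ≠ 1 → χ (c * (y : G)) * conj (χ (c * (y : G))) = 1 := by
    intro y hy1
    apply habs
    have hy1' : (y : G) ≠ 1 := by
      intro h
      exact hy1 (Subtype.ext h)
    obtain ⟨m, hm⟩ := hPp y
    have hym : (y : G) ^ (p ^ m) = 1 := by
      have := congrArg Subtype.val hm
      simpa using this
    have hdvd : orderOf (y : G) ∣ p ^ m := orderOf_dvd_of_pow_eq_one hym
    obtain ⟨j, _, hj⟩ := (Nat.dvd_prime_pow hp).mp hdvd
    have hj0 : j ≠ 0 := by
      intro h0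
      rw [h0, pow_zero] at hj
      exact hy1' (orderOf_eq_one_iff.mp hj)
    have hcop : Nat.Coprime (orderOf c) (orderOf (y : G)) := by
      rw [hj]
      apply Nat.Coprime.pow_right
      exact ((Nat.Prime.coprime_iff_not_dvd hp).mpr hcp).symm
    have hcomm : Commute c (y : G) := hc y y.2
    rw [hcomm.orderOf_mul_eq_mul_orderOf_of_coprime hcop, hj]
    exact Dvd.dvd.mul_left (dvd_pow_self p hj0) _
  have hkey := key_sum χ hχ' P hab h1 hm1 c hc
  rw [← Finset.add_sum_erase Finset.univ _ (Finset.mem_univ (1 : ↥P))] at hkey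
  have hrest : ∑ y ∈ Finset.univ.erase (1 : ↥P), χ (c * (y : G)) * conj (χ (c * (y : G)))
      = (Nat.card ↥P : ℂ) - 1 := by
    rw [Finset.sum_congr rfl (fun y hy => hterm y (Finset.ne_of_mem_erase hy))]
    rw [Finset.sum_const, Finset.card_erase_of_mem (Finset.mem_univ _), Finset.card_univ,
      nsmul_eq_mul, mul_one, ← Nat.card_eq_fintype_card]
    have hpos : 1 ≤ Nat.card ↥P := Nat.card_pos
    push_cast [Nat.cast_sub hpos]
    ring
  rw [hrest] at hkey
  simp only [Subgroup.coe_one, mul_one] at hkey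
  apply (center_iff_norm χ hχ hfaith c).mpr
  rw [h1]
  linear_combination hkey

end Cfsg.Agent.S4751P
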