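import Mathlib
import Cfsg.Prelude.Def_Characters

set_option autoImplicit false

/-! S4751 piece V4B (helper15): an elementary abelian 2-subgroup of index two in a group with
abelianization of order at most four has order at most four. -/

namespace Cfsg.Agent.S4751P

open scoped ComplexConjugate
open scoped commutatorElement

universe u

variable {G : Type u} [Group G] [Finite G]

/-- V4B -/
theorem card_le_four_of_index_two {X : Type u} [Group X] [Finite X] (N : Subgroup X)
    (hN : N.index = 2) (hab : ∀ a ∈ N, ∀ b ∈ N, a * b = b * a) (h2 : ∀ y ∈ N, y ^ 2 = 1)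
    (hc : (commutator X).index ≤ 4) : Nat.card N ≤ 4 := by
  haveI hnorm : N.Normal := Subgroup.normal_of_index_eq_two hN
  -- an element outside `N`
  obtain ⟨s, hs⟩ : ∃ s : X, s ∉ N := by
    by_contra hcon
    have htop : N = ⊤ := by
      rw [eq_top_iff]
      intro x _
      by_contra hx
      exact hcon ⟨x, hx⟩
    rw [htop, Subgroup.index_top] at hN
    omega
  have hinv : ∀ y ∈ N, y⁻¹ = y := by
    intro y hy
    have := h2 y hy
    rw [pow_two] at this
    exact inv_eq_of_mul_eq_one_left this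
  have hconj : ∀ y ∈ N, s * y * s⁻¹ ∈ N := fun y hy => hnorm.conj_mem y hy s
  have hss : s * s ∈ N := Subgroup.mul_self_mem_of_index_two hN s
  -- the homomorphism `κ`
  let κ : ↥N →* ↥N :=
    { toFun := fun y => ⟨(y : X) * (s * (y : X) * s⁻¹), N.mul_mem y.2 (hconj y y.2)⟩
      map_one' := by
        apply Subtype.ext
        simp
      map_mul' := by
        intro y y'
        apply Subtype.ext
        show ((y : X) * (y' : X)) * (s * ((y : X) * (y' : X)) * s⁻¹) =
          ((y : X) * (s * (y : X) * s⁻¹)) * ((y' : X) * (s * (y' : X) * s⁻¹))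
        have h1 : s * ((y : X) * (y' : X)) * s⁻¹ = (s * (y : X) * s⁻¹) * (s * (y' : X) * s⁻¹) := by
          group
        have h3 := hab (y' : X) y'.2 (s * (y : X) * s⁻¹) (hconj y y.2)
        rw [h1]
        calc (y : X) * (y' : X) * ((s * (y : X) * s⁻¹) * (s * (y' : X) * s⁻¹))
            = (y : X) * ((y' : X) * (s * (y : X) * s⁻¹)) * (s * (y' : X) * s⁻¹) := by group
          _ = (y : X) * ((s * (y : X) * s⁻¹) * (y' : X)) * (s * (y' : X) * s⁻¹) := by rw [h3]
          _ = _ := by group }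
  have hκ : ∀ y : ↥N, ((κ y : ↥N) : X) = (y : X) * (s * (y : X) * s⁻¹) := fun y => rfl
  -- `range κ ≤ ker κ`
  have hrk : κ.range ≤ κ.ker := by
    rintro w ⟨y, rfl⟩
    rw [MonoidHom.mem_ker]
    apply Subtype.ext
    rw [hκ, hκ]
    show (y : X) * (s * (y : X) * s⁻¹) * (s * ((y : X) * (s * (y : X) * s⁻¹)) * s⁻¹) = 1
    have hy := y.2
    have hσ := hconj y hy
    have h1 : s * ((y : X) * (s * (y : X) * s⁻¹)) * s⁻¹ =
        (s * (y : X) * s⁻¹) * ((s * s) * (y : X) * (s * s)⁻¹) := by group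
    have h2' : (s * s) * (y : X) * (s * s)⁻¹ = (y : X) := by
      rw [hab (s * s) hss y hy]; group
    rw [h1, h2']
    have h3 : (s * (y : X) * s⁻¹) * (y : X) = (y : X) * (s * (y : X) * s⁻¹) :=
      hab _ hσ _ hy
    rw [h3]
    have := h2 _ (N.mul_mem hy hσ)
    rw [pow_two] at this
    exact this
  -- the subgroup `K'`
  let K' : Subgroup X := κ.range.map N.subtype
  have hmemK : ∀ w ∈ N, w * (s * w * s⁻¹) ∈ K' := by
    intro w hw
    exact ⟨κ ⟨w, hw⟩, ⟨⟨w, hw⟩, rfl⟩, rfl⟩
  -- every element is in `N` or of the form `s * y`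
  have hform : ∀ a : X, a ∉ N → ∃ y ∈ N, a = s * y := by
    intro a ha
    refine ⟨s⁻¹ * a, ?_, by group⟩
    have := (Subgroup.mul_mem_iff_of_index_two hN (a := s⁻¹) (b := a))
    rw [this]
    constructor
    · intro h; exact absurd (by simpa using N.inv_mem h) hs
    · intro h; exact absurd h ha
  -- commutators lie in `K'`
  have case2 : ∀ a ∈ N, ∀ y ∈ N, ⁅a, s * y⁆ ∈ K' := by
    intro a ha y hy
    have h1 : ⁅a, s * y⁆ = a * (s * (y * a⁻¹ * y⁻¹) * s⁻¹) := by
      rw [commutatorElement_def]; group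
    have h3 : y * a⁻¹ * y⁻¹ = a := by
      rw [hinv a ha, hab y hy a ha]; group
    rw [h1, h3]
    exact hmemK a ha
  have case4 : ∀ y ∈ N, ∀ y' ∈ N, ⁅s * y, s * y'⁆ ∈ K' := by
    intro y hy y' hy'
    have h1 : ⁅s * y, s * y'⁆ =
        (s * y * s⁻¹) * ((s * s) * (y' * y⁻¹) * (s * s)⁻¹) * (s * y'⁻¹ * s⁻¹) := by
      rw [commutatorElement_def]; group
    have hw' : y' * y⁻¹ ∈ N := N.mul_mem hy' (N.inv_mem hy)
    have h3 : (s * s) * (y' * y⁻¹) * (s * s)⁻¹ = y' * y⁻¹ := by
      rw [hab (s * s) hss _ hw']; group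
    have hw : y * y'⁻¹ ∈ N := N.mul_mem hy (N.inv_mem hy')
    have h4 : y' * y⁻¹ = y * y'⁻¹ := by
      have : y' * y⁻¹ = (y * y'⁻¹)⁻¹ := by group
      rw [this, hinv _ hw]
    have h5 : (s * y * s⁻¹) * (y * y'⁻¹) = (y * y'⁻¹) * (s * y * s⁻¹) :=
      hab _ (hconj y hy) _ hw
    rw [h1, h3, h4, h5]
    have h6 : y * y'⁻¹ * (s * y * s⁻¹) * (s * y'⁻¹ * s⁻¹) =
        (y * y'⁻¹) * (s * (y * y'⁻¹) * s⁻¹) := by group
    rw [h6]
    exact hmemK _ hw
  have hcomm : commutator X ≤ K' := by
    rw [commutator_def, Subgroup.commutator_le]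
    intro a _ b _
    by_cases ha : a ∈ N
    · by_cases hb : b ∈ N
      · have : ⁅a, b⁆ = 1 := by
          rw [commutatorElement_eq_one_iff_commute]
          exact hab a ha b hb
        rw [this]; exact K'.one_mem
      · obtain ⟨y, hy, rfl⟩ := hform b hb
        exact case2 a ha y hy
    · obtain ⟨y, hy, rfl⟩ := hform a ha
      by_cases hb : b ∈ N
      · have h := case2 b hb y hy
        have : ⁅s * y, b⁆ = ⁅b, s * y⁆⁻¹ := (commutatorElement_inv b (s * y)).symm
        rw [this]
        exact K'.inv_mem h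
      · obtain ⟨y', hy', rfl⟩ := hform b hb
        exact case4 y hy y' hy'
  -- counting
  have hcardK : Nat.card K' = Nat.card κ.range :=
    Subgroup.card_map_of_injective N.subtype_injective
  have h1 : Nat.card ↥N = Nat.card κ.range * Nat.card κ.ker := by
    rw [← Subgroup.index_ker, Subgroup.index_mul_card]
  have h3 : Nat.card κ.range ≤ Nat.card κ.ker := Subgroup.card_le_of_le hrk
  have h4 : Nat.card (commutator X) ≤ Nat.card κ.range := by
    rw [← hcardK]; exact Subgroup.card_le_of_le hcomm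
  have h5 : N.index * Nat.card ↥N = Nat.card X := Subgroup.index_mul_card N
  have h6 : (commutator X).index * Nat.card (commutator X) = Nat.card X :=
    Subgroup.index_mul_card _
  rw [hN] at h5
  have hr : 0 < Nat.card κ.range := Nat.card_pos
  have hk : 0 < Nat.card κ.ker := Nat.card_pos
  -- 2 r b = |X| ≤ 4 r
  have h7 : 2 * (Nat.card κ.range * Nat.card κ.ker) ≤ 4 * Nat.card κ.range := by
    rw [← h1, h5, ← h6]
    exact Nat.mul_le_mul hc h4
  have h8 : Nat.card κ.ker ≤ 2 := by
    by_contra hlt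
    have : 3 ≤ Nat.card κ.ker := by omega
    nlinarith
  have h9 : Nat.card κ.range ≤ 2 := le_trans h3 h8
  rw [h1]
  calc Nat.card κ.range * Nat.card κ.ker ≤ 2 * 2 := Nat.mul_le_mul h9 h8
    _ = 4 := by norm_num

end Cfsg.Agent.S4751P
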