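import Mathlib
import Cfsg.Prelude.Def_Characters
import Cfsg.Agent.Helper8.CharComp
import Cfsg.Agent.Helper15.S4751V4B
import Cfsg.Agent.Helper8.S4751L4

set_option autoImplicit false

/-! S4751 piece P4 (helper15): `|P| = 4` when the Sylow 2-subgroup has order `2 |P|`. -/

namespace Cfsg.Agent.S4751P

open scoped ComplexConjugate

universe u

variable {G : Type u} [Group G] [Finite G]

/-- P4 -/
theorem card_eq_four (χ : G → ℂ) (hχ : Cfsg.IsCharacter G χ) (P : Subgroup G) [P.Normal]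
    (hab : ∀ a ∈ P, ∀ b ∈ P, a * b = b * a) (h2 : ∀ y ∈ P, y ^ 2 = 1)
    (h1 : χ 1 = (Nat.card P : ℂ) - 1) (hm1 : ∀ y ∈ P, y ≠ 1 → χ y = -1) (hP3 : 3 ≤ Nat.card P)
    (habs : ∀ g : G, 2 ∣ orderOf g → χ g * conj (χ g) = 1) (S : Sylow 2 G)
    (hS : Nat.card S = 2 * Nat.card P) : Nat.card P = 4 := by
  haveI : Fact (Nat.Prime 2) := ⟨Nat.prime_two⟩
  -- `P` is a normal 2-subgroup, so `P ≤ S`
  have hP2 : IsPGroup 2 ↥P := by
    intro y
    refine ⟨1, ?_⟩
    apply Subtype.ext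
    simpa using h2 y y.2
  have hPS : P ≤ (S : Subgroup G) := by
    obtain ⟨Q, hQ⟩ := hP2.exists_le_sylow
    obtain ⟨g, hg⟩ := MulAction.exists_smul_eq G Q S
    intro x hx
    have hx' : g⁻¹ * x * g⁻¹⁻¹ ∈ P := (inferInstance : P.Normal).conj_mem x hx g⁻¹
    have hxQ : g⁻¹ * x * g⁻¹⁻¹ ∈ (Q : Subgroup G) := hQ hx'
    rw [← hg]
    rw [Sylow.coe_subgroup_smul, Subgroup.mem_pointwise_smul_iff_inv_smul_mem]
    simpa [MulAut.smul_def, MulAut.conj_apply] using hxQ
  -- the data for `L4` and `V4B`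
  let N : Subgroup ↥(S : Subgroup G) := P.subgroupOf (S : Subgroup G)
  have hNcard : Nat.card N = Nat.card P :=
    Nat.card_congr (Subgroup.subgroupOfEquivOfLe hPS).toEquiv
  have hNidx : N.index = 2 := by
    have h := Subgroup.index_mul_card N
    rw [hNcard, hS] at h
    have hpos : 0 < Nat.card P := Nat.card_pos
    exact Nat.eq_of_mul_eq_mul_right hpos h
  let φ : ↥(S : Subgroup G) → ℂ := fun x => χ (x : G)
  have hφ : Cfsg.IsCharacter ↥(S : Subgroup G) φ :=
    Cfsg.Agent.Helper8.isCharacter_restrict (S : Subgroup G) hχ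
  have hφ1 : φ 1 = (Nat.card N : ℂ) - 1 := by
    show χ ((1 : ↥(S : Subgroup G)) : G) = _
    rw [hNcard, Subgroup.coe_one, h1]
  have hφm1 : ∀ y ∈ N, y ≠ 1 → φ y = -1 := by
    intro y hy hy1
    apply hm1 (y : G) (Subgroup.mem_subgroupOf.mp hy)
    intro h
    exact hy1 (Subtype.ext h)
  have hφabs : ∀ x : ↥(S : Subgroup G), x ∉ N → φ x * conj (φ x) = 1 := by
    intro x hx
    apply habs
    have hx1 : (x : G) ≠ 1 := by
      intro h
      apply hx
      have : x = 1 := Subtype.ext h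
      rw [this]
      exact N.one_mem
    obtain ⟨m, hm⟩ := S.2 x
    have hxm : (x : G) ^ (2 ^ m) = 1 := by
      have := congrArg Subtype.val hm
      simpa using this
    have hdvd : orderOf (x : G) ∣ 2 ^ m := orderOf_dvd_of_pow_eq_one hxm
    obtain ⟨j, _, hj⟩ := (Nat.dvd_prime_pow Nat.prime_two).mp hdvd
    have hj0 : j ≠ 0 := by
      intro h0
      rw [h0, pow_zero] at hj
      exact hx1 (orderOf_eq_one_iff.mp hj)
    rw [hj]
    exact dvd_pow_self 2 hj0
  have hc4 := commutator_index_le_four N hNidx φ hφ hφ1 hφm1 hφabs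
  have habN : ∀ a ∈ N, ∀ b ∈ N, a * b = b * a := by
    intro a ha b hb
    apply Subtype.ext
    exact hab (a : G) (Subgroup.mem_subgroupOf.mp ha) (b : G) (Subgroup.mem_subgroupOf.mp hb)
  have h2N : ∀ y ∈ N, y ^ 2 = 1 := by
    intro y hy
    apply Subtype.ext
    simpa using h2 (y : G) (Subgroup.mem_subgroupOf.mp hy)
  have hle4 := card_le_four_of_index_two N hNidx habN h2N hc4
  rw [hNcard] at hle4
  -- `|P|` is a power of two in `[3, 4]`
  obtain ⟨a, ha⟩ := IsPGroup.iff_card.mp hP2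
  rw [ha] at hle4 hP3 ⊢
  have ha2 : a ≤ 2 := by
    by_contra hlt
    have : 3 ≤ a := by omega
    have : 2 ^ 3 ≤ 2 ^ a := Nat.pow_le_pow_right (by norm_num) this
    omega
  interval_cases a <;> omega

end Cfsg.Agent.S4751P
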