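import Mathlib
import Cfsg.Prelude.Def_Classical
import Cfsg.Agent.Helper26.S5320.Defs
import Cfsg.Agent.Helper23.S5320EMB

/-! # S5320 piece RMEM (driver helper26): the `32` elements of `Rt = Q₈ ∘ D₈`. -/

set_option autoImplicit false
set_option linter.unusedSectionVars false
set_option linter.unusedVariables false

namespace Cfsg.Agent.S5320P

open Matrix

variable {F : Type*} [Field F]

namespace RMEM

theorem qi_mul_self {a b : F} (hab : a ^ 2 + b ^ 2 = -1) : qi a b hab * qi a b hab = -1 := by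
  apply Subtype.ext
  rw [Matrix.SpecialLinearGroup.coe_mul, Matrix.SpecialLinearGroup.coe_neg,
    Matrix.SpecialLinearGroup.coe_one]
  show qiM a b * qiM a b = -1
  unfold qiM
  ext i j
  fin_cases i <;> fin_cases j <;>
    simp [Matrix.mul_apply, Fin.sum_univ_two] <;>
    first | linear_combination hab | ring

theorem neg_one_mem {a b : F} (hab : a ^ 2 + b ^ 2 = -1) : (-1 : L F) ∈ Q8 a b hab := by
  rw [← qi_mul_self hab]
  have h : qi a b hab ∈ Q8 a b hab := Subgroup.subset_closure (by simp)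
  exact Subgroup.mul_mem _ h h

theorem neg_mem {a b : F} (hab : a ^ 2 + b ^ 2 = -1) {c : L F} (hc : c ∈ Q8 a b hab) :
    -c ∈ Q8 a b hab := by
  have : -c = (-1 : L F) * c := by simp
  rw [this]
  exact Subgroup.mul_mem _ (neg_one_mem hab) hc

theorem sig_inv : (sig : Gt F)⁻¹ = sig := inv_eq_of_mul_eq_one_right sig_mul_self

theorem sig_mul_emb (u v : L F) : (sig : Gt F) * emb (u, v) = emb (v, u) * sig := by
  have h := sig_conj u v
  rw [← h]
  group

/-- the normal form of the elements of `Rt` -/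
def NF (a b : F) (hab : a ^ 2 + b ^ 2 = -1) (x : Gt F) : Prop :=
  ∃ c ∈ Q8 a b hab, ∃ z : L F, (z = 1 ∨ z = -1) ∧ ∃ s : Gt F, (s = 1 ∨ s = sig) ∧
    x = emb (c, z * c) * s

theorem emb_one_one : (emb ((1 : L F), (1 : L F)) : Gt F) = 1 := map_one emb

theorem NF_one {a b : F} (hab : a ^ 2 + b ^ 2 = -1) : NF a b hab (1 : Gt F) :=
  ⟨1, Subgroup.one_mem _, 1, Or.inl rfl, 1, Or.inl rfl, by rw [mul_one, mul_one, emb_one_one]⟩

theorem emb_mul_emb (u v u' v' : L F) :
    (emb (u, v) : Gt F) * emb (u', v') = emb (u * u', v * v') := by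
  rw [← map_mul]
  rfl

theorem NF_mul {a b : F} (hab : a ^ 2 + b ^ 2 = -1) {x y : Gt F} (hx : NF a b hab x)
    (hy : NF a b hab y) : NF a b hab (x * y) := by
  obtain ⟨c, hc, z, hz, s, hs, rfl⟩ := hx
  obtain ⟨d, hd, w, hw, t, ht, rfl⟩ := hy
  have hwm : w ∈ Q8 a b hab := by
    rcases hw with rfl | rfl
    · exact Subgroup.one_mem _
    · exact neg_one_mem hab
  rcases hs with rfl | rfl
  · refine ⟨c * d, Subgroup.mul_mem _ hc hd, z * w, ?_, t, ht, ?_⟩
    · rcases hz with rfl | rfl <;> rcases hw with rfl | rfl <;> simp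
    · rw [mul_one, ← mul_assoc, emb_mul_emb]
      congr 3
      rcases hz with rfl | rfl <;> rcases hw with rfl | rfl <;> simp
  · refine ⟨c * (w * d), Subgroup.mul_mem _ hc (Subgroup.mul_mem _ hwm hd), z * w, ?_,
      sig * t, ?_, ?_⟩
    · rcases hz with rfl | rfl <;> rcases hw with rfl | rfl <;> simp
    · rcases ht with rfl | rfl
      · right; simp
      · left; exact sig_mul_self
    · have : (emb (c, z * c) * sig : Gt F) * (emb (d, w * d) * t) =
          emb (c, z * c) * (sig * emb (d, w * d)) * t := by group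
      rw [this, sig_mul_emb, ← mul_assoc, emb_mul_emb, mul_assoc]
      congr 3
      rcases hz with rfl | rfl <;> rcases hw with rfl | rfl <;> simp

theorem NF_inv {a b : F} (hab : a ^ 2 + b ^ 2 = -1) {x : Gt F} (hx : NF a b hab x) :
    NF a b hab x⁻¹ := by
  obtain ⟨c, hc, z, hz, s, hs, rfl⟩ := hx
  have hzm : z ∈ Q8 a b hab := by
    rcases hz with rfl | rfl
    · exact Subgroup.one_mem _
    · exact neg_one_mem hab
  have hinv : ((emb (c, z * c) : Gt F))⁻¹ = emb (c⁻¹, (z * c)⁻¹) := by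
    rw [← map_inv]
    rfl
  rcases hs with rfl | rfl
  · refine ⟨c⁻¹, Subgroup.inv_mem _ hc, z, hz, 1, Or.inl rfl, ?_⟩
    rw [mul_one, mul_one, hinv]
    congr 2
    rcases hz with rfl | rfl <;> simp
  · refine ⟨(z * c)⁻¹, Subgroup.inv_mem _ (Subgroup.mul_mem _ hzm hc), z, hz, sig, Or.inr rfl, ?_⟩
    rw [_root_.mul_inv_rev, sig_inv, hinv, sig_mul_emb]
    congr 3
    rcases hz with rfl | rfl <;> simp

/-- the subgroup of the normal forms -/
def NFsub (a b : F) (hab : a ^ 2 + b ^ 2 = -1) : Subgroup (Gt F) where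
  carrier := {x | NF a b hab x}
  mul_mem' hx hy := NF_mul hab hx hy
  one_mem' := NF_one hab
  inv_mem' hx := NF_inv hab hx

theorem Rt_le_NFsub {a b : F} (hab : a ^ 2 + b ^ 2 = -1) : Rt a b hab ≤ NFsub a b hab := by
  unfold Rt
  rw [Subgroup.closure_le]
  rintro x (⟨c, hc, rfl⟩ | hx)
  · exact ⟨c, hc, 1, Or.inl rfl, 1, Or.inl rfl, by simp⟩
  · rcases hx with rfl | hx
    · refine ⟨-1, neg_one_mem hab, -1, Or.inr rfl, 1, Or.inl rfl, ?_⟩
      rw [mul_one]
      unfold t1
      congr 2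
      simp
    · rw [Set.mem_singleton_iff] at hx
      subst hx
      refine ⟨1, Subgroup.one_mem _, 1, Or.inl rfl, sig, Or.inr rfl, ?_⟩
      rw [mul_one]
      rw [emb_one_one, one_mul]

theorem emb_diag_mem {a b : F} (hab : a ^ 2 + b ^ 2 = -1) {c : L F} (hc : c ∈ Q8 a b hab) :
    (emb (c, c) : Gt F) ∈ Rt a b hab :=
  Subgroup.subset_closure (Or.inl ⟨c, hc, rfl⟩)

theorem t1_mem {a b : F} (hab : a ^ 2 + b ^ 2 = -1) : (t1 : Gt F) ∈ Rt a b hab :=
  Subgroup.subset_closure (Or.inr (by simp))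

theorem sig_mem {a b : F} (hab : a ^ 2 + b ^ 2 = -1) : (sig : Gt F) ∈ Rt a b hab :=
  Subgroup.subset_closure (Or.inr (by simp))

theorem emb_anti_mem {a b : F} (hab : a ^ 2 + b ^ 2 = -1) {c : L F} (hc : c ∈ Q8 a b hab) :
    (emb (c, -c) : Gt F) ∈ Rt a b hab := by
  have h : (emb (c, -c) : Gt F) = emb (-c, -c) * t1 := by
    unfold t1
    rw [emb_mul_emb]
    congr 2 <;> simp
  rw [h]
  exact Subgroup.mul_mem _ (emb_diag_mem hab (neg_mem hab hc)) (t1_mem hab)

end RMEM

/-- RMEM: the `32` elements of `Rt`. -/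
theorem RMEM.mem_iff (h2 : (2 : F) ≠ 0) {a b : F} (hab : a ^ 2 + b ^ 2 = -1) (x : Gt F) :
    x ∈ Rt a b hab ↔ ∃ c ∈ Q8 a b hab, x = emb (c, c) ∨ x = emb (c, -c) ∨ x = emb (c, c) * sig ∨
      x = emb (c, -c) * sig := by
  constructor
  · intro hx
    obtain ⟨c, hc, z, hz, s, hs, rfl⟩ := RMEM.Rt_le_NFsub hab hx
    refine ⟨c, hc, ?_⟩
    rcases hz with rfl | rfl <;> rcases hs with rfl | rfl
    · left; simp
    · right; right; left; simp
    · right; left; simp
    · right; right; right; simp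
  · rintro ⟨c, hc, rfl | rfl | rfl | rfl⟩
    · exact RMEM.emb_diag_mem hab hc
    · exact RMEM.emb_anti_mem hab hc
    · exact Subgroup.mul_mem _ (RMEM.emb_diag_mem hab hc) (RMEM.sig_mem hab)
    · exact Subgroup.mul_mem _ (RMEM.emb_anti_mem hab hc) (RMEM.sig_mem hab)

end Cfsg.Agent.S5320P
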