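import Mathlib
import Cfsg.Prelude.Def_Classical
import Cfsg.Agent.Helper26.S5320.Defs
import Cfsg.Agent.Helper23.S5320EMB
import Cfsg.Agent.Helper24.S5320CENTER
import Cfsg.Agent.Helper18.S5320Q8MEM
import Cfsg.Agent.Helper15.S5320RMEM

/-! # S5320 piece RNORMAL (driver helper26): `Z ≤ Rt ≤ Q₈ ≀ 2 ≤ N(Rt)`. -/

set_option autoImplicit false
set_option linter.unusedSectionVars false
set_option linter.unusedVariables false

namespace Cfsg.Agent.S5320P

open Matrix

variable {F : Type*} [Field F]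

namespace RNORMAL

/-- a general criterion for normalizing a subgroup given by generators -/
theorem mem_normalizer_closure {G : Type*} [Group G] {S : Set G} {g : G}
    (h1 : ∀ x ∈ S, g * x * g⁻¹ ∈ Subgroup.closure S)
    (h2 : ∀ x ∈ S, g⁻¹ * x * g ∈ Subgroup.closure S) :
    g ∈ Subgroup.normalizer ((Subgroup.closure S : Subgroup G) : Set G) := by
  have key : ∀ k : G, (∀ x ∈ S, k * x * k⁻¹ ∈ Subgroup.closure S) →
      ∀ h ∈ Subgroup.closure S, k * h * k⁻¹ ∈ Subgroup.closure S := by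
    intro k hk h hh
    induction hh using Subgroup.closure_induction with
    | mem x hx => exact hk x hx
    | one => simp
    | mul x y _ _ ihx ihy =>
      have : k * (x * y) * k⁻¹ = (k * x * k⁻¹) * (k * y * k⁻¹) := by group
      rw [this]
      exact Subgroup.mul_mem _ ihx ihy
    | inv x _ ih =>
      have : k * x⁻¹ * k⁻¹ = (k * x * k⁻¹)⁻¹ := by group
      rw [this]
      exact Subgroup.inv_mem _ ih
  rw [Subgroup.mem_normalizer_iff]
  intro h
  constructor
  · exact key g h1 h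
  · intro hh
    have := key g⁻¹ (by simpa using h2) _ hh
    have e : g⁻¹ * (g * h * g⁻¹) * g⁻¹⁻¹ = h := by group
    rwa [e] at this

theorem qj_mul_self : (qj : L F) * qj = -1 := by
  apply Subtype.ext
  rw [Matrix.SpecialLinearGroup.coe_mul, Matrix.SpecialLinearGroup.coe_neg,
    Matrix.SpecialLinearGroup.coe_one]
  show (qjM : M2 F) * qjM = -1
  unfold qjM
  ext i j
  fin_cases i <;> fin_cases j <;> simp [Matrix.mul_apply, Fin.sum_univ_two]

theorem qk_mul_self {a b : F} (hab : a ^ 2 + b ^ 2 = -1) : qk a b hab * qk a b hab = -1 := by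
  apply Subtype.ext
  rw [Matrix.SpecialLinearGroup.coe_mul, Matrix.SpecialLinearGroup.coe_neg,
    Matrix.SpecialLinearGroup.coe_one]
  show qkM a b * qkM a b = -1
  unfold qkM
  ext i j
  fin_cases i <;> fin_cases j <;>
    simp [Matrix.mul_apply, Fin.sum_univ_two] <;>
    first | linear_combination hab | ring

theorem qi_mul_qj {a b : F} (hab : a ^ 2 + b ^ 2 = -1) : qi a b hab * qj = qk a b hab := by
  apply Subtype.ext
  rw [Matrix.SpecialLinearGroup.coe_mul]
  show qiM a b * qjM = qkM a b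
  unfold qiM qjM qkM
  ext i j
  fin_cases i <;> fin_cases j <;> simp [Matrix.mul_apply, Fin.sum_univ_two]

theorem qj_mul_qi {a b : F} (hab : a ^ 2 + b ^ 2 = -1) : qj * qi a b hab = -qk a b hab := by
  apply Subtype.ext
  rw [Matrix.SpecialLinearGroup.coe_mul, Matrix.SpecialLinearGroup.coe_neg]
  show qjM * qiM a b = -qkM a b
  unfold qiM qjM qkM
  ext i j
  fin_cases i <;> fin_cases j <;> simp [Matrix.mul_apply, Fin.sum_univ_two]

theorem qj_mul_qk {a b : F} (hab : a ^ 2 + b ^ 2 = -1) : qj * qk a b hab = qi a b hab := by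
  apply Subtype.ext
  rw [Matrix.SpecialLinearGroup.coe_mul]
  show qjM * qkM a b = qiM a b
  unfold qiM qjM qkM
  ext i j
  fin_cases i <;> fin_cases j <;> simp [Matrix.mul_apply, Fin.sum_univ_two]

theorem qk_mul_qj {a b : F} (hab : a ^ 2 + b ^ 2 = -1) : qk a b hab * qj = -qi a b hab := by
  apply Subtype.ext
  rw [Matrix.SpecialLinearGroup.coe_mul, Matrix.SpecialLinearGroup.coe_neg]
  show qkM a b * qjM = -qiM a b
  unfold qiM qjM qkM
  ext i j
  fin_cases i <;> fin_cases j <;> simp [Matrix.mul_apply, Fin.sum_univ_two]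

theorem qk_mul_qi {a b : F} (hab : a ^ 2 + b ^ 2 = -1) : qk a b hab * qi a b hab = qj := by
  apply Subtype.ext
  rw [Matrix.SpecialLinearGroup.coe_mul]
  show qkM a b * qiM a b = qjM
  unfold qiM qjM qkM
  ext i j
  fin_cases i <;> fin_cases j <;>
    simp [Matrix.mul_apply, Fin.sum_univ_two] <;>
    first | linear_combination hab | linear_combination -hab | ring

theorem qi_mul_qk {a b : F} (hab : a ^ 2 + b ^ 2 = -1) : qi a b hab * qk a b hab = -qj := by
  apply Subtype.ext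
  rw [Matrix.SpecialLinearGroup.coe_mul, Matrix.SpecialLinearGroup.coe_neg]
  show qiM a b * qkM a b = -qjM
  unfold qiM qjM qkM
  ext i j
  fin_cases i <;> fin_cases j <;>
    simp [Matrix.mul_apply, Fin.sum_univ_two] <;>
    first | linear_combination hab | linear_combination -hab | ring

/-- `Q₈` is abelian modulo `±1` -/
theorem comm_or (h2 : (2 : F) ≠ 0) {a b : F} (hab : a ^ 2 + b ^ 2 = -1) {c e : L F}
    (hc : c ∈ Q8 a b hab) (he : e ∈ Q8 a b hab) : c * e = e * c ∨ c * e = -(e * c) := by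
  rw [Q8MEM.mem_iff h2 hab] at hc he
  rcases hc with rfl | rfl | rfl | rfl | rfl | rfl | rfl | rfl <;>
  rcases he with rfl | rfl | rfl | rfl | rfl | rfl | rfl | rfl <;>
  simp [RMEM.qi_mul_self hab, qj_mul_self, qk_mul_self hab, qi_mul_qj hab, qj_mul_qi hab,
    qj_mul_qk hab, qk_mul_qj hab, qk_mul_qi hab, qi_mul_qk hab]

theorem conj_or (h2 : (2 : F) ≠ 0) {a b : F} (hab : a ^ 2 + b ^ 2 = -1) {c e : L F}
    (hc : c ∈ Q8 a b hab) (he : e ∈ Q8 a b hab) : c * e * c⁻¹ = e ∨ c * e * c⁻¹ = -e := by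
  rcases comm_or h2 hab hc he with h | h
  · left
    rw [h]
    group
  · right
    rw [h, neg_mul, mul_assoc, mul_inv_cancel, mul_one]

theorem inv_or (h2 : (2 : F) ≠ 0) {a b : F} (hab : a ^ 2 + b ^ 2 = -1) {f : L F}
    (hf : f ∈ Q8 a b hab) : f⁻¹ = f ∨ f⁻¹ = -f := by
  have key : f * f = 1 ∨ f * f = -1 := by
    rw [Q8MEM.mem_iff h2 hab] at hf
    rcases hf with rfl | rfl | rfl | rfl | rfl | rfl | rfl | rfl <;>
    simp [RMEM.qi_mul_self hab, qj_mul_self, qk_mul_self hab]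
  rcases key with h | h
  · left
    exact inv_eq_of_mul_eq_one_right h
  · right
    apply inv_eq_of_mul_eq_one_right
    rw [mul_neg, h, neg_neg]

theorem emb_inv (u v : L F) : ((emb (u, v) : Gt F))⁻¹ = emb (u⁻¹, v⁻¹) := by
  rw [← map_inv]
  rfl

/-- conjugation by the base group of `Q₈ ≀ 2` preserves the generators of `Rt` up to `Rt` -/
theorem base_conj_mem (h2 : (2 : F) ≠ 0) {a b : F} (hab : a ^ 2 + b ^ 2 = -1) {c d : L F}
    (hc : c ∈ Q8 a b hab) (hd : d ∈ Q8 a b hab) (x : Gt F)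
    (hx : x ∈ ({x | ∃ c ∈ Q8 a b hab, x = emb (c, c)} ∪ {t1, sig} : Set (Gt F))) :
    emb (c, d) * x * (emb (c, d))⁻¹ ∈ Rt a b hab := by
  rcases hx with ⟨e, he, rfl⟩ | hx
  · rw [emb_inv, RMEM.emb_mul_emb, RMEM.emb_mul_emb]
    rcases conj_or h2 hab hc he with h | h <;> rcases conj_or h2 hab hd he with h' | h' <;>
      rw [h, h']
    · exact RMEM.emb_diag_mem hab he
    · exact RMEM.emb_anti_mem hab he
    · have := RMEM.emb_anti_mem hab (RMEM.neg_mem hab he)
      rwa [neg_neg] at this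
    · exact RMEM.emb_diag_mem hab (RMEM.neg_mem hab he)
  · rcases hx with rfl | hx
    · unfold t1
      rw [emb_inv, RMEM.emb_mul_emb, RMEM.emb_mul_emb]
      have e1 : c * -1 * c⁻¹ = -1 := by simp
      have e2 : d * 1 * d⁻¹ = 1 := by simp
      rw [e1, e2]
      exact RMEM.t1_mem hab
    · rw [Set.mem_singleton_iff] at hx
      subst hx
      rw [emb_inv, mul_assoc, RMEM.sig_mul_emb, ← mul_assoc, RMEM.emb_mul_emb]
      have hf : c * d⁻¹ ∈ Q8 a b hab := Subgroup.mul_mem _ hc (Subgroup.inv_mem _ hd)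
      have e : d * c⁻¹ = (c * d⁻¹)⁻¹ := by group
      rw [e]
      rcases inv_or h2 hab hf with h | h <;> rw [h]
      · exact Subgroup.mul_mem _ (RMEM.emb_diag_mem hab hf) (RMEM.sig_mem hab)
      · exact Subgroup.mul_mem _ (RMEM.emb_anti_mem hab hf) (RMEM.sig_mem hab)

end RNORMAL

/-- RNORMAL: `Z ≤ Rt`. -/
theorem RNORMAL.center_le (h2 : (2 : F) ≠ 0) {a b : F} (hab : a ^ 2 + b ^ 2 = -1) :
    Subgroup.center (Gt F) ≤ Rt a b hab := by
  intro x hx
  rw [mem_center_iff] at hx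
  rcases hx with rfl | rfl
  · exact Subgroup.one_mem _
  · rw [← emb_neg_one]
    exact RMEM.emb_diag_mem hab (RMEM.neg_one_mem hab)

/-- RNORMAL: `Rt ≤ Q₈ ≀ 2`. -/
theorem RNORMAL.le_SW (h2 : (2 : F) ≠ 0) {a b : F} (hab : a ^ 2 + b ^ 2 = -1) :
    Rt a b hab ≤ SW (Q8 a b hab) := by
  unfold Rt
  rw [Subgroup.closure_le]
  have hB : ∀ c ∈ Q8 a b hab, ∀ d ∈ Q8 a b hab, (emb (c, d) : Gt F) ∈ SW (Q8 a b hab) := by
    intro c hc d hd
    apply (le_sup_left : Bs (Q8 a b hab) ≤ SW (Q8 a b hab))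
    exact Subgroup.mem_map.2 ⟨(c, d), ⟨hc, hd⟩, rfl⟩
  rintro x (⟨c, hc, rfl⟩ | hx)
  · exact hB c hc c hc
  · rcases hx with rfl | hx
    · exact hB _ (RMEM.neg_one_mem hab) _ (Subgroup.one_mem _)
    · rw [Set.mem_singleton_iff] at hx
      subst hx
      apply (le_sup_right : Subgroup.zpowers sig ≤ SW (Q8 a b hab))
      exact Subgroup.mem_zpowers _

/-- RNORMAL: `Q₈ ≀ 2 ≤ N(Rt)`. -/
theorem RNORMAL.SW_le_normalizer (h2 : (2 : F) ≠ 0) {a b : F} (hab : a ^ 2 + b ^ 2 = -1) :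
    SW (Q8 a b hab) ≤ Subgroup.normalizer ((Rt a b hab : Subgroup (Gt F)) : Set (Gt F)) := by
  unfold SW
  apply sup_le
  · intro x hx
    obtain ⟨⟨c, d⟩, ⟨hc, hd⟩, rfl⟩ := Subgroup.mem_map.1 hx
    change c ∈ Q8 a b hab at hc
    change d ∈ Q8 a b hab at hd
    unfold Rt
    apply RNORMAL.mem_normalizer_closure
    · intro x hx
      exact RNORMAL.base_conj_mem h2 hab hc hd x hx
    · intro x hx
      have := RNORMAL.base_conj_mem h2 hab (Subgroup.inv_mem _ hc) (Subgroup.inv_mem _ hd) x hx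
      rw [← RNORMAL.emb_inv, inv_inv] at this
      exact this
  · rw [Subgroup.zpowers_le]
    exact Subgroup.le_normalizer (RMEM.sig_mem hab)

end Cfsg.Agent.S5320P
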