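import Mathlib
import Cfsg.Prelude.Def_Classical
import Cfsg.Agent.Helper26.S5320.Defs
import Cfsg.Agent.Helper23.S5320EMB
import Cfsg.Agent.Helper18.S5320Q8MEM
import Cfsg.Agent.Helper15.S5320RMEM
import Cfsg.Agent.Helper15.S5320RNORMAL

/-! # S5320 piece GELB (driver helper26): `gE`, `gE'` normalize `Rt`. -/

set_option autoImplicit false
set_option linter.unusedSectionVars false
set_option linter.unusedVariables false

namespace Cfsg.Agent.S5320P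

open Matrix

variable {F : Type*} [Field F]

namespace GELB

/-- `diag(-1, 1)` on the plane index -/
def dM : M2 F := Matrix.diagonal ![-1, 1]

theorem K_neg_right (u h : M2 F) : K u (-h) = -K u h := by
  have := K_smul_right (-1 : F) u h
  simpa using this

theorem t1_val : ((t1 : Gt F) : M4 F) = K (1 : M2 F) (dM : M2 F) := by
  show embM ((-1 : L F) : M2 F) ((1 : L F) : M2 F) = K (1 : M2 F) (dM : M2 F)
  rw [Matrix.SpecialLinearGroup.coe_neg, Matrix.SpecialLinearGroup.coe_one]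
  unfold embM K dM
  congr 1 <;>
  · ext i j
    fin_cases i <;> fin_cases j <;> simp

theorem hM_mul_dM (h2 : (2 : F) ≠ 0) : (hM : M2 F) * dM = swapM * hM := by
  unfold hM dM swapM
  ext i j
  fin_cases i <;> fin_cases j <;> simp [Matrix.mul_apply, Fin.sum_univ_two]

theorem dM_mul_hM (h2 : (2 : F) ≠ 0) : (dM : M2 F) * hM = -(hM * swapM) := by
  unfold hM dM swapM
  ext i j
  fin_cases i <;> fin_cases j <;> simp [Matrix.mul_apply, Fin.sum_univ_two]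

theorem zG_mul_val (x : Gt F) : ((zG * x : Gt F) : M4 F) = -(x : M4 F) := by
  show (zG : Gt F).1 * x.1 = -x.1
  rw [zG_val, neg_mul, one_mul]

variable (u : M2 F) (hu : K u (hM : M2 F) ∈ Matrix.symplecticGroup (Fin 2) F)

theorem g_mul_t1 (h2 : (2 : F) ≠ 0) :
    (⟨K u hM, hu⟩ : Gt F) * t1 = sig * ⟨K u hM, hu⟩ := by
  apply Subtype.ext
  show K u hM * (t1 : Gt F).1 = (sig : Gt F).1 * K u hM
  rw [t1_val, sig_val, K_mul, K_mul, hM_mul_dM h2, mul_one, one_mul]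

theorem sig_mul_g (h2 : (2 : F) ≠ 0) :
    sig * (⟨K u hM, hu⟩ : Gt F) = ⟨K u hM, hu⟩ * t1 := (g_mul_t1 u hu h2).symm

theorem t1_mul_g (h2 : (2 : F) ≠ 0) :
    t1 * (⟨K u hM, hu⟩ : Gt F) = ⟨K u hM, hu⟩ * (zG * sig) := by
  apply Subtype.ext
  show (t1 : Gt F).1 * K u hM = K u hM * ((zG * sig : Gt F) : M4 F)
  rw [zG_mul_val, t1_val, sig_val, Matrix.mul_neg, K_mul, K_mul, dM_mul_hM h2, mul_one, one_mul,
    K_neg_right]

theorem g_mul_sig (h2 : (2 : F) ≠ 0) :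
    (⟨K u hM, hu⟩ : Gt F) * sig = (zG * t1) * ⟨K u hM, hu⟩ := by
  apply Subtype.ext
  show K u hM * (sig : Gt F).1 = ((zG * t1 : Gt F) : M4 F) * K u hM
  rw [zG_mul_val, t1_val, sig_val, Matrix.neg_mul, K_mul, K_mul, dM_mul_hM h2, mul_one, one_mul,
    K_neg_right, neg_neg]

theorem g_mul_emb (c c' : L F) (h : u * (c : M2 F) = (c' : M2 F) * u) :
    (⟨K u hM, hu⟩ : Gt F) * emb (c, c) = emb (c', c') * ⟨K u hM, hu⟩ := by
  apply Subtype.ext
  show K u hM * embM (c : M2 F) (c : M2 F) = embM (c' : M2 F) (c' : M2 F) * K u hM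
  rw [← K_one_right, ← K_one_right, K_mul, K_mul, h, mul_one, one_mul]

theorem zG_mem {a b : F} (hab : a ^ 2 + b ^ 2 = -1) : (zG : Gt F) ∈ Rt a b hab := by
  rw [← emb_neg_one]
  exact RMEM.emb_diag_mem hab (RMEM.neg_one_mem hab)

/-- the criterion: `u` normalizes `Q₈` up to … as a matrix -/
theorem mem_normalizer_of (h2 : (2 : F) ≠ 0) {a b : F} (hab : a ^ 2 + b ^ 2 = -1)
    (h1 : ∀ c ∈ Q8 a b hab, ∃ c' ∈ Q8 a b hab, u * (c : M2 F) = (c' : M2 F) * u)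
    (h1' : ∀ c ∈ Q8 a b hab, ∃ c' ∈ Q8 a b hab, u * (c' : M2 F) = (c : M2 F) * u) :
    (⟨K u hM, hu⟩ : Gt F) ∈
      Subgroup.normalizer ((Rt a b hab : Subgroup (Gt F)) : Set (Gt F)) := by
  unfold Rt
  apply RNORMAL.mem_normalizer_closure
  · rintro x (⟨c, hc, rfl⟩ | hx)
    · obtain ⟨c', hc', h⟩ := h1 c hc
      rw [g_mul_emb u hu c c' h, mul_assoc, mul_inv_cancel, mul_one]
      exact RMEM.emb_diag_mem hab hc'
    · rcases hx with rfl | hx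
      · rw [g_mul_t1 u hu h2, mul_assoc, mul_inv_cancel, mul_one]
        exact RMEM.sig_mem hab
      · rw [Set.mem_singleton_iff] at hx
        subst hx
        rw [g_mul_sig u hu h2, mul_assoc, mul_inv_cancel, mul_one]
        exact Subgroup.mul_mem _ (zG_mem hab) (RMEM.t1_mem hab)
  · rintro x (⟨c, hc, rfl⟩ | hx)
    · obtain ⟨c', hc', h⟩ := h1' c hc
      rw [mul_assoc, ← g_mul_emb u hu c' c h, ← mul_assoc, inv_mul_cancel, one_mul]
      exact RMEM.emb_diag_mem hab hc'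
    · rcases hx with rfl | hx
      · rw [mul_assoc, t1_mul_g u hu h2, ← mul_assoc, inv_mul_cancel, one_mul]
        exact Subgroup.mul_mem _ (zG_mem hab) (RMEM.sig_mem hab)
      · rw [Set.mem_singleton_iff] at hx
        subst hx
        rw [mul_assoc, sig_mul_g u hu h2, ← mul_assoc, inv_mul_cancel, one_mul]
        exact RMEM.t1_mem hab

/-- `u * c = c' * u` as matrices -/
def Tw (u : M2 F) (c c' : L F) : Prop := u * (c : M2 F) = (c' : M2 F) * u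

theorem Tw_neg {u : M2 F} {c c' : L F} (h : Tw u c c') : Tw u (-c) (-c') := by
  unfold Tw at h ⊢
  rw [Matrix.SpecialLinearGroup.coe_neg, Matrix.SpecialLinearGroup.coe_neg, Matrix.mul_neg,
    Matrix.neg_mul, h]

theorem Tw_one (u : M2 F) : Tw u 1 1 := by
  unfold Tw
  rw [Matrix.SpecialLinearGroup.coe_one, mul_one, one_mul]

theorem Tw_i_i {a b : F} (hab : a ^ 2 + b ^ 2 = -1) :
    Tw (1 + qiM a b) (qi a b hab) (qi a b hab) := by
  show (1 + qiM a b) * qiM a b = qiM a b * (1 + qiM a b)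
  rw [add_mul, mul_add, one_mul, mul_one]

theorem Tw_i_j {a b : F} (hab : a ^ 2 + b ^ 2 = -1) :
    Tw (1 + qiM a b) qj (qk a b hab) := by
  show (1 + qiM a b) * qjM = qkM a b * (1 + qiM a b)
  unfold qiM qjM qkM
  ext i j
  fin_cases i <;> fin_cases j <;>
    simp [Matrix.mul_apply, Fin.sum_univ_two, Matrix.add_apply] <;>
    first | ring1 | linear_combination hab | linear_combination -hab

theorem Tw_i_k {a b : F} (hab : a ^ 2 + b ^ 2 = -1) :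
    Tw (1 + qiM a b) (qk a b hab) (-qj) := by
  show (1 + qiM a b) * qkM a b = ((-qj : L F) : M2 F) * (1 + qiM a b)
  rw [Matrix.SpecialLinearGroup.coe_neg]
  show (1 + qiM a b) * qkM a b = (-qjM) * (1 + qiM a b)
  unfold qiM qjM qkM
  ext i j
  fin_cases i <;> fin_cases j <;>
    simp [Matrix.mul_apply, Fin.sum_univ_two, Matrix.add_apply] <;>
    first | ring1 | linear_combination hab | linear_combination -hab

theorem Tw_j_j : Tw (1 + qjM : M2 F) qj qj := by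
  show (1 + qjM : M2 F) * qjM = qjM * (1 + qjM)
  rw [add_mul, mul_add, one_mul, mul_one]

theorem Tw_j_i {a b : F} (hab : a ^ 2 + b ^ 2 = -1) :
    Tw (1 + qjM : M2 F) (qi a b hab) (-qk a b hab) := by
  show (1 + qjM : M2 F) * qiM a b = ((-qk a b hab : L F) : M2 F) * (1 + qjM)
  rw [Matrix.SpecialLinearGroup.coe_neg]
  show (1 + qjM : M2 F) * qiM a b = (-qkM a b) * (1 + qjM)
  unfold qiM qjM qkM
  ext i j
  fin_cases i <;> fin_cases j <;>
    simp [Matrix.mul_apply, Fin.sum_univ_two, Matrix.add_apply] <;>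
    first | ring1 | linear_combination hab | linear_combination -hab

theorem Tw_j_k {a b : F} (hab : a ^ 2 + b ^ 2 = -1) :
    Tw (1 + qjM : M2 F) (qk a b hab) (qi a b hab) := by
  show (1 + qjM : M2 F) * qkM a b = qiM a b * (1 + qjM)
  unfold qiM qjM qkM
  ext i j
  fin_cases i <;> fin_cases j <;>
    simp [Matrix.mul_apply, Fin.sum_univ_two, Matrix.add_apply] <;>
    first | ring1 | linear_combination hab | linear_combination -hab

theorem qi_mem {a b : F} (hab : a ^ 2 + b ^ 2 = -1) : qi a b hab ∈ Q8 a b hab :=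
  Subgroup.subset_closure (by simp)

theorem qj_mem {a b : F} (hab : a ^ 2 + b ^ 2 = -1) : (qj : L F) ∈ Q8 a b hab :=
  Subgroup.subset_closure (by simp)

theorem qk_mem {a b : F} (hab : a ^ 2 + b ^ 2 = -1) : qk a b hab ∈ Q8 a b hab := by
  rw [← RNORMAL.qi_mul_qj hab]
  exact Subgroup.mul_mem _ (qi_mem hab) (qj_mem hab)

theorem h1_i (h2 : (2 : F) ≠ 0) {a b : F} (hab : a ^ 2 + b ^ 2 = -1) :
    ∀ c ∈ Q8 a b hab, ∃ c' ∈ Q8 a b hab, (1 + qiM a b) * (c : M2 F) = (c' : M2 F) * (1 + qiM a b) := by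
  intro c hc
  rw [Q8MEM.mem_iff h2 hab] at hc
  rcases hc with rfl | rfl | rfl | rfl | rfl | rfl | rfl | rfl
  · exact ⟨1, Subgroup.one_mem _, Tw_one _⟩
  · exact ⟨-1, RMEM.neg_one_mem hab, Tw_neg (Tw_one _)⟩
  · exact ⟨_, qi_mem hab, Tw_i_i hab⟩
  · exact ⟨_, RMEM.neg_mem hab (qi_mem hab), Tw_neg (Tw_i_i hab)⟩
  · exact ⟨_, qk_mem hab, Tw_i_j hab⟩
  · exact ⟨_, RMEM.neg_mem hab (qk_mem hab), Tw_neg (Tw_i_j hab)⟩
  · exact ⟨_, RMEM.neg_mem hab (qj_mem hab), Tw_i_k hab⟩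
  · exact ⟨_, RMEM.neg_mem hab (RMEM.neg_mem hab (qj_mem hab)), Tw_neg (Tw_i_k hab)⟩

theorem h1'_i (h2 : (2 : F) ≠ 0) {a b : F} (hab : a ^ 2 + b ^ 2 = -1) :
    ∀ c ∈ Q8 a b hab, ∃ c' ∈ Q8 a b hab, (1 + qiM a b) * (c' : M2 F) = (c : M2 F) * (1 + qiM a b) := by
  intro c hc
  rw [Q8MEM.mem_iff h2 hab] at hc
  rcases hc with rfl | rfl | rfl | rfl | rfl | rfl | rfl | rfl
  · exact ⟨1, Subgroup.one_mem _, Tw_one _⟩
  · exact ⟨-1, RMEM.neg_one_mem hab, Tw_neg (Tw_one _)⟩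
  · exact ⟨_, qi_mem hab, Tw_i_i hab⟩
  · exact ⟨_, RMEM.neg_mem hab (qi_mem hab), Tw_neg (Tw_i_i hab)⟩
  · refine ⟨-qk a b hab, RMEM.neg_mem hab (qk_mem hab), ?_⟩
    have := Tw_neg (Tw_i_k hab)
    rwa [neg_neg] at this
  · exact ⟨_, qk_mem hab, Tw_i_k hab⟩
  · exact ⟨_, qj_mem hab, Tw_i_j hab⟩
  · exact ⟨_, RMEM.neg_mem hab (qj_mem hab), Tw_neg (Tw_i_j hab)⟩

theorem h1_j (h2 : (2 : F) ≠ 0) {a b : F} (hab : a ^ 2 + b ^ 2 = -1) :
    ∀ c ∈ Q8 a b hab, ∃ c' ∈ Q8 a b hab, (1 + qjM : M2 F) * (c : M2 F) = (c' : M2 F) * (1 + qjM) := by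
  intro c hc
  rw [Q8MEM.mem_iff h2 hab] at hc
  rcases hc with rfl | rfl | rfl | rfl | rfl | rfl | rfl | rfl
  · exact ⟨1, Subgroup.one_mem _, Tw_one _⟩
  · exact ⟨-1, RMEM.neg_one_mem hab, Tw_neg (Tw_one _)⟩
  · exact ⟨_, RMEM.neg_mem hab (qk_mem hab), Tw_j_i hab⟩
  · exact ⟨_, RMEM.neg_mem hab (RMEM.neg_mem hab (qk_mem hab)), Tw_neg (Tw_j_i hab)⟩
  · exact ⟨_, qj_mem hab, Tw_j_j⟩
  · exact ⟨_, RMEM.neg_mem hab (qj_mem hab), Tw_neg Tw_j_j⟩
  · exact ⟨_, qi_mem hab, Tw_j_k hab⟩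
  · exact ⟨_, RMEM.neg_mem hab (qi_mem hab), Tw_neg (Tw_j_k hab)⟩

theorem h1'_j (h2 : (2 : F) ≠ 0) {a b : F} (hab : a ^ 2 + b ^ 2 = -1) :
    ∀ c ∈ Q8 a b hab, ∃ c' ∈ Q8 a b hab, (1 + qjM : M2 F) * (c' : M2 F) = (c : M2 F) * (1 + qjM) := by
  intro c hc
  rw [Q8MEM.mem_iff h2 hab] at hc
  rcases hc with rfl | rfl | rfl | rfl | rfl | rfl | rfl | rfl
  · exact ⟨1, Subgroup.one_mem _, Tw_one _⟩
  · exact ⟨-1, RMEM.neg_one_mem hab, Tw_neg (Tw_one _)⟩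
  · exact ⟨_, qk_mem hab, Tw_j_k hab⟩
  · exact ⟨_, RMEM.neg_mem hab (qk_mem hab), Tw_neg (Tw_j_k hab)⟩
  · exact ⟨_, qj_mem hab, Tw_j_j⟩
  · exact ⟨_, RMEM.neg_mem hab (qj_mem hab), Tw_neg Tw_j_j⟩
  · refine ⟨-qi a b hab, RMEM.neg_mem hab (qi_mem hab), ?_⟩
    have := Tw_neg (Tw_j_i hab)
    rwa [neg_neg] at this
  · exact ⟨_, qi_mem hab, Tw_j_i hab⟩

end GELB

/-- GELB: `gE`, `gE'` normalize `Rt`. -/
theorem GELB.mem_normalizer (h2 : (2 : F) ≠ 0) {a b : F} (hab : a ^ 2 + b ^ 2 = -1) :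
    gE a b hab h2 ∈ Subgroup.normalizer ((Rt a b hab : Subgroup (Gt F)) : Set (Gt F)) ∧
    (gE' h2 : Gt F) ∈ Subgroup.normalizer ((Rt a b hab : Subgroup (Gt F)) : Set (Gt F)) :=
  ⟨GELB.mem_normalizer_of _ _ h2 hab (GELB.h1_i h2 hab) (GELB.h1'_i h2 hab),
   GELB.mem_normalizer_of _ _ h2 hab (GELB.h1_j h2 hab) (GELB.h1'_j h2 hab)⟩

end Cfsg.Agent.S5320P
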