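import Mathlib
import Cfsg.Agent.Helper7.S5655.Defs
import Cfsg.Agent.Helper7.S5655.MonoLib
import Cfsg.Agent.Helper15.S5655BDefs
import Cfsg.Agent.Helper15.S5655BPLANE
import Cfsg.Agent.Helper4.S5655BSPREAD

/-! # S5655 `k = 1`, chapter (B), piece BOREL (helper15, hedge): the parameter set of a root group of the plane is stable
under the norms `N(1 + (β - 1) κ)`. -/

set_option autoImplicit false

namespace Cfsg.Agent.S5655K1

open Matrix
open Cfsg.Agent.S2644 Cfsg.Agent.Helper2.SUGen Cfsg.Agent.Helper28.SimMax Cfsg.Agent.MonoP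

variable {K : Type*} [Field K] {q n : ℕ}

local notation "h" => Cfsg.hermForm n K q
local notation "T" => Cfsg.unitaryTransvection n q

/-- BOREL (M; uses SPREAD). -/
theorem BOREL.main (D : Frob K q) (H : Subgroup (Matrix.GeneralLinearGroup (Fin n) K))
    {e f : Fin n → K} {d ζ : K} (P : PD D e f d ζ) (hRe : HasR D H e) (hRw : HasR D H (ζ • e + f))
    (s : K) (hs : s * D.σ s = -d) (β : K) (hβ : IsU D β) (c : K) (hT : T (s • e + f) c ∈ MS H) :
    T (s • e + f) ((1 + (β - 1) * (s * D.σ ζ + d)) * D.σ (1 + (β - 1) * (s * D.σ ζ + d)) * c) ∈ MS H := by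
  have hww := P.hww
  have hU : IsU D (1 + (β - 1)) := by
    have : 1 + (β - 1) = β := by ring
    rw [this]; exact hβ
  obtain ⟨hU', hrr', hr'r⟩ := PD.unit_inv D (ζ • e + f) hww (β - 1) hU
  have hrM : T (ζ • e + f) (β - 1) ∈ MS H := hRw (β - 1) hU
  have hr'M : T (ζ • e + f) ((1 + (β - 1))⁻¹ - 1) ∈ MS H := hRw _ hU'
  have hrP : Pres (q := q) (T (ζ • e + f) (β - 1)) := PD.pres_unit D (ζ • e + f) hww (β - 1) hU
  set lam := 1 + (β - 1) * (s * D.σ ζ + d) with hlam
  set α := s + (β - 1) * (s * D.σ ζ + d) * ζ with hα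
  -- the image of `v`
  have hrv : T (ζ • e + f) (β - 1) *ᵥ (s • e + f) = α • e + lam • f := by
    have := P.rw_comb (β - 1) s 1
    rw [one_smul, mul_one] at this
    rw [this]
  have hvv : h (s • e + f) (s • e + f) = 0 := by
    have := P.h_comb s 1 s 1
    rw [one_smul, map_one, mul_one, mul_one] at this
    rw [this, hs]; ring
  have hiso : α * D.σ α + d * (lam * D.σ lam) = 0 := by
    have h1 : h (T (ζ • e + f) (β - 1) *ᵥ (s • e + f)) (T (ζ • e + f) (β - 1) *ᵥ (s • e + f)) = 0 := by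
      rw [hrP, hvv]
    rw [hrv, P.h_comb] at h1
    exact h1
  have hlam0 : lam ≠ 0 := by
    intro h0
    rw [h0, zero_mul, mul_zero, add_zero] at hiso
    have hα0 : α = 0 := by
      rcases mul_eq_zero.mp hiso with h4 | h4
      · exact h4
      · have := congrArg D.σ h4
        rwa [D.invol, map_zero] at this
    have hz : T (ζ • e + f) (β - 1) *ᵥ (s • e + f) = 0 := by
      rw [hrv, hα0, h0, zero_smul, zero_smul, add_zero]
    have hv0 : s • e + f = 0 := by
      have h2 : (T (ζ • e + f) ((1 + (β - 1))⁻¹ - 1) * T (ζ • e + f) (β - 1)) *ᵥ (s • e + f) =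
          s • e + f := by rw [hr'r, one_mulVec]
      rw [← mulVec_mulVec, hz, mulVec_zero] at h2
      exact h2.symm
    have h3 : s • e + (1 : K) • f = 0 := by rw [one_smul]; exact hv0
    exact one_ne_zero (P.comb_eq_zero h3).2
  have hσlam0 : D.σ lam ≠ 0 := σ_ne_zero D hlam0
  have hsβ : (α / lam) * D.σ (α / lam) = -d := by
    rw [map_div₀]
    field_simp
    linear_combination hiso
  have hrv' : T (ζ • e + f) (β - 1) *ᵥ (s • e + f) = lam • ((α / lam) • e + f) := by
    rw [hrv, smul_add, smul_smul, mul_div_cancel₀ _ hlam0]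
  have hconj : T (ζ • e + f) (β - 1) * T (s • e + f) c * T (ζ • e + f) ((1 + (β - 1))⁻¹ - 1) =
      T ((α / lam) • e + f) (lam * D.σ lam * c) := by
    rw [Cfsg.Agent.S5658P.conj_T D hrP hrr', hrv', Cfsg.Agent.S5658P.T_smul D]
  have hmem : T ((α / lam) • e + f) (lam * D.σ lam * c) ∈ MS H := by
    rw [← hconj]
    exact MS_mul (MS_mul hrM hT) hr'M
  exact SPREAD.main D H P hRe (α / lam) s (lam * D.σ lam * c) hsβ hs hmem

end Cfsg.Agent.S5655K1
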