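import Mathlib
import Cfsg.Agent.Helper28.S5704SDefs
import Cfsg.Agent.Helper18.S5704SEXONE
import Cfsg.Agent.Helper9.S5704SCOMM

/-! # S5704, chapter SPREAD, piece C3 (helper15): `u ⊥ u'`, `w ⊥ w'` ⟹ `ρ(u⊗w, u'⊗w') ∈ M`. -/

set_option autoImplicit false
set_option linter.unusedSectionVars false
set_option linter.unusedVariables false

namespace Cfsg.Agent.S5704S

open Matrix Cfsg.Agent.Helper28.Sg

variable {F : Type*} [Field F] {n a b m : ℕ}

section steps

variable {Q : QuadraticForm F (Fin n → F)} {M : Subgroup ↥(Cfsg.isometryGroup F ⇑Q)}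
  {e : Fin n ≃ Fin a × Fin b} {P : Matrix (Fin n) (Fin n) F}
  {GU : Matrix (Fin a) (Fin a) F} {GW : Matrix (Fin b) (Fin b) F}

theorem C3.main (hT : TData Q e P GU GW)
    (hAp : ∀ u u' w, InM Q M (pt e P u w) (pt e P u' w))
    (hBp : ∀ u w w', InM Q M (pt e P u w) (pt e P u w')) :
    ∀ u u' w w', bf GU u u' = 0 → bf GW w w' = 0 → InM Q M (pt e P u w) (pt e P u' w') := by
  intro u u' w w' huu' hww'
  by_cases hu : u = 0
  · subst hu
    rw [pt_zero_left]
    exact InM.zero_left _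
  by_cases hw' : w' = 0
  · subst hw'
    rw [pt_zero_right]
    exact InM.zero_right (hT.sing u w)
  obtain ⟨u₂', hu₂'⟩ := EX.one hT.sympU hu
  obtain ⟨w₃, hw₃⟩ := EX.one hT.sympW hw'
  have hw₂ : bf GW (-w₃) w' = 1 := by
    rw [bf_neg_left, hT.sympW.skew, hw₃, neg_neg]
  have hpol : ∀ u w u' w', B Q (pt e P u w) (pt e P u' w') = bf GU u u' * bf GW w w' :=
    fun u w u' w' => hT.pol u w u' w'
  have h := COMM.main (M := M) (p := pt e P u w) (y := pt e P u (-w₃)) (p' := pt e P u' w')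
    (y' := pt e P u₂' w') (hT.sing _ _) (hT.sing _ _)
    (by rw [hpol, huu', zero_mul])
    (by rw [hpol, hww', mul_zero])
    (by rw [hpol, hT.sympU.eq_zero_symm huu', zero_mul])
    (hBp u w (-w₃)) (hAp u' u₂' w')
  rw [hpol, hu₂', hw₂, one_mul, one_smul] at h
  exact h

end steps

end Cfsg.Agent.S5704S
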