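import Mathlib
import Cfsg.Agent.Helper15.S5704SEEDDefs2
import Cfsg.Agent.Helper26.S5704ROOTS

/-! # S5704, chapter SEED, piece LIB (helper15): small library. -/

set_option autoImplicit false
set_option linter.unusedSectionVars false
set_option linter.unusedVariables false

namespace Cfsg.Agent.S5704P

open Matrix Cfsg.Agent.S5637P Cfsg.Agent.S5704S Cfsg.Agent.Helper28.Sg

variable {F : Type*} [Field F] {n a b : ℕ} (e : Fin n ≃ Fin a × Fin b)
variable {Q : QuadraticForm F (Fin n → F)} {GU : Matrix (Fin a) (Fin a) F}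
  {GW : Matrix (Fin b) (Fin b) F} {M : Subgroup (GL (Fin n) F)}

theorem LIB.iso [Fintype F] (hC : Ctx e Q GU GW M) {g : GL (Fin n) F} (hg : g ∈ M) (x : Fin n → F) :
    Q ((g : Matrix (Fin n) (Fin n) F) *ᵥ x) = Q x := by
  obtain ⟨h, _, rfl⟩ := (GLUE.mem_omegaGL_iff hC.nondeg hC.hn g).mp (hC.hMO hg)
  exact Cfsg.Agent.Helper28.Spin.isom_apply Q h x

theorem LIB.XU_mem [Fintype F] (hC : Ctx e Q GU GW M) (u : Fin a → F) (c : F) : XU e GU u c ∈ M :=
  hC.hHM (ROOTS.XU_mem_H e hC.nondeg hC.hn hC.tdata u c)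

theorem LIB.XW_mem [Fintype F] (hC : Ctx e Q GU GW M) (z : Fin b → F) (c : F) : XW e GW z c ∈ M :=
  hC.hHM (ROOTS.XW_mem_H e hC.nondeg hC.hn hC.tdata z c)

theorem LIB.XU_inv (hU : IsSymp GU) (u : Fin a → F) (c : F) : (XU e GU u c)⁻¹ = XU e GU u (-c) := by
  apply inv_eq_of_mul_eq_one_right
  apply gl_ext_tn e
  intro x w
  rw [Units.val_mul, ← Matrix.mulVec_mulVec, XU_mulVec_tn e hU, XU_mulVec_tn e hU, Units.val_one,
    Matrix.one_mulVec]
  congr 1
  rw [bf_add_left, bf_smul_left, hU.alt, mul_zero, add_zero, add_assoc, ← add_smul]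
  have : -c * bf GU x u + c * bf GU x u = 0 := by ring
  rw [this, zero_smul, add_zero]

theorem LIB.XW_inv (hW : IsSymp GW) (z : Fin b → F) (c : F) : (XW e GW z c)⁻¹ = XW e GW z (-c) := by
  apply inv_eq_of_mul_eq_one_right
  apply gl_ext_tn e
  intro x w
  rw [Units.val_mul, ← Matrix.mulVec_mulVec, XW_mulVec_tn e hW, XW_mulVec_tn e hW, Units.val_one,
    Matrix.one_mulVec]
  congr 1
  rw [bf_add_left, bf_smul_left, hW.alt, mul_zero, add_zero, add_assoc, ← add_smul]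
  have : -c * bf GW w z + c * bf GW w z = 0 := by ring
  rw [this, zero_smul, add_zero]

theorem LIB.XU_tn (hU : IsSymp GU) (u : Fin a → F) (c : F) (x : Fin a → F) (w : Fin b → F) :
    ((XU e GU u c : GL (Fin n) F) : Matrix (Fin n) (Fin n) F) *ᵥ tn e x w = tn e (TU GU u c *ᵥ x) w := by
  rw [XU_mulVec_tn e hU, TU_mulVec]

theorem LIB.mat_ext {m : ℕ} {A B : Matrix (Fin m) (Fin m) F} (h : ∀ x, A *ᵥ x = B *ᵥ x) : A = B := by
  have : Matrix.toLin' A = Matrix.toLin' B := by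
    apply LinearMap.ext
    intro x
    rw [Matrix.toLin'_apply, Matrix.toLin'_apply, h]
  exact Matrix.toLin'.injective this

theorem LIB.inM_of_tn {k : GL (Fin n) F} (hk : k ∈ M) {p v : Fin n → F} (hp : Q p = 0)
    (hpv : B Q p v = 0)
    (h : ∀ (u : Fin a → F) (w : Fin b → F), (k : Matrix (Fin n) (Fin n) F) *ᵥ tn e u w =
      mt Q (siegO Q p v hp hpv) *ᵥ tn e u w) : InM Q (MO Q M) p v := by
  refine ⟨hp, hpv, ?_⟩
  have hk' : ((siegO Q p v hp hpv : ↥(Cfsg.isometryGroup F ⇑Q)) : GL (Fin n) F) = k := by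
    apply gl_ext_tn e
    intro u w
    exact (h u w).symm
  show ((siegO Q p v hp hpv : ↥(Cfsg.isometryGroup F ⇑Q)) : GL (Fin n) F) ∈ M
  rw [hk']
  exact hk

end Cfsg.Agent.S5704P
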