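import Mathlib
import Cfsg.Agent.Helper15.S5704SEEDDefs2
import Cfsg.Agent.Helper11.S5704SEEDEGMUL
import Cfsg.Agent.Helper20.S5704SEEDEGINV
import Cfsg.Agent.Helper21.S5704SEEDEGCONJ

/-! # S5704, chapter SEED, piece EGCOMM (helper15): the commutator of an `EGp` element with `XU u s`. -/

set_option autoImplicit false
set_option linter.unusedSectionVars false
set_option linter.unusedVariables false

namespace Cfsg.Agent.S5704P

open Matrix Cfsg.Agent.S5637P Cfsg.Agent.S5704S Cfsg.Agent.Helper28.Sg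

variable {F : Type*} [Field F] {n a b : ℕ} (e : Fin n ≃ Fin a × Fin b)
variable {Q : QuadraticForm F (Fin n → F)} {GU : Matrix (Fin a) (Fin a) F}
  {GW : Matrix (Fin b) (Fin b) F} {M : Subgroup (GL (Fin n) F)}

theorem EGCOMM.main (hU : IsSymp GU) (hW : IsSymp GW) {z z1 : Fin b → F} (hzz1 : bf GW z1 z = 0)
    {Θ Θ' C : Matrix (Fin a) (Fin a) F} {k : GL (Fin n) F} (h : EGp e GW z z1 Θ Θ' C k)
    (u : Fin a → F) (s : F) :
    EGp e GW z z1 (TU GU u s * Θ * TU GU u (-s) - Θ) (TU GU u s * Θ' * TU GU u (-s) - Θ')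
      (TU GU u s * C * TU GU u (-s) - C) (XU e GU u s * k * (XU e GU u s)⁻¹ * k⁻¹) := by
  have h1 := EGCONJ.main e hU h u s
  have h2 := EGINV.main e hW hzz1 h
  have h3 := EGMUL.main e hW hzz1 h1 h2
  rw [← sub_eq_add_neg, ← sub_eq_add_neg, ← sub_eq_add_neg] at h3
  exact h3

end Cfsg.Agent.S5704P
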