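import Mathlib
import Cfsg.Agent.Helper15.S5704SEEDDefs2
import Cfsg.Agent.Helper15.S5704SEEDLIB
import Cfsg.Agent.Helper9.S5704CASE1
import Cfsg.Agent.Helper4.S5704SEEDSLICE
import Cfsg.Agent.Helper19.S5704SEEDPERPNS
import Cfsg.Agent.Helper9.S5704SEEDC2A
import Cfsg.Agent.Helper9.S5704SEEDC2BF
import Cfsg.Agent.Helper26.S5704GEND
import Cfsg.Agent.Helper14.S5704FILLW

/-! # S5704, chapter SEED (driver helper15): the assembly

`BAD e GW M` (an element of `M` in some radical `Q_z` that is not a Kronecker product) gives the Siegel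
root family (A) (and `4 ≤ a`) or the family (B).  Mathematics: helper24 (`departures/helper24_s5704_seed_math.md`);
CASE 1 helper9, GEND helper26, FILL helper14, pieces: board `s5704seedpieces`. -/

set_option autoImplicit false
set_option linter.unusedSectionVars false
set_option linter.unusedVariables false

namespace Cfsg.Agent.S5704P

open Matrix Cfsg.Agent.S5637P Cfsg.Agent.S5704S Cfsg.Agent.Helper28.Sg

variable {F : Type*} [Field F] {n a b : ℕ} (e : Fin n ≃ Fin a × Fin b)
variable {Q : QuadraticForm F (Fin n → F)} {GU : Matrix (Fin a) (Fin a) F}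
  {GW : Matrix (Fin b) (Fin b) F} {M : Subgroup (GL (Fin n) F)}

theorem SEED.main [Fintype F] (hC : Ctx e Q GU GW M) (hab : a < b)
    (hex : ¬ (Fintype.card F = 2 ∧ a = 2)) (hbad : BAD e GW M) :
    (4 ≤ a ∧ FamA e Q GU M) ∨ FamB e Q GW M := by
  obtain ⟨z, hz, g, hg, hrad, hnk⟩ := hbad
  have hU := hC.tdata.sympU
  have hW := hC.tdata.sympW
  by_cases hsc : ∀ w : Fin b → F, bf GW w z = 0 → ∃ lam : F, ∀ u : Fin a → F,
      (g : Matrix (Fin n) (Fin n) F) *ᵥ tn e u w = tn e u w + lam • tn e u z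
  · exact Or.inl (FILL.A e hC (CASE1.main e hC hz hg hrad hnk hsc))
  · push Not at hsc
    obtain ⟨z1, hzz1, hnl⟩ := hsc
    obtain ⟨Θ, hΘ⟩ := SLICE.main e hz hrad hzz1
    have hns : ¬ IsScal Θ := by
      rintro ⟨c, rfl⟩
      obtain ⟨u, hu⟩ := hnl c
      apply hu
      rw [hΘ u, smul_mulVec, one_mulVec, tn_smul_left]
    have hfix : FixV e z g := hrad.1
    have hz1 : NotMul z z1 := by
      intro c hc
      apply hns
      refine ⟨0, ?_⟩
      rw [zero_smul]
      apply LIB.mat_ext
      intro u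
      rw [zero_mulVec]
      have h1 := hΘ u
      rw [hc, tn_smul_right, mulVec_smul, hfix u] at h1
      have h2 : tn e (Θ *ᵥ u) z = 0 := by
        have h3 : c • tn e u z + tn e (Θ *ᵥ u) z = c • tn e u z + 0 := by
          rw [add_zero]; exact h1.symm
        exact add_left_cancel h3
      exact ((tn_eq_zero_iff e _ _).mp h2).resolve_right hz
    rcases hC.ha with ha | ha
    · have hq : 3 ≤ Fintype.card F := by
        have h2 : 1 < Fintype.card F := Fintype.one_lt_card
        by_contra h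
        exact hex ⟨by omega, ha⟩
      exact Or.inr (FILL.B e hC (C2A.main e hC ha hq hz hg hfix hzz1 hz1 hΘ hns))
    · obtain ⟨u, u', hu, huu', hind, hne⟩ := PERPNS.main hU (by omega) Θ hns
      have hG := fun (c : F) (p : Fin b → F) (hp : bf GW p z = 0) =>
        C2BF.main e hC hz hg hfix hzz1 hz1 hΘ huu' c p hp
      rcases GEND.main e hC ha (by omega) hz hu huu' hind hne hG with h | h
      · exact Or.inl (FILL.A e hC h)
      · exact Or.inr (FILL.B e hC h)

/-- the chapter in the shape used by helper24's `FINAL` (`SeedHyp`) -/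
theorem SEED.hyp [Fintype F] (hab : a < b) (hex : ¬ (Fintype.card F = 2 ∧ a = 2))
    (Q : QuadraticForm F (Fin n → F)) (GU : Matrix (Fin a) (Fin a) F)
    (GW : Matrix (Fin b) (Fin b) F) (M : Subgroup (GL (Fin n) F)) (hC : Ctx e Q GU GW M)
    (hB : BAD e GW M) : (4 ≤ a ∧ FamA e Q GU M) ∨ FamB e Q GW M :=
  SEED.main e hC hab hex hB

end Cfsg.Agent.S5704P
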