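import Mathlib

set_option autoImplicit false

/-! S5950, piece J-COUNT: the number of complementary pairs `(U, W)` with `dim U = m`. -/

namespace Cfsg.Agent.S5949P

/-- the projections onto `p` form a torsor under the maps from the quotient -/
noncomputable def complProjEquivQuot {F E : Type*} [Field F] [AddCommGroup E] [Module F E]
    (p : Submodule F E) (f0 : E →ₗ[F] p) (hf0 : ∀ x : p, f0 x = x) :
    { f : E →ₗ[F] p // ∀ x : p, f x = x } ≃ ((E ⧸ p) →ₗ[F] p) where
  toFun f := p.liftQ (f.1 - f0) (by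
    intro x hx
    rw [LinearMap.mem_ker, LinearMap.sub_apply, f.2 ⟨x, hx⟩, hf0 ⟨x, hx⟩, sub_self])
  invFun g := ⟨f0 + g ∘ₗ p.mkQ, by
    intro x
    rw [LinearMap.add_apply, hf0, LinearMap.comp_apply, Submodule.mkQ_apply,
      (Submodule.Quotient.mk_eq_zero p).mpr x.2, map_zero, add_zero]⟩
  left_inv f := by
    apply Subtype.ext
    show f0 + (p.liftQ (f.1 - f0) _) ∘ₗ p.mkQ = f.1
    rw [Submodule.liftQ_mkQ]
    abel
  right_inv g := by
    apply Submodule.linearMap_qext
    show (p.liftQ ((f0 + g ∘ₗ p.mkQ) - f0) _) ∘ₗ p.mkQ = g ∘ₗ p.mkQ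
    rw [Submodule.liftQ_mkQ]
    abel

theorem compl_fibre_card {F : Type*} [Field F] [Fintype F] {E : Type*} [AddCommGroup E]
    [Module F E] [FiniteDimensional F E] (p : Submodule F E) :
    Nat.card {W : Submodule F E // IsCompl p W} =
      Fintype.card F ^ (Module.finrank F p * (Module.finrank F E - Module.finrank F p)) := by
  obtain ⟨W0, hW0⟩ := Submodule.exists_isCompl p
  have e := p.isComplEquivProj.trans
    (complProjEquivQuot p (p.isComplEquivProj ⟨W0, hW0⟩).1 (p.isComplEquivProj ⟨W0, hW0⟩).2)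
  rw [Nat.card_congr e, Module.natCard_eq_pow_finrank (K := F), Module.finrank_linearMap,
    Submodule.finrank_quotient, Nat.card_eq_fintype_card, mul_comm]

/-- J-COUNT -/
theorem compl_count {F : Type*} [Field F] [Fintype F] (n m : ℕ) (hmn : m ≤ n) :
    Nat.card {P : Submodule F (Fin n → F) × Submodule F (Fin n → F) //
        IsCompl P.1 P.2 ∧ Module.finrank F ↥P.1 = m} =
      Nat.card {U : Submodule F (Fin n → F) // Module.finrank F ↥U = m} *
        Fintype.card F ^ (m * (n - m)) := by
  classical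
  let e : {P : Submodule F (Fin n → F) × Submodule F (Fin n → F) //
        IsCompl P.1 P.2 ∧ Module.finrank F ↥P.1 = m} ≃
      Σ U : {U : Submodule F (Fin n → F) // Module.finrank F ↥U = m},
        {W : Submodule F (Fin n → F) // IsCompl U.1 W} :=
    { toFun := fun P => ⟨⟨P.1.1, P.2.2⟩, ⟨P.1.2, P.2.1⟩⟩
      invFun := fun Q => ⟨(Q.1.1, Q.2.1), Q.2.2, Q.1.2⟩
      left_inv := fun _ => rfl
      right_inv := fun _ => rfl }
  have : Fintype {U : Submodule F (Fin n → F) // Module.finrank F ↥U = m} := Fintype.ofFinite _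
  rw [Nat.card_congr e, Nat.card_sigma]
  have hfib : ∀ U : {U : Submodule F (Fin n → F) // Module.finrank F ↥U = m},
      Nat.card {W : Submodule F (Fin n → F) // IsCompl U.1 W} =
        Fintype.card F ^ (m * (n - m)) := by
    intro U
    rw [compl_fibre_card, U.2, Module.finrank_fin_fun]
  rw [Finset.sum_congr rfl (fun U _ => hfib U), Finset.sum_const, Finset.card_univ,
    smul_eq_mul, Nat.card_eq_fintype_card]

end Cfsg.Agent.S5949P
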