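import Mathlib
import Cfsg.Agent.Helper21.S5950Defs

set_option autoImplicit false

/-! S5950, piece J-SPLIT: a nilpotent endomorphism of a nonzero space has an invariant cyclic
direct summand of dimension between `1` and the nilpotency bound. -/

namespace Cfsg.Agent.S5949P

namespace JT

theorem exists_split {F V : Type*} [Field F] [AddCommGroup V] [Module F V]
    [FiniteDimensional F V] (N : Module.End F V) (B : ℕ) (hN : N ^ B = 0) (hV : Nontrivial V) :
    ∃ Z V' : Submodule F V, IsCompl Z V' ∧ Z.map N ≤ Z ∧ V'.map N ≤ V' ∧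
      0 < Module.finrank F Z ∧ Module.finrank F Z ≤ B := by
  classical
  have hex : ∃ a, N ^ a = 0 := ⟨B, hN⟩
  obtain ⟨a, ha, hamin⟩ : ∃ a, N ^ a = 0 ∧ ∀ b, b < a → N ^ b ≠ 0 :=
    ⟨Nat.find hex, Nat.find_spec hex, fun b hb => Nat.find_min hex hb⟩
  have haB : a ≤ B := by
    by_contra h
    exact hamin B (by omega) hN
  have ha1 : 1 ≤ a := by
    by_contra h
    have h0 : a = 0 := by omega
    rw [h0, pow_zero] at ha
    obtain ⟨v, hv⟩ := exists_ne (0 : V)
    apply hv
    have := congrArg (fun f : Module.End F V => f v) ha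
    simpa using this
  have hmin : N ^ (a - 1) ≠ 0 := hamin (a - 1) (by omega)
  obtain ⟨z, hz⟩ : ∃ z, (N ^ (a - 1)) z ≠ 0 := by
    by_contra h
    apply hmin
    ext v
    by_contra hv
    exact h ⟨v, hv⟩
  obtain ⟨φ, hφ⟩ := Module.Projective.exists_dual_ne_zero F hz
  -- S and T
  let S : (Fin a → F) →ₗ[F] V := Fintype.linearCombination F (fun j : Fin a => (N ^ (j : ℕ)) z)
  let T : V →ₗ[F] (Fin a → F) := LinearMap.pi (fun j : Fin a => φ ∘ₗ (N ^ (j : ℕ)))
  have hS : ∀ c, S c = ∑ j, c j • (N ^ (j : ℕ)) z :=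
    fun c => Fintype.linearCombination_apply F _ c
  have hT : ∀ v (i : Fin a), T v i = φ ((N ^ (i : ℕ)) v) := fun v i => rfl
  have hTS : ∀ c (i : Fin a), T (S c) i = ∑ j : Fin a, c j * φ ((N ^ ((i : ℕ) + j)) z) := by
    intro c i
    rw [hT, hS, map_sum, map_sum]
    refine Finset.sum_congr rfl fun j _ => ?_
    rw [map_smul, map_smul, smul_eq_mul, pow_add, Module.End.mul_apply]
  have hinj : Function.Injective (T ∘ₗ S) := by
    rw [← LinearMap.ker_eq_bot, LinearMap.ker_eq_bot']
    intro c hc
    have key : ∀ k (hk : k < a), c ⟨k, hk⟩ = 0 := by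
      intro k
      induction k using Nat.strong_induction_on with
      | _ k ih =>
        intro hk
        have h0 : T (S c) ⟨a - 1 - k, by omega⟩ = 0 := by
          have := congrFun hc ⟨a - 1 - k, by omega⟩
          simpa using this
        rw [hTS, Finset.sum_eq_single ⟨k, hk⟩] at h0
        · have hak : a - 1 - k + k = a - 1 := by omega
          simp only [hak] at h0
          exact (mul_eq_zero.mp h0).resolve_right hφ
        · intro j _ hj
          have hjk : (j : ℕ) ≠ k := fun h => hj (Fin.ext h)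
          rcases lt_or_gt_of_ne hjk with h | h
          · have : c j = 0 := ih j h j.2
            rw [this, zero_mul]
          · have : N ^ (a - 1 - k + (j : ℕ)) = 0 := pow_eq_zero_of_le (by omega) ha
            simp [this]
        · intro h
          exact absurd (Finset.mem_univ _) h
    ext j
    exact key j j.2
  have hsurj : Function.Surjective (T ∘ₗ S) := LinearMap.injective_iff_surjective.mp hinj
  have hSinj : Function.Injective S := by
    intro x y hxy
    apply hinj
    show T (S x) = T (S y)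
    rw [hxy]
  refine ⟨LinearMap.range S, LinearMap.ker T, ?_, ?_, ?_, ?_, ?_⟩
  · constructor
    · rw [disjoint_iff, eq_bot_iff]
      rintro v ⟨⟨c, rfl⟩, hv⟩
      have hv' : (T ∘ₗ S) c = 0 := hv
      have hc : c = 0 := hinj (by rw [hv', map_zero])
      rw [hc, map_zero]
      exact Submodule.zero_mem _
    · rw [codisjoint_iff, eq_top_iff]
      intro v _
      obtain ⟨c, hc⟩ := hsurj (T v)
      rw [Submodule.mem_sup]
      refine ⟨S c, ⟨c, rfl⟩, v - S c, ?_, by abel⟩
      rw [LinearMap.mem_ker, map_sub]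
      have : T (S c) = T v := hc
      rw [this, sub_self]
  · have hZ : LinearMap.range S =
        Submodule.span F (Set.range fun j : Fin a => (N ^ (j : ℕ)) z) :=
      Fintype.range_linearCombination F _
    rw [hZ, Submodule.map_span_le]
    rintro _ ⟨j, rfl⟩
    show N ((N ^ (j : ℕ)) z) ∈ _
    rw [← Module.End.mul_apply, ← pow_succ']
    by_cases hj : (j : ℕ) + 1 < a
    · exact Submodule.subset_span ⟨⟨(j : ℕ) + 1, hj⟩, rfl⟩
    · have : N ^ ((j : ℕ) + 1) = 0 := pow_eq_zero_of_le (by omega) ha
      rw [this, LinearMap.zero_apply]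
      exact Submodule.zero_mem _
  · rintro _ ⟨v, hv, rfl⟩
    rw [SetLike.mem_coe, LinearMap.mem_ker] at hv
    rw [LinearMap.mem_ker]
    ext i
    rw [hT]
    show φ ((N ^ (i : ℕ)) (N v)) = 0
    rw [← Module.End.mul_apply, ← pow_succ]
    by_cases hi : (i : ℕ) + 1 < a
    · have := congrFun hv ⟨(i : ℕ) + 1, hi⟩
      exact this
    · have : N ^ ((i : ℕ) + 1) = 0 := pow_eq_zero_of_le (by omega) ha
      rw [this, LinearMap.zero_apply, map_zero]
  · rw [LinearMap.finrank_range_of_inj hSinj, Module.finrank_fin_fun]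
    omega
  · rw [LinearMap.finrank_range_of_inj hSinj, Module.finrank_fin_fun]
    exact haB

end JT

end Cfsg.Agent.S5949P
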