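import Mathlib

set_option autoImplicit false

/-! S5951 piece F-SYMM (helper15): `N(n, n-m) = N(n, m)` via dual annihilators. -/

namespace Cfsg.Agent.S5949P

open Polynomial

namespace SYMMaux

variable {F : Type*} [Field F] [Fintype F]

/-- `N(n,k) ≤ N(n,n-k)`: the dual annihilator, transported back by the standard basis. -/
theorem card_le (n k : ℕ) (hk : k ≤ n) :
    Nat.card {W : Submodule F (Fin n → F) // Module.finrank F ↥W = k} ≤
    Nat.card {W : Submodule F (Fin n → F) // Module.finrank F ↥W = n - k} := by
  classical
  have hV : Module.finrank F (Fin n → F) = n := by simp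
  let e : (Fin n → F) ≃ₗ[F] Module.Dual F (Fin n → F) := (Pi.basisFun F (Fin n)).toDualEquiv
  haveI : Finite (Submodule F (Fin n → F)) :=
    Finite.of_injective (fun W : Submodule F (Fin n → F) => (W : Set (Fin n → F)))
      SetLike.coe_injective
  let Φ : {W : Submodule F (Fin n → F) // Module.finrank F ↥W = k} →
      {W : Submodule F (Fin n → F) // Module.finrank F ↥W = n - k} := fun W =>
    ⟨(W.1.dualAnnihilator).map e.symm.toLinearMap, by
      rw [LinearEquiv.finrank_map_eq]
      have h := Subspace.finrank_add_finrank_dualAnnihilator_eq W.1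
      rw [W.2, hV] at h
      omega⟩
  apply Nat.card_le_card_of_injective Φ
  intro W W' h
  have h1 : (W.1.dualAnnihilator).map e.symm.toLinearMap =
      (W'.1.dualAnnihilator).map e.symm.toLinearMap := congrArg Subtype.val h
  have h2 : W.1.dualAnnihilator = W'.1.dualAnnihilator :=
    Submodule.map_injective_of_injective e.symm.injective h1
  exact Subtype.ext (Subspace.dualAnnihilator_inj.mp h2)

end SYMMaux

/-- F-SYMM (uses GAUSS) -/
theorem card_subspaces_symm {F : Type*} [Field F] [Fintype F] (n m : ℕ) (hmn : m ≤ n) :
    Nat.card {W : Submodule F (Fin n → F) // Module.finrank F ↥W = n - m} =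
    Nat.card {W : Submodule F (Fin n → F) // Module.finrank F ↥W = m} := by
  apply le_antisymm
  · have h := SYMMaux.card_le (F := F) n (n - m) (Nat.sub_le n m)
    rwa [Nat.sub_sub_self hmn] at h
  · exact SYMMaux.card_le (F := F) n m hmn

end Cfsg.Agent.S5949P
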