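import Mathlib

set_option autoImplicit false

/-! S5954, pieces MSUB and COMB2: multiset combinatorics. -/

namespace Cfsg.Agent.S5954P

namespace MSUB

theorem exists_le_of_le_map {α β : Type*} [DecidableEq β] (f : α → β) (s : Multiset α) :
    ∀ ν : Multiset β, ν ≤ s.map f → ∃ t : Multiset α, t ≤ s ∧ t.map f = ν := by
  induction s using Multiset.induction_on with
  | empty =>
    intro ν hν
    rw [Multiset.map_zero] at hν
    exact ⟨0, le_refl _, by rw [Multiset.le_zero.mp hν, Multiset.map_zero]⟩
  | cons a s ih =>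
    intro ν hν
    rw [Multiset.map_cons] at hν
    by_cases hmem : f a ∈ ν
    · have h1 : ν.erase (f a) ≤ s.map f := by
        have := Multiset.erase_le_erase (f a) hν
        rwa [Multiset.erase_cons_head] at this
      obtain ⟨t', ht', hmap⟩ := ih _ h1
      refine ⟨a ::ₘ t', Multiset.cons_le_cons a ht', ?_⟩
      rw [Multiset.map_cons, hmap, Multiset.cons_erase hmem]
    · have h1 : ν ≤ s.map f := (Multiset.le_cons_of_notMem hmem).mp hν
      obtain ⟨t', ht', hmap⟩ := ih _ h1
      exact ⟨t', ht'.trans (Multiset.le_cons_self s a), hmap⟩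

end MSUB

/-- MSUB: sub-multisets of the image of a finite family come from subsets -/
theorem exists_finset_of_le_map {t : ℕ} (f : Fin t → ℕ) (ν : Multiset ℕ)
    (h : ν ≤ (Finset.univ : Finset (Fin t)).val.map f) :
    ∃ S : Finset (Fin t), S.val.map f = ν := by
  obtain ⟨s, hs, hmap⟩ := MSUB.exists_le_of_le_map f _ ν h
  exact ⟨⟨s, Multiset.nodup_of_le hs (Finset.univ : Finset (Fin t)).nodup⟩, hmap⟩

namespace COMB2

theorem eq_replicate_add {μ : Multiset ℕ} (hμ : ∀ a ∈ μ, 0 < a ∧ a ≤ 2) :
    μ = Multiset.replicate (μ.count 1) 1 + Multiset.replicate (μ.count 2) 2 := by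
  ext x
  rw [Multiset.count_add, Multiset.count_replicate, Multiset.count_replicate]
  by_cases h1 : x = 1
  · subst h1
    simp
  · by_cases h2 : x = 2
    · subst h2
      simp
    · rw [if_neg (Ne.symm h1), if_neg (Ne.symm h2)]
      apply Multiset.count_eq_zero_of_notMem
      intro hx
      have := hμ x hx
      omega

theorem le_of_counts {μ : Multiset ℕ} (a' b' : ℕ) (ha : a' ≤ μ.count 1) (hb : b' ≤ μ.count 2) :
    Multiset.replicate a' 1 + Multiset.replicate b' 2 ≤ μ := by
  rw [Multiset.le_iff_count]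
  intro x
  rw [Multiset.count_add, Multiset.count_replicate, Multiset.count_replicate]
  by_cases h1 : x = 1
  · subst h1
    simpa using ha
  · by_cases h2 : x = 2
    · subst h2
      simpa using hb
    · rw [if_neg (Ne.symm h1), if_neg (Ne.symm h2)]
      exact Nat.zero_le _

theorem sum_replicate_add (a b : ℕ) :
    (Multiset.replicate a 1 + Multiset.replicate b 2).sum = a + 2 * b := by
  rw [Multiset.sum_add, Multiset.sum_replicate, Multiset.sum_replicate, smul_eq_mul, smul_eq_mul]
  ring

end COMB2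

/-- COMB2: the partition condition for `p = 2` -/
theorem part_cond_two (n m : ℕ) (hmn : m ≤ n) :
    (∀ μ : Multiset ℕ, (∀ a ∈ μ, 0 < a ∧ a ≤ 2) → μ.sum = n →
      ∃ ν : Multiset ℕ, ν ≤ μ ∧ ν.sum = m) ↔ (Odd n ∨ Even m) := by
  constructor
  · intro H
    by_contra hcon
    rw [not_or, Nat.not_odd_iff_even, Nat.not_even_iff_odd] at hcon
    obtain ⟨⟨k, hk⟩, hmo⟩ := hcon
    obtain ⟨ν, hν, hsum⟩ := H (Multiset.replicate k 2)
      (fun a ha => by rw [Multiset.eq_of_mem_replicate ha]; omega)
      (by rw [Multiset.sum_replicate, smul_eq_mul]; omega)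
    have hν2 : ν = Multiset.replicate (Multiset.card ν) 2 := by
      rw [Multiset.eq_replicate_card]
      intro b hb
      exact Multiset.eq_of_mem_replicate (Multiset.mem_of_le hν hb)
    rw [hν2, Multiset.sum_replicate, smul_eq_mul] at hsum
    obtain ⟨j, hj⟩ := hmo
    omega
  · intro hpar μ hμ hsum
    have hdec := COMB2.eq_replicate_add hμ
    have hn : n = μ.count 1 + 2 * μ.count 2 := by
      rw [← hsum]
      conv_lhs => rw [hdec]
      exact COMB2.sum_replicate_add _ _
    -- choose b' = min b (m / 2), a' = m - 2 b'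
    have hex : ∃ a' b' : ℕ, a' ≤ μ.count 1 ∧ b' ≤ μ.count 2 ∧ a' + 2 * b' = m := by
      rcases le_total (μ.count 2) (m / 2) with hb | hb
      · exact ⟨m - 2 * μ.count 2, μ.count 2, by omega, le_refl _, by omega⟩
      · refine ⟨m % 2, m / 2, ?_, hb, by omega⟩
        rcases hpar with ho | he
        · obtain ⟨j, hj⟩ := ho
          omega
        · obtain ⟨j, hj⟩ := he
          omega
    obtain ⟨a', b', ha', hb', hm⟩ := hex
    exact ⟨_, COMB2.le_of_counts a' b' ha' hb', by rw [COMB2.sum_replicate_add, hm]⟩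

end Cfsg.Agent.S5954P
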