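import Mathlib

set_option autoImplicit false

/-! S5955, piece ARITHSUFF: pure arithmetic for the sufficiency direction. -/

namespace Cfsg.Agent.S5955P

namespace ARITHSUFF

theorem decomp (c n κ : ℕ) (hc : 0 < c) (hκn : κ ≤ n) (hcdvd : c ∣ n - κ) :
    ∃ u b, κ = c * u + n % c ∧ n / c = u + b ∧ n - κ = c * b := by
  obtain ⟨b, hb⟩ := hcdvd
  have h1 : n = κ + c * b := by omega
  refine ⟨κ / c, b, ?_, ?_, hb⟩
  · have h2 : n % c = κ % c := by rw [h1, Nat.add_mul_mod_self_left]
    rw [h2]; exact (Nat.div_add_mod κ c).symm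
  · rw [h1, Nat.add_mul_div_left _ _ hc]

theorem even_choice (t b u m' : ℕ) (h3 : t + 2 * m' ≤ u + b) :
    ∃ s, s ≤ m' ∧ 2 * (m' - s) ≤ u ∧ (s = 0 ∨ t + 2 * s ≤ b + 1) := by
  by_cases hS : t + 1 ≤ b
  · refine ⟨min m' ((b + 1 - t) / 2), min_le_left _ _, ?_, Or.inr ?_⟩
    · rcases le_total m' ((b + 1 - t) / 2) with h | h
      · rw [min_eq_left h]; omega
      · rw [min_eq_right h]; omega
    · have := min_le_right m' ((b + 1 - t) / 2); omega
  · exact ⟨0, Nat.zero_le _, by omega, Or.inl rfl⟩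

end ARITHSUFF

/-- ARITHSUFF -/
theorem arith_suff (i c t n m κ : ℕ) (hi : 0 < i) (hc : c = if Even i then i else 2 * i)
    (hκn : κ ≤ n) (hκe : Even κ) (hcdvd : c ∣ n - κ) (hmn : 2 * m ≤ n)
    (h2 : 2 * (m % i) ≤ n % c) (h3 : Odd i ∨ t + 2 * (m / i) ≤ n / i) :
    ∃ a' s : ℕ, a' + i * s = m ∧ 2 * a' ≤ κ ∧
      (Odd i → 2 * i * s ≤ n - κ) ∧
      (Even i → s = 0 ∨ t * i + 2 * s * i ≤ (n - κ) + i) := by
  have hcpos : 0 < c := by
    rw [hc]; split_ifs <;> omega
  obtain ⟨u, b, hκ, hQ, hb⟩ := ARITHSUFF.decomp c n κ hcpos hκn hcdvd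
  have hk : n % c < c := Nat.mod_lt _ hcpos
  have hm : i * (m / i) + m % i = m := Nat.div_add_mod m i
  rcases Nat.even_or_odd i with hev | hodd
  · rw [if_pos hev] at hc
    subst c
    have h3' : t + 2 * (m / i) ≤ u + b := by
      rcases h3 with h3 | h3
      · exact absurd hev (Nat.not_even_iff_odd.mpr h3)
      · rw [hQ] at h3; exact h3
    obtain ⟨s, hs1, hs2, hs3⟩ := ARITHSUFF.even_choice t b u (m / i) h3'
    refine ⟨m % i + i * (m / i - s), s, ?_, ?_, ?_, ?_⟩
    · have e : i * (m / i - s) + i * s = i * (m / i) := by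
        rw [← Nat.mul_add, Nat.sub_add_cancel hs1]
      omega
    · have e : 2 * (i * (m / i - s)) ≤ i * u := by
        calc 2 * (i * (m / i - s)) = i * (2 * (m / i - s)) := by ring
          _ ≤ i * u := Nat.mul_le_mul_left i hs2
      omega
    · intro ho
      exact absurd hev (Nat.not_even_iff_odd.mpr ho)
    · intro _
      rcases hs3 with hs3 | hs3
      · exact Or.inl hs3
      · right
        rw [hb]
        calc t * i + 2 * s * i = i * (t + 2 * s) := by ring
          _ ≤ i * (b + 1) := Nat.mul_le_mul_left i hs3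
          _ = i * b + i := by ring
  · have hne : ¬ Even i := Nat.not_even_iff_odd.mpr hodd
    rw [if_neg hne] at hc
    subst c
    have e1 : 2 * i * u = 2 * (i * u) := Nat.mul_assoc 2 i u
    have e2 : 2 * i * b = 2 * (i * b) := Nat.mul_assoc 2 i b
    have e3 : i * (u + b + 1) = i * u + i * b + i := by ring
    have hlt : i * (m / i) < i * (u + b + 1) := by omega
    have hlt' : m / i < u + b + 1 := Nat.lt_of_mul_lt_mul_left hlt
    obtain ⟨j, hj1, hj2, hj3⟩ : ∃ j, j ≤ u ∧ j ≤ m / i ∧ m / i - j ≤ b := by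
      rcases le_total u (m / i) with h | h
      · exact ⟨u, le_refl _, h, by omega⟩
      · exact ⟨m / i, h, le_refl _, by omega⟩
    refine ⟨m % i + i * j, m / i - j, ?_, ?_, ?_, ?_⟩
    · have e : i * j + i * (m / i - j) = i * (m / i) := by
        rw [← Nat.mul_add, Nat.add_sub_cancel' hj2]
      omega
    · have e : i * j ≤ i * u := Nat.mul_le_mul_left i hj1
      omega
    · intro _
      rw [hb]
      exact Nat.mul_le_mul_left (2 * i) hj3
    · intro he
      exact absurd he hne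

end Cfsg.Agent.S5955P
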