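import Mathlib
import Cfsg.Prelude.Def_ClassicalGeometry
import Cfsg.Agent.Helper16.S5955Defs
import Cfsg.Agent.Helper28.SpFrames

set_option autoImplicit false
open scoped MatrixGroups

/-! S5955, piece COUNT: the number of totally isotropic `m`-spaces. -/

namespace Cfsg.Agent.S5955P

namespace COUNT

open Cfsg.Agent.Helper28.SpFrames

/-- the totally isotropic `m`-spaces -/
abbrev Om (F : Type*) [Field F] (d m : ℕ) :=
  {W : Submodule F (Fin d ⊕ Fin d → F) // Module.finrank F ↥W = m ∧
      (∀ u ∈ W, ∀ v ∈ W, Cfsg.sympForm d F u v = 0)}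

/-- the span of an isotropic frame -/
def spanMap {F : Type*} [Field F] (d m : ℕ) (x : Fr F d m) : Om F d m :=
  ⟨Submodule.span F (Set.range x.1), by
    rw [finrank_span_eq_card x.2.1, Fintype.card_fin], span_TI x⟩

theorem spanMap_eq_iff {F : Type*} [Field F] [Fintype F] (d m : ℕ) (x : Fr F d m)
    (W : Om F d m) : spanMap d m x = W ↔ ∀ i, x.1 i ∈ W.1 := by
  constructor
  · intro h i
    rw [← h]
    exact Submodule.subset_span ⟨i, rfl⟩
  · intro h
    apply Subtype.ext
    exact span_eq_of_mem W.1 W.2.1 x h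

end COUNT

open Cfsg.Agent.Helper28.SpFrames in
/-- COUNT -/
theorem card_ti_mul {F : Type*} [Field F] [Fintype F] (d m : ℕ) (hmd : m ≤ d) :
    Nat.card {W : Submodule F (Fin d ⊕ Fin d → F) // Module.finrank F ↥W = m ∧
      (∀ u ∈ W, ∀ v ∈ W, Cfsg.sympForm d F u v = 0)} *
      ∏ i ∈ Finset.range m, (Fintype.card F ^ m - Fintype.card F ^ i) =
    ∏ i ∈ Finset.range m, (Fintype.card F ^ (2 * d - i) - Fintype.card F ^ i) := by
  classical
  have hFr := card_Fr (F := F) (m := d) (q := Fintype.card F) rfl m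
  rw [← hFr]
  have : Fintype (COUNT.Om F d m) := Fintype.ofFinite _
  rw [← Nat.card_congr (Equiv.sigmaFiberEquiv (COUNT.spanMap (F := F) d m)), Nat.card_sigma]
  have hfib : ∀ W : COUNT.Om F d m,
      Nat.card {x : Fr F d m // COUNT.spanMap d m x = W} =
        ∏ i ∈ Finset.range m, (Fintype.card F ^ m - Fintype.card F ^ i) := by
    intro W
    rw [Nat.card_congr (Equiv.subtypeEquivRight (fun x => COUNT.spanMap_eq_iff d m x W)),
      Nat.card_congr (frameEquiv W.1 W.2.2)]
    have := card_linearIndependent (K := F) (V := W.1) (k := m) (by rw [W.2.1])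
    rw [W.2.1] at this
    rw [this, Finset.prod_range]
  rw [Finset.sum_congr rfl (fun W _ => hfib W), Finset.sum_const, Finset.card_univ,
    smul_eq_mul, Nat.card_eq_fintype_card]

end Cfsg.Agent.S5955P
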