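import Mathlib
import Cfsg.Prelude.Def_ClassicalGeometry

set_option autoImplicit false
open scoped MatrixGroups

/-! S5955, piece R2NEC: for `q = 3 mod 4` the symplectic element `J` has square `-1`
and all its invariant subspaces are even dimensional. -/

namespace Cfsg.Agent.S5955P

namespace R2NEC

theorem even_finrank_of_sq_neg_one {F W : Type*} [Field F] [AddCommGroup W] [Module F W]
    [FiniteDimensional F W] (hns : ¬ IsSquare (-1 : F)) (T : Module.End F W)
    (hT : T * T = -1) : Even (Module.finrank F W) := by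
  by_contra hodd
  rw [Nat.not_even_iff_odd] at hodd
  have h1 : LinearMap.det (T * T) = LinearMap.det T * LinearMap.det T := map_mul _ _ _
  have h2 : LinearMap.det (-1 : Module.End F W) = (-1) ^ (Module.finrank F W) := by
    have : (-1 : Module.End F W) = (-1 : F) • (1 : Module.End F W) := by
      rw [neg_smul, one_smul]
    rw [this, LinearMap.det_smul, map_one, mul_one]
  rw [hT, h2, hodd.neg_one_pow] at h1
  exact hns ⟨_, h1⟩

end R2NEC

/-- R2NEC -/
theorem exists_sq_derangement {F : Type*} [Field F] [Fintype F] (d : ℕ) (hd : 1 ≤ d)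
    (hq : Fintype.card F % 4 = 3) :
    ∃ x : Matrix.symplecticGroup (Fin d) F,
      (x : Matrix (Fin d ⊕ Fin d) (Fin d ⊕ Fin d) F) ^ 2 = (-1 : F) • 1 ∧
      (∀ z : F, (x : Matrix (Fin d ⊕ Fin d) (Fin d ⊕ Fin d) F) ≠ z • 1) ∧
      ∀ W : Submodule F (Fin d ⊕ Fin d → F),
        W.map (Matrix.toLin' (x : Matrix (Fin d ⊕ Fin d) (Fin d ⊕ Fin d) F)) ≤ W →
        Even (Module.finrank F W) := by
  classical
  have hns : ¬ IsSquare (-1 : F) := by
    rw [FiniteField.isSquare_neg_one_iff]
    omega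
  have hJJ : Matrix.J (Fin d) F * Matrix.J (Fin d) F = -1 := Matrix.J_squared (Fin d) F
  refine ⟨⟨Matrix.J (Fin d) F, SymplecticGroup.J_mem (Fin d) F⟩, ?_, ?_, ?_⟩
  · show Matrix.J (Fin d) F ^ 2 = (-1 : F) • 1
    rw [sq, hJJ, neg_smul, one_smul]
  · intro z hz
    have hz' : Matrix.J (Fin d) F = z • 1 := hz
    have h0 := congrFun (congrFun hz' (Sum.inl ⟨0, hd⟩)) (Sum.inr ⟨0, hd⟩)
    rw [Matrix.J, Matrix.fromBlocks_apply₁₂, Matrix.smul_apply, Matrix.one_apply_ne (by simp),
      smul_zero, Matrix.neg_apply, Matrix.one_apply_eq] at h0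
    exact one_ne_zero (neg_eq_zero.mp h0)
  · intro W hW
    have hW' : ∀ w ∈ W, Matrix.toLin' (Matrix.J (Fin d) F) w ∈ W := by
      intro w hw
      exact hW (Submodule.mem_map_of_mem hw)
    apply R2NEC.even_finrank_of_sq_neg_one hns ((Matrix.toLin' (Matrix.J (Fin d) F)).restrict hW')
    apply LinearMap.ext
    intro w
    apply Subtype.ext
    rw [Module.End.mul_apply, LinearMap.coe_restrict_apply, LinearMap.coe_restrict_apply,
      Matrix.toLin'_apply, Matrix.toLin'_apply, Matrix.mulVec_mulVec, hJJ, Matrix.neg_mulVec,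
      Matrix.one_mulVec]
    rfl

end Cfsg.Agent.S5955P
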