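import Mathlib
import Cfsg.Prelude.Def_ClassicalGeometry

set_option autoImplicit false
open scoped MatrixGroups Matrix

/-! S5956, piece MODEL2: the involution `[[1, S], [0, 1]]`, `S` the antidiagonal matrix. -/

namespace Cfsg.Agent.S5956P

namespace MODEL2

variable {F : Type*} [Field F]

/-- the antidiagonal permutation matrix -/
def S (F : Type*) [Field F] (d : ℕ) : Matrix (Fin d) (Fin d) F :=
  Matrix.of fun i j => if j = Fin.rev i then 1 else 0

theorem S_apply (d : ℕ) (i j : Fin d) : S F d i j = if j = Fin.rev i then 1 else 0 := rfl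

theorem S_transpose (d : ℕ) : (S F d).transpose = S F d := by
  ext i j
  rw [Matrix.transpose_apply, S_apply, S_apply]
  by_cases h : j = Fin.rev i
  · rw [if_pos h, if_pos (by rw [h, Fin.rev_rev])]
  · rw [if_neg h, if_neg (fun h' => h (by rw [h', Fin.rev_rev]))]

theorem S_mulVec (d : ℕ) (w : Fin d → F) (i : Fin d) : (S F d *ᵥ w) i = w (Fin.rev i) := by
  simp only [Matrix.mulVec, dotProduct, S_apply, ite_mul, one_mul, zero_mul]
  rw [Finset.sum_ite_eq' Finset.univ (Fin.rev i) w, if_pos (Finset.mem_univ _)]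

/-- the model involution -/
def xm (F : Type*) [Field F] (d : ℕ) : Matrix (Fin d ⊕ Fin d) (Fin d ⊕ Fin d) F :=
  Matrix.fromBlocks 1 (S F d) 0 1

theorem xm_mem (d : ℕ) : xm F d ∈ Matrix.symplecticGroup (Fin d) F := by
  rw [SymplecticGroup.mem_iff]
  unfold xm Matrix.J
  rw [Matrix.fromBlocks_transpose, Matrix.fromBlocks_multiply, Matrix.fromBlocks_multiply,
    S_transpose]
  simp

theorem xm_sq [CharP F 2] (d : ℕ) : xm F d * xm F d = 1 := by
  unfold xm
  rw [Matrix.fromBlocks_multiply]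
  have hSS : S F d + S F d = 0 := by
    ext i j
    rw [Matrix.add_apply, Matrix.zero_apply]
    exact CharTwo.add_self_eq_zero _
  simp only [Matrix.one_mul, Matrix.mul_one, Matrix.mul_zero, Matrix.zero_mul, add_zero,
    zero_add, hSS]
  exact Matrix.fromBlocks_one

theorem xm_mulVec (d : ℕ) (v : Fin d ⊕ Fin d → F) :
    xm F d *ᵥ v = Sum.elim (v ∘ Sum.inl + S F d *ᵥ (v ∘ Sum.inr)) (v ∘ Sum.inr) := by
  unfold xm
  rw [Matrix.fromBlocks_mulVec, Matrix.one_mulVec, Matrix.one_mulVec, Matrix.zero_mulVec,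
    zero_add]

theorem sum_rev_eq_zero [CharP F 2] (d : ℕ) (hd : Even d) (w : Fin d → F) :
    ∑ i, w i * w (Fin.rev i) = 0 := by
  apply Finset.sum_involution (fun i _ => Fin.rev i)
  · intro i _
    rw [Fin.rev_rev, mul_comm (w (Fin.rev i))]
    exact CharTwo.add_self_eq_zero _
  · intro i _ _ h
    have h1 := congrArg Fin.val h
    rw [Fin.val_rev] at h1
    obtain ⟨k, hk⟩ := hd
    have := i.2
    omega
  · intro i _
    exact Finset.mem_univ _
  · intro i _
    exact Fin.rev_rev i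

theorem dotProduct_sumElim_sumElim_aux {d : ℕ} (a b a' b' : Fin d → F) :
    (Sum.elim a b : Fin d ⊕ Fin d → F) ⬝ᵥ Sum.elim a' b' = a ⬝ᵥ a' + b ⬝ᵥ b' := by
  simp only [dotProduct, Fintype.sum_sum_type, Sum.elim_inl, Sum.elim_inr]

theorem form_eq (d : ℕ) (v : Fin d ⊕ Fin d → F) :
    Cfsg.sympForm d F v (xm F d *ᵥ v) = (v ∘ Sum.inr) ⬝ᵥ (S F d *ᵥ (v ∘ Sum.inr)) := by
  obtain ⟨a, b, rfl⟩ : ∃ a b, v = Sum.elim a b :=
    ⟨v ∘ Sum.inl, v ∘ Sum.inr, (Sum.elim_comp_inl_inr v).symm⟩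
  unfold Cfsg.sympForm Matrix.J
  rw [xm_mulVec, Matrix.fromBlocks_mulVec]
  simp only [Sum.elim_comp_inl, Sum.elim_comp_inr, Matrix.zero_mulVec, Matrix.one_mulVec,
    Matrix.neg_mulVec, zero_add, add_zero]
  rw [dotProduct_sumElim_sumElim_aux]
  rw [dotProduct_neg, dotProduct_add, dotProduct_comm b a]
  ring

/-- the projection onto the last `d` coordinates -/
def prR (F : Type*) [Field F] (d : ℕ) : (Fin d ⊕ Fin d → F) →ₗ[F] (Fin d → F) :=
  LinearMap.funLeft F F Sum.inr

theorem prR_apply (d : ℕ) (v : Fin d ⊕ Fin d → F) : prR F d v = v ∘ Sum.inr := rfl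

theorem prR_surjective (d : ℕ) : Function.Surjective (prR F d) := by
  intro a
  exact ⟨Sum.elim 0 a, rfl⟩

theorem ker_eq (d : ℕ) :
    LinearMap.ker (Matrix.toLin' (xm F d) - 1) = LinearMap.ker (prR F d) := by
  ext v
  rw [LinearMap.mem_ker, LinearMap.mem_ker, LinearMap.sub_apply, Matrix.toLin'_apply,
    Module.End.one_apply, prR_apply, xm_mulVec]
  constructor
  · intro h
    funext j
    have h1 := congrFun h (Sum.inl (Fin.rev j))
    rw [Pi.sub_apply, Sum.elim_inl, Pi.add_apply, S_mulVec, Fin.rev_rev, Function.comp_apply,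
      add_sub_cancel_left] at h1
    exact h1
  · intro h
    funext s
    rcases s with i | i
    · rw [Pi.sub_apply, Sum.elim_inl, Pi.add_apply, h, Matrix.mulVec_zero, Function.comp_apply,
        Pi.zero_apply, add_zero, sub_self]
      rfl
    · rw [Pi.sub_apply, Sum.elim_inr, Function.comp_apply, sub_self]
      rfl

end MODEL2

/-- MODEL2: the involution `[[1, S], [0, 1]]`, `S` the antidiagonal matrix (`d` even) -/
theorem exists_invol_model {F : Type*} [Field F] [CharP F 2] (d : ℕ) (hd : Even d)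
    (hd0 : 0 < d) :
    ∃ x : Matrix.symplecticGroup (Fin d) F,
      (x : Matrix (Fin d ⊕ Fin d) (Fin d ⊕ Fin d) F) *
        (x : Matrix (Fin d ⊕ Fin d) (Fin d ⊕ Fin d) F) = 1 ∧
      (∀ z : F, (x : Matrix (Fin d ⊕ Fin d) (Fin d ⊕ Fin d) F) ≠
        z • (1 : Matrix (Fin d ⊕ Fin d) (Fin d ⊕ Fin d) F)) ∧
      (∀ v : Fin d ⊕ Fin d → F, Cfsg.sympForm d F v
        (Matrix.toLin' (x : Matrix (Fin d ⊕ Fin d) (Fin d ⊕ Fin d) F) v) = 0) ∧
      Module.finrank F (LinearMap.ker
        (Matrix.toLin' (x : Matrix (Fin d ⊕ Fin d) (Fin d ⊕ Fin d) F) - 1)) = d := by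
  refine ⟨⟨MODEL2.xm F d, MODEL2.xm_mem d⟩, MODEL2.xm_sq d, ?_, ?_, ?_⟩
  · intro z hz
    have hz' : MODEL2.xm F d = z • 1 := hz
    have h0 := congrFun (congrFun hz' (Sum.inl ⟨0, hd0⟩)) (Sum.inr (Fin.rev ⟨0, hd0⟩))
    unfold MODEL2.xm at h0
    rw [Matrix.fromBlocks_apply₁₂, MODEL2.S_apply, if_pos rfl, Matrix.smul_apply,
      Matrix.one_apply_ne (by simp), smul_zero] at h0
    exact one_ne_zero h0
  · intro v
    show Cfsg.sympForm d F v (Matrix.toLin' (MODEL2.xm F d) v) = 0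
    rw [Matrix.toLin'_apply, MODEL2.form_eq, dotProduct]
    simp only [ MODEL2.S_mulVec]
    exact MODEL2.sum_rev_eq_zero d hd _
  · show Module.finrank F (LinearMap.ker (Matrix.toLin' (MODEL2.xm F d) - 1)) = d
    rw [ MODEL2.ker_eq]
    have h1 := LinearMap.finrank_range_add_finrank_ker (MODEL2.prR F d)
    rw [LinearMap.range_eq_top.mpr (MODEL2.prR_surjective d), finrank_top,
      Module.finrank_fin_fun, Module.finrank_fintype_fun_eq_card, Fintype.card_sum,
      Fintype.card_fin] at h1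
    omega

end Cfsg.Agent.S5956P
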