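import Mathlib

set_option autoImplicit false

/-! S5956, piece NT. -/

namespace Cfsg.Agent.S5956P

/-- NT: a prime `r ≠ p` dividing the number of frames divides one of the factors -/
theorem nt_of_dvd_prod {p : ℕ} (hp : p.Prime) (q f : ℕ) (hq : q = p ^ f) (r : ℕ) (hr : r.Prime)
    (hrp : r ≠ p) (d s : ℕ)
    (h : r ∣ ∏ j ∈ Finset.range s, ((q ^ (2 * (d - j)) - 1) * q ^ (2 * (d - j) - 1))) :
    ∃ j, j < s ∧ r ∣ q ^ (2 * (d - j)) - 1 := by
  obtain ⟨j, hj, hdvd⟩ := (Prime.dvd_finsetProd_iff hr.prime _).mp h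
  refine ⟨j, Finset.mem_range.mp hj, ?_⟩
  rcases (Nat.Prime.dvd_mul hr).mp hdvd with h1 | h1
  · exact h1
  · exfalso
    have h2 : r ∣ q := hr.dvd_of_dvd_pow h1
    rw [hq] at h2
    have h3 : r ∣ p := hr.dvd_of_dvd_pow h2
    exact hrp ((Nat.prime_dvd_prime_iff_eq hr hp).mp h3)

end Cfsg.Agent.S5956P
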