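import Mathlib

set_option autoImplicit false

/-! S5965, piece DIAG: an endomorphism with `x ^ r = 1` over a field containing a primitive `r`-th
root of unity has a basis of eigenvectors. -/

namespace Cfsg.Agent.S5965P

open Polynomial

namespace DIAG

theorem ker_aeval_X_sub_C {F V : Type*} [Field F] [AddCommGroup V] [Module F V]
    (x : Module.End F V) (μ : F) :
    LinearMap.ker (aeval x (X - C μ)) = Module.End.eigenspace x μ := by
  ext v
  rw [LinearMap.mem_ker, Module.End.mem_eigenspace_iff, map_sub, aeval_X, aeval_C,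
    LinearMap.sub_apply, Module.algebraMap_end_apply, sub_eq_zero]

theorem ker_aeval_prod {F V : Type*} [Field F] [AddCommGroup V] [Module F V]
    (x : Module.End F V) (s : Finset F) :
    LinearMap.ker (aeval x (∏ μ ∈ s, (X - C μ))) = ⨆ μ ∈ s, Module.End.eigenspace x μ := by
  classical
  induction s using Finset.induction_on with
  | empty =>
    rw [Finset.prod_empty, map_one]
    simp only [Finset.notMem_empty, not_false_eq_true, iSup_neg, iSup_bot]
    exact LinearMap.ker_id
  | insert μ s hμ ih =>
    have hcop : IsCoprime (X - C μ) (∏ ν ∈ s, (X - C ν)) := by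
      apply IsCoprime.prod_right
      intro ν hν
      apply Polynomial.isCoprime_X_sub_C_of_isUnit_sub
      rw [isUnit_iff_ne_zero, sub_ne_zero]
      rintro rfl
      exact hμ hν
    rw [Finset.prod_insert hμ, ← Polynomial.sup_ker_aeval_eq_ker_aeval_mul_of_coprime x hcop, ih,
      Finset.iSup_insert, ker_aeval_X_sub_C]

theorem iSup_eigenspace_eq_top {F V : Type*} [Field F] [AddCommGroup V] [Module F V]
    (r : ℕ) (hr : 0 < r) (ξ : F) (hξ : IsPrimitiveRoot ξ r)
    (x : Module.End F V) (hx : x ^ r = 1) : ⨆ μ : F, Module.End.eigenspace x μ = ⊤ := by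
  classical
  have h0 : aeval x (X ^ r - 1 : F[X]) = 0 := by
    rw [map_sub, map_pow, aeval_X, map_one, hx, sub_self]
  have h1 : LinearMap.ker (aeval x (X ^ r - 1 : F[X])) = ⊤ := by
    rw [h0]
    exact LinearMap.ker_zero
  rw [X_pow_sub_one_eq_prod hr hξ, ker_aeval_prod] at h1
  rw [eq_top_iff, ← h1]
  exact iSup₂_le_iSup _ _

end DIAG

/-- DIAG -/
theorem exists_eigenbasis {F V : Type*} [Field F] [AddCommGroup V] [Module F V]
    [FiniteDimensional F V] (r : ℕ) [Fact r.Prime] (ξ : F) (hξ : orderOf ξ = r)
    (x : Module.End F V) (hx : x ^ r = 1) (n : ℕ) (hV : Module.finrank F V = n) :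
    ∃ (b : Module.Basis (Fin n) F V) (e : Fin n → ZMod r), ∀ j, x (b j) = ξ ^ (e j).val • b j := by
  classical
  have hr : r.Prime := Fact.out
  haveI : NeZero r := ⟨hr.ne_zero⟩
  have hprim : IsPrimitiveRoot ξ r := hξ ▸ IsPrimitiveRoot.orderOf ξ
  have htop := DIAG.iSup_eigenspace_eq_top r hr.pos ξ hprim x hx
  have hint : DirectSum.IsInternal (fun μ : F => Module.End.eigenspace x μ) :=
    DirectSum.isInternal_submodule_of_iSupIndep_of_iSup_eq_top
      (Module.End.eigenspaces_iSupIndep x) htop
  let v : ∀ μ : F, Module.Basis (Fin (Module.finrank F (Module.End.eigenspace x μ))) F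
      (Module.End.eigenspace x μ) := fun μ => Module.finBasis F _
  let B := hint.collectedBasis v
  haveI : Fintype (Σ μ : F, Fin (Module.finrank F (Module.End.eigenspace x μ))) :=
    FiniteDimensional.fintypeBasisIndex B
  have hcard : Fintype.card (Σ μ : F, Fin (Module.finrank F (Module.End.eigenspace x μ))) = n := by
    rw [← hV, Module.finrank_eq_card_basis B]
  let eqv : (Σ μ : F, Fin (Module.finrank F (Module.End.eigenspace x μ))) ≃ Fin n :=
    Fintype.equivFinOfCardEq hcard
  let b : Module.Basis (Fin n) F V := B.reindex eqv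
  have hb : ∀ j, x (b j) = (eqv.symm j).1 • b j := by
    intro j
    have hmem : B (eqv.symm j) ∈ Module.End.eigenspace x (eqv.symm j).1 :=
      hint.collectedBasis_mem v (eqv.symm j)
    have hbj : b j = B (eqv.symm j) := Module.Basis.reindex_apply B eqv j
    rw [hbj]
    exact Module.End.mem_eigenspace_iff.mp hmem
  have hpow : ∀ j, ((eqv.symm j).1) ^ r = 1 := by
    intro j
    have h1 : (x ^ r) (b j) = ((eqv.symm j).1) ^ r • b j := by
      have : ∀ k : ℕ, (x ^ k) (b j) = ((eqv.symm j).1) ^ k • b j := by
        intro k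
        induction k with
        | zero => simp
        | succ k ih =>
          rw [pow_succ', Module.End.mul_apply, ih, map_smul, hb j, smul_smul, pow_succ]
      exact this r
    rw [hx, Module.End.one_apply] at h1
    have h2 : (((eqv.symm j).1) ^ r - 1) • b j = 0 := by
      rw [sub_smul, one_smul, ← h1, sub_self]
    rcases smul_eq_zero.mp h2 with h | h
    · exact sub_eq_zero.mp h
    · exact absurd h (b.ne_zero j)
  choose i hi hi' using fun j => hprim.eq_pow_of_pow_eq_one (hpow j)
  refine ⟨b, fun j => (i j : ZMod r), fun j => ?_⟩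
  rw [ZMod.val_natCast_of_lt (hi j), hi' j]
  exact hb j

end Cfsg.Agent.S5965P
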