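import Mathlib

set_option autoImplicit false

/-! S5965, piece RANKINV: the kernel of a matrix over a subfield has the same dimension over the
big field. -/

namespace Cfsg.Agent.S5965P

namespace RANKINV

theorem finrank_ker_add_rank {K : Type*} [Field K] (n : ℕ) (A : Matrix (Fin n) (Fin n) K) :
    Module.finrank K (LinearMap.ker (Matrix.toLin' A)) + A.rank = n := by
  have h := LinearMap.finrank_range_add_finrank_ker (Matrix.toLin' A)
  rw [Module.finrank_fin_fun] at h
  have h2 : A.rank = Module.finrank K (LinearMap.range (Matrix.toLin' A)) := by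
    rw [Matrix.rank, Matrix.toLin'_apply']
  omega

theorem rank_map {F : Type*} [Field F] (F₀ : Subfield F) (n : ℕ)
    (M₀ : Matrix (Fin n) (Fin n) F₀) : (M₀.map F₀.subtype).rank = M₀.rank := by
  classical
  obtain ⟨L, L', D, h⟩ :=
    Matrix.Pivot.exists_list_transvec_mul_mul_list_transvec_eq_diagonal M₀
  have hA : ((L.map Matrix.TransvectionStruct.toMatrix).prod).det = 1 :=
    Matrix.TransvectionStruct.det_toMatrix_prod L
  have hA' : ((L'.map Matrix.TransvectionStruct.toMatrix).prod).det = 1 :=
    Matrix.TransvectionStruct.det_toMatrix_prod L'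
  generalize (L.map Matrix.TransvectionStruct.toMatrix).prod = A at h hA
  generalize (L'.map Matrix.TransvectionStruct.toMatrix).prod = A' at h hA'
  have h1 : M₀.rank = Fintype.card {i // D i ≠ 0} := by
    rw [← Matrix.rank_diagonal D, ← h,
      Matrix.rank_mul_eq_left_of_isUnit_det A' _ (by rw [hA']; exact isUnit_one),
      Matrix.rank_mul_eq_right_of_isUnit_det A _ (by rw [hA]; exact isUnit_one)]
  have hmap : A.map F₀.subtype * M₀.map F₀.subtype * A'.map F₀.subtype =
      Matrix.diagonal (fun i => ((D i : F₀) : F)) := by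
    rw [← Matrix.map_mul, ← Matrix.map_mul, h, Matrix.diagonal_map (map_zero _)]
    rfl
  have hdetA : (A.map F₀.subtype).det = 1 := by
    rw [← RingHom.mapMatrix_apply, ← RingHom.map_det, hA, map_one]
  have hdetA' : (A'.map F₀.subtype).det = 1 := by
    rw [← RingHom.mapMatrix_apply, ← RingHom.map_det, hA', map_one]
  have h2 : (M₀.map F₀.subtype).rank = Fintype.card {i // ((D i : F₀) : F) ≠ 0} := by
    rw [← Matrix.rank_diagonal (fun i => ((D i : F₀) : F)), ← hmap,
      Matrix.rank_mul_eq_left_of_isUnit_det (A'.map F₀.subtype) _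
        (by rw [hdetA']; exact isUnit_one),
      Matrix.rank_mul_eq_right_of_isUnit_det (A.map F₀.subtype) _
        (by rw [hdetA]; exact isUnit_one)]
  rw [h1, h2]
  apply Fintype.card_congr
  refine Equiv.subtypeEquivRight (fun i => ?_)
  rw [Ne, Ne, ZeroMemClass.coe_eq_zero]

end RANKINV

/-- RANKINV -/
theorem finrank_ker_map {F : Type*} [Field F] (F₀ : Subfield F) (n : ℕ)
    (M₀ : Matrix (Fin n) (Fin n) F₀) :
    Module.finrank F (LinearMap.ker (Matrix.toLin' (M₀.map F₀.subtype))) =
      Module.finrank F₀ (LinearMap.ker (Matrix.toLin' M₀)) := by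
  have h1 := RANKINV.finrank_ker_add_rank n (M₀.map F₀.subtype)
  have h2 := RANKINV.finrank_ker_add_rank n M₀
  have h3 := RANKINV.rank_map F₀ n M₀
  omega

end Cfsg.Agent.S5965P
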