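import Mathlib
import Cfsg.Agent.Helper15.S5955ARITHSUFF

set_option autoImplicit false

/-! S5972, piece ARITHO: pure arithmetic for the sufficiency direction (odd dimension). -/

namespace Cfsg.Agent.S5972P

namespace ARITHO

theorem succ_mod_div (d e e' : ℕ) (he : e = 2 * e') (hepos : 0 < e) :
    (2 * d + 1) % e = (2 * d) % e + 1 ∧ (2 * d + 1) / e = (2 * d) / e := by
  have h1 := Nat.div_add_mod (2 * d) e
  have h2 := Nat.mod_lt (2 * d) hepos
  have h3 : e * (2 * d / e) = 2 * (e' * (2 * d / e)) := by rw [he, Nat.mul_assoc]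
  have h4 := (Nat.div_mod_unique hepos (a := 2 * d + 1) (d := 2 * d / e)
    (c := (2 * d) % e + 1)).mpr ⟨by omega, by omega⟩
  exact ⟨h4.2, h4.1⟩

end ARITHO

/-- ARITHO -/
theorem arith_suff_o (i c t d m κ n' : ℕ) (hi : 0 < i) (hc : c = if Even i then i else 2 * i)
    (hsum : κ + n' = 2 * d + 1) (hcdvd : c ∣ n') (hmd : m ≤ d)
    (h2 : 2 * (m % i) < (2 * d + 1) % c) (h3 : Odd i ∨ t + 2 * (m / i) ≤ (2 * d + 1) / i) :
    ∃ a' s : ℕ, a' + i * s = m ∧ 2 * a' + 1 ≤ κ ∧ (Odd i → 2 * i * s ≤ n') ∧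
      (Even i → s = 0 ∨ t * i + 2 * s * i ≤ n' + i) := by
  have hceven : ∃ c', c = 2 * c' := by
    rw [hc]
    split_ifs with h
    · obtain ⟨k, hk⟩ := h
      exact ⟨k, by omega⟩
    · exact ⟨i, rfl⟩
  obtain ⟨c', hc'⟩ := hceven
  have hcpos : 0 < c := by
    rw [hc]
    split_ifs <;> omega
  obtain ⟨km, _⟩ := ARITHO.succ_mod_div d c c' hc' hcpos
  obtain ⟨b, hb⟩ := hcdvd
  have hn'even : n' = 2 * (c' * b) := by rw [hb, hc', Nat.mul_assoc]
  have hκ1 : 1 ≤ κ := by omega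
  have hn' : 2 * d - (κ - 1) = n' := by omega
  have h3' : Odd i ∨ t + 2 * (m / i) ≤ (2 * d) / i := by
    rcases h3 with h | h
    · exact Or.inl h
    · rcases Nat.even_or_odd i with he | ho
      · right
        obtain ⟨k, hk⟩ := he
        obtain ⟨_, kd⟩ := ARITHO.succ_mod_div d i k (by omega) hi
        rw [← kd]
        exact h
      · exact Or.inl ho
  obtain ⟨a', s, e1, e2, e3, e4⟩ := Cfsg.Agent.S5955P.arith_suff i c t (2 * d) m (κ - 1) hi hc
    (by omega) ⟨d - c' * b, by omega⟩ (by rw [hn']; exact ⟨b, hb⟩) (by omega) (by omega) h3'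
  rw [hn'] at e3 e4
  exact ⟨a', s, e1, by omega, e3, e4⟩

end Cfsg.Agent.S5972P
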