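import Mathlib
import Cfsg.Prelude.Def_Classical
import Cfsg.Prelude.Def_GeometricClasses
import Cfsg.Agent.Helper5.S5973Defs
import Cfsg.Agent.Helper7.S5955PRODB
import Cfsg.Agent.Helper13.S5973HCANCEL

/-! S5973 + S5987, piece PRODQ: the orthogonal sum of a space without fixed vectors and a space
with trivial action. -/

set_option autoImplicit false
open scoped MatrixGroups

universe u

namespace Cfsg.Agent.S5973P

open Module Polynomial Cfsg.Agent.S5955P Cfsg.Agent.S5961P Cfsg.Agent.Helper2.SympInvol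
  Cfsg.Agent.Helper2.SympUnits

namespace PRODQ

variable {F V₁ V₂ : Type*} [Field F] [AddCommGroup V₁] [Module F V₁]
    [AddCommGroup V₂] [Module F V₂]

theorem polar_prod' (Q₁ : QuadraticForm F V₁) (Q₂ : QuadraticForm F V₂) (x y : V₁ × V₂) :
    QuadraticMap.polar (Q₁.prod Q₂) x y =
      QuadraticMap.polar Q₁ x.1 y.1 + QuadraticMap.polar Q₂ x.2 y.2 := by
  simp only [QuadraticMap.polar, QuadraticMap.prod_apply, Prod.fst_add, Prod.snd_add]
  abel

theorem nd_prod (Q₁ : QuadraticForm F V₁) (Q₂ : QuadraticForm F V₂) (h₁ : ND Q₁) (h₂ : ND Q₂) :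
    ND (Q₁.prod Q₂) := by
  apply HCANCEL.nd_of_left
  rintro ⟨v₁, v₂⟩ hv
  have e1 : v₁ = 0 := by
    apply HCANCEL.left_of_nd Q₁ h₁
    intro w
    have := hv (w, 0)
    rw [polar_prod'] at this
    simpa using this
  have e2 : v₂ = 0 := by
    apply HCANCEL.left_of_nd Q₂ h₂
    intro w
    have := hv (0, w)
    rw [polar_prod'] at this
    simpa using this
  rw [e1, e2]
  rfl

end PRODQ

open PRODQ PRODB in
/-- PRODQ: the orthogonal sum of a space without fixed vectors and a space with trivial action -/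
theorem prod_isYO {F V₁ V₂ : Type*} [Field F] [AddCommGroup V₁] [Module F V₁]
    [FiniteDimensional F V₁] [AddCommGroup V₂] [Module F V₂] [FiniteDimensional F V₂]
    (Q₁ : QuadraticForm F V₁) (Q₂ : QuadraticForm F V₂) (y₁ : Module.End F V₁) (r : ℕ)
    (h₁ : IsYO Q₁ y₁ r) (hfix : LinearMap.ker (y₁ - 1) = ⊥) (hQ₂ : ND Q₂) :
    IsYO (Q₁.prod Q₂) (y₁.prodMap 1) r ∧
    LinearMap.ker (y₁.prodMap (1 : Module.End F V₂) - 1) = (⊥ : Submodule F V₁).prod ⊤ ∧
    LinearMap.range (y₁.prodMap (1 : Module.End F V₂) - 1) = (⊤ : Submodule F V₁).prod ⊥ := by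
  refine ⟨⟨nd_prod Q₁ Q₂ h₁.nondeg hQ₂, ?_, ?_⟩, ?_, ?_⟩
  · rintro ⟨v₁, v₂⟩
    simp only [QuadraticMap.prod_apply, LinearMap.prodMap_apply, Module.End.one_apply, h₁.isom]
  · rw [prodMap_pow, h₁.pow, one_pow, LinearMap.prodMap_one]
  · rw [prodMap_sub_one, sub_self, LinearMap.ker_prodMap, hfix, LinearMap.ker_zero]
  · rw [prodMap_sub_one, sub_self, LinearMap.range_prodMap, LinearMap.range_zero]
    congr 1
    rw [LinearMap.range_eq_top]
    exact LinearMap.injective_iff_surjective.mp (LinearMap.ker_eq_bot.mp hfix)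

end Cfsg.Agent.S5973P
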