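import Mathlib
import Cfsg.Prelude.Def_Classical
import Cfsg.Prelude.Def_GeometricClasses
import Cfsg.Agent.Helper5.S5973Defs
import Cfsg.Agent.Helper13.S5973HYPISO
import Cfsg.Agent.Helper15.S5973PRODQ
import Cfsg.Agent.Helper13.S5973HYPSUM

/-! S5973 + S5987, piece PRODTYPE: the Witt type of an orthogonal sum `V₁ × V₂`. -/

set_option autoImplicit false
open scoped MatrixGroups

universe u

namespace Cfsg.Agent.S5973P

open Module Polynomial Cfsg.Agent.S5955P Cfsg.Agent.S5961P Cfsg.Agent.Helper2.SympInvol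
  Cfsg.Agent.Helper2.SympUnits

open PRODQ in
/-- PRODTYPE: the Witt type of an orthogonal sum -/
theorem isHyp_prod_iff {F V₁ V₂ : Type*} [Field F] [Fintype F] [AddCommGroup V₁] [Module F V₁]
    [FiniteDimensional F V₁] [AddCommGroup V₂] [Module F V₂] [FiniteDimensional F V₂]
    (Q₁ : QuadraticForm F V₁) (Q₂ : QuadraticForm F V₂) (h₁ : ND Q₁) (h₂ : ND Q₂)
    (he₁ : Even (finrank F V₁)) (he₂ : Even (finrank F V₂)) :
    IsHyp (Q₁.prod Q₂) ↔ (IsHyp Q₁ ↔ IsHyp Q₂) := by
  have hCN : IsCompl (LinearMap.range (LinearMap.inl F V₁ V₂))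
      (LinearMap.range (LinearMap.inr F V₁ V₂)) := LinearMap.isCompl_range_inl_inr
  have horth : POrth (Q₁.prod Q₂) (LinearMap.range (LinearMap.inl F V₁ V₂))
      (LinearMap.range (LinearMap.inr F V₁ V₂)) := by
    rintro _ ⟨a, rfl⟩ _ ⟨b, rfl⟩
    rw [polar_prod']
    simp
  have f1 : finrank F (LinearMap.range (LinearMap.inl F V₁ V₂)) = finrank F V₁ :=
    LinearMap.finrank_range_of_inj LinearMap.inl_injective
  have f2 : finrank F (LinearMap.range (LinearMap.inr F V₁ V₂)) = finrank F V₂ :=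
    LinearMap.finrank_range_of_inj LinearMap.inr_injective
  rw [isHyp_iff_of_orth (Q₁.prod Q₂) (nd_prod Q₁ Q₂ h₁ h₂) _ _ hCN horth (by rw [f1]; exact he₁)
    (by rw [f2]; exact he₂)]
  have i1 : IsHyp Q₁ ↔ IsHyp (resQ (Q₁.prod Q₂) (LinearMap.range (LinearMap.inl F V₁ V₂))) := by
    refine isHyp_of_isometry Q₁ _
      (LinearEquiv.ofInjective (LinearMap.inl F V₁ V₂) LinearMap.inl_injective) fun v => ?_
    rw [resQ_apply, LinearEquiv.ofInjective_apply, LinearMap.inl_apply, QuadraticMap.prod_apply,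
      map_zero, add_zero]
  have i2 : IsHyp Q₂ ↔ IsHyp (resQ (Q₁.prod Q₂) (LinearMap.range (LinearMap.inr F V₁ V₂))) := by
    refine isHyp_of_isometry Q₂ _
      (LinearEquiv.ofInjective (LinearMap.inr F V₁ V₂) LinearMap.inr_injective) fun v => ?_
    rw [resQ_apply, LinearEquiv.ofInjective_apply, LinearMap.inr_apply, QuadraticMap.prod_apply,
      map_zero, zero_add]
  rw [i1, i2]

end Cfsg.Agent.S5973P
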