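import Mathlib
import Cfsg.Prelude.Def_Classical
import Cfsg.Prelude.Def_GeometricClasses
import Cfsg.Agent.Helper5.S5973Defs
import Cfsg.Agent.Helper2.OInvE
import Cfsg.Agent.Helper16.S5973MODELX

/-! S5973 + S5987, piece GENNEC: the criterion `Crit` is necessary. -/

set_option autoImplicit false
open scoped MatrixGroups

universe u

namespace Cfsg.Agent.S5973P

open Module Polynomial Cfsg.Agent.S5955P Cfsg.Agent.S5961P Cfsg.Agent.Helper2.SympInvol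
  Cfsg.Agent.Helper2.SympUnits

/-- GENNEC: the criterion is necessary -/
theorem gen_nec {F : Type u} [Field F] [Fintype F] {p : ℕ} [Fact p.Prime] [CharP F p]
    (r : ℕ) [Fact r.Prime] (hr2 : r ≠ 2) (hrp : r ≠ p) {ι : Type} [Fintype ι] [DecidableEq ι]
    (Q₀ : QuadraticForm F (ι → F)) (hQ₀ : ND Q₀) (d : ℕ) (hd : 1 ≤ d)
    (hcard : Fintype.card ι = 2 * d) (hΩ : (2 : F) ≠ 0 ∨ Cfsg.Agent.Helper2.OInv.HOm Q₀)
    (hyp : Bool) (hhyp : IsHyp Q₀ ↔ hyp = true) (m : ℕ) (hm : 1 ≤ m) (hmd : m + 1 ≤ d)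
    (hall : ∀ x : GL ι F, x ∈ Cfsg.Geo.omegaGL ⇑Q₀ → x ^ r = 1 → x ≠ 1 →
      ∃ W : Submodule F (ι → F), finrank F W = m ∧ (∀ w ∈ W, Q₀ w = 0) ∧
        W.map (Matrix.toLin' (x : Matrix ι ι F)) ≤ W) :
    Crit hyp (orderOf ((Fintype.card F : ℕ) : ZMod r))
      ((r - 1) / orderOf ((Fintype.card F : ℕ) : ZMod r)) d m := by
  intro b κ hsum h0
  rcases Nat.eq_zero_or_pos b with hb | hb
  · subst hb
    rw [mul_zero, add_zero] at hsum
    refine ⟨m, 0, by rw [mul_zero, add_zero], Or.inl (by omega), fun _ => le_refl _,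
      fun _ => Or.inl rfl⟩
  · obtain ⟨x, hxΩ, hxr, hx1, hW⟩ :=
      exists_model_omega r hr2 hrp Q₀ hQ₀ d hd hcard hΩ hyp hhyp b κ hb hsum h0
    obtain ⟨W, hWm, hWts, hWx⟩ := hall x hxΩ hxr hx1
    obtain ⟨a', s, hfin, hbound, hodd, hev⟩ := hW W hWx hWts
    exact ⟨a', s, by rw [← hfin, hWm], hbound, hodd, hev⟩

end Cfsg.Agent.S5973P
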