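import Mathlib
import Cfsg.Prelude.Def_Classical
import Cfsg.Prelude.Def_GeometricClasses
import Cfsg.Agent.Helper5.S5973Defs
import Cfsg.Agent.Helper21.S5977OmegaAdj
import Cfsg.Agent.Helper8.S5973R2NEC1
import Cfsg.Agent.Helper8.S5973R2NEC2

/-! S5973 + S5987, piece R2NEC: necessity for `r = 2` (assembly). -/

set_option autoImplicit false
open scoped MatrixGroups

universe u

namespace Cfsg.Agent.S5973P

open Module Cfsg.Agent.Helper28 Cfsg.Agent.Helper28.Spin

section Matrix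

variable {F : Type*} [Field F] [Fintype F] {ι : Type} [Fintype ι] [DecidableEq ι]

namespace R2NEC

/-- a power of a square is a square -/
theorem isSquare_two_pow_of_even (d : ℕ) (hd : Even d) : IsSquare ((2 : F) ^ d) := by
  obtain ⟨k, rfl⟩ := hd
  exact ⟨2 ^ k, by rw [pow_add]⟩

/-- using `hall` on an element with `x * x = z • 1` -/
theorem use_hall (Q : QuadraticForm F (ι → F)) (m : ℕ)
    (hall : ∀ x : GL ι F, x ∈ Cfsg.Geo.omegaGL ⇑Q →
      (∃ z : F, ((x ^ 2 : GL ι F) : Matrix ι ι F) = z • (1 : Matrix ι ι F)) →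
      (∀ z : F, (x : Matrix ι ι F) ≠ z • (1 : Matrix ι ι F)) →
      ∃ W : Submodule F (ι → F), finrank F W = m ∧ (∀ w ∈ W, Q w = 0) ∧
        W.map (Matrix.toLin' (x : Matrix ι ι F)) ≤ W)
    (x : GL ι F) (hx : x ∈ Cfsg.Geo.omegaGL ⇑Q) (z : F)
    (hxx : (x : Matrix ι ι F) * (x : Matrix ι ι F) = z • (1 : Matrix ι ι F))
    (hns : ∀ z : F, (x : Matrix ι ι F) ≠ z • (1 : Matrix ι ι F)) :
    ∃ W : Submodule F (ι → F), finrank F W = m ∧ (∀ w ∈ W, Q w = 0) ∧
        W.map (Matrix.toLin' (x : Matrix ι ι F)) ≤ W := by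
  refine hall x hx ⟨z, ?_⟩ hns
  rw [← hxx, sq]
  rfl

end R2NEC

open R2NEC in
/-- R2NEC: necessity for `r = 2` -/
theorem r2_nec (h2 : (2 : F) ≠ 0) (Q : QuadraticForm F (ι → F)) (hQ : ND Q) (d : ℕ) (hd : 2 ≤ d)
    (hcard : Fintype.card ι = 2 * d) (hyp : Bool) (hhyp : IsHyp Q ↔ hyp = true) (m : ℕ)
    (hm : 1 ≤ m) (hmd : m + 1 ≤ d)
    (hall : ∀ x : GL ι F, x ∈ Cfsg.Geo.omegaGL ⇑Q →
      (∃ z : F, ((x ^ 2 : GL ι F) : Matrix ι ι F) = z • (1 : Matrix ι ι F)) →
      (∀ z : F, (x : Matrix ι ι F) ≠ z • (1 : Matrix ι ι F)) →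
      ∃ W : Submodule F (ι → F), finrank F W = m ∧ (∀ w ∈ W, Q w = 0) ∧
        W.map (Matrix.toLin' (x : Matrix ι ι F)) ≤ W) :
    if hyp = true then
        (Fintype.card F % 4 = 1 ∨ (Fintype.card F % 4 = 3 ∧ m + 2 ≤ d ∧ (Even m ∨ Odd d)))
      else (Even d ∨ Even m ∨ Fintype.card F % 8 ≠ 7) := by
  classical
  have hodd : Fintype.card F % 2 = 1 := Nat.odd_iff.1 (card_odd h2)
  cases hyp with
  | true =>
    rw [if_pos rfl]
    have hH : IsHyp Q := hhyp.2 rfl
    by_cases h41 : Fintype.card F % 4 = 1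
    · exact Or.inl h41
    · right
      have h43 : Fintype.card F % 4 = 3 := by omega
      have hneg : ¬ IsSquare (-1 : F) := by
        rw [FiniteField.isSquare_neg_one_iff]
        omega
      refine ⟨h43, ?_, ?_⟩
      · obtain ⟨x, hxΩ, hxx, hns, hW⟩ := exists_bad_invol h2 hneg Q hQ d hd hcard hH
        obtain ⟨W, hWm, hWts, hWx⟩ := use_hall Q m hall x hxΩ 1 (by rw [hxx, one_smul]) hns
        have := hW W hWx hWts
        omega
      · by_contra hcon
        rw [not_or, Nat.not_even_iff_odd, Nat.not_odd_iff_even] at hcon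
        obtain ⟨hmo, hde⟩ := hcon
        obtain ⟨x, hxΩ, hxx, hns, hW⟩ := exists_bad_neg h2 hneg Q hQ d (by omega) hcard
          ⟨fun _ => hde, fun _ => hH⟩ (isSquare_two_pow_of_even d hde)
        obtain ⟨W, hWm, hWts, hWx⟩ :=
          use_hall Q m hall x hxΩ (-1) (by rw [hxx, neg_smul, one_smul]) hns
        have := hW W hWx
        rw [hWm] at this
        exact (Nat.not_even_iff_odd.2 hmo) this
  | false =>
    rw [if_neg (by simp)]
    have hH : ¬ IsHyp Q := fun h => by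
      have := hhyp.1 h
      simp at this
    by_contra hcon
    rw [not_or, not_or, Nat.not_even_iff_odd, Nat.not_even_iff_odd, not_not] at hcon
    obtain ⟨hdo, hmo, h87⟩ := hcon
    have hneg : ¬ IsSquare (-1 : F) := by
      rw [FiniteField.isSquare_neg_one_iff]
      omega
    have h2s : IsSquare (2 : F) := by
      rw [FiniteField.isSquare_two_iff]
      omega
    obtain ⟨x, hxΩ, hxx, hns, hW⟩ := exists_bad_neg h2 hneg Q hQ d (by omega) hcard
      ⟨fun h => absurd h hH, fun h => absurd h (Nat.not_even_iff_odd.2 hdo)⟩ (h2s.pow d)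
    obtain ⟨W, hWm, hWts, hWx⟩ :=
      use_hall Q m hall x hxΩ (-1) (by rw [hxx, neg_smul, one_smul]) hns
    have := hW W hWx
    rw [hWm] at this
    exact (Nat.not_even_iff_odd.2 hmo) this

end Matrix

end Cfsg.Agent.S5973P
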