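import Mathlib
import Cfsg.Prelude.Def_Classical
import Cfsg.Prelude.Def_GeometricClasses
import Cfsg.Agent.Helper5.S5973Defs
import Cfsg.Agent.Helper21.S5977OmegaAdj
import Cfsg.Agent.Helper21.S5977BSMALL
import Cfsg.Agent.Helper21.S5973R2SPIN2
import Cfsg.Agent.Helper23.S5973R2SUFF1
import Cfsg.Agent.Helper8.S5973R2SUFF2
import Cfsg.Agent.Helper21.S5973R2TYPE

/-! S5973 + S5987, piece R2SUFF: sufficiency for `r = 2` (assembly). -/

set_option autoImplicit false
open scoped MatrixGroups

universe u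

namespace Cfsg.Agent.S5973P

open Module Cfsg.Agent.Helper28 Cfsg.Agent.Helper28.Spin

section Matrix

variable {F : Type*} [Field F] [Fintype F] {ι : Type} [Fintype ι] [DecidableEq ι]

/-- R2SUFF: sufficiency for `r = 2` -/
theorem r2_suff (h2 : (2 : F) ≠ 0) (Q : QuadraticForm F (ι → F)) (hQ : ND Q) (d : ℕ) (hd : 1 ≤ d)
    (hcard : Fintype.card ι = 2 * d) (hyp : Bool) (hhyp : IsHyp Q ↔ hyp = true) (m : ℕ)
    (hm : 1 ≤ m) (hmd : m + 1 ≤ d)
    (hcond : if hyp = true then
        (Fintype.card F % 4 = 1 ∨ (Fintype.card F % 4 = 3 ∧ m + 2 ≤ d ∧ (Even m ∨ Odd d)))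
      else (Even d ∨ Even m ∨ Fintype.card F % 8 ≠ 7))
    (x : GL ι F) (hx : x ∈ Cfsg.Geo.omegaGL ⇑Q) (z : F)
    (hxz : ((x ^ 2 : GL ι F) : Matrix ι ι F) = z • (1 : Matrix ι ι F)) :
    ∃ W : Submodule F (ι → F), finrank F W = m ∧ (∀ w ∈ W, Q w = 0) ∧
      W.map (Matrix.toLin' (x : Matrix ι ι F)) ≤ W := by
  classical
  obtain ⟨hxI, -⟩ := (Cfsg.Agent.S5977B.mem_omegaGL_iff Q x).1 hx
  have hx' : ∀ v, Q ((x : Matrix ι ι F).mulVec v) = Q v :=
    (Cfsg.Agent.Helper28.IsoTransport.mem_isometryGroup_iff _ _).1 hxI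
  haveI hne : Nonempty ι := by
    apply Fintype.card_pos_iff.1
    omega
  have hxz' : (x : Matrix ι ι F) * (x : Matrix ι ι F) = z • 1 := by
    rw [← hxz, sq]
    rfl
  rcases Cfsg.Agent.S5977B.sq_eq_one_or_neg_one Q hQ (x : Matrix ι ι F) hx' z hxz' with h1 | h1
  · -- involution
    refine r2_suff_invol h2 Q hQ d hcard hyp hhyp m hmd ?_ x hx h1
    intro ht
    rw [if_pos ht] at hcond
    rcases hcond with h | ⟨_, h, _⟩
    · exact Or.inl h
    · exact Or.inr h
  · by_cases hc : Fintype.card F % 4 = 1 ∨ Even m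
    · exact r2_suff_neg h2 Q hQ d hcard m hmd hc (x : Matrix ι ι F) hx' h1
    · exfalso
      rw [not_or] at hc
      obtain ⟨hc1, hc2⟩ := hc
      have hodd : Fintype.card F % 2 = 1 := Nat.odd_iff.1 (card_odd h2)
      have h43 : Fintype.card F % 4 = 3 := by omega
      have hneg : ¬ IsSquare (-1 : F) := by
        rw [FiniteField.isSquare_neg_one_iff]
        omega
      have hty := type_of_sq_neg_one h2 hneg Q hQ d hcard (x : Matrix ι ι F) hx' h1
      have hsq := (omega_of_sq_neg_one h2 Q hQ d hcard x hxI h1).1 hx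
      cases hyp with
      | true =>
        rw [if_pos rfl] at hcond
        have hde : Even d := hty.1 (hhyp.2 rfl)
        rcases hcond with h | ⟨_, _, h | h⟩
        · omega
        · exact hc2 h
        · exact (Nat.not_even_iff_odd.2 h) hde
      | false =>
        rw [if_neg (by simp)] at hcond
        have hdo : ¬ Even d := fun h => by
          have := hhyp.1 (hty.2 h)
          simp at this
        rcases hcond with h | h | h
        · exact hdo h
        · exact hc2 h
        · have h2ns : ¬ IsSquare (2 : F) := by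
            rw [FiniteField.isSquare_two_iff]
            omega
          obtain ⟨k, hk⟩ := Nat.not_even_iff_odd.1 hdo
          apply h2ns
          obtain ⟨s, hs⟩ := hsq
          have hk0 : (2 : F) ^ k ≠ 0 := pow_ne_zero _ h2
          refine ⟨s / 2 ^ k, ?_⟩
          field_simp
          rw [sq s, ← hs, hk]
          ring

end Matrix

end Cfsg.Agent.S5973P
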