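import Mathlib
import Cfsg.Prelude.Def_GeometricClasses
import Cfsg.Prelude.Def_Classical
import Cfsg.Prelude.Def_LieClassical
import Cfsg.Agent.Helper16.S5974Defs
import Cfsg.Agent.Helper13.S5973HYPSUM
import Cfsg.Agent.Helper13.S5973HYPISO
import Cfsg.Agent.Helper15.S5992SUPND

/-! S5974 piece TYPESUMQ (driver helper16): the Witt type of an orthogonal sum of nondegenerate
even-dimensional subspaces, every characteristic. -/

set_option autoImplicit false
open scoped MatrixGroups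
universe u

namespace Cfsg.Agent.S5974P

open Module Cfsg.Agent.S5973P Cfsg.Agent.Helper2.SympInvol Cfsg.Agent.Helper2.SympUnits
  Cfsg.Agent.S5961P
open Cfsg.Agent.S5992P (PB Plus IsTy TS)

/-- TYPESUMQ -/
theorem plus_sup_iff_q {F V : Type*} [Field F] [Fintype F] [AddCommGroup V] [Module F V]
    [FiniteDimensional F V] (Q : QuadraticForm F V) (W₁ W₂ : Submodule F V)
    (h₁ : Nondeg (PB Q) W₁) (h₂ : Nondeg (PB Q) W₂) (ho : Orth (PB Q) W₁ W₂)
    (he₁ : Even (finrank F W₁)) (he₂ : Even (finrank F W₂)) :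
    Plus Q (W₁ ⊔ W₂) ↔ (Plus Q W₁ ↔ Plus Q W₂) := by
  obtain ⟨hnd, hdisj, -⟩ := Cfsg.Agent.S5992P.nondeg_sup_orth Q W₁ W₂ h₁ h₂ ho
  have hle₁ : W₁ ≤ W₁ ⊔ W₂ := le_sup_left
  have hle₂ : W₂ ≤ W₁ ⊔ W₂ := le_sup_right
  set W : Submodule F V := W₁ ⊔ W₂ with hW
  set C : Submodule F W := W₁.comap W.subtype with hCdef
  set N : Submodule F W := W₂.comap W.subtype with hNdef
  have hNDW : ND (resQ Q W) := (nd_resQ_iff Q W).mpr hnd
  have hCN : IsCompl C N := by
    constructor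
    · rw [Submodule.disjoint_def]
      intro x hx1 hx2
      have hx0 : (x : V) = 0 := (Submodule.disjoint_def.mp hdisj) (x : V) hx1 hx2
      exact Subtype.ext hx0
    · rw [codisjoint_iff, eq_top_iff]
      intro x _
      obtain ⟨a, ha, b, hb, hab⟩ := Submodule.mem_sup.mp x.2
      rw [Submodule.mem_sup]
      exact ⟨⟨a, hle₁ ha⟩, ha, ⟨b, hle₂ hb⟩, hb, Subtype.ext hab⟩
  have horth : POrth (resQ Q W) C N := by
    intro a ha b hb
    rw [polar_resQ]
    exact ho (a : V) ha (b : V) hb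
  let e₁ : C ≃ₗ[F] W₁ := Submodule.comapSubtypeEquivOfLe hle₁
  let e₂ : N ≃ₗ[F] W₂ := Submodule.comapSubtypeEquivOfLe hle₂
  have hC : Even (finrank F C) := by rw [e₁.finrank_eq]; exact he₁
  have hN : Even (finrank F N) := by rw [e₂.finrank_eq]; exact he₂
  have hsum := isHyp_iff_of_orth (resQ Q W) hNDW C N hCN horth hC hN
  have t₁ : IsHyp (resQ (resQ Q W) C) ↔ IsHyp (resQ Q W₁) :=
    isHyp_of_isometry (resQ (resQ Q W) C) (resQ Q W₁) e₁ (fun _ => rfl)
  have t₂ : IsHyp (resQ (resQ Q W) N) ↔ IsHyp (resQ Q W₂) :=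
    isHyp_of_isometry (resQ (resQ Q W) N) (resQ Q W₂) e₂ (fun _ => rfl)
  rw [← isHyp_resQ_iff, ← isHyp_resQ_iff, ← isHyp_resQ_iff, hsum, t₁, t₂]

end Cfsg.Agent.S5974P
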