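import Mathlib
import Cfsg.Prelude.Def_GeometricClasses
import Cfsg.Prelude.Def_ClassicalGeometry
import Cfsg.Agent.Helper29.S5976Defs

set_option autoImplicit false
open scoped MatrixGroups

/-! S5976, piece INV1: the diagonal `±1` involution commuting with the standard generator. -/

namespace Cfsg.Agent.S5976P

namespace INV1

/-- matrices with `Aᵀ J A = J` preserve the symplectic form -/
theorem preserves_of_transpose {F : Type*} [Field F] (d : ℕ)
    (A : Matrix (Fin d ⊕ Fin d) (Fin d ⊕ Fin d) F)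
    (h : A.transpose * Matrix.J (Fin d) F * A = Matrix.J (Fin d) F) (u v : Fin d ⊕ Fin d → F) :
    Cfsg.sympForm d F (A.mulVec u) (A.mulVec v) = Cfsg.sympForm d F u v := by
  rw [sympForm_eq, sympForm_eq, ← Matrix.vecMul_transpose A u, ← Matrix.dotProduct_mulVec,
    Matrix.mulVec_mulVec, Matrix.mulVec_mulVec, h]

/-- the sign vector -/
def sgn (F : Type*) [Field F] (d a : ℕ) : Fin d → F := fun b => if (b : ℕ) < a then 1 else -1

theorem sgn_mul_sgn (F : Type*) [Field F] (d a : ℕ) (b : Fin d) : sgn F d a b * sgn F d a b = 1 := by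
  unfold sgn
  split_ifs <;> simp

/-- the model involution -/
def ymat (F : Type*) [Field F] (d a : ℕ) : Matrix (Fin d ⊕ Fin d) (Fin d ⊕ Fin d) F :=
  Matrix.fromBlocks (Matrix.diagonal (sgn F d a)) 0 0 (Matrix.diagonal (sgn F d a))

theorem diag_sq (F : Type*) [Field F] (d a : ℕ) :
    Matrix.diagonal (sgn F d a) * Matrix.diagonal (sgn F d a) = 1 := by
  rw [Matrix.diagonal_mul_diagonal, ← Matrix.diagonal_one]
  congr 1
  funext b
  exact sgn_mul_sgn F d a b

theorem ymat_sq (F : Type*) [Field F] (d a : ℕ) : ymat F d a * ymat F d a = 1 := by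
  unfold ymat
  rw [Matrix.fromBlocks_multiply, ← Matrix.fromBlocks_one]
  simp only [Matrix.mul_zero, Matrix.zero_mul, add_zero, zero_add, diag_sq]

theorem ymat_J (F : Type*) [Field F] (d a : ℕ) :
    (ymat F d a).transpose * Matrix.J (Fin d) F * ymat F d a = Matrix.J (Fin d) F := by
  unfold ymat Matrix.J
  rw [Matrix.fromBlocks_transpose, Matrix.fromBlocks_multiply, Matrix.fromBlocks_multiply]
  simp only [Matrix.diagonal_transpose, Matrix.transpose_zero, Matrix.mul_zero, Matrix.zero_mul,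
    Matrix.mul_one, Matrix.mul_neg, Matrix.neg_mul, add_zero, zero_add, diag_sq, neg_zero]

theorem ymat_iota0 (F : Type*) [Field F] (d a : ℕ) (t n : F) :
    ymat F d a * iota0 d F t n = iota0 d F t n * ymat F d a := by
  unfold ymat iota0
  rw [Matrix.fromBlocks_multiply, Matrix.fromBlocks_multiply]
  congr 1 <;> simp

theorem card_sgn (F : Type*) [Field F] (h2 : (2 : F) ≠ 0) (d a : ℕ) (ha : a ≤ d) :
    Nat.card {b : Fin d // sgn F d a b - 1 ≠ 0} = d - a := by
  classical
  have h1 : ∀ b : Fin d, sgn F d a b - 1 ≠ 0 ↔ ¬ (b < (⟨a, Nat.lt_succ_of_le ha⟩ : Fin (d + 1)).val) := by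
    intro b
    unfold sgn
    by_cases hb : (b : ℕ) < a
    · simp [hb]
    · simp only [hb, if_false, not_false_eq_true, iff_true]
      intro h
      apply h2
      have : (2 : F) = -((-1 : F) - 1) := by ring
      rw [this, h, neg_zero]
  rw [Nat.card_congr (Equiv.subtypeEquivRight h1), Nat.card_eq_fintype_card,
    Fintype.card_subtype_compl, Fintype.card_fin]
  congr 1
  exact Fintype.card_fin_lt_of_le ha

end INV1

/-- INV1 (explicit: diagonal ±1 matrix) -/
theorem exists_involution_model {F : Type*} [Field F] (h2 : (2 : F) ≠ 0) (d : ℕ) (t n : F)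
    (a : ℕ) (ha : a ≤ d) :
    ∃ y : GL (Fin d ⊕ Fin d) F, y ∈ Cfsg.spGL d F ∧
      (y : Matrix (Fin d ⊕ Fin d) (Fin d ⊕ Fin d) F) * iota0 d F t n =
        iota0 d F t n * (y : Matrix (Fin d ⊕ Fin d) (Fin d ⊕ Fin d) F) ∧
      (y : Matrix (Fin d ⊕ Fin d) (Fin d ⊕ Fin d) F) *
        (y : Matrix (Fin d ⊕ Fin d) (Fin d ⊕ Fin d) F) = 1 ∧
      Module.finrank F (LinearMap.ker (Matrix.toLin'
        ((y : Matrix (Fin d ⊕ Fin d) (Fin d ⊕ Fin d) F) - 1))) = 2 * a := by
  classical
  let y : GL (Fin d ⊕ Fin d) F :=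
    ⟨INV1.ymat F d a, INV1.ymat F d a, INV1.ymat_sq F d a, INV1.ymat_sq F d a⟩
  have hy : (y : Matrix (Fin d ⊕ Fin d) (Fin d ⊕ Fin d) F) = INV1.ymat F d a := rfl
  refine ⟨y, ?_, ?_, ?_, ?_⟩
  · intro u v
    exact INV1.preserves_of_transpose d _ (INV1.ymat_J F d a) u v
  · rw [hy]
    exact INV1.ymat_iota0 F d a t n
  · rw [hy]
    exact INV1.ymat_sq F d a
  · rw [hy]
    have hdiag : INV1.ymat F d a - 1 =
        Matrix.diagonal (Sum.elim (fun b => INV1.sgn F d a b - 1) (fun b => INV1.sgn F d a b - 1)) := by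
      unfold INV1.ymat
      rw [← Matrix.fromBlocks_one, fromBlocks_sub', ← Matrix.fromBlocks_diagonal]
      congr 1
      · rw [← Matrix.diagonal_one, Matrix.diagonal_sub]
      · simp
      · simp
      · rw [← Matrix.diagonal_one, Matrix.diagonal_sub]
    have hrk := LinearMap.finrank_range_add_finrank_ker (Matrix.toLin' (INV1.ymat F d a - 1))
    have hrank : Module.finrank F (LinearMap.range (Matrix.toLin' (INV1.ymat F d a - 1))) =
        2 * (d - a) := by
      have h1 : (INV1.ymat F d a - 1).rank =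
          Module.finrank F (LinearMap.range (Matrix.toLin' (INV1.ymat F d a - 1))) := by
        rw [Matrix.rank, Matrix.toLin'_apply']
      rw [← h1, hdiag, Matrix.rank_diagonal, ← Nat.card_eq_fintype_card,
        Nat.card_congr Equiv.subtypeSum, Nat.card_sum]
      show Nat.card {b : Fin d // INV1.sgn F d a b - 1 ≠ 0} +
        Nat.card {b : Fin d // INV1.sgn F d a b - 1 ≠ 0} = 2 * (d - a)
      rw [INV1.card_sgn F h2 d a ha]
      ring
    rw [Module.finrank_pi, Fintype.card_sum, Fintype.card_fin] at hrk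
    omega

end Cfsg.Agent.S5976P
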