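import Mathlib
import Cfsg.Prelude.Def_GeometricClasses
import Cfsg.Prelude.Def_ClassicalGeometry
import Cfsg.Agent.Helper29.S5976Defs
import Cfsg.Agent.Helper2.QuadExt
import Cfsg.Agent.Helper15.S5976INV1

set_option autoImplicit false
open scoped MatrixGroups

/-! S5976, piece SEMI: a symplectic element of square `-1` inducing the conjugation on the
standard quadratic field. -/

namespace Cfsg.Agent.S5976P

namespace SEMI

/-- block matrices with scalar blocks -/
def sb (F : Type*) [Field F] (d : ℕ) (a b c e : F) : Matrix (Fin d ⊕ Fin d) (Fin d ⊕ Fin d) F :=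
  Matrix.fromBlocks (a • 1) (b • 1) (c • 1) (e • 1)

theorem sb_mul (F : Type*) [Field F] (d : ℕ) (a b c e a' b' c' e' : F) :
    sb F d a b c e * sb F d a' b' c' e' =
      sb F d (a * a' + b * c') (a * b' + b * e') (c * a' + e * c') (c * b' + e * e') := by
  unfold sb
  rw [Matrix.fromBlocks_multiply]
  simp only [smul_mul_smul_comm, mul_one, ← add_smul]

theorem sb_transpose (F : Type*) [Field F] (d : ℕ) (a b c e : F) :
    (sb F d a b c e).transpose = sb F d a c b e := by
  unfold sb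
  rw [Matrix.fromBlocks_transpose]
  simp only [Matrix.transpose_smul, Matrix.transpose_one]

theorem sb_eq (F : Type*) [Field F] (d : ℕ) {a b c e a' b' c' e' : F} (h1 : a = a') (h2 : b = b')
    (h3 : c = c') (h4 : e = e') : sb F d a b c e = sb F d a' b' c' e' := by
  rw [h1, h2, h3, h4]

theorem J_eq (F : Type*) [Field F] (d : ℕ) : Matrix.J (Fin d) F = sb F d 0 (-1) 1 0 := by
  unfold sb Matrix.J
  rw [zero_smul, neg_smul, one_smul]

theorem iota0_eq (F : Type*) [Field F] (d : ℕ) (t n : F) : iota0 d F t n = sb F d t 1 (-n) 0 := by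
  unfold sb iota0
  rw [zero_smul, one_smul]

theorem one_eq (F : Type*) [Field F] (d : ℕ) :
    (1 : Matrix (Fin d ⊕ Fin d) (Fin d ⊕ Fin d) F) = sb F d 1 0 0 1 := by
  unfold sb
  rw [zero_smul, one_smul, Matrix.fromBlocks_one]

theorem smul_sb (F : Type*) [Field F] (d : ℕ) (k a b c e : F) :
    k • sb F d a b c e = sb F d (k * a) (k * b) (k * c) (k * e) := by
  unfold sb
  rw [Matrix.fromBlocks_smul]
  simp only [smul_smul]

theorem sb_sub (F : Type*) [Field F] (d : ℕ) (a b c e a' b' c' e' : F) :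
    sb F d a b c e - sb F d a' b' c' e' = sb F d (a - a') (b - b') (c - c') (e - e') := by
  unfold sb
  rw [fromBlocks_sub']
  simp only [sub_smul]

/-- the model semilinear element -/
def ymat (F : Type*) [Field F] (d : ℕ) (t n α β : F) :
    Matrix (Fin d ⊕ Fin d) (Fin d ⊕ Fin d) F :=
  sb F d (-α) β (t * α + n * β) α

theorem ymat_sq (F : Type*) [Field F] (d : ℕ) (t n α β : F)
    (hN : α ^ 2 + t * α * β + n * β ^ 2 = -1) :
    ymat F d t n α β * ymat F d t n α β =
      (-1 : F) • (1 : Matrix (Fin d ⊕ Fin d) (Fin d ⊕ Fin d) F) := by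
  unfold ymat
  rw [sb_mul, one_eq, smul_sb]
  apply sb_eq
  · linear_combination hN
  · ring
  · ring
  · linear_combination hN

theorem ymat_J (F : Type*) [Field F] (d : ℕ) (t n α β : F)
    (hN : α ^ 2 + t * α * β + n * β ^ 2 = -1) :
    (ymat F d t n α β).transpose * Matrix.J (Fin d) F * ymat F d t n α β = Matrix.J (Fin d) F := by
  unfold ymat
  rw [sb_transpose, J_eq, sb_mul, sb_mul]
  apply sb_eq
  · ring
  · linear_combination hN
  · linear_combination -hN
  · ring

theorem ymat_iota0 (F : Type*) [Field F] (d : ℕ) (t n α β : F) :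
    ymat F d t n α β * iota0 d F t n =
      (t • (1 : Matrix (Fin d ⊕ Fin d) (Fin d ⊕ Fin d) F) - iota0 d F t n) * ymat F d t n α β := by
  unfold ymat
  rw [iota0_eq, one_eq, smul_sb, sb_sub, sb_mul, sb_mul]
  apply sb_eq <;> ring

end SEMI

/-- SEMI (explicit: fromBlocks (-α•1) (..) (β•1) (α•1) with α² + tαβ + nβ² = -1) -/
theorem exists_semilinear_model {F : Type*} [Field F] [Fintype F] (d : ℕ) (t n : F)
    (hirr : ∀ c : F, c * c - t * c + n ≠ 0) :
    ∃ y : GL (Fin d ⊕ Fin d) F, y ∈ Cfsg.spGL d F ∧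
      (y : Matrix (Fin d ⊕ Fin d) (Fin d ⊕ Fin d) F) * iota0 d F t n =
        (t • (1 : Matrix (Fin d ⊕ Fin d) (Fin d ⊕ Fin d) F) - iota0 d F t n) *
          (y : Matrix (Fin d ⊕ Fin d) (Fin d ⊕ Fin d) F) ∧
      (y : Matrix (Fin d ⊕ Fin d) (Fin d ⊕ Fin d) F) *
        (y : Matrix (Fin d ⊕ Fin d) (Fin d ⊕ Fin d) F) =
          (-1 : F) • (1 : Matrix (Fin d ⊕ Fin d) (Fin d ⊕ Fin d) F) := by
  have hirr' : ∀ r : F, r ^ 2 - t * r + n ≠ 0 := by
    intro r
    rw [sq]
    exact hirr r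
  have hcard := Cfsg.Agent.Helper2.QExt.card_norm_eq' (F := F) (q := Fintype.card F) rfl hirr'
    (c := (-1 : F)) (neg_ne_zero.mpr one_ne_zero)
  have hne : Nonempty {p : F × F // p.1 ^ 2 + t * p.1 * p.2 + n * p.2 ^ 2 = -1} := by
    by_contra hemp
    rw [not_nonempty_iff] at hemp
    rw [Nat.card_of_isEmpty] at hcard
    omega
  obtain ⟨⟨⟨α, β⟩, hN⟩⟩ := hne
  simp only at hN
  have hsq := SEMI.ymat_sq F d t n α β hN
  have hinv : SEMI.ymat F d t n α β * (-SEMI.ymat F d t n α β) = 1 := by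
    rw [Matrix.mul_neg, hsq, neg_smul, one_smul, neg_neg]
  have hinv' : (-SEMI.ymat F d t n α β) * SEMI.ymat F d t n α β = 1 := by
    rw [Matrix.neg_mul, hsq, neg_smul, one_smul, neg_neg]
  let y : GL (Fin d ⊕ Fin d) F := ⟨SEMI.ymat F d t n α β, -SEMI.ymat F d t n α β, hinv, hinv'⟩
  refine ⟨y, ?_, SEMI.ymat_iota0 F d t n α β, hsq⟩
  intro u v
  exact INV1.preserves_of_transpose d _ (SEMI.ymat_J F d t n α β hN) u v

end Cfsg.Agent.S5976P
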