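import Mathlib
import Cfsg.Prelude.Def_GeometricClasses
import Cfsg.Prelude.Def_Classical
import Cfsg.Prelude.Def_LieClassical

set_option autoImplicit false
open scoped MatrixGroups Matrix

/-! S5982, piece CONJFORM: transport of a unitary form along a conjugation. -/

namespace Cfsg.Agent.S5982P

/-- CONJFORM: a conjugate of `x` is a similitude of `f` => `x` is a similitude of a transported form -/
theorem form_of_conj_mem {F : Type*} [Field F] {q₀ n : ℕ}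
    (f : (Fin n → F) → (Fin n → F) → F) (hf : Cfsg.Geo.IsUnitaryFormPow q₀ f) (g x : GL (Fin n) F)
    (h : g⁻¹ * x * g ∈ Cfsg.Geo.similarityGroup f) :
    ∃ f' : (Fin n → F) → (Fin n → F) → F, Cfsg.Geo.IsUnitaryFormPow q₀ f' ∧
      x ∈ Cfsg.Geo.similarityGroup f' := by
  have hgi : ∀ u : Fin n → F, ((g⁻¹ : GL (Fin n) F) : Matrix (Fin n) (Fin n) F) *ᵥ
      ((g : Matrix (Fin n) (Fin n) F) *ᵥ u) = u := by
    intro u
    rw [Matrix.mulVec_mulVec, ← Units.val_mul, inv_mul_cancel, Units.val_one, Matrix.one_mulVec]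
  have hgi' : ∀ u : Fin n → F, (g : Matrix (Fin n) (Fin n) F) *ᵥ
      (((g⁻¹ : GL (Fin n) F) : Matrix (Fin n) (Fin n) F) *ᵥ u) = u := by
    intro u
    rw [Matrix.mulVec_mulVec, ← Units.val_mul, mul_inv_cancel, Units.val_one, Matrix.one_mulVec]
  refine ⟨fun u v => f (((g⁻¹ : GL (Fin n) F) : Matrix (Fin n) (Fin n) F) *ᵥ u)
    (((g⁻¹ : GL (Fin n) F) : Matrix (Fin n) (Fin n) F) *ᵥ v), ⟨?_, ?_, ?_, ?_⟩, ?_⟩
  · intro a b v
    show f (_ *ᵥ (a + b)) _ = _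
    rw [Matrix.mulVec_add, hf.add_left]
  · intro c a v
    show f (_ *ᵥ (c • a)) _ = _
    rw [Matrix.mulVec_smul, hf.smul_left]
  · intro v w
    exact hf.herm _ _
  · intro v hv
    have hv' : ((g⁻¹ : GL (Fin n) F) : Matrix (Fin n) (Fin n) F) *ᵥ v ≠ 0 := by
      intro h0
      apply hv
      rw [← hgi' v, h0, Matrix.mulVec_zero]
    obtain ⟨⟨a, ha⟩, ⟨b, hb⟩⟩ := hf.nondegenerate _ hv'
    refine ⟨⟨(g : Matrix (Fin n) (Fin n) F) *ᵥ a, ?_⟩, ⟨(g : Matrix (Fin n) (Fin n) F) *ᵥ b, ?_⟩⟩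
    · show f (_ *ᵥ (_ *ᵥ a)) _ ≠ 0
      rw [hgi]
      exact ha
    · show f _ (_ *ᵥ (_ *ᵥ b)) ≠ 0
      rw [hgi]
      exact hb
  · obtain ⟨c, hc⟩ := h
    refine ⟨c, fun u v => ?_⟩
    show f (_ *ᵥ ((x : Matrix (Fin n) (Fin n) F) *ᵥ u)) (_ *ᵥ ((x : Matrix (Fin n) (Fin n) F) *ᵥ v)) =
      (c : F) * f (_ *ᵥ u) (_ *ᵥ v)
    rw [← hc]
    have e : ∀ w : Fin n → F, ((g⁻¹ * x * g : GL (Fin n) F) : Matrix (Fin n) (Fin n) F) *ᵥ
        (((g⁻¹ : GL (Fin n) F) : Matrix (Fin n) (Fin n) F) *ᵥ w) =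
        ((g⁻¹ : GL (Fin n) F) : Matrix (Fin n) (Fin n) F) *ᵥ
          ((x : Matrix (Fin n) (Fin n) F) *ᵥ w) := by
      intro w
      rw [Units.val_mul, Units.val_mul, ← Matrix.mulVec_mulVec, ← Matrix.mulVec_mulVec, hgi']
    rw [e, e]

end Cfsg.Agent.S5982P
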