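import Mathlib
import Cfsg.Prelude.Def_GeometricClasses
import Cfsg.Prelude.Def_Classical
import Cfsg.Prelude.Def_LieClassical

set_option autoImplicit false
open scoped MatrixGroups Matrix

/-! S5982, piece GL2SL: from `GL`-conjugacy to `SL`-conjugacy using centralizer elements of every
determinant. -/

namespace Cfsg.Agent.S5982P

/-- GL2SL: `GL`-conjugacy into `S` plus centralizer elements of every determinant give `SL`-conjugacy -/
theorem exists_sl_conj {F : Type*} [Field F] (n : ℕ) (S : Subgroup (GL (Fin n) F)) (x g : GL (Fin n) F)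
    (h : g⁻¹ * x * g ∈ S)
    (hcent : ∀ δ : F, δ ≠ 0 → ∃ C : Module.End F (Fin n → F),
      C * Matrix.toLin' (x : Matrix (Fin n) (Fin n) F) =
        Matrix.toLin' (x : Matrix (Fin n) (Fin n) F) * C ∧ LinearMap.det C = δ) :
    ∃ g' ∈ Cfsg.Geo.specialLinear (Fin n) F, g'⁻¹ * x * g' ∈ S := by
  have hdg : (g : Matrix (Fin n) (Fin n) F).det ≠ 0 := Matrix.GeneralLinearGroup.det_ne_zero g
  obtain ⟨C, hCx, hCdet⟩ := hcent ((g : Matrix (Fin n) (Fin n) F).det)⁻¹ (inv_ne_zero hdg)
  have hMdet : (LinearMap.toMatrix' C).det = ((g : Matrix (Fin n) (Fin n) F).det)⁻¹ := by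
    rw [LinearMap.det_toMatrix', hCdet]
  have hMx : LinearMap.toMatrix' C * (x : Matrix (Fin n) (Fin n) F) =
      (x : Matrix (Fin n) (Fin n) F) * LinearMap.toMatrix' C := by
    have := congrArg LinearMap.toMatrix' hCx
    rw [Module.End.mul_eq_comp, Module.End.mul_eq_comp, LinearMap.toMatrix'_comp,
      LinearMap.toMatrix'_comp, LinearMap.toMatrix'_toLin'] at this
    exact this
  let Cg : GL (Fin n) F := Matrix.GeneralLinearGroup.mkOfDetNeZero (LinearMap.toMatrix' C)
    (by rw [hMdet]; exact inv_ne_zero hdg)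
  have hCgval : (Cg : Matrix (Fin n) (Fin n) F) = LinearMap.toMatrix' C := rfl
  have hcomm : Cg * x = x * Cg := by
    apply Units.ext
    rw [Units.val_mul, Units.val_mul, hCgval]
    exact hMx
  refine ⟨Cg * g, ?_, ?_⟩
  · show Matrix.GeneralLinearGroup.det (Cg * g) = 1
    apply Units.ext
    rw [map_mul, Units.val_mul]
    show (Cg : Matrix (Fin n) (Fin n) F).det * (g : Matrix (Fin n) (Fin n) F).det = 1
    rw [hCgval, hMdet, inv_mul_cancel₀ hdg]
  · have e : (Cg * g)⁻¹ * x * (Cg * g) = g⁻¹ * x * g := by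
      have h1 : Cg⁻¹ * x * Cg = x := by
        rw [mul_assoc, ← hcomm, ← mul_assoc, inv_mul_cancel, one_mul]
      calc (Cg * g)⁻¹ * x * (Cg * g) = g⁻¹ * (Cg⁻¹ * x * Cg) * g := by group
        _ = g⁻¹ * x * g := by rw [h1]
    rw [e]
    exact h

end Cfsg.Agent.S5982P
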