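import Mathlib
import Cfsg.Prelude.Def_GeometricClasses
import Cfsg.Prelude.Def_Classical
import Cfsg.Prelude.Def_LieClassical
import Cfsg.Agent.Helper28.Herm

set_option autoImplicit false
open scoped MatrixGroups Matrix

/-! S5982, piece POSPERM: an element permuting a basis up to a common scalar is a similitude of
the unitary form for which the basis is orthonormal. -/

namespace Cfsg.Agent.S5982P

/-- POSPERM: an element permuting a basis up to a common scalar is a similitude of a unitary form -/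
theorem exists_form_of_perm {F : Type*} [Field F] [Fintype F] {q₀ : ℕ} (hF : Fintype.card F = q₀ ^ 2)
    (n : ℕ) (μ : F) (hμ : μ ≠ 0) (x : GL (Fin n) F) (b : Module.Basis (Fin n) F (Fin n → F))
    (π : Equiv.Perm (Fin n))
    (hb : ∀ j, Matrix.toLin' (x : Matrix (Fin n) (Fin n) F) (b j) = μ • b (π j)) :
    ∃ f' : (Fin n → F) → (Fin n → F) → F, Cfsg.Geo.IsUnitaryFormPow q₀ f' ∧
      x ∈ Cfsg.Geo.similarityGroup f' := by
  classical
  obtain ⟨σ, hσ, hσσ⟩ := Cfsg.Agent.Helper28.exists_frob hF
  have hφb : ∀ j k, b.equivFun (b j) k = if k = j then 1 else 0 := by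
    intro j k
    rw [Module.Basis.equivFun_self]
    exact if_congr eq_comm rfl rfl
  have hσinj : ∀ a : F, σ a = 0 → a = 0 := by
    intro a ha
    have := congrArg σ ha
    rwa [hσσ, map_zero] at this
  have hφL : ∀ u k, b.equivFun ((x : Matrix (Fin n) (Fin n) F) *ᵥ u) k =
      μ * b.equivFun u (π.symm k) := by
    have hlin : (b.equivFun : (Fin n → F) →ₗ[F] (Fin n → F)) ∘ₗ
        Matrix.toLin' (x : Matrix (Fin n) (Fin n) F) =
        μ • (LinearMap.funLeft F F π.symm ∘ₗ (b.equivFun : (Fin n → F) →ₗ[F] (Fin n → F))) := by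
      apply b.ext
      intro j
      ext k
      simp only [LinearMap.comp_apply, LinearEquiv.coe_coe, LinearMap.smul_apply, Pi.smul_apply,
        smul_eq_mul, LinearMap.funLeft_apply]
      rw [hb j, map_smul, Pi.smul_apply, smul_eq_mul, hφb, hφb]
      congr 1
      by_cases hk : k = π j
      · rw [if_pos hk, if_pos ((Equiv.symm_apply_eq π).mpr hk)]
      · rw [if_neg hk, if_neg (fun h => hk ((Equiv.symm_apply_eq π).mp h))]
    intro u k
    have := congrFun (congrArg (fun L : (Fin n → F) →ₗ[F] (Fin n → F) => L u) hlin) k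
    simpa [LinearMap.funLeft_apply, Matrix.toLin'_apply] using this
  refine ⟨fun u v => ∑ j, b.equivFun u j * σ (b.equivFun v j), ⟨?_, ?_, ?_, ?_⟩, ?_⟩
  · intro a c v
    simp only [map_add, Pi.add_apply, add_mul, Finset.sum_add_distrib]
  · intro c a v
    simp only [map_smul, Pi.smul_apply, smul_eq_mul, Finset.mul_sum, mul_assoc]
  · intro v w
    show (∑ j, b.equivFun v j * σ (b.equivFun w j)) =
      (∑ j, b.equivFun w j * σ (b.equivFun v j)) ^ q₀
    rw [← hσ, map_sum]
    refine Finset.sum_congr rfl fun j _ => ?_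
    rw [map_mul, hσσ, mul_comm]
  · intro v hv
    have hv' : b.equivFun v ≠ 0 := (LinearEquiv.map_ne_zero_iff b.equivFun).mpr hv
    obtain ⟨j, hj⟩ : ∃ j, b.equivFun v j ≠ 0 := Function.ne_iff.mp hv'
    refine ⟨⟨b j, ?_⟩, ⟨b j, ?_⟩⟩
    · show (∑ k, b.equivFun (b j) k * σ (b.equivFun v k)) ≠ 0
      simp only [hφb, ite_mul, one_mul, zero_mul, Finset.sum_ite_eq', Finset.mem_univ, if_true]
      exact fun h0 => hj (hσinj _ h0)
    · show (∑ k, b.equivFun v k * σ (b.equivFun (b j) k)) ≠ 0
      have : ∀ k, b.equivFun v k * σ (b.equivFun (b j) k) = if k = j then b.equivFun v k else 0 := by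
        intro k
        rw [hφb]
        by_cases hk : k = j
        · rw [if_pos hk, if_pos hk, map_one, mul_one]
        · rw [if_neg hk, if_neg hk, map_zero, mul_zero]
      simp only [this, Finset.sum_ite_eq', Finset.mem_univ, if_true]
      exact hj
  · have hc : μ * σ μ ≠ 0 := mul_ne_zero hμ (fun h0 => hμ (hσinj _ h0))
    refine ⟨Units.mk0 (μ * σ μ) hc, fun u v => ?_⟩
    show (∑ k, b.equivFun ((x : Matrix (Fin n) (Fin n) F) *ᵥ u) k *
      σ (b.equivFun ((x : Matrix (Fin n) (Fin n) F) *ᵥ v) k)) =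
      (μ * σ μ) * ∑ j, b.equivFun u j * σ (b.equivFun v j)
    simp only [hφL, map_mul]
    rw [Finset.mul_sum, ← Equiv.sum_comp π.symm (fun j => μ * σ μ * (b.equivFun u j * σ (b.equivFun v j)))]
    refine Finset.sum_congr rfl fun k _ => ?_
    ring

end Cfsg.Agent.S5982P
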