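import Mathlib
import Cfsg.Prelude.Def_GeometricClasses
import Cfsg.Prelude.Def_Classical
import Cfsg.Prelude.Def_LieClassical
import Cfsg.Agent.Helper23.S5984Defs

set_option autoImplicit false
open scoped MatrixGroups Matrix

/-! S5984, piece BLOCKEMB: the block embedding `GU_j(q) → GU_n(q)`, `y ↦ diag(y, 1)`. -/

namespace Cfsg.Agent.S5984P

open Cfsg.Agent.S2644 Cfsg.Agent.Helper2.SUGen Cfsg.Agent.Helper28.UPair

namespace BLOCKEMB

variable {F : Type*} [Field F] {q : ℕ}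

/-- the index bijection -/
def eqv (j n : ℕ) (hjn : j ≤ n) : Fin j ⊕ Fin (n - j) ≃ Fin n :=
  finSumFinEquiv.trans (finCongr (by omega))

/-- the block embedding of matrices -/
def emb (j n : ℕ) (hjn : j ≤ n) (A : Matrix (Fin j) (Fin j) F) : Matrix (Fin n) (Fin n) F :=
  Matrix.reindex (eqv j n hjn) (eqv j n hjn) (Matrix.fromBlocks A 0 0 1)

theorem emb_mul (j n : ℕ) (hjn : j ≤ n) (A B : Matrix (Fin j) (Fin j) F) :
    emb j n hjn (A * B) = emb j n hjn A * emb j n hjn B := by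
  unfold emb
  rw [Matrix.reindex_apply, Matrix.reindex_apply, Matrix.reindex_apply,
    Matrix.submatrix_mul_equiv, Matrix.fromBlocks_multiply]
  simp

theorem emb_one (j n : ℕ) (hjn : j ≤ n) :
    emb j n hjn (1 : Matrix (Fin j) (Fin j) F) = 1 := by
  unfold emb
  rw [Matrix.fromBlocks_one, Matrix.reindex_apply, Matrix.submatrix_one_equiv]

theorem emb_pow (j n : ℕ) (hjn : j ≤ n) (A : Matrix (Fin j) (Fin j) F) (k : ℕ) :
    emb j n hjn (A ^ k) = emb j n hjn A ^ k := by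
  induction k with
  | zero => rw [pow_zero, pow_zero, emb_one]
  | succ k ih => rw [pow_succ, pow_succ, emb_mul, ih]

theorem emb_det (j n : ℕ) (hjn : j ≤ n) (A : Matrix (Fin j) (Fin j) F) :
    (emb j n hjn A).det = A.det := by
  unfold emb
  rw [Matrix.det_reindex_self, Matrix.det_fromBlocks_zero₂₁, Matrix.det_one, mul_one]

/-- the first `j` coordinates -/
def pl (j n : ℕ) (hjn : j ≤ n) (u : Fin n → F) : Fin j → F :=
  fun a => u (eqv j n hjn (Sum.inl a))

/-- the last `n - j` coordinates -/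
def pr (j n : ℕ) (hjn : j ≤ n) (u : Fin n → F) : Fin (n - j) → F :=
  fun b => u (eqv j n hjn (Sum.inr b))

theorem emb_mulVec (j n : ℕ) (hjn : j ≤ n) (A : Matrix (Fin j) (Fin j) F) (u : Fin n → F) :
    (emb j n hjn A *ᵥ u) ∘ (eqv j n hjn) =
      Sum.elim (A *ᵥ pl j n hjn u) (pr j n hjn u) := by
  unfold emb
  rw [Matrix.reindex_apply, Matrix.submatrix_mulVec_equiv, Equiv.symm_symm]
  have h1 : ((Matrix.fromBlocks A 0 0 1 *ᵥ (u ∘ (eqv j n hjn))) ∘ ⇑(eqv j n hjn).symm) ∘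
      (eqv j n hjn) = Matrix.fromBlocks A 0 0 1 *ᵥ (u ∘ (eqv j n hjn)) := by
    funext s
    simp only [Function.comp, Equiv.symm_apply_apply]
  rw [h1, Matrix.fromBlocks_mulVec, Matrix.zero_mulVec, Matrix.zero_mulVec, Matrix.one_mulVec,
    add_zero, zero_add]
  rfl

theorem pl_emb (j n : ℕ) (hjn : j ≤ n) (A : Matrix (Fin j) (Fin j) F) (u : Fin n → F) :
    pl j n hjn (emb j n hjn A *ᵥ u) = A *ᵥ pl j n hjn u := by
  funext a
  have := congrFun (emb_mulVec j n hjn A u) (Sum.inl a)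
  exact this

theorem pr_emb (j n : ℕ) (hjn : j ≤ n) (A : Matrix (Fin j) (Fin j) F) (u : Fin n → F) :
    pr j n hjn (emb j n hjn A *ᵥ u) = pr j n hjn u := by
  funext b
  have := congrFun (emb_mulVec j n hjn A u) (Sum.inr b)
  exact this

theorem herm_split (j n : ℕ) (hjn : j ≤ n) (u v : Fin n → F) :
    Cfsg.hermForm n F q u v =
      Cfsg.hermForm j F q (pl j n hjn u) (pl j n hjn v) +
        Cfsg.hermForm (n - j) F q (pr j n hjn u) (pr j n hjn v) := by
  unfold Cfsg.hermForm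
  rw [← Equiv.sum_comp (eqv j n hjn), Fintype.sum_sum_type]
  rfl

theorem emb_pres (j n : ℕ) (hjn : j ≤ n) (A : Matrix (Fin j) (Fin j) F)
    (hA : Pres (q := q) A) : Pres (q := q) (emb j n hjn A) := by
  intro u v
  rw [herm_split j n hjn, pl_emb, pl_emb, pr_emb, pr_emb, hA, ← herm_split j n hjn]

omit [Field F] in
theorem ext_pl_pr (j n : ℕ) (hjn : j ≤ n) (u v : Fin n → F)
    (h1 : pl j n hjn u = pl j n hjn v) (h2 : pr j n hjn u = pr j n hjn v) : u = v := by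
  funext i
  obtain ⟨s, rfl⟩ := (eqv j n hjn).surjective i
  rcases s with a | b
  · exact congrFun h1 a
  · exact congrFun h2 b

/-- coordinates as a linear equivalence -/
def Phi (j n : ℕ) (hjn : j ≤ n) : (Fin n → F) ≃ₗ[F] (Fin j → F) × (Fin (n - j) → F) :=
  (LinearEquiv.funCongrLeft F F (eqv j n hjn)).trans
    (LinearEquiv.sumArrowLequivProdArrow (Fin j) (Fin (n - j)) F F)

theorem Phi_apply (j n : ℕ) (hjn : j ≤ n) (u : Fin n → F) :
    Phi j n hjn u = (pl j n hjn u, pr j n hjn u) := rfl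

/-- the product of two submodules, as a product type -/
def prodSubEquiv {V W : Type*} [AddCommGroup V] [Module F V] [AddCommGroup W] [Module F W]
    (P : Submodule F V) (Q : Submodule F W) : ↥(P.prod Q) ≃ₗ[F] ↥P × ↥Q where
  toFun z := (⟨z.1.1, z.2.1⟩, ⟨z.1.2, z.2.2⟩)
  invFun w := ⟨(w.1.1, w.2.1), ⟨w.1.2, w.2.2⟩⟩
  map_add' _ _ := rfl
  map_smul' _ _ := rfl
  left_inv _ := rfl
  right_inv _ := rfl

theorem eig_eq (j n : ℕ) (hjn : j ≤ n) (A : Matrix (Fin j) (Fin j) F) :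
    Module.End.eigenspace (Matrix.toLin' (emb j n hjn A)) 1 =
      Submodule.comap (Phi (F := F) j n hjn).toLinearMap
        ((Module.End.eigenspace (Matrix.toLin' A) 1).prod ⊤) := by
  ext v
  rw [mem_eig, one_smul, Submodule.mem_comap, LinearEquiv.coe_coe, Phi_apply, Submodule.mem_prod]
  simp only [Submodule.mem_top, and_true]
  rw [mem_eig, one_smul]
  constructor
  · intro h
    rw [← pl_emb, h]
  · intro h
    apply ext_pl_pr j n hjn
    · rw [pl_emb, h]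
    · rw [pr_emb]

theorem kd_emb (j n : ℕ) (hjn : j ≤ n) (A : Matrix (Fin j) (Fin j) F) :
    kd (emb j n hjn A) 1 = kd A 1 + (n - j) := by
  rw [kd_def, eig_eq, kd_def]
  rw [LinearEquiv.finrank_eq (LinearEquiv.ofSubmodule' (Phi (F := F) j n hjn)
    ((Module.End.eigenspace (Matrix.toLin' A) 1).prod ⊤)),
    LinearEquiv.finrank_eq (prodSubEquiv _ _), Module.finrank_prod, finrank_top,
    Module.finrank_fin_fun]

end BLOCKEMB

/-- BLOCKEMB: block embedding `GU_j(q) → GU_n(q)`, `y ↦ diag(y, 1)` -/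
theorem exists_block_emb {F : Type*} [Field F] [Fintype F] {q : ℕ} (hF : Fintype.card F = q ^ 2)
    (j n : ℕ) (hjn : j ≤ n) (y : GL (Fin j) F) (hy : y ∈ Cfsg.GU j F q) :
    ∃ x : GL (Fin n) F, x ∈ Cfsg.GU n F q ∧
      (x : Matrix (Fin n) (Fin n) F).det = (y : Matrix (Fin j) (Fin j) F).det ∧
      (∀ r : ℕ, y ^ r = 1 → x ^ r = 1) ∧
      kd (x : Matrix (Fin n) (Fin n) F) 1 = kd (y : Matrix (Fin j) (Fin j) F) 1 + (n - j) := by
  have h1 : BLOCKEMB.emb j n hjn (y : Matrix (Fin j) (Fin j) F) *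
      BLOCKEMB.emb j n hjn ((y⁻¹ : GL (Fin j) F) : Matrix (Fin j) (Fin j) F) = 1 := by
    rw [← BLOCKEMB.emb_mul, ← Units.val_mul, mul_inv_cancel, Units.val_one, BLOCKEMB.emb_one]
  have h2 : BLOCKEMB.emb j n hjn ((y⁻¹ : GL (Fin j) F) : Matrix (Fin j) (Fin j) F) *
      BLOCKEMB.emb j n hjn (y : Matrix (Fin j) (Fin j) F) = 1 := by
    rw [← BLOCKEMB.emb_mul, ← Units.val_mul, inv_mul_cancel, Units.val_one, BLOCKEMB.emb_one]
  refine ⟨⟨BLOCKEMB.emb j n hjn (y : Matrix (Fin j) (Fin j) F),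
    BLOCKEMB.emb j n hjn ((y⁻¹ : GL (Fin j) F) : Matrix (Fin j) (Fin j) F), h1, h2⟩, ?_, ?_, ?_, ?_⟩
  · intro u v
    exact BLOCKEMB.emb_pres j n hjn _ (fun u v => hy u v) u v
  · exact BLOCKEMB.emb_det j n hjn _
  · intro r hr
    apply Units.ext
    rw [Units.val_pow_eq_pow_val]
    show BLOCKEMB.emb j n hjn (y : Matrix (Fin j) (Fin j) F) ^ r = 1
    rw [← BLOCKEMB.emb_pow, ← Units.val_pow_eq_pow_val, hr, Units.val_one, BLOCKEMB.emb_one]
  · exact BLOCKEMB.kd_emb j n hjn _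

end Cfsg.Agent.S5984P
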