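import Mathlib
import Cfsg.Prelude.Def_GeometricClasses
import Cfsg.Prelude.Def_Classical
import Cfsg.Prelude.Def_LieClassical
import Cfsg.Agent.Helper23.S5984Defs

set_option autoImplicit false
open scoped MatrixGroups Matrix

/-! S5984, piece DDIAG: a diagonal element `diag(l, l⁻¹, 1, ..., 1)` of order `r`. -/

namespace Cfsg.Agent.S5984P

open Cfsg.Agent.S2644 Cfsg.Agent.Helper2.SUGen Cfsg.Agent.Helper28.UPair

namespace DDIAG

variable {F : Type*} [Field F] {q n : ℕ}

theorem pres_diagonal (d : Fin n → F) (hd : ∀ i, d i ^ (q + 1) = 1) :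
    Pres (q := q) (Matrix.diagonal d) := by
  intro u v
  unfold Cfsg.hermForm
  apply Finset.sum_congr rfl
  intro i _
  rw [Matrix.mulVec_diagonal, Matrix.mulVec_diagonal, mul_pow]
  have h1 : d i * d i ^ q = 1 := by rw [← pow_succ', hd]
  calc d i * u i * (d i ^ q * v i ^ q) = (d i * d i ^ q) * (u i * v i ^ q) := by ring
    _ = u i * v i ^ q := by rw [h1, one_mul]

theorem kd_diagonal [DecidableEq F] (d : Fin n → F) (μ : F) :
    kd (Matrix.diagonal d) μ + Fintype.card {i // d i ≠ μ} = n := by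
  have hE : Module.End.eigenspace (Matrix.toLin' (Matrix.diagonal d)) μ =
      LinearMap.ker (Matrix.toLin' (Matrix.diagonal (fun i => d i - μ))) := by
    ext v
    rw [mem_eig, LinearMap.mem_ker, Matrix.toLin'_apply]
    constructor
    · intro h
      funext i
      have hi := congrFun h i
      rw [Matrix.mulVec_diagonal, Pi.smul_apply, smul_eq_mul] at hi
      rw [Matrix.mulVec_diagonal, Pi.zero_apply, sub_mul, hi, sub_self]
    · intro h
      funext i
      have hi := congrFun h i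
      rw [Matrix.mulVec_diagonal, Pi.zero_apply, sub_mul, sub_eq_zero] at hi
      rw [Matrix.mulVec_diagonal, hi, Pi.smul_apply, smul_eq_mul]
  have hr := Matrix.rank_diagonal (fun i => d i - μ)
  have hrn := LinearMap.finrank_range_add_finrank_ker
    (Matrix.toLin' (Matrix.diagonal (fun i => d i - μ)))
  rw [Matrix.rank, ← Matrix.toLin'_apply'] at hr
  rw [Module.finrank_fin_fun, hr] at hrn
  have hc : Fintype.card {i // d i ≠ μ} = Fintype.card {i // d i - μ ≠ 0} :=
    Fintype.card_congr (Equiv.subtypeEquivRight (fun i => by rw [Ne, Ne, sub_eq_zero]))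
  rw [kd_def, hE, hc]
  omega

/-- a diagonal matrix with entries of finite order as an element of `GL` -/
def glDiag (d : Fin n → F) (hd : ∀ i, d i ≠ 0) : GL (Fin n) F :=
  ⟨Matrix.diagonal d, Matrix.diagonal (fun i => (d i)⁻¹), by
    rw [Matrix.diagonal_mul_diagonal]
    simp only [mul_inv_cancel₀ (hd _), Matrix.diagonal_one], by
    rw [Matrix.diagonal_mul_diagonal]
    simp only [inv_mul_cancel₀ (hd _), Matrix.diagonal_one]⟩

theorem glDiag_coe (d : Fin n → F) (hd : ∀ i, d i ≠ 0) :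
    ((glDiag d hd : GL (Fin n) F) : Matrix (Fin n) (Fin n) F) = Matrix.diagonal d := rfl

theorem glDiag_pow (d : Fin n → F) (hd : ∀ i, d i ≠ 0) (k : ℕ) (hk : ∀ i, d i ^ k = 1) :
    glDiag d hd ^ k = 1 := by
  apply Units.ext
  rw [Units.val_pow_eq_pow_val, glDiag_coe, Matrix.diagonal_pow]
  have : d ^ k = 1 := by
    funext i
    rw [Pi.pow_apply, hk, Pi.one_apply]
  rw [this]
  exact Matrix.diagonal_one

theorem glDiag_mem [Fintype F] (d : Fin n → F) (hd : ∀ i, d i ≠ 0)
    (hN : ∀ i, d i ^ (q + 1) = 1) (hdet : ∏ i, d i = 1) :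
    glDiag d hd ∈ Cfsg.GU n F q ⊓ Cfsg.Geo.specialLinear (Fin n) F := by
  rw [Cfsg.Agent.Helper28.UM.mem_G_iff]
  refine ⟨pres_diagonal d hN, ?_⟩
  rw [glDiag_coe, Matrix.det_diagonal, hdet]

end DDIAG

/-- DDIAG: `diag(l, l⁻¹, 1, ..., 1)` -/
theorem exists_diag {F : Type*} [Field F] [Fintype F] {q n : ℕ} (hF : Fintype.card F = q ^ 2)
    (hn : 3 ≤ n) (r : ℕ) [Fact r.Prime] (hr2 : r ≠ 2) (hr : r ∣ q + 1) :
    ∃ x : GL (Fin n) F, ∃ l : F, x ∈ Cfsg.GU n F q ⊓ Cfsg.Geo.specialLinear (Fin n) F ∧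
      l ^ (q + 1) = 1 ∧ x ^ r = 1 ∧ kd (x : Matrix (Fin n) (Fin n) F) l = 1 := by
  classical
  have hrp : r.Prime := Fact.out
  have hcard : Fintype.card Fˣ = (q + 1) * (q - 1) := by
    rw [Fintype.card_units, hF, ← Nat.sq_sub_sq, one_pow]
  have hdvd : r ∣ Fintype.card Fˣ := by
    rw [hcard]
    exact Dvd.dvd.mul_right hr _
  obtain ⟨lu, hlu⟩ := exists_prime_orderOf_dvd_card r hdvd
  have hlr : (lu : F) ^ r = 1 := by
    rw [← Units.val_pow_eq_pow_val, ← hlu, pow_orderOf_eq_one, Units.val_one]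
  have hl0 : (lu : F) ≠ 0 := lu.ne_zero
  have hl1 : (lu : F) ≠ 1 := by
    intro h
    have : lu = 1 := Units.ext h
    rw [this, orderOf_one] at hlu
    exact hrp.one_lt.ne hlu
  have hl2 : (lu : F)⁻¹ ≠ (lu : F) := by
    intro h
    have h2 : lu ^ 2 = 1 := by
      apply Units.ext
      rw [Units.val_pow_eq_pow_val, Units.val_one, sq]
      nth_rewrite 1 [← h]
      exact inv_mul_cancel₀ hl0
    have := orderOf_dvd_of_pow_eq_one h2
    rw [hlu] at this
    exact hr2 ((Nat.prime_dvd_prime_iff_eq hrp Nat.prime_two).mp this)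
  have hlq : (lu : F) ^ (q + 1) = 1 := by
    obtain ⟨c, hc⟩ := hr
    rw [hc, pow_mul, hlr, one_pow]
  set l : F := (lu : F) with hl
  let i0 : Fin n := ⟨0, by omega⟩
  let i1 : Fin n := ⟨1, by omega⟩
  have hi01 : i0 ≠ i1 := by
    intro h
    have := congrArg Fin.val h
    simp [i0, i1] at this
  let d : Fin n → F := fun i => (if i = i0 then l else 1) * (if i = i1 then l⁻¹ else 1)
  have hdr : ∀ i, d i ^ r = 1 := by
    intro i
    simp only [d, mul_pow]
    split_ifs <;> simp [hlr, inv_pow]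
  have hdq : ∀ i, d i ^ (q + 1) = 1 := by
    intro i
    simp only [d, mul_pow]
    split_ifs <;> simp [hlq, inv_pow]
  have hd0 : ∀ i, d i ≠ 0 := by
    intro i h
    have := hdr i
    rw [h, zero_pow hrp.ne_zero] at this
    exact zero_ne_one this
  have hdet : ∏ i, d i = 1 := by
    simp only [d, Finset.prod_mul_distrib, Finset.prod_ite_eq', Finset.mem_univ, if_true]
    exact mul_inv_cancel₀ hl0
  refine ⟨DDIAG.glDiag d hd0, l, DDIAG.glDiag_mem d hd0 hdq hdet, hlq,
    DDIAG.glDiag_pow d hd0 r hdr, ?_⟩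
  rw [DDIAG.glDiag_coe]
  have hk := DDIAG.kd_diagonal d l
  have hiff : ∀ i, d i ≠ l ↔ i ≠ i0 := by
    intro i
    constructor
    · intro h hi
      apply h
      simp only [d]
      rw [if_pos hi, if_neg (by rw [hi]; exact hi01), mul_one]
    · intro hi
      simp only [d]
      rw [if_neg hi, one_mul]
      by_cases h1 : i = i1
      · rw [if_pos h1]; exact hl2
      · rw [if_neg h1]; exact fun h => hl1 h.symm
  have hc : Fintype.card {i // d i ≠ l} = n - 1 := by
    rw [Fintype.card_congr (Equiv.subtypeEquivRight hiff), Fintype.card_subtype_compl,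
      Fintype.card_fin, Fintype.card_subtype_eq]
  omega

end Cfsg.Agent.S5984P
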