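import Mathlib

set_option autoImplicit false

/-! S5992, pieces NTCOUNT and NTEVEN: pure number theory. -/

namespace Cfsg.Agent.S5992P

namespace NT

theorem cast_pow_sub_one {q r : ℕ} (hq : 1 ≤ q) (e : ℕ) (h : r ∣ q ^ e - 1) :
    (q : ZMod r) ^ e = 1 := by
  have h1 : ((q ^ e - 1 : ℕ) : ZMod r) = 0 := (ZMod.natCast_eq_zero_iff _ _).mpr h
  rw [Nat.cast_sub (Nat.one_le_pow _ _ hq), Nat.cast_pow, Nat.cast_one, sub_eq_zero] at h1
  exact h1

theorem cast_pow_add_one {q r : ℕ} (e : ℕ) (h : r ∣ q ^ e + 1) :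
    (q : ZMod r) ^ e = -1 := by
  have h1 : ((q ^ e + 1 : ℕ) : ZMod r) = 0 := (ZMod.natCast_eq_zero_iff _ _).mpr h
  rw [Nat.cast_add, Nat.cast_pow, Nat.cast_one] at h1
  exact eq_neg_of_add_eq_zero_left h1

theorem two_ne_zero' {r : ℕ} [Fact r.Prime] (hr2 : r ≠ 2) : (2 : ZMod r) ≠ 0 := by
  intro h
  have h1 : ((2 : ℕ) : ZMod r) = 0 := by exact_mod_cast h
  rw [ZMod.natCast_eq_zero_iff] at h1
  exact hr2 ((Nat.prime_dvd_prime_iff_eq Fact.out Nat.prime_two).mp h1)

end NT

/-- NTCOUNT (pure number theory) -/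
theorem nt_count {q r : ℕ} [Fact r.Prime] (hr2 : r ≠ 2) (hrq : ¬ r ∣ q) (d a c : ℕ)
    (hc : c = if Even (orderOf (q : ZMod r)) then orderOf (q : ZMod r)
      else 2 * orderOf (q : ZMod r))
    (had : a ≤ d) (ha : 2 * a < (2 * d + 1) % c) :
    ¬ r ∣ q ^ (d ^ 2 - (d - a) ^ 2) * ∏ j ∈ Finset.Ico (d - a) d, (q ^ (2 * (j + 1)) - 1) := by
  have hr : r.Prime := Fact.out
  have hq1 : 1 ≤ q := by
    rcases Nat.eq_zero_or_pos q with h | h
    · exact absurd (h ▸ dvd_zero r) hrq
    · exact h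
  intro hdvd
  rcases (Nat.Prime.dvd_mul hr).mp hdvd with h | h
  · exact hrq (hr.dvd_of_dvd_pow h)
  · obtain ⟨j, hj, hjd⟩ := (Prime.dvd_finsetProd_iff hr.prime _).mp h
    rw [Finset.mem_Ico] at hj
    have hx := NT.cast_pow_sub_one hq1 _ hjd
    have hi := orderOf_dvd_of_pow_eq_one hx
    -- c divides 2 (j + 1)
    have hcd : c ∣ 2 * (j + 1) := by
      rw [hc]
      split_ifs with he
      · exact hi
      · have ho : Odd (orderOf (q : ZMod r)) := Nat.not_even_iff_odd.mp he
        have hcop : Nat.Coprime (orderOf (q : ZMod r)) 2 := Nat.coprime_two_right.mpr ho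
        have h1 : orderOf (q : ZMod r) ∣ j + 1 := hcop.dvd_of_dvd_mul_left hi
        exact Nat.mul_dvd_mul_left 2 h1
    obtain ⟨t, ht⟩ := hcd
    have hcpos : 0 < c := by
      rcases Nat.eq_zero_or_pos c with h0 | h0
      · rw [h0, zero_mul] at ht
        omega
      · exact h0
    have h1 := Nat.div_add_mod (2 * d + 1) c
    have h2 := Nat.mod_lt (2 * d + 1) hcpos
    have h3 : c * ((2 * d + 1) / c + 1) = c * ((2 * d + 1) / c) + c := Nat.mul_succ _ _
    have h4 : c * t < c * ((2 * d + 1) / c + 1) := by omega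
    have h5 : t ≤ (2 * d + 1) / c := Nat.lt_succ_iff.mp (Nat.lt_of_mul_lt_mul_left h4)
    have h6 : c * t ≤ c * ((2 * d + 1) / c) := Nat.mul_le_mul_left c h5
    omega

/-- NTEVEN (pure number theory) -/
theorem nt_sing_even {q r : ℕ} [Fact r.Prime] (hr2 : r ≠ 2) (hq : 2 ≤ q) (i : ℕ)
    (hi : i = orderOf (q : ZMod r)) (hi0 : 0 < i) (hie : Even i) (a : ℕ) (ha : 1 ≤ a) :
    (Even a → ¬ r ∣ (q ^ (i * a / 2) + 1) * (q ^ (i * a / 2 - 1) - 1)) ∧
    (Odd a → ¬ r ∣ (q ^ (i * a / 2) - 1) * (q ^ (i * a / 2 - 1) + 1)) := by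
  have hr : r.Prime := Fact.out
  have hq1 : 1 ≤ q := by omega
  obtain ⟨h, hh⟩ := hie
  have hh' : i = h * 2 := by omega
  have hh0 : 0 < h := by omega
  have h2 := NT.two_ne_zero' (r := r) hr2
  set x : ZMod r := (q : ZMod r) with hx
  -- x ^ h = -1
  have hxh : x ^ h = -1 := by
    have hsq : (x ^ h) ^ 2 = 1 := by
      rw [← pow_mul, ← hh', hi]
      exact pow_orderOf_eq_one _
    rcases sq_eq_one_iff.mp hsq with h1 | h1
    · exfalso
      have := orderOf_dvd_of_pow_eq_one h1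
      rw [← hi] at this
      have := Nat.le_of_dvd hh0 this
      omega
    · exact h1
  have hD : i * a / 2 = h * a := by
    rw [hh', Nat.mul_right_comm, Nat.mul_div_cancel _ (by norm_num : 0 < 2)]
  rw [hD]
  constructor
  · rintro ⟨a', ha'⟩ hdvd
    have hxD : x ^ (h * a) = 1 := by
      have : h * a = i * a' := by rw [ha', hh']; ring
      rw [this, pow_mul, hi]
      rw [pow_orderOf_eq_one, one_pow]
    rcases (Nat.Prime.dvd_mul hr).mp hdvd with h3 | h3
    · have := NT.cast_pow_add_one _ h3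
      rw [← hx, hxD] at this
      apply h2
      linear_combination this
    · have h4 := NT.cast_pow_sub_one hq1 _ h3
      have h5 := orderOf_dvd_of_pow_eq_one h4
      have h6 := orderOf_dvd_of_pow_eq_one hxD
      rw [← hi] at h5 h6
      have hD2 : 2 ≤ h * a := by
        have : h * 1 ≤ h * a' := Nat.mul_le_mul_left h (by omega)
        rw [ha']
        have e : h * (a' + a') = h * a' + h * a' := Nat.mul_add _ _ _
        omega
      have h7 : i ∣ 1 := by
        have h8 := Nat.dvd_sub h6 h5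
        rwa [show h * a - (h * a - 1) = 1 by omega] at h8
      have := Nat.le_of_dvd one_pos h7
      omega
  · rintro ⟨a', ha'⟩ hdvd
    have hxD : x ^ (h * a) = -1 := by
      rw [pow_mul, hxh, ha', pow_succ, pow_mul, neg_one_sq, one_pow, one_mul]
    rcases (Nat.Prime.dvd_mul hr).mp hdvd with h3 | h3
    · have := NT.cast_pow_sub_one hq1 _ h3
      rw [← hx, hxD] at this
      apply h2
      linear_combination -this
    · have h4 := NT.cast_pow_add_one _ h3
      rw [← hx] at h4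
      have hDpos : 1 ≤ h * a := Nat.mul_pos hh0 (by omega)
      have h5 : x ^ (h * a) = x ^ (h * a - 1) * x := by
        rw [← pow_succ, Nat.sub_add_cancel hDpos]
      rw [hxD, h4, neg_one_mul, neg_inj] at h5
      have h6 : orderOf x = 1 := by rw [← h5, orderOf_one]
      rw [← hi] at h6
      omega

end Cfsg.Agent.S5992P
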