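import Mathlib
import Cfsg.Prelude.Def_GeometricClasses
import Cfsg.Prelude.Def_Classical
import Cfsg.Prelude.Def_LieClassical
import Cfsg.Agent.Helper6.S5992Defs
import Cfsg.Agent.Helper15.S5992SUPND
import Cfsg.Agent.Helper8.S5992DISCSUM
import Cfsg.Agent.Helper6.S5992PLUSDISC

/-! S5992, piece TYPESUM: the type of an orthogonal sum. -/

set_option autoImplicit false
open scoped MatrixGroups
universe u

namespace Cfsg.Agent.S5992P

open Cfsg.Agent.Helper2.SympInvol Cfsg.Agent.Helper2.SympUnits Cfsg.Agent.S5961P Cfsg.Agent.S2614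
  Cfsg.Agent.S5955P

/-- TYPESUM -/
theorem plus_sup_iff {F V : Type*} [Field F] [Fintype F] [AddCommGroup V] [Module F V]
    [FiniteDimensional F V] (h2 : (2 : F) ≠ 0) (Q : QuadraticForm F V) (W₁ W₂ : Submodule F V)
    (h₁ : Nondeg (PB Q) W₁) (h₂ : Nondeg (PB Q) W₂) (ho : Orth (PB Q) W₁ W₂)
    (he₁ : Even (Module.finrank F W₁)) (he₂ : Even (Module.finrank F W₂)) :
    Plus Q (W₁ ⊔ W₂) ↔ (Plus Q W₁ ↔ Plus Q W₂) := by
  obtain ⟨hnd, -, hfr⟩ := nondeg_sup_orth Q W₁ W₂ h₁ h₂ ho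
  have he : Even (Module.finrank F ↥(W₁ ⊔ W₂)) := by
    rw [hfr]
    exact he₁.add he₂
  rw [plus_iff_discSq h2 Q _ hnd he, discSq_sup h2 Q W₁ W₂ h₁ h₂ ho he₁ he₂,
    plus_iff_discSq h2 Q W₁ h₁ he₁, plus_iff_discSq h2 Q W₂ h₂ he₂]

end Cfsg.Agent.S5992P
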