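import Mathlib
import Cfsg.Prelude.Def_GeometricClasses
import Cfsg.Prelude.Def_Classical
import Cfsg.Prelude.Def_LieClassical
import Cfsg.Agent.Helper6.S5992Defs
import Cfsg.Agent.Helper7.S5992ORTHSYM
import Cfsg.Agent.Helper15.S5992SUPND
import Cfsg.Agent.Helper15.S5992TYPESUM
import Cfsg.Agent.Helper22.S5992INVPLANE

/-! S5992, piece R2: an involution fixes subspaces of every type and even dimension. -/

set_option autoImplicit false
open scoped MatrixGroups
universe u

namespace Cfsg.Agent.S5992P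

open Cfsg.Agent.Helper2.SympInvol Cfsg.Agent.Helper2.SympUnits Cfsg.Agent.S5961P Cfsg.Agent.S2614
  Cfsg.Agent.S5955P

namespace R2

theorem isTy_bot {F V : Type*} [Field F] [AddCommGroup V] [Module F V]
    (Q : QuadraticForm F V) (ε : Bool) (hε : ε = true) : IsTy Q ε 0 (⊥ : Submodule F V) := by
  refine ⟨finrank_bot F V, ?_, ?_⟩
  · intro w hw hw0
    exact absurd ((Submodule.mem_bot F).mp hw) hw0
  · exact ⟨fun _ => hε, fun _ => plus_bot Q⟩

theorem main {F V : Type*} [Field F] [Fintype F] [AddCommGroup V] [Module F V]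
    [FiniteDimensional F V] (h2 : (2 : F) ≠ 0) (Q : QuadraticForm F V)
    (x : Module.End F V) (hxQ : ∀ v, Q (x v) = Q v) (hx2 : x * x = 1) (ε : Bool) :
    ∀ (k : ℕ) (M : Submodule F V), Nondeg (PB Q) M → M.map x ≤ M → (ε = false → 1 ≤ k) →
      2 * k + 1 ≤ Module.finrank F M →
      ∃ W : Submodule F V, W ≤ M ∧ IsTy Q ε (2 * k) W ∧ W.map x ≤ W := by
  intro k
  induction k with
  | zero =>
    intro M _ _ hε _
    refine ⟨⊥, bot_le, isTy_bot Q ε ?_, ?_⟩
    · cases ε
      · exact absurd (hε rfl) (by omega)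
      · rfl
    · rw [Submodule.map_bot]
  | succ k ih =>
    intro M hM hMx hε hle
    rcases Nat.eq_zero_or_pos k with rfl | hk
    · obtain ⟨A, hAM, hA, hAx⟩ :=
        exists_invariant_plane h2 Q M hM (by omega) x hxQ hx2 hMx ε
      exact ⟨A, hAM, hA, hAx⟩
    · obtain ⟨A, hAM, hA, hAx⟩ :=
        exists_invariant_plane h2 Q M hM (by omega) x hxQ hx2 hMx true
      obtain ⟨hAdim, hAnd, hAplus⟩ := hA
      obtain ⟨M', hM'M, hM'nd, hAM'o, -, -, hdim, hinv⟩ := orth_compl_sym Q M A hAM hM hAnd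
      have hxinj : Function.Injective x := by
        intro u v huv
        have h1 := congrArg x huv
        rwa [← Module.End.mul_apply, ← Module.End.mul_apply, hx2, Module.End.one_apply,
          Module.End.one_apply] at h1
      have hM'x := hinv x hxQ hxinj hAx hMx
      obtain ⟨W', hW'M', hW', hW'x⟩ := ih M' hM'nd hM'x (fun _ => hk) (by omega)
      obtain ⟨hW'dim, hW'nd, hW'plus⟩ := hW'
      have hoAW' : Orth (PB Q) A W' := fun u hu v hv => hAM'o u hu v (hW'M' hv)
      obtain ⟨hnd, -, hfr⟩ := nondeg_sup_orth Q A W' hAnd hW'nd hoAW'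
      refine ⟨A ⊔ W', sup_le hAM (hW'M'.trans hM'M),
        ⟨by rw [hfr, hAdim, hW'dim]; ring, hnd, ?_⟩, ?_⟩
      · rw [plus_sup_iff h2 Q A W' hAnd hW'nd hoAW' (by rw [hAdim]; exact even_two)
          (by rw [hW'dim]; exact even_two_mul k), hW'plus]
        have hPA : Plus Q A := hAplus.mpr rfl
        constructor
        · intro h
          exact h.mp hPA
        · intro h
          exact ⟨fun _ => h, fun _ => hPA⟩
      · rw [Submodule.map_sup]
        exact sup_le_sup hAx hW'x

end R2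

/-- R2 -/
theorem exists_ty_of_invol {F V : Type*} [Field F] [Fintype F] [AddCommGroup V] [Module F V]
    [FiniteDimensional F V] (h2 : (2 : F) ≠ 0) (Q : QuadraticForm F V) (hnd : Nondeg (PB Q) ⊤)
    (x : Module.End F V) (hxQ : ∀ v, Q (x v) = Q v) (hx2 : x * x = 1) (ε : Bool) (m : ℕ)
    (hme : Even m) (hε : ε = false → 2 ≤ m) (hmn : m + 1 ≤ Module.finrank F V) :
    ∃ W : Submodule F V, IsTy Q ε m W ∧ W.map x ≤ W := by
  obtain ⟨k, hk⟩ := hme
  obtain ⟨W, -, hW, hWx⟩ := R2.main h2 Q x hxQ hx2 ε k ⊤ hnd le_top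
    (fun h => by have := hε h; omega) (by rw [finrank_top]; omega)
  refine ⟨W, ?_, hWx⟩
  rw [hk, ← two_mul]
  exact hW

end Cfsg.Agent.S5992P
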