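import Mathlib
import Cfsg.Prelude.Def_GeometricClasses
import Cfsg.Prelude.Def_Classical
import Cfsg.Prelude.Def_LieClassical
import Cfsg.Agent.Helper20.S6000Defs
import Cfsg.Agent.Helper28.S6001Defs
import Cfsg.Agent.Helper28.HermFrame

/-! S6001 piece INJ5 (driver helper28): a unitary `5`-element fixing a totally isotropic plane of
`F⁴` pointwise is trivial (`p ≠ 5`). -/

set_option autoImplicit false
open scoped MatrixGroups Matrix

namespace Cfsg.Agent.S6001P

open Cfsg.Agent.S6000P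

namespace INJ5

theorem herm_sub_left {F : Type*} [Field F] (p : ℕ) (x x' y : Fin 4 → F) :
    Cfsg.hermForm 4 F p (x - x') y = Cfsg.hermForm 4 F p x y - Cfsg.hermForm 4 F p x' y := by
  simp [Cfsg.hermForm, sub_mul, Finset.sum_sub_distrib]

end INJ5

open Cfsg.Agent.Helper28.HermFrame Cfsg.Agent.Helper28 in
/-- INJ5 -/
theorem eq_one_of_fix_ti {F : Type*} [Field F] [Fintype F] {p : ℕ} [Fact p.Prime] [CharP F p]
    (hF : Fintype.card F = p ^ 2) (hp5 : p ≠ 5) (W : Submodule F (Fin 4 → F))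
    (hW2 : Module.finrank F W = 2)
    (hWti : ∀ u ∈ W, ∀ v ∈ W, Cfsg.hermForm 4 F p u v = 0) (h : GL (Fin 4) F)
    (hh : h ∈ Cfsg.GU 4 F p) (hfix : ∀ w ∈ W, (h : M4 F) *ᵥ w = w) (k : ℕ)
    (hk : h ^ (5 ^ k) = 1) : h = 1 := by
  have hp : p.Prime := Fact.out
  set σ : F →+* F := frobenius F p with hσdef
  have hσ : ∀ x, σ x = x ^ p := fun x => frobenius_def p x
  have hσ2 : ∀ a, σ (σ a) = a := fun a => by rw [hσ, hσ, pow_p_pow_p p hF]
  set H : M4 F := (h : M4 F) with hH
  have hdagfix : ∀ w ∈ W, dag p H *ᵥ w = w := by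
    intro w hw
    have h1 : dag p H * H = 1 := (mem_GU_iff_dag p h).mp hh
    calc dag p H *ᵥ w = dag p H *ᵥ (H *ᵥ w) := by rw [hfix w hw]
      _ = w := by rw [Matrix.mulVec_mulVec, h1, Matrix.one_mulVec]
  have hperp : ∀ v, (H - 1) *ᵥ v ∈ HW.perp (hB σ 4) W := by
    intro v
    rw [HW.mem_perp]
    intro w hw
    rw [hB_eq_herm σ hσ, Matrix.sub_mulVec, Matrix.one_mulVec, INJ5.herm_sub_left,
      herm_mulVec_left p H v w hF, hdagfix w hw, sub_self]
  have hWle : W ≤ HW.perp (hB σ 4) W := by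
    intro u hu
    rw [HW.mem_perp]
    intro x hx
    rw [hB_eq_herm σ hσ]
    exact hWti u hu x hx
  have hfr := HW.finrank_perp hσ2 (hB_nondeg σ hσ2 4) W
  rw [hW2, Module.finrank_fin_fun] at hfr
  have hperp2 : Module.finrank F (HW.perp (hB σ 4) W) = 2 := by omega
  have heq : W = HW.perp (hB σ 4) W :=
    Submodule.eq_of_le_of_finrank_eq hWle (by rw [hW2, hperp2])
  have hN2 : (H - 1) * (H - 1) = 0 := by
    apply Matrix.toLin'.injective
    apply LinearMap.ext
    intro v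
    rw [Matrix.toLin'_apply, ← Matrix.mulVec_mulVec, map_zero, LinearMap.zero_apply]
    have hv : (H - 1) *ᵥ v ∈ W := by
      rw [heq]; exact hperp v
    rw [Matrix.sub_mulVec, Matrix.one_mulVec, hfix _ hv, sub_self]
  have hHp : H ^ p = 1 := by
    have h1 : H = 1 + (H - 1) := by abel
    have hcomm : Commute (1 : M4 F) (H - 1) := Commute.one_left _
    have hNp : (H - 1) ^ p = 0 := by
      have h2p : 2 ≤ p := hp.two_le
      obtain ⟨m, rfl⟩ := Nat.exists_eq_add_of_le h2p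
      rw [pow_add, pow_two, hN2, zero_mul]
    rw [h1, add_pow_char_of_commute p hcomm, one_pow, hNp, add_zero]
  have hhp : h ^ p = 1 := by
    apply Units.ext
    rw [Units.val_pow_eq_pow_val, Units.val_one]
    exact hHp
  have hd1 : orderOf h ∣ p := orderOf_dvd_of_pow_eq_one hhp
  have hd2 : orderOf h ∣ 5 ^ k := orderOf_dvd_of_pow_eq_one hk
  have hcop : Nat.Coprime p (5 ^ k) :=
    Nat.Coprime.pow_right k ((Nat.coprime_primes hp (by norm_num)).mpr hp5)
  have hd3 : orderOf h ∣ 1 := by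
    have := Nat.dvd_gcd hd1 hd2
    rwa [hcop] at this
  exact orderOf_eq_one_iff.mp (Nat.dvd_one.mp hd3)

end Cfsg.Agent.S6001P
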