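import Mathlib
import Cfsg.Prelude.Def_GeometricClasses
import Cfsg.Prelude.Def_Classical
import Cfsg.Prelude.Def_LieClassical
import Cfsg.Agent.Helper20.S6000Defs
import Cfsg.Agent.Helper28.S6001Defs
import Cfsg.Agent.Helper23.S6000INVTRACE
import Cfsg.Agent.Helper13.S5984DETEIG

/-! S6001 piece INVDET (driver helper28): trace and determinant of a nonscalar involution of
`GL₄(F)`, `2 ≠ 0`. -/

set_option autoImplicit false
open scoped MatrixGroups Matrix

namespace Cfsg.Agent.S6001P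

open Cfsg.Agent.S6000P

namespace INVDET

theorem Ep_eq {F : Type*} [Field F] (T : M4 F) :
    INVTRACE.Ep T = Module.End.eigenspace (Matrix.toLin' T) 1 := by
  ext v
  rw [INVTRACE.mem_Ep, Cfsg.Agent.S5984P.mem_eig, one_smul]

end INVDET

/-- INVDET -/
theorem det_of_invol {F : Type*} [Field F] (h2 : (2 : F) ≠ 0) (τ : GL (Fin 4) F)
    (hτ : τ * τ = 1) (hns : ∀ z : F, (τ : M4 F) ≠ z • (1 : M4 F)) :
    (Matrix.trace (τ : M4 F) = 0 ∧ (τ : M4 F).det = 1) ∨
      ((Matrix.trace (τ : M4 F) = 2 ∨ Matrix.trace (τ : M4 F) = -2) ∧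
        (τ : M4 F).det = -1) := by
  have hT : (τ : M4 F) * (τ : M4 F) = 1 := by
    rw [← Units.val_mul, hτ, Units.val_one]
  have hx : (τ : M4 F) * (τ : M4 F) = ((1 : F) ^ 2) • (1 : Matrix (Fin 4) (Fin 4) F) := by
    rw [hT, one_pow, one_smul]
  have hdet := Cfsg.Agent.S5984P.det_of_sq h2 (τ : M4 F) 1 one_ne_zero hx
  have hsum := (Cfsg.Agent.S5984P.eig_decomp h2 (τ : M4 F) 1 one_ne_zero hx).2
  have htr := INVTRACE.trace_eq h2 (τ : M4 F) hT
  obtain ⟨h1, h3⟩ := INVTRACE.finrank_pos h2 (τ : M4 F) hT hns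
  rw [INVDET.Ep_eq, ← Cfsg.Agent.S5984P.kd_def] at htr h1 h3
  rw [one_pow, one_mul] at hdet
  have hM : ((τ : GL (Fin 4) F) : M4 F).det = (-1 : F) ^ Cfsg.Agent.S5984P.kd (τ : M4 F) (-1) := hdet
  rw [hM, htr]
  generalize Cfsg.Agent.S5984P.kd (τ : M4 F) 1 = r at h1 h3 hsum
  generalize Cfsg.Agent.S5984P.kd (τ : M4 F) (-1) = s at hsum
  interval_cases r
  · have hs : s = 3 := by omega
    subst hs
    right
    refine ⟨Or.inr ?_, ?_⟩
    · push_cast; ring
    · ring
  · have hs : s = 2 := by omega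
    subst hs
    left
    refine ⟨?_, ?_⟩
    · push_cast; ring
    · ring
  · have hs : s = 1 := by omega
    subst hs
    right
    refine ⟨Or.inl ?_, ?_⟩
    · push_cast; ring
    · ring

end Cfsg.Agent.S6001P
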