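import Mathlib
import Cfsg.Prelude.Def_GeometricClasses
import Cfsg.Prelude.Def_Classical
import Cfsg.Prelude.Def_LieClassical
import Cfsg.Agent.Helper20.S6000Defs
import Cfsg.Agent.Helper28.S6001Defs

/-! S6001 piece USPU (driver helper28): `1 + s` is a unitary similitude when `s` is unitary with
`s * s = -1`. -/

set_option autoImplicit false
open scoped MatrixGroups Matrix

namespace Cfsg.Agent.S6001P

open Cfsg.Agent.S6000P

/-- USPU -/
theorem one_add_similitude {F : Type*} [Field F] {p : ℕ} [Fact p.Prime] [CharP F p]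
    (s : GL (Fin 4) F) (hs : s ∈ Cfsg.GU 4 F p) (hs2 : s * s = -1) :
    dag p (1 + (s : M4 F)) * (1 + (s : M4 F)) = (2 : F) • (1 : M4 F) := by
  have hS : (s : M4 F) * (s : M4 F) = -1 := by
    have := congrArg (fun g : GL (Fin 4) F => (g : M4 F)) hs2
    simpa using this
  have hd : dag p (s : M4 F) * (s : M4 F) = 1 := (mem_GU_iff_dag p s).mp hs
  have hinv : (s : M4 F) * (-(s : M4 F)) = 1 := by
    rw [mul_neg, hS, neg_neg]
  have hdag : dag p (s : M4 F) = -(s : M4 F) := by
    calc dag p (s : M4 F) = dag p (s : M4 F) * ((s : M4 F) * (-(s : M4 F))) := by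
          rw [hinv, mul_one]
      _ = -(s : M4 F) := by rw [← mul_assoc, hd, one_mul]
  rw [dag_add, dag_one, hdag, two_smul]
  have : (1 + -(s : M4 F)) * (1 + (s : M4 F)) = 1 - (s : M4 F) * (s : M4 F) := by
    noncomm_ring
  rw [this, hS, sub_neg_eq_add]

end Cfsg.Agent.S6001P
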