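import Mathlib

set_option autoImplicit false

/-! S6002, piece NT5: a root of `t² + t - 1` in `F_p` when `ord_5(p) ≠ 4`. -/

namespace Cfsg.Agent.S6002P

namespace NT5

theorem orderOf_two : orderOf (2 : ZMod 5) = 4 := by
  rw [orderOf_eq_iff (by norm_num)]
  refine ⟨by decide, ?_⟩
  intro m hm hm0
  interval_cases m <;> decide

theorem orderOf_three : orderOf (3 : ZMod 5) = 4 := by
  rw [orderOf_eq_iff (by norm_num)]
  refine ⟨by decide, ?_⟩
  intro m hm hm0
  interval_cases m <;> decide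

theorem isSquare_five {p : ℕ} [Fact p.Prime] (hp5 : p ≠ 5) (hodd : Odd p)
    (h : orderOf (p : ZMod 5) ≠ 4) : IsSquare ((5 : ℕ) : ZMod p) := by
  have : Fact (Nat.Prime 5) := ⟨by norm_num⟩
  have hp : p.Prime := Fact.out
  have hp2 : p ≠ 2 := by
    rintro rfl
    exact absurd hodd (by decide)
  rw [← ZMod.exists_sq_eq_prime_iff_of_mod_four_eq_one (by norm_num : 5 % 4 = 1) hp2]
  have hcast : ((p % 5 : ℕ) : ZMod 5) = (p : ZMod 5) := ZMod.natCast_mod p 5
  have hlt : p % 5 < 5 := Nat.mod_lt _ (by norm_num)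
  have h0 : p % 5 ≠ 0 := by
    intro h0
    have : 5 ∣ p := Nat.dvd_of_mod_eq_zero h0
    exact hp5 ((Nat.prime_dvd_prime_iff_eq (by norm_num) hp).mp this).symm
  rw [← hcast] at h ⊢
  interval_cases hm : p % 5
  · exact absurd rfl h0
  · exact ⟨1, by simp⟩
  · exact absurd orderOf_two h
  · exact absurd orderOf_three h
  · exact ⟨2, by norm_num⟩

end NT5

/-- NT5 -/
theorem exists_root_of_ord_ne_four {F : Type*} [Field F] [Fintype F] {p : ℕ} [Fact p.Prime]
    [CharP F p] (hF : Fintype.card F = p) (hodd : Odd p) (h : orderOf (p : ZMod 5) ≠ 4) :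
    ∃ t : F, t * t + t - 1 = 0 := by
  by_cases hp5 : p = 5
  · subst hp5
    refine ⟨2, ?_⟩
    have h5 : ((5 : ℕ) : F) = 0 := CharP.cast_eq_zero F 5
    have : (2 : F) * 2 + 2 - 1 = ((5 : ℕ) : F) := by norm_num
    rw [this, h5]
  · obtain ⟨s, hs⟩ := NT5.isSquare_five hp5 hodd h
    have h2 : (2 : F) ≠ 0 := by
      intro h2
      have h2' : ((2 : ℕ) : F) = 0 := by exact_mod_cast h2
      rw [CharP.cast_eq_zero_iff F p] at h2'
      have hp : p.Prime := Fact.out
      have := (Nat.prime_dvd_prime_iff_eq hp Nat.prime_two).mp h2'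
      subst this
      exact absurd hodd (by decide)
    set s' : F := ZMod.castHom (dvd_refl p) F s with hs'
    have hss : s' * s' = 5 := by
      rw [hs', ← map_mul, ← hs, map_natCast]
      norm_num
    refine ⟨(s' - 1) / 2, ?_⟩
    field_simp
    linear_combination hss

end Cfsg.Agent.S6002P
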