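import Mathlib
import Cfsg.Prelude.Def_ConjugacyFunctors
import Cfsg.Prelude.Def_EvenType
import Cfsg.Agent.Helper15.SCControl
import Cfsg.Agent.Helper26.PStableQuot
import Cfsg.Agent.Helper10.Fusion
import Cfsg.Agent.Helper10.PGroupBasic
import Cfsg.Agent.S3836

set_option autoImplicit false
set_option linter.unusedSectionVars false
set_option linter.style.haveILetI false

/-! S3080: `N_G(Z(J(D)))` controls strong fusion for a strongly closed subgroup `D`, in a
`p`-stable group with `p`-constrained `p`-locals. -/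

namespace Cfsg.Agent.Helper15

open Subgroup Cfsg Cfsg.Agent.Lead.TNC Cfsg.Agent.Helper14 Cfsg.Agent.Helper26
open scoped commutatorElement

universe u

variable {p : ℕ} [Fact p.Prime]

/-- The factorization `N = O_{p'}(N) N_N(W(D))` for a strongly closed subgroup `D`. -/
theorem sc_factorization (hp2 : p ≠ 2) (F : CharFunctor.{u} p) (e : ℕ) (he : e = 0 ∨ Odd e)
    (hF : ∀ (G : Type u) [Group G] [Finite G] (D : Subgroup G),
      F.W D = sInf (Cfsg.Agent.Helper26.famEl e D))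
    {N : Type u} [Group N] [Finite N] (hc : IsPConstrained p N) (hs : IsPStable p N)
    (S : Sylow p N) (D : Subgroup N) (hD : IsStronglyClosed D (S : Subgroup N)) :
    pPrimeCore p N ⊔ normalizer (F.W D : Set N) = ⊤ := by
  have hK : (Nat.card (pPrimeCore p N)).Coprime p := Cfsg.Agent.Helper19.pPrimeCore_coprime p
  have hDp : IsPGroup p D := S.isPGroup'.to_le hD.1
  have hD' : IsStronglyClosed (D.map (QuotientGroup.mk' (pPrimeCore p N)))
      ((S.mapSurjective (QuotientGroup.mk'_surjective (pPrimeCore p N)) :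
        Sylow p (N ⧸ pPrimeCore p N)) : Subgroup (N ⧸ pPrimeCore p N)) := by
    rw [Sylow.coe_mapSurjective]
    exact stronglyClosed_map_mk S (pPrimeCore p N) hD
  have hnorm := normal_sInf_famEl_of_stronglyClosed hp2 e he _ _ hD'
    (Cfsg.Agent.Helper26.stabHypSub_quotient hs)
    (centralizer_pCore_quotient_le_of_isPConstrained hc)
  rw [← hF, F.map _ D (psq_injOn hK hDp)] at hnorm
  have hWp : IsPGroup p (F.W D) := hDp.to_le (F.le D)
  apply psq_frattini hK hWp
  rw [psq_sup_eq_comap]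
  exact hnorm.comap _

/-- `p`-stability in the normalizer form gives `IsPStable` when `O_p ≠ 1`, `p` odd. -/
theorem isPStable_of_isNormalizerPStable (hp2 : p ≠ 2) {N : Type*} [Group N]
    (hst : IsNormalizerPStable p N) (hO : pCore p N ≠ ⊥) : IsPStable p N := by
  have hpp : p.Prime := Fact.out
  refine ⟨hpp.odd_of_ne_two hp2, hO, ?_⟩
  intro A P _ hP _ _ _ hq
  rintro _ ⟨⟨a, haN⟩, ha, rfl⟩
  rw [SetLike.mem_coe, mem_subgroupOf] at ha
  apply hst P hP a haN
  rw [eq_bot_iff, ← hq]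
  exact commutator_mono (commutator_mono le_rfl (zpowers_le.mpr ha)) (zpowers_le.mpr ha)

/-- From a factorization `X = K M` with `K` a normal `p'`-subgroup, fusion of subsets of a
`p`-subgroup `T ≤ M` is controlled by `M`. -/
theorem exists_mem_agree_of_factorization {X : Type*} [Group X] [Finite X] (K M T : Subgroup X)
    [hKn : K.Normal] (hK : (Nat.card K).Coprime p) (hT : IsPGroup p T) (hTM : T ≤ M)
    (h : X) (hh : h ∈ M ⊔ K) (A : Set X) (hA : A ⊆ T) (hAh : ∀ a ∈ A, h * a * h⁻¹ ∈ T) :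
    ∃ x ∈ M, ∀ a ∈ A, x * a * x⁻¹ = h * a * h⁻¹ := by
  obtain ⟨m, hm, k, hk, rfl⟩ := mem_sup_of_normal_right.mp hh
  set B : Subgroup X := closure A with hB
  have hBT : B ≤ T := (closure_le T).mpr hA
  have hBp : IsPGroup p B := hT.to_le hBT
  have hBM : B ≤ M := hBT.trans hTM
  have hAB : A ⊆ B := subset_closure
  -- `k B k⁻¹ ≤ M`
  have hB'M : B.map (cj k) ≤ M := by
    rw [hB, MonoidHom.map_closure, closure_le]
    rintro _ ⟨a, ha, rfl⟩
    have h1 := hTM (hAh a ha)
    have e : cj k a = m⁻¹ * (m * k * a * (m * k)⁻¹) * m := by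
      rw [cj_apply]; group
    rw [e]
    exact M.mul_mem (M.mul_mem (M.inv_mem hm) h1) hm
  have hB'p : IsPGroup p (B.map (cj k)) := hBp.map _
  have hsyl : IsSylowIn p B (B ⊔ K) := by
    refine ⟨le_sup_left, hBp, ?_⟩
    intro Q hQle hQp hBQ
    apply le_antisymm _ hBQ
    intro q hq
    obtain ⟨b, hb, c, hc, rfl⟩ := mem_sup_of_normal_right.mp (hQle hq)
    have hcQ : c ∈ Q ⊓ K := by
      refine ⟨?_, hc⟩
      have : c = b⁻¹ * (b * c) := by group
      rw [this]
      exact Q.mul_mem (Q.inv_mem (hBQ hb)) hq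
    rw [psq_inf_eq_bot hK hQp, mem_bot] at hcQ
    rw [hcQ, mul_one]
    exact hb
  have hsyl' : IsSylowIn p (B.map (cj k)) (B ⊔ K) := by
    have := hsyl.map_cj k
    rwa [map_cj_eq_self_of_mem (mem_sup_right hk)] at this
  have hsylY : IsSylowIn p B (M ⊓ (B ⊔ K)) :=
    ⟨le_inf hBM le_sup_left, hBp, fun Q hQ hQp hle => hsyl.2.2 Q (hQ.trans inf_le_right) hQp hle⟩
  have hsylY' : IsSylowIn p (B.map (cj k)) (M ⊓ (B ⊔ K)) :=
    ⟨le_inf hB'M hsyl'.1, hB'p,
      fun Q hQ hQp hle => hsyl'.2.2 Q (hQ.trans inf_le_right) hQp hle⟩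
  obtain ⟨y, hyY, hy⟩ := hsylY.exists_conj hsylY'
  obtain ⟨b₀, hb₀, c, hc, hbc⟩ := mem_sup_of_normal_right.mp hyY.2
  have hcM : c ∈ M := by
    have : c = b₀⁻¹ * y := by rw [← hbc]; group
    rw [this]
    exact M.mul_mem (M.inv_mem (hBM hb₀)) hyY.1
  -- `k₂ = b₀ y⁻¹ k` lies in `K` and normalizes `B`
  have hk₂K : b₀ * y⁻¹ * k ∈ K := by
    have : b₀ * y⁻¹ * k = (b₀ * c⁻¹ * b₀⁻¹) * k := by rw [← hbc]; group
    rw [this]
    exact K.mul_mem (hKn.conj_mem _ (K.inv_mem hc) b₀) hk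
  have hk₂N : B.map (cj (b₀ * y⁻¹ * k)) = B := by
    rw [mul_assoc, ← map_cj_mul, ← map_cj_mul, hy, map_cj_map_cj_inv,
      map_cj_eq_self_of_mem hb₀]
  have hk₂C : ∀ b ∈ B, (b₀ * y⁻¹ * k) * b * (b₀ * y⁻¹ * k)⁻¹ = b := by
    intro b hb
    have h1 : (b₀ * y⁻¹ * k) * b * (b₀ * y⁻¹ * k)⁻¹ ∈ B := by
      have : (b₀ * y⁻¹ * k) * b * (b₀ * y⁻¹ * k)⁻¹ ∈ B.map (cj (b₀ * y⁻¹ * k)) := ⟨b, hb, rfl⟩
      rwa [hk₂N] at this
    have h2 : (b₀ * y⁻¹ * k) * b * (b₀ * y⁻¹ * k)⁻¹ * b⁻¹ ∈ B ⊓ K := by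
      refine ⟨B.mul_mem h1 (B.inv_mem hb), ?_⟩
      have e : (b₀ * y⁻¹ * k) * b * (b₀ * y⁻¹ * k)⁻¹ * b⁻¹ =
          (b₀ * y⁻¹ * k) * (b * (b₀ * y⁻¹ * k)⁻¹ * b⁻¹) := by group
      rw [e]
      exact K.mul_mem hk₂K (hKn.conj_mem _ (K.inv_mem hk₂K) b)
    rw [psq_inf_eq_bot hK hBp, mem_bot] at h2
    calc (b₀ * y⁻¹ * k) * b * (b₀ * y⁻¹ * k)⁻¹
        = ((b₀ * y⁻¹ * k) * b * (b₀ * y⁻¹ * k)⁻¹ * b⁻¹) * b := by group
      _ = b := by rw [h2, one_mul]
  -- `k = c' k₂` with `c' = b₀ c b₀⁻¹ ∈ M`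
  refine ⟨m * (b₀ * c * b₀⁻¹), M.mul_mem hm (M.mul_mem (M.mul_mem (hBM hb₀) hcM)
    (M.inv_mem (hBM hb₀))), ?_⟩
  intro a ha
  have h1 := hk₂C a (hAB ha)
  have hk : k = (b₀ * c * b₀⁻¹) * (b₀ * y⁻¹ * k) := by rw [← hbc]; group
  calc m * (b₀ * c * b₀⁻¹) * a * (m * (b₀ * c * b₀⁻¹))⁻¹
      = m * (b₀ * c * b₀⁻¹) * ((b₀ * y⁻¹ * k) * a * (b₀ * y⁻¹ * k)⁻¹) *
          (m * (b₀ * c * b₀⁻¹))⁻¹ := by rw [h1]
    _ = m * ((b₀ * c * b₀⁻¹) * (b₀ * y⁻¹ * k)) * a *
          (m * ((b₀ * c * b₀⁻¹) * (b₀ * y⁻¹ * k)))⁻¹ := by group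
    _ = m * k * a * (m * k)⁻¹ := by rw [← hk]

section Functor

variable {G : Type u} [Group G]

open Classical in
/-- the conjugacy functor attached to a characteristic functor `F` and a strongly closed
subgroup `D`: `W(T) = F(T ∩ D^g)` when this intersection is nontrivial, and `F(T)` otherwise. -/
noncomputable def scFunctor (F : CharFunctor.{u} p) (D : Subgroup G) (T : Subgroup G) :
    Subgroup G :=
  if dpart D T = ⊥ then F.W T else F.W (dpart D T)

theorem scFunctor_of_ne (F : CharFunctor.{u} p) (D T : Subgroup G) (h : dpart D T ≠ ⊥) :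
    scFunctor F D T = F.W (dpart D T) := by
  unfold scFunctor
  rw [if_neg h]

theorem charFunctor_map_conj (F : CharFunctor.{u} p) (X : Subgroup G) (g : G) :
    F.W (X.map (MulAut.conj g).toMonoidHom) = (F.W X).map (MulAut.conj g).toMonoidHom :=
  F.map (MulAut.conj g).toMonoidHom X (MulAut.conj g).injective.injOn

theorem isConjugacyFunctor_scFunctor [Finite G] (F : CharFunctor.{u} p) (D : Subgroup G) :
    IsConjugacyFunctor p (scFunctor F D) := by
  intro P hP
  refine ⟨?_, ?_, ?_⟩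
  · unfold scFunctor
    split_ifs with h
    · exact F.le P
    · exact (F.le _).trans (dpart_le D P)
  · intro hne
    unfold scFunctor
    split_ifs with h
    · exact F.ne_bot P hP hne
    · exact F.ne_bot _ (hP.to_le (dpart_le D P)) h
  · intro g
    have h1 := dpart_map_conj D P g
    unfold scFunctor
    by_cases h : dpart D P = ⊥
    · have h2 : dpart D (P.map (MulAut.conj g).toMonoidHom) = ⊥ := by
        rw [← h1, h, Subgroup.map_bot]
      rw [if_pos h, if_pos h2]
      exact charFunctor_map_conj F P g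
    · have h2 : dpart D (P.map (MulAut.conj g).toMonoidHom) ≠ ⊥ := by
        rw [← h1]
        intro h3
        exact h ((Subgroup.map_eq_bot_iff_of_injective _ (MulAut.conj g).injective).mp h3)
      rw [if_neg h, if_neg h2, ← h1]
      exact charFunctor_map_conj F _ g

end Functor

section Main

variable {G : Type u} [Group G] [Finite G]

theorem dpart_eq_inf_of_le {P : Sylow p G} {D : Subgroup G}
    (hD : IsStronglyClosed D (P : Subgroup G)) {S : Subgroup G} (hS : S ≤ (P : Subgroup G)) :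
    dpart D S = S ⊓ D := by
  have h1 : S ≤ (P : Subgroup G).map (MulAut.conj (1 : G)).toMonoidHom := by
    intro x hx
    exact ⟨x, hS hx, by simp⟩
  rw [dpart_eq_of_le hD h1]
  have : D.map (MulAut.conj (1 : G)).toMonoidHom = D := by
    ext x
    constructor
    · rintro ⟨y, hy, rfl⟩
      simpa using hy
    · intro hx
      exact ⟨x, hx, by simp⟩
  rw [this]

/-- a nontrivial strongly closed subgroup meets the centre of `P` nontrivially -/
theorem exists_mem_center_of_stronglyClosed (P : Sylow p G) {D : Subgroup G}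
    (hD : IsStronglyClosed D (P : Subgroup G)) (hD1 : D ≠ ⊥) :
    ∃ z ∈ D, z ≠ 1 ∧ ∀ s ∈ (P : Subgroup G), s * z = z * s := by
  have hn : (D.subgroupOf (P : Subgroup G)).Normal := by
    constructor
    intro x hx s
    rw [mem_subgroupOf] at hx ⊢
    push_cast
    exact hD.2 _ hx _ (mul_mem (mul_mem s.2 (hD.1 hx)) (inv_mem s.2))
  have hne : D.subgroupOf (P : Subgroup G) ≠ ⊥ := by
    intro h
    apply hD1
    rw [subgroupOf_eq_bot] at h
    have := h.eq_bot
    rwa [inf_eq_left.mpr hD.1] at this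
  obtain ⟨z, hz, hz1, hzc⟩ := Cfsg.Agent.Helper10.exists_ne_one_mem_inf_center
    (G := ↥(P : Subgroup G)) P.isPGroup' (D.subgroupOf (P : Subgroup G)) hne
  refine ⟨(z : G), mem_subgroupOf.mp hz, fun h => hz1 (Subtype.ext h), ?_⟩
  intro s hs
  have := Subgroup.mem_center_iff.mp hzc ⟨s, hs⟩
  exact congrArg Subtype.val this

/-- the local step: control of strong fusion in `N_G(T)` -/
theorem sc_local (hp2 : p ≠ 2) (F : CharFunctor.{u} p) (e : ℕ) (he : e = 0 ∨ Odd e)
    (hF : ∀ (G : Type u) [Group G] [Finite G] (D : Subgroup G),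
      F.W D = sInf (Cfsg.Agent.Helper26.famEl e D))
    (P : Sylow p G) (D : Subgroup G) (hD : IsStronglyClosed D (P : Subgroup G)) (hD1 : D ≠ ⊥)
    (hst : IsNormalizerPStable p G)
    (hc : ∀ U : Subgroup G, U ≤ (P : Subgroup G) → U ≠ ⊥ →
      IsPConstrained p ↥(normalizer (U : Set G)))
    (T : Subgroup G) (hT1 : T ≠ ⊥) (hTP : T ≤ (P : Subgroup G))
    (hidx : ¬ p ∣ ((P : Subgroup G) ⊓ normalizer (T : Set G)).relIndex (normalizer (T : Set G))) :
    ControlsStrongFusionIn p (scFunctor F D) (normalizer (T : Set G)) := by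
  have hTp : IsPGroup p T := P.isPGroup'.to_le hTP
  have hT₁p : IsPGroup p ((P : Subgroup G) ⊓ normalizer (T : Set G) : Subgroup G) :=
    P.isPGroup'.to_le inf_le_left
  refine ⟨(P : Subgroup G) ⊓ normalizer (T : Set G), inf_le_right, hT₁p, hidx, ?_⟩
  intro A h hhN hAT hAh
  have hT₁N : IsPGroup p (((P : Subgroup G) ⊓ normalizer (T : Set G)).subgroupOf
      (normalizer (T : Set G))) := hT₁p.comap_subtype
  obtain ⟨S₁, hS₁⟩ : ∃ S₁ : Sylow p ↥(normalizer (T : Set G)), (S₁ : Subgroup _) =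
      ((P : Subgroup G) ⊓ normalizer (T : Set G)).subgroupOf (normalizer (T : Set G)) :=
    ⟨hT₁N.toSylow hidx, IsPGroup.toSylow_coe hT₁N hidx⟩
  have hD₁ : IsStronglyClosed
      ((D ⊓ ((P : Subgroup G) ⊓ normalizer (T : Set G))).subgroupOf (normalizer (T : Set G)))
      (S₁ : Subgroup ↥(normalizer (T : Set G))) := by
    rw [hS₁]
    constructor
    · intro x hx
      rw [mem_subgroupOf] at hx ⊢
      exact hx.2
    · intro x hx g' hg'
      rw [mem_subgroupOf] at hx hg' ⊢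
      push_cast at hg' ⊢
      exact ⟨hD.2 _ hx.1 _ hg'.1, hg'⟩
  have hcN : IsPConstrained p ↥(normalizer (T : Set G)) := hc T hTP hT1
  have hstN : IsNormalizerPStable p ↥(normalizer (T : Set G)) :=
    Cfsg.Agent.S3836.result hst _
  have hON : pCore p ↥(normalizer (T : Set G)) ≠ ⊥ := by
    have hle : T.subgroupOf (normalizer (T : Set G)) ≤ pCore p ↥(normalizer (T : Set G)) :=
      Cfsg.Agent.Helper14.le_pCore p inferInstance hTp.comap_subtype
    intro h0
    rw [h0, le_bot_iff, subgroupOf_eq_bot] at hle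
    apply hT1
    have := hle.eq_bot
    rwa [inf_eq_left.mpr le_normalizer] at this
  have hsN := isPStable_of_isNormalizerPStable hp2 hstN hON
  have hfac := sc_factorization hp2 F e he hF hcN hsN S₁ _ hD₁
  have hK : (Nat.card (pPrimeCore p ↥(normalizer (T : Set G)))).Coprime p :=
    Cfsg.Agent.Helper19.pPrimeCore_coprime p
  -- `S₁` normalizes `W(D₁)`
  have hS₁M : (S₁ : Subgroup ↥(normalizer (T : Set G))) ≤ normalizer ((F.W
      ((D ⊓ ((P : Subgroup G) ⊓ normalizer (T : Set G))).subgroupOf (normalizer (T : Set G))) :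
        Subgroup ↥(normalizer (T : Set G))) : Set ↥(normalizer (T : Set G))) := by
    refine le_trans ?_ (F.normalizer_le _)
    intro s hs
    apply mem_normalizer_fintype
    intro x hx
    exact hD₁.2 x hx s (mul_mem (mul_mem hs (hD₁.1 hx)) (inv_mem hs))
  obtain ⟨x, hxM, hx⟩ := exists_mem_agree_of_factorization
    (pPrimeCore p ↥(normalizer (T : Set G))) _ (S₁ : Subgroup ↥(normalizer (T : Set G))) hK
    S₁.isPGroup' hS₁M (⟨h, hhN⟩ : ↥(normalizer (T : Set G)))
    (by rw [sup_comm, hfac]; exact mem_top _)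
    {a : ↥(normalizer (T : Set G)) | (a : G) ∈ A}
    (by
      intro a ha
      rw [SetLike.mem_coe, hS₁, mem_subgroupOf]
      exact hAT ha)
    (by
      intro a ha
      rw [hS₁, mem_subgroupOf]
      push_cast
      exact hAh ⟨(a : G), ha, rfl⟩)
  refine ⟨(x : G), ⟨x.2, ?_⟩, ?_⟩
  · have hdp : dpart D ((P : Subgroup G) ⊓ normalizer (T : Set G)) =
        (P : Subgroup G) ⊓ normalizer (T : Set G) ⊓ D := dpart_eq_inf_of_le hD inf_le_left
    have hne : dpart D ((P : Subgroup G) ⊓ normalizer (T : Set G)) ≠ ⊥ := by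
      obtain ⟨z, hzD, hz1, hzc⟩ := exists_mem_center_of_stronglyClosed P hD hD1
      intro h0
      apply hz1
      rw [← mem_bot, ← h0, hdp]
      refine ⟨⟨hD.1 hzD, ?_⟩, hzD⟩
      show z ∈ normalizer (T : Set G)
      rw [mem_normalizer_iff]
      intro t
      have key : ∀ t ∈ T, z * t * z⁻¹ = t := by
        intro t ht
        have := hzc t (hTP ht)
        calc z * t * z⁻¹ = (t * z) * z⁻¹ := by rw [this]
          _ = t := by group
      constructor
      · intro ht
        rw [key t ht]; exact ht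
      · intro ht
        have h2 := key _ ht
        have h3 : z⁻¹ * (z * t * z⁻¹) * z = z * t * z⁻¹ := by
          calc z⁻¹ * (z * t * z⁻¹) * z = z⁻¹ * (z * (z * t * z⁻¹) * z⁻¹) * z := by rw [h2]
            _ = z * t * z⁻¹ := by group
        have h4 : t = z * t * z⁻¹ := by
          rw [← h3]; group
        rw [h4]; exact ht
    rw [scFunctor_of_ne F D _ hne, hdp]
    have hmap : F.W ((P : Subgroup G) ⊓ normalizer (T : Set G) ⊓ D) =
        (F.W ((D ⊓ ((P : Subgroup G) ⊓ normalizer (T : Set G))).subgroupOf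
          (normalizer (T : Set G)))).map (normalizer (T : Set G)).subtype := by
      rw [← F.map (normalizer (T : Set G)).subtype _
        (normalizer (T : Set G)).subtype_injective.injOn, subgroupOf_map_subtype]
      congr 1
      rw [inf_comm D, inf_eq_left.mpr (inf_le_left.trans inf_le_right)]
    rw [hmap]
    exact le_normalizer_map (normalizer (T : Set G)).subtype ⟨x, hxM, rfl⟩
  · intro a ha
    have hamem : a ∈ normalizer (T : Set G) := (hAT ha).2
    have := hx ⟨a, hamem⟩ ha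
    exact congrArg Subtype.val this

/-- `N_G(W(D))` controls strong fusion in `P`. -/
theorem sc_controlsStrongFusionOf (hp2 : p ≠ 2) (F : CharFunctor.{u} p) (e : ℕ)
    (he : e = 0 ∨ Odd e)
    (hF : ∀ (G : Type u) [Group G] [Finite G] (D : Subgroup G),
      F.W D = sInf (Cfsg.Agent.Helper26.famEl e D))
    (P : Sylow p G) (D : Subgroup G) (hD : IsStronglyClosed D (P : Subgroup G))
    (hst : IsNormalizerPStable p G)
    (hc : ∀ U : Subgroup G, U ≤ (P : Subgroup G) → U ≠ ⊥ →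
      IsPConstrained p ↥(normalizer (U : Set G)))
    (A : Set G) (hA : A ⊆ (P : Subgroup G)) :
    ControlsStrongFusionOf (normalizer (F.W D : Set G)) (P : Subgroup G) A := by
  refine ⟨hA, ?_⟩
  intro g hg
  by_cases hD1 : D = ⊥
  · have hW : F.W D = ⊥ := by
      rw [hD1]; exact le_bot_iff.mp (F.le ⊥)
    refine ⟨g, ?_, fun a _ => rfl⟩
    rw [hW, mem_normalizer_iff]
    intro y
    simp [mem_bot]
  have hW := isConjugacyFunctor_scFunctor F D
  have hloc : ∀ T : Subgroup G, T ≠ ⊥ → IsWellPlaced p (scFunctor F D) (P : Subgroup G) T →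
      ControlsStrongFusionIn p (scFunctor F D) (normalizer ((T : Subgroup G) : Set G)) := by
    intro T hT1 hwp
    exact sc_local hp2 F e he hF P D hD hD1 hst hc T hT1 hwp.1 (hwp.2 0)
  have hglob := Cfsg.Agent.Helper10.controlsStrongFusion_of_wellPlaced P hW hloc
  have hidx : ¬ p ∣ (P : Subgroup G).relIndex ⊤ := by
    rw [relIndex_top_right]; exact P.not_dvd_index
  obtain ⟨x, hx, hxA⟩ := Cfsg.Agent.Helper10.controlsStrongFusionIn_sylow hW hglob
    (le_top : (P : Subgroup G) ≤ ⊤) P.isPGroup' hidx A g (mem_top g) hA hg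
  have hne : dpart D (P : Subgroup G) ≠ ⊥ := by rw [dpart_sylow hD]; exact hD1
  rw [scFunctor_of_ne F D _ hne, dpart_sylow hD] at hx
  exact ⟨x, hx.2, fun a ha => (hxA a ha).symm⟩

end Main

end Cfsg.Agent.Helper15
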