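import Mathlib
import Cfsg.Agent.Helper15.SL2Free5
import Cfsg.Agent.Helper10.PairFusion
import Cfsg.Agent.Helper15.CL2

set_option autoImplicit false
set_option linter.unusedSectionVars false

/-! # `N(Z(J(S)))` controls strong fusion when the `p`-locals above `Z(S)` are `SL₂(p)`-free
(given the statement of S0656) -/

namespace Cfsg.Agent.Helper15.SL2Free

open Subgroup Cfsg Cfsg.Agent.Lead.TNC Cfsg.Agent.Helper10 Cfsg.Agent.Helper14

universe u

variable {p : ℕ} [hp : Fact p.Prime]

/-- a characteristic functor is a conjugacy functor -/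
theorem isConjugacyFunctor_of_charFunctor (F : CharFunctor.{u} p) {G : Type u} [Group G] [Finite G] :
    IsConjugacyFunctor p (fun P : Subgroup G => F.W P) := by
  intro P hP
  refine ⟨F.le P, F.ne_bot P hP, fun g => ?_⟩
  exact F.map (MulAut.conj g).toMonoidHom P ((MulAut.conj g).injective.injOn)

/-- `Z(H) ≤ Z(J(H))` -/
theorem center_le_centerThompsonAOf {G : Type*} [Group G] [Finite G] (H : Subgroup G) :
    H ⊓ centralizer (H : Set G) ≤ centerThompsonAOf H := by
  intro z hz
  have hJH : thompsonSubgroupAOf H ≤ H := thompsonSubgroupAOf_le H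
  refine ⟨?_, centralizer_le hJH hz.2⟩
  obtain ⟨A, hA⟩ := Cfsg.Agent.Helper15.exists_maxAbelian (P := ↥H)
  have hzA : (⟨z, hz.1⟩ : ↥H) ∈ A := by
    rw [← Cfsg.Agent.Helper15.cz_maxAbelian hA]
    rw [mem_centralizer_iff]
    intro a _
    apply Subtype.ext
    exact mem_centralizer_iff.1 hz.2 a a.2
  exact ⟨⟨z, hz.1⟩, le_sSup hA hzA, rfl⟩

/-- a section of a subgroup, as a section of the group -/
theorem exists_section_le_of_involves {T : Type*} [Group T] {G : Type*} [Group G] (N : Subgroup G)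
    (h : Involves T ↥N) : ∃ (H K : Subgroup G) (_ : (K.subgroupOf H).Normal), H ≤ N ∧
      Nonempty ((H ⧸ K.subgroupOf H) ≃* T) := by
  obtain ⟨K', f, hf⟩ := Cfsg.Agent.Helper26.exists_surjective_of_involves h
  let e : ↥K' ≃* ↥(K'.map N.subtype) := Subgroup.equivMapOfInjective K' N.subtype N.subtype_injective
  obtain ⟨f', hf'⟩ : ∃ f' : ↥(K'.map N.subtype) →* T, Function.Surjective f' := by
    refine ⟨f.comp e.symm.toMonoidHom, ?_⟩
    intro t
    obtain ⟨k, hk⟩ := hf t
    exact ⟨e k, by simp [hk]⟩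
  have e2 : (f'.ker.map (K'.map N.subtype).subtype).subgroupOf (K'.map N.subtype) = f'.ker :=
    Subgroup.comap_map_eq_self_of_injective (K'.map N.subtype).subtype_injective f'.ker
  have hn : ((f'.ker.map (K'.map N.subtype).subtype).subgroupOf (K'.map N.subtype)).Normal := by
    rw [e2]
    infer_instance
  refine ⟨K'.map N.subtype, f'.ker.map (K'.map N.subtype).subtype, hn, ?_, ?_⟩
  · rintro _ ⟨k, _, rfl⟩
    exact k.2
  · exact ⟨(QuotientGroup.quotientMulEquivOfEq e2).trans
      (QuotientGroup.quotientKerEquivOfSurjective f' hf')⟩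

/-- normalizers and images under the inclusion of a subgroup -/
theorem coe_mem_normalizer_map_subtype {G : Type*} [Group G] {N : Subgroup G} {M : Subgroup ↥N}
    {n : ↥N} (hn : n ∈ normalizer (M : Set ↥N)) :
    (n : G) ∈ normalizer ((M.map N.subtype : Subgroup G) : Set G) := by
  rw [mem_normalizer_iff]
  intro h
  constructor
  · rintro ⟨m, hm, rfl⟩
    exact ⟨n * m * n⁻¹, (mem_normalizer_iff.1 hn m).1 hm, by simp⟩
  · rintro ⟨m, hm, hmh⟩
    have h1 : n⁻¹ * m * n ∈ M := by
      have := (mem_normalizer_iff.1 (inv_mem hn) m).1 hm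
      rwa [inv_inv] at this
    refine ⟨n⁻¹ * m * n, h1, ?_⟩
    have : N.subtype (n⁻¹ * m * n) = (n : G)⁻¹ * (m : G) * (n : G) := by simp
    rw [this]
    have hm' : (m : G) = (n : G) * h * (n : G)⁻¹ := hmh
    rw [hm']
    group

/-- **local control**: in the normalizer of `H`, `SL₂(p)`-free, `N(Z(J(Q)))` controls strong
fusion in the Sylow subgroup `Q` -/
theorem local_ctl (h656 : H656.{u} p) (hp2 : p ≠ 2) {G : Type u} [Group G] [Finite G]
    (H Q : Subgroup G)
    (hfreeH : ¬ Involves (Matrix.SpecialLinearGroup (Fin 2) (ZMod p)) ↥(normalizer (H : Set G)))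
    (hQN : Q ≤ normalizer (H : Set G)) (hQp : IsPGroup p ↥Q)
    (hQi : ¬ p ∣ Q.relIndex (normalizer (H : Set G)))
    (X : Set G) (a : G) (hX : X ⊆ (Q : Set G)) (ha : a ∈ normalizer (H : Set G))
    (haX : rc a X ⊆ (Q : Set G)) :
    ∃ n ∈ normalizer (H : Set G) ⊓ normalizer (centerThompsonAOf Q : Set G),
      ∀ x ∈ X, n⁻¹ * x * n = a⁻¹ * x * a := by
  obtain ⟨N, hN⟩ : ∃ N : Subgroup G, N = normalizer (H : Set G) := ⟨_, rfl⟩
  rw [← hN] at hfreeH hQN hQi ha ⊢
  have hQp' : IsPGroup p ↥(Q.subgroupOf N) := hQp.comap_subtype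
  let Q' : Sylow p ↥N := hQp'.toSylow hQi
  have hQ'coe : (Q' : Subgroup ↥N) = Q.subgroupOf N := rfl
  have hA' : {y : ↥N | (y : G) ∈ X} ⊆ ((Q' : Subgroup ↥N) : Set ↥N) := by
    intro y hy
    rw [SetLike.mem_coe, hQ'coe, mem_subgroupOf]
    exact hX hy
  have hgA' : lc (⟨a⁻¹, inv_mem ha⟩ : ↥N) {y : ↥N | (y : G) ∈ X} ⊆
      ((Q' : Subgroup ↥N) : Set ↥N) := by
    rintro _ ⟨y, hy, rfl⟩
    rw [SetLike.mem_coe, hQ'coe, mem_subgroupOf]
    apply haX
    refine ⟨(y : G), hy, ?_⟩
    simp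
  obtain ⟨n', hn', hact⟩ := controls_zjA_of_free h656 hp2 hfreeH Q' _ hA' _ hgA'
  have hmap : centerThompsonAOf Q = (centerThompsonAOf (Q' : Subgroup ↥N)).map N.subtype := by
    have h1 := (zjAFunctor.{u} p).map N.subtype (Q' : Subgroup ↥N) N.subtype_injective.injOn
    have h2 : (Q' : Subgroup ↥N).map N.subtype = Q := by
      rw [hQ'coe]
      exact map_subgroupOf_eq_of_le hQN
    rw [h2] at h1
    exact h1
  refine ⟨(n' : G)⁻¹, Subgroup.mem_inf.2 ⟨N.inv_mem n'.2, ?_⟩, ?_⟩
  · rw [hmap]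
    exact Subgroup.inv_mem _ (coe_mem_normalizer_map_subtype hn')
  · intro x hx
    have hxN : x ∈ N := hQN (hX hx)
    have h1 := hact ⟨x, hxN⟩ hx
    have h2 := congrArg (fun z : ↥N => (z : G)) h1
    simp only [Subgroup.coe_mul, Subgroup.coe_inv, inv_inv] at h2
    rw [inv_inv]
    exact h2

/-- **control of strong fusion** by `N(Z(J(S)))` when the normalizers of the subgroups between
`Z(S)` and `S` are `SL₂(p)`-free -/
theorem controls_zjA_of_locally_free (h656 : H656.{u} p) (hp2 : p ≠ 2) {G : Type u} [Group G]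
    [Finite G] (S : Sylow p G)
    (hfree : ∀ P : Subgroup G, (S : Subgroup G) ⊓ centralizer ((S : Subgroup G) : Set G) ≤ P →
      P ≤ (S : Subgroup G) →
      ¬ Involves (Matrix.SpecialLinearGroup (Fin 2) (ZMod p)) ↥(normalizer (P : Set G)))
    (X : Set G) (a : G) (hX : X ⊆ ((S : Subgroup G) : Set G))
    (haX : rc a X ⊆ ((S : Subgroup G) : Set G)) :
    ∃ n ∈ normalizer (centerThompsonAOf (S : Subgroup G) : Set G),
      ∀ x ∈ X, n⁻¹ * x * n = a⁻¹ * x * a := by
  by_cases hSne : (S : Subgroup G) = ⊥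
  · refine ⟨1, one_mem _, ?_⟩
    intro x hx
    have h1 : x = 1 := by
      have := hX hx
      rw [hSne] at this
      exact this
    subst h1
    simp
  obtain ⟨W, hWdef⟩ : ∃ W : Subgroup G → Subgroup G, W = fun P => centerThompsonAOf P := ⟨_, rfl⟩
  obtain ⟨V, hVdef⟩ : ∃ V : Subgroup G → Subgroup G, V = fun P => P ⊓ centralizer (P : Set G) :=
    ⟨_, rfl⟩
  have hW : IsConjugacyFunctor p W := by
    rw [hWdef]
    exact isConjugacyFunctor_of_charFunctor (zjAFunctor.{u} p)
  have hV : IsConjugacyFunctor p V := by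
    rw [hVdef]
    exact isConjugacyFunctor_of_charFunctor (zFunctor.{u} p)
  have hWZ : ∀ H : Subgroup G, IsPGroup p ↥H → H ⊓ centralizer (H : Set G) ≤ W H := by
    intro H _
    rw [hWdef]
    exact center_le_centerThompsonAOf H
  have hVmono : ∀ H K : Subgroup G, IsPGroup p ↥H → IsPGroup p ↥K → H ≠ ⊥ → K ≠ ⊥ →
      H ⊓ centralizer (H : Set G) ≤ K ⊓ centralizer (K : Set G) → V H ≤ V K := by
    intro H K _ _ _ _ h
    rw [hVdef]
    exact h
  -- a single local step
  have hstep : ∀ (H Q : Subgroup G),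
      (S : Subgroup G) ⊓ centralizer ((S : Subgroup G) : Set G) ≤ H → H ≤ (S : Subgroup G) →
      Q ≤ normalizer (H : Set G) → IsPGroup p ↥Q → ¬ p ∣ Q.relIndex (normalizer (H : Set G)) →
      ∀ (Y : Set G) (b : G), Y ⊆ (Q : Set G) → b ∈ normalizer (H : Set G) → rc b Y ⊆ (Q : Set G) →
      ∃ n ∈ normalizer (H : Set G) ⊓ normalizer (W Q : Set G),
        ∀ x ∈ Y, n⁻¹ * x * n = b⁻¹ * x * b := by
    intro H Q hZH hHS hQN hQp hQi Y b hY hb hbY
    rw [hWdef]
    exact local_ctl h656 hp2 H Q (hfree H hZH hHS) hQN hQp hQi Y b hY hb hbY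
  have hloc : ∀ H : Subgroup G, (S : Subgroup G) ⊓ centralizer ((S : Subgroup G) : Set G) ≤ H →
      H ≤ (S : Subgroup G) →
      ∃ Q : Subgroup G, Q ≤ normalizer (H : Set G) ∧ IsPGroup p ↥Q ∧
        ¬ p ∣ Q.relIndex (normalizer (H : Set G)) ∧ PairCtl W V (normalizer (H : Set G)) Q := by
    intro H hZH hHS
    obtain ⟨Q₀⟩ : Nonempty (Sylow p ↥(normalizer (H : Set G))) := inferInstance
    have hQN : (Q₀ : Subgroup ↥(normalizer (H : Set G))).map (normalizer (H : Set G)).subtype ≤
        normalizer (H : Set G) := by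
      rintro _ ⟨k, _, rfl⟩
      exact k.2
    have hQp : IsPGroup p ↥((Q₀ : Subgroup ↥(normalizer (H : Set G))).map
        (normalizer (H : Set G)).subtype) := Q₀.2.map _
    have hQi : ¬ p ∣ ((Q₀ : Subgroup ↥(normalizer (H : Set G))).map
        (normalizer (H : Set G)).subtype).relIndex (normalizer (H : Set G)) := by
      have e : ((Q₀ : Subgroup ↥(normalizer (H : Set G))).map
          (normalizer (H : Set G)).subtype).subgroupOf (normalizer (H : Set G)) = Q₀ :=
        Subgroup.comap_map_eq_self_of_injective (normalizer (H : Set G)).subtype_injective _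
      unfold Subgroup.relIndex
      rw [e]
      exact Q₀.not_dvd_index
    refine ⟨_, hQN, hQp, hQi, ?_⟩
    intro Y b hY hb hbY
    obtain ⟨n, hn, hact⟩ := hstep H _ hZH hHS hQN hQp hQi Y b hY hb hbY
    refine ⟨b * n⁻¹, Subgroup.mem_inf.2 ⟨Subgroup.mul_mem _ hb (Subgroup.inv_mem _ hn.1), ?_⟩,
      [n], ?_, ?_, ?_⟩
    · rw [mem_centralizer_iff]
      intro x hx
      have h1 := hact x hx
      have h2 : x = n * (b⁻¹ * x * b) * n⁻¹ := by rw [← h1]; group
      have e : b * n⁻¹ * x = b * n⁻¹ * (n * (b⁻¹ * x * b) * n⁻¹) := by rw [← h2]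
      rw [e]
      group
    · intro d hd
      rw [List.mem_singleton] at hd
      rw [hd]
      exact Or.inl hn.2
    · simp
    · intro k
      cases k with
      | zero =>
        simp only [List.take_zero, List.prod_nil, rc_one]
        exact hY
      | succ k =>
        have e : ([n].take (k + 1)).prod = n := by simp
        rw [e]
        have e2 : rc n Y = rc b Y := Set.image_congr hact
        rw [e2]
        exact hbY
  obtain ⟨c, hc, l, hl, hacl, himg⟩ := pair_controls S hW hV hWZ hVmono hSne hloc X a hX haX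
  -- post-processing: the centralizing generators
  have hZN : (S : Subgroup G) ≤ normalizer
      (((S : Subgroup G) ⊓ centralizer ((S : Subgroup G) : Set G) : Subgroup G) : Set G) := by
    intro s hs
    rw [mem_normalizer_iff]
    intro z
    have key : ∀ (s : G), s ∈ (S : Subgroup G) → ∀ z,
        z ∈ (S : Subgroup G) ⊓ centralizer ((S : Subgroup G) : Set G) →
        s * z * s⁻¹ ∈ (S : Subgroup G) ⊓ centralizer ((S : Subgroup G) : Set G) := by
      intro s hs z hz
      have h1 : s * z * s⁻¹ = z := by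
        have := mem_centralizer_iff.1 hz.2 s hs
        rw [this]; group
      rw [h1]
      exact hz
    constructor
    · exact key s hs z
    · intro h
      have := key s⁻¹ (inv_mem hs) _ h
      have e : s⁻¹ * (s * z * s⁻¹) * s⁻¹⁻¹ = z := by group
      rwa [e] at this
  have hSi : ¬ p ∣ (S : Subgroup G).relIndex (normalizer
      (((S : Subgroup G) ⊓ centralizer ((S : Subgroup G) : Set G) : Subgroup G) : Set G)) := by
    intro hdvd
    exact S.not_dvd_index (hdvd.trans (Subgroup.relIndex_dvd_index_of_le hZN))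
  have hgen : ∀ d ∈ pairGen W V (S : Subgroup G), ∀ Y : Set G, Y ⊆ ((S : Subgroup G) : Set G) →
      rc d Y ⊆ ((S : Subgroup G) : Set G) →
      ∃ n ∈ normalizer (W (S : Subgroup G) : Set G), ∀ x ∈ Y, n⁻¹ * x * n = d⁻¹ * x * d := by
    intro d hd Y hY hdY
    rcases hd with hd | hd
    · exact ⟨d, hd, fun _ _ => rfl⟩
    · have hd' : d ∈ normalizer
          (((S : Subgroup G) ⊓ centralizer ((S : Subgroup G) : Set G) : Subgroup G) : Set G) := by
        apply centralizer_le_normalizer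
        rw [hVdef] at hd
        exact hd
      obtain ⟨n, hn, hact⟩ := hstep _ (S : Subgroup G) le_rfl inf_le_left hZN S.2 hSi Y d hY hd' hdY
      exact ⟨n, hn.2, hact⟩
  have hpost : ∀ l : List G, (∀ d ∈ l, d ∈ pairGen W V (S : Subgroup G)) →
      ∀ Y : Set G, (∀ k : ℕ, rc (l.take k).prod Y ⊆ ((S : Subgroup G) : Set G)) →
      ∃ n ∈ normalizer (W (S : Subgroup G) : Set G),
        ∀ x ∈ Y, n⁻¹ * x * n = l.prod⁻¹ * x * l.prod := by
    intro l
    induction l with
    | nil =>
      intro _ Y _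
      exact ⟨1, one_mem _, fun x _ => by simp⟩
    | cons d l ih =>
      intro hl Y hY
      have hY0 : Y ⊆ ((S : Subgroup G) : Set G) := by
        have := hY 0
        simpa [rc_one] using this
      have hY1 : rc d Y ⊆ ((S : Subgroup G) : Set G) := by
        have := hY 1
        simpa using this
      obtain ⟨n₁, hn₁, hact₁⟩ := hgen d (hl d (List.mem_cons_self)) Y hY0 hY1
      obtain ⟨n₂, hn₂, hact₂⟩ := ih (fun d' hd' => hl d' (List.mem_cons_of_mem _ hd')) (rc d Y)
        (by
          intro k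
          have := hY (k + 1)
          rw [List.take_succ_cons, List.prod_cons, rc_mul] at this
          exact this)
      refine ⟨n₁ * n₂, mul_mem hn₁ hn₂, ?_⟩
      intro x hx
      have h1 := hact₁ x hx
      have h2 := hact₂ (d⁻¹ * x * d) ⟨x, hx, rfl⟩
      rw [List.prod_cons]
      have e1 : (n₁ * n₂)⁻¹ * x * (n₁ * n₂) = n₂⁻¹ * (n₁⁻¹ * x * n₁) * n₂ := by group
      have e2 : (d * l.prod)⁻¹ * x * (d * l.prod) = l.prod⁻¹ * (d⁻¹ * x * d) * l.prod := by group
      rw [e1, e2, h1, h2]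
  obtain ⟨n, hn, hact⟩ := hpost l hl X himg
  rw [hWdef] at hn
  refine ⟨n, hn, ?_⟩
  intro x hx
  rw [hact x hx, hacl]
  have hcx := mem_centralizer_iff.1 hc x hx
  have e : (c * l.prod)⁻¹ * x * (c * l.prod) = l.prod⁻¹ * (c⁻¹ * (x * c)) * l.prod := by group
  rw [e, hcx]
  group

end Cfsg.Agent.Helper15.SL2Free
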