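import Mathlib
import Cfsg.Agent.Helper15.SCFusion
import Cfsg.Agent.Helper15.SL2Free6
import Cfsg.Agent.Helper10.SecFusion3
import Cfsg.Agent.Helper26.QdStab4

set_option autoImplicit false
set_option linter.unusedSectionVars false
set_option linter.unusedVariables false
set_option linter.style.haveILetI false

/-! # Control of strong fusion by `N(W(D))`, `D` strongly closed, in `Qd(p)`-free groups: tools -/

namespace Cfsg.Agent.Helper15.SCQd

open Subgroup Cfsg Cfsg.Agent.Lead.TNC Cfsg.Agent.Helper10 Cfsg.Agent.Helper14 Cfsg.Agent.Helper26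

universe u

variable {p : ℕ} [Fact p.Prime]

/-- control of strong fusion by a subgroup `N`, for one set and one element -/
def Ctl {X : Type*} [Group X] (N : Subgroup X) (A : Set X) (g : X) : Prop :=
  ∃ n ∈ N, ∀ a ∈ A, n * a * n⁻¹ = g * a * g⁻¹

section Ctl

variable {X : Type*} [Group X] {N : Subgroup X}

theorem Ctl.mono {A B : Set X} {g : X} (hBA : B ⊆ A) (h : Ctl N A g) : Ctl N B g := by
  obtain ⟨n, hn, hnA⟩ := h
  exact ⟨n, hn, fun a ha => hnA a (hBA ha)⟩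

theorem Ctl.comp {A : Set X} {g g' : X} (h : Ctl N A g) (h' : Ctl N (lc g A) g') :
    Ctl N A (g' * g) := by
  obtain ⟨n, hn, hnA⟩ := h
  obtain ⟨n', hn', hn'A⟩ := h'
  refine ⟨n' * n, N.mul_mem hn' hn, ?_⟩
  intro a ha
  have h1 := hnA a ha
  have h2 := hn'A (g * a * g⁻¹) ⟨a, ha, rfl⟩
  have e1 : n' * n * a * (n' * n)⁻¹ = n' * (n * a * n⁻¹) * n'⁻¹ := by group
  have e2 : g' * g * a * (g' * g)⁻¹ = g' * (g * a * g⁻¹) * g'⁻¹ := by group
  rw [e1, e2, h1, h2]

theorem Ctl.of_mem {A : Set X} {g : X} (hg : g ∈ N) : Ctl N A g :=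
  ⟨g, hg, fun _ _ => rfl⟩

theorem Ctl.of_trivial {A : Set X} {g : X} (h : ∀ a ∈ A, g * a * g⁻¹ = a) : Ctl N A g :=
  ⟨1, N.one_mem, fun a ha => by rw [h a ha]; group⟩

theorem Ctl.congr {A : Set X} {g g' : X} (hgg : ∀ a ∈ A, g * a * g⁻¹ = g' * a * g'⁻¹)
    (h : Ctl N A g) : Ctl N A g' := by
  obtain ⟨n, hn, hnA⟩ := h
  exact ⟨n, hn, fun a ha => (hnA a ha).trans (hgg a ha)⟩

theorem Ctl.of_le {N' : Subgroup X} (hNN : N ≤ N') {A : Set X} {g : X} (h : Ctl N A g) :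
    Ctl N' A g := by
  obtain ⟨n, hn, hnA⟩ := h
  exact ⟨n, hNN hn, hnA⟩

end Ctl

/-- the relative control statement for a group `X` -/
def RT (p : ℕ) [Fact p.Prime] (F : CharFunctor.{u} p) (X : Type u) [Group X] : Prop :=
  ∀ (S : Sylow p X) (D : Subgroup X), IsStronglyClosed D (S : Subgroup X) → D ≠ ⊥ →
    ∀ (A : Set X) (g : X), A ⊆ ((S : Subgroup X) : Set X) → lc g A ⊆ ((S : Subgroup X) : Set X) →
      Ctl (normalizer ((F.W D : Subgroup X) : Set X)) A g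

/-- a Sylow subgroup normalizes `W(D)` for `D` strongly closed -/
theorem sylow_le_normalizer_W (F : CharFunctor.{u} p) {X : Type u} [Group X] [Finite X]
    (S : Sylow p X) (D : Subgroup X) (hD : IsStronglyClosed D (S : Subgroup X)) :
    (S : Subgroup X) ≤ normalizer ((F.W D : Subgroup X) : Set X) := by
  refine le_trans ?_ (F.normalizer_le D)
  intro s hs
  apply mem_normalizer_fintype
  intro x hx
  exact hD.2 x hx s ((S : Subgroup X).mul_mem ((S : Subgroup X).mul_mem hs (hD.1 hx))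
    ((S : Subgroup X).inv_mem hs))

/-- **Step 0**: lifting through a normal `p'`-subgroup -/
theorem rt_of_quotient_coprime (F : CharFunctor.{u} p) {X : Type u} [Group X] [Finite X]
    (K : Subgroup X) [hKn : K.Normal] (hK : (Nat.card ↥K).Coprime p) (h : RT p F (X ⧸ K)) :
    RT p F X := by
  intro S D hD hD1 A g hA hgA
  have hsurj := QuotientGroup.mk'_surjective K
  have hDp : IsPGroup p ↥D := S.2.to_le hD.1
  have hS' : ((S.mapSurjective hsurj : Sylow p (X ⧸ K)) : Subgroup (X ⧸ K)) =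
      (S : Subgroup X).map (QuotientGroup.mk' K) := Sylow.coe_mapSurjective _ _
  have hD' : IsStronglyClosed (D.map (QuotientGroup.mk' K))
      ((S.mapSurjective hsurj : Sylow p (X ⧸ K)) : Subgroup (X ⧸ K)) := by
    rw [hS']
    exact stronglyClosed_map_mk S K hD
  have hinj : ∀ t ∈ (S : Subgroup X), (QuotientGroup.mk' K) t = 1 → t = 1 := by
    intro t ht h1
    have h2 : t ∈ (S : Subgroup X) ⊓ K := ⟨ht, (QuotientGroup.eq_one_iff t).1 h1⟩
    rw [psq_inf_eq_bot hK S.2] at h2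
    exact h2
  have hD1' : D.map (QuotientGroup.mk' K) ≠ ⊥ := by
    intro h0
    apply hD1
    rw [eq_bot_iff]
    intro d hd
    have h1 : (QuotientGroup.mk' K) d ∈ D.map (QuotientGroup.mk' K) := ⟨d, hd, rfl⟩
    rw [h0, mem_bot] at h1
    exact hinj d (hD.1 hd) h1
  have hA' : (QuotientGroup.mk' K) '' A ⊆
      ((S.mapSurjective hsurj : Sylow p (X ⧸ K)) : Subgroup (X ⧸ K)) := by
    rw [hS']
    rintro _ ⟨a, ha, rfl⟩
    exact ⟨a, hA ha, rfl⟩
  have hgA' : lc ((QuotientGroup.mk' K) g) ((QuotientGroup.mk' K) '' A) ⊆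
      ((S.mapSurjective hsurj : Sylow p (X ⧸ K)) : Subgroup (X ⧸ K)) := by
    rw [hS', lc_image_hom]
    rintro _ ⟨a, ha, rfl⟩
    exact ⟨a, hgA ha, rfl⟩
  obtain ⟨xb, hxb, hxbA⟩ := h _ _ hD' hD1' _ _ hA' hgA'
  have hWmap : F.W (D.map (QuotientGroup.mk' K)) = (F.W D).map (QuotientGroup.mk' K) :=
    F.map (QuotientGroup.mk' K) D (psq_injOn hK hDp)
  have hVp : IsPGroup p ↥(F.W D) := hDp.to_le (F.le D)
  rw [hWmap, normalizer_map_mk_of_coprime K hK hVp] at hxb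
  obtain ⟨m₀, hm₀, hm₀e⟩ := hxb
  have hSV := sylow_le_normalizer_W F S D hD
  -- the elements `m₀ a m₀⁻¹`
  have hBmem : ∀ b ∈ lc m₀ A, b ∈ (S : Subgroup X) ⊔
      (normalizer ((F.W D : Subgroup X) : Set X) ⊓ K) := by
    rintro _ ⟨a, ha, rfl⟩
    have hbN : m₀ * a * m₀⁻¹ ∈ normalizer ((F.W D : Subgroup X) : Set X) :=
      Subgroup.mul_mem _ (Subgroup.mul_mem _ hm₀ (hSV (hA ha))) (Subgroup.inv_mem _ hm₀)
    have hbT : (QuotientGroup.mk' K) (m₀ * a * m₀⁻¹) ∈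
        (S : Subgroup X).map (QuotientGroup.mk' K) := by
      have h1 := hxbA ((QuotientGroup.mk' K) a) ⟨a, ha, rfl⟩
      have e : (QuotientGroup.mk' K) (m₀ * a * m₀⁻¹) =
          xb * (QuotientGroup.mk' K) a * xb⁻¹ := by
        rw [← hm₀e]
        simp only [map_mul, map_inv]
      rw [e, h1]
      exact ⟨g * a * g⁻¹, hgA ⟨a, ha, rfl⟩, by simp only [map_mul, map_inv]⟩
    have hb2 : m₀ * a * m₀⁻¹ ∈ (((S : Subgroup X) ⊔ K : Subgroup X) : Set X) := by
      have h3 : m₀ * a * m₀⁻¹ ∈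
          ((S : Subgroup X).map (QuotientGroup.mk' K)).comap (QuotientGroup.mk' K) := hbT
      rw [Subgroup.comap_map_eq, QuotientGroup.ker_mk'] at h3
      exact h3
    rw [Subgroup.mul_normal] at hb2
    obtain ⟨t, ht, y, hy, hty⟩ := Set.mem_mul.1 hb2
    have hyN : y ∈ normalizer ((F.W D : Subgroup X) : Set X) := by
      have e : y = t⁻¹ * (m₀ * a * m₀⁻¹) := by rw [← hty]; group
      rw [e]
      exact Subgroup.mul_mem _ (Subgroup.inv_mem _ (hSV ht)) hbN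
    change m₀ * a * m₀⁻¹ ∈ _
    rw [← hty]
    exact Subgroup.mul_mem _ (Subgroup.mem_sup_left ht) (Subgroup.mem_sup_right ⟨hyN, hy⟩)
  have hBle : Subgroup.closure (lc m₀ A) ≤ (S : Subgroup X) ⊔
      (normalizer ((F.W D : Subgroup X) : Set X) ⊓ K) := by
    rw [Subgroup.closure_le]
    exact hBmem
  have hBp : IsPGroup p ↥(Subgroup.closure (lc m₀ A)) := by
    have h1 : Subgroup.closure (lc m₀ A) ≤ (S : Subgroup X).map (cj m₀) := by
      rw [Subgroup.closure_le]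
      rintro _ ⟨b, hb, rfl⟩
      exact ⟨b, hA hb, rfl⟩
    exact (S.2.map (cj m₀)).to_le h1
  have hTR : (S : Subgroup X) ≤ normalizer
      ((normalizer ((F.W D : Subgroup X) : Set X) ⊓ K : Subgroup X) : Set X) := by
    apply le_normalizer_inf_of_le (hSV.trans Subgroup.le_normalizer)
    rw [Subgroup.normalizer_eq_top_iff.2 hKn]; exact le_top
  obtain ⟨y, hy, hyB⟩ := exists_conj_le_of_normalizes S _ hTR _ hBp hBle
  refine ⟨y * m₀, Subgroup.mul_mem _ hy.1 hm₀, ?_⟩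
  intro a ha
  have h1 : y * (m₀ * a * m₀⁻¹) * y⁻¹ ∈ (S : Subgroup X) :=
    hyB _ (Subgroup.subset_closure ⟨a, ha, rfl⟩)
  have e : y * m₀ * a * (y * m₀)⁻¹ = y * (m₀ * a * m₀⁻¹) * y⁻¹ := by group
  rw [e]
  have h2 : g * a * g⁻¹ ∈ (S : Subgroup X) := hgA ⟨a, ha, rfl⟩
  have hy1 : (QuotientGroup.mk' K) y = 1 := (QuotientGroup.eq_one_iff y).2 hy.2
  have h3 := hxbA ((QuotientGroup.mk' K) a) ⟨a, ha, rfl⟩
  rw [← hm₀e] at h3
  have h4 : (QuotientGroup.mk' K) ((y * (m₀ * a * m₀⁻¹) * y⁻¹)⁻¹ * (g * a * g⁻¹)) = 1 := by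
    simp only [map_mul, map_inv, hy1, inv_one, one_mul, mul_one] at h3 ⊢
    rw [← h3]; group
  have h5 := hinj _ ((S : Subgroup X).mul_mem ((S : Subgroup X).inv_mem h1) h2) h4
  exact inv_mul_eq_one.1 h5

/-- **transfer**: from the relative statement for the subgroup `M` (as a group) to control of
fusion inside `G` -/
theorem rt_transfer (F : CharFunctor.{u} p) {G : Type u} [Group G] [Finite G] (P : Sylow p G)
    (D : Subgroup G) (hD : IsStronglyClosed D (P : Subgroup G)) (M R : Subgroup G) (hRM : R ≤ M)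
    (hRP : R ≤ (P : Subgroup G)) (hRi : ¬ p ∣ R.relIndex M) (hRD : R ⊓ D ≠ ⊥)
    (hM : RT p F ↥M) (A : Set G) (m : G) (hm : m ∈ M) (hA : A ⊆ (R : Set G))
    (hmA : lc m A ⊆ (R : Set G)) :
    Ctl (M ⊓ normalizer ((F.W (R ⊓ D) : Subgroup G) : Set G)) A m := by
  have hRp : IsPGroup p ↥R := P.2.to_le hRP
  have hRp' : IsPGroup p ↥(R.subgroupOf M) := hRp.comap_subtype
  obtain ⟨R', hR'⟩ : ∃ R' : Sylow p ↥M, (R' : Subgroup ↥M) = R.subgroupOf M :=
    ⟨hRp'.toSylow hRi, IsPGroup.toSylow_coe hRp' hRi⟩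
  have hD' : IsStronglyClosed ((R ⊓ D).subgroupOf M) (R' : Subgroup ↥M) := by
    rw [hR']
    constructor
    · intro x hx
      rw [mem_subgroupOf] at hx ⊢
      exact hx.1
    · intro x hx g' hg'
      rw [mem_subgroupOf] at hx hg' ⊢
      push_cast at hg' ⊢
      exact ⟨hg', hD.2 _ hx.2 _ (hRP hg')⟩
  have hD1' : (R ⊓ D).subgroupOf M ≠ ⊥ := by
    intro h0
    apply hRD
    rw [subgroupOf_eq_bot] at h0
    have := h0.eq_bot
    rwa [inf_eq_left.mpr (inf_le_left.trans hRM)] at this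
  have hA' : {a : ↥M | (a : G) ∈ A} ⊆ ((R' : Subgroup ↥M) : Set ↥M) := by
    intro a ha
    rw [SetLike.mem_coe, hR', mem_subgroupOf]
    exact hA ha
  have hgA' : lc (⟨m, hm⟩ : ↥M) {a : ↥M | (a : G) ∈ A} ⊆ ((R' : Subgroup ↥M) : Set ↥M) := by
    rintro _ ⟨a, ha, rfl⟩
    rw [SetLike.mem_coe, hR', mem_subgroupOf]
    push_cast
    exact hmA ⟨(a : G), ha, rfl⟩
  obtain ⟨x, hx, hxA⟩ := hM R' _ hD' hD1' _ _ hA' hgA'
  have hmap : F.W (R ⊓ D) = (F.W ((R ⊓ D).subgroupOf M)).map M.subtype := by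
    rw [← F.map M.subtype _ M.subtype_injective.injOn,
      map_subgroupOf_eq_of_le (inf_le_left.trans hRM)]
  refine ⟨(x : G), ⟨x.2, ?_⟩, ?_⟩
  · rw [hmap]
    exact Cfsg.Agent.Helper15.SL2Free.coe_mem_normalizer_map_subtype hx
  · intro a ha
    have haM : a ∈ M := hRM (hA ha)
    have := hxA ⟨a, haM⟩ ha
    exact congrArg Subtype.val this

/-- **the absolute theorem**: control of strong fusion by `N(W(P))` in a class of groups closed
under subgroups and quotients whose constrained members satisfy the `ZJ`-theorem for `W` -/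
theorem controls_of_class (F : CharFunctor.{u} p)
    (𝒞 : ∀ (Y : Type u) [Group Y], Prop)
    (hsub𝒞 : ∀ (Y : Type u) [Group Y], 𝒞 Y → ∀ M : Subgroup Y, 𝒞 ↥M)
    (hquot𝒞 : ∀ (Y : Type u) [Group Y], 𝒞 Y → ∀ (N : Subgroup Y) [N.Normal], 𝒞 (Y ⧸ N))
    (hZJ : ∀ (Y : Type u) [Group Y] [Finite Y], 𝒞 Y →
      centralizer ((pCore p Y : Subgroup Y) : Set Y) ≤ pCore p Y →
      ∀ T : Sylow p Y, (F.W (T : Subgroup Y)).Normal)
    {G : Type u} [Group G] [Finite G] (hG : 𝒞 G)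
    (P : Sylow p G) (A : Set G) (hA : A ⊆ ((P : Subgroup G) : Set G)) (g : G)
    (hgA : lc g A ⊆ ((P : Subgroup G) : Set G)) :
    Ctl (normalizer (F.W (P : Subgroup G) : Set G)) A g := by
  have h𝓦 : ∀ W ∈ ({Cfsg.Agent.Helper15.SL2Free.toW F} :
      Set (∀ (Q : Type u) [Group Q], Subgroup Q)), IsCharPFunctor.{u} p W := by
    intro W hW
    rw [Set.mem_singleton_iff] at hW
    rw [hW]
    exact Cfsg.Agent.Helper15.SL2Free.toW_isCharPFunctor F
  have hclaim := claim_all h𝓦 𝒞 hsub𝒞 hquot𝒞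
    (by
      intro Y _ _ hY hc T A' g' hA' hgA'
      have hn := hZJ Y hY hc T
      refine ⟨g', FChain.single (W := inducedFunctor (Cfsg.Agent.Helper15.SL2Free.toW F))
        ⟨Cfsg.Agent.Helper15.SL2Free.toW F, rfl, rfl⟩ ⟨mem_top _, ?_⟩ hA' hgA', fun a _ => rfl⟩
      rw [Cfsg.Agent.Helper15.SL2Free.inducedFunctor_toW, normalizer_eq_top_iff.mpr hn]
      exact mem_top _)
    _ G rfl hG
  obtain ⟨z, hz, hza⟩ := hclaim P A g hA hgA
  exact ⟨z, Cfsg.Agent.Helper15.SL2Free.mem_normalizer_of_fchain F _ A z hz, hza⟩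

/-- the absolute theorem for `Z(J(P))` in `Qd(p)`-free groups -/
theorem controls_zjA_of_qdfree (hp2 : p ≠ 2) {G : Type u} [Group G] [Finite G]
    (hfree : ¬ Involves ↥(Cfsg.qd p) G)
    (P : Sylow p G) (A : Set G) (hA : A ⊆ ((P : Subgroup G) : Set G)) (g : G)
    (hgA : lc g A ⊆ ((P : Subgroup G) : Set G)) :
    Ctl (normalizer (centerThompsonAOf (P : Subgroup G) : Set G)) A g :=
  controls_of_class (zjAFunctor.{u} p)
    (fun Y _ => ¬ Involves ↥(Cfsg.qd p) Y)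
    (fun Y _ hY M h => hY (Cfsg.Agent.Helper9.S4Sec.involves_of_subgroup M h))
    (fun Y _ hY N _ h => hY (Cfsg.Agent.Helper9.S4Sec.involves_of_quotient N h))
    (fun Y _ _ hY hc T => by
      have hn : (sInf (famEl 0 (T : Subgroup Y))).Normal :=
        (zjFamily_famEl hp2 0 (Or.inl rfl)).normal_sInf'
          (Cfsg.Agent.Helper26.QdStab.stabHypSub_of_qd_free hp2 hY) hc T
      rw [← centerThompsonAOf_eq] at hn
      exact hn) hfree P A hA g hgA

end Cfsg.Agent.Helper15.SCQd
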