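import Mathlib
import Cfsg.Agent.Helper15.SCQd1

set_option autoImplicit false
set_option linter.unusedSectionVars false
set_option linter.unusedVariables false
set_option linter.style.haveILetI false

/-! # Control of strong fusion by `N(W(D))`, `D` strongly closed, in `Qd(p)`-free groups -/

namespace Cfsg.Agent.Helper15.SCQd

open Subgroup Cfsg Cfsg.Agent.Lead.TNC Cfsg.Agent.Helper10 Cfsg.Agent.Helper14 Cfsg.Agent.Helper26
open scoped Pointwise

universe u

variable {p : ℕ} [Fact p.Prime]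

/-- Alperin: it suffices to control the normalizers of tame intersections -/
theorem ctl_of_tame {X : Type*} [Group X] [Finite X] (P : Sylow p X) (N : Subgroup X)
    (h : ∀ D ∈ tameFam p P, ∀ x ∈ normalizer (D : Set X), Ctl N (D : Set X) x)
    (A : Set X) (g : X) (hA : A ⊆ ((P : Subgroup X) : Set X))
    (hgA : lc g A ⊆ ((P : Subgroup X) : Set X)) : Ctl N A g := by
  have key : ∀ (l : List (Subgroup X × X)) (A : Set X), A ⊆ ((P : Subgroup X) : Set X) →
      Dec (tameFam p P) A l → Ctl N A (lprod l)⁻¹ := by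
    intro l
    induction l with
    | nil =>
      intro A hA _
      rw [lprod_nil, inv_one]
      exact Ctl.of_trivial (fun a _ => by group)
    | cons e l ih =>
      obtain ⟨T, x⟩ := e
      intro A hA hd
      obtain ⟨hT, hx, hAT, hd'⟩ := hd
      have h1 : Ctl N A x⁻¹ := (h T hT x⁻¹ (inv_mem hx)).mono hAT
      have hlc : lc x⁻¹ A = rc x A := by rw [lc_eq_rc, inv_inv]
      have hrc : rc x A ⊆ ((P : Subgroup X) : Set X) := by
        have h2 : rc x A ⊆ rc x (T : Set X) := rc_mono x hAT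
        rw [rc_of_mem_normalizer hx] at h2
        exact h2.trans (tameFam_le hT)
      have h3 := ih (rc x A) hrc hd'
      rw [← hlc] at h3
      have := h1.comp h3
      rw [lprod_cons, mul_inv_rev]
      exact this
  have hgA' : rc g⁻¹ A ⊆ ((P : Subgroup X) : Set X) := by
    rw [← lc_eq_rc]; exact hgA
  obtain ⟨l, hd, -, hl⟩ := alperin_tame P A g⁻¹ hA hgA'
  have := key l A hA hd
  rwa [hl, inv_inv] at this

section PC

variable {X : Type u} [Group X] [Finite X]

local notation "𝒬" => Cfsg.pCore p X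
local notation "π" => QuotientGroup.mk' (Cfsg.pCore p X)

/-- the tame-intersection step when `X = P C_X(O_p(X))` -/
theorem ctl_tame_of_PC (hp2 : p ≠ 2) (hfree : ¬ Involves ↥(Cfsg.qd p) X) (P : Sylow p X)
    (N : Subgroup X) (hPN : (P : Subgroup X) ≤ N)
    (hPQ : (P : Subgroup X) ≠ 𝒬)
    (hPC : ∀ x : X, ∃ u ∈ (P : Subgroup X), ∃ c ∈ centralizer ((𝒬 : Subgroup X) : Set X), x = u * c)
    (hsub : ∀ M : Subgroup X, M ≠ ⊤ → (P : Subgroup X) ≤ M → ∀ (A : Set X) (m : X), m ∈ M →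
      A ⊆ ((P : Subgroup X) : Set X) → lc m A ⊆ ((P : Subgroup X) : Set X) → Ctl N A m)
    (D : Subgroup X) (hD : D ∈ tameFam p P) (x : X) (hx : x ∈ normalizer (D : Set X)) :
    Ctl N (D : Set X) x := by
  have hp : p.Prime := Fact.out
  have hsurj := QuotientGroup.mk'_surjective 𝒬
  have hQP : 𝒬 ≤ (P : Subgroup X) := Cfsg.Agent.Helper14.pCore_le_sylow p P
  have hDP : D ≤ (P : Subgroup X) := tameFam_le hD
  have hext : IsExt p (P : Subgroup X) D := by
    obtain ⟨Q', -, h1, -⟩ := hD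
    exact h1
  have hQD : 𝒬 ≤ D := by
    obtain ⟨Q', rfl, -⟩ := hD
    exact le_inf hQP (Cfsg.Agent.Helper14.pCore_le_sylow p Q')
  have hPb : ((P.mapSurjective hsurj : Sylow p (X ⧸ 𝒬)) : Subgroup (X ⧸ 𝒬)) =
      (P : Subgroup X).map π := Sylow.coe_mapSurjective _ _
  have hA' : π '' (D : Set X) ⊆ ((P.mapSurjective hsurj : Sylow p (X ⧸ 𝒬)) : Subgroup (X ⧸ 𝒬)) := by
    rw [hPb]
    rintro _ ⟨a, ha, rfl⟩
    exact ⟨a, hDP ha, rfl⟩
  have hxD : lc x (D : Set X) = D := by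
    rw [lc_coe, mem_normalizer_iff_map_cj.1 hx]
  have hgA' : lc (π x) (π '' (D : Set X)) ⊆
      ((P.mapSurjective hsurj : Sylow p (X ⧸ 𝒬)) : Subgroup (X ⧸ 𝒬)) := by
    rw [lc_image_hom, hxD]
    exact hA'
  have hfreeQ : ¬ Involves ↥(Cfsg.qd p) (X ⧸ 𝒬) :=
    fun h => hfree (Cfsg.Agent.Helper9.S4Sec.involves_of_quotient _ h)
  obtain ⟨zb, hzbN, hzbA⟩ := controls_zjA_of_qdfree hp2 hfreeQ (P.mapSurjective hsurj) _ hA' _ hgA'
  rw [hPb] at hzbN
  obtain ⟨z, hz⟩ := hsurj zb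
  -- the proper subgroup `M`
  have hPbp : IsPGroup p ↥((P : Subgroup X).map π) := P.2.map _
  have hWp : IsPGroup p ↥(centerThompsonAOf ((P : Subgroup X).map π)) :=
    hPbp.to_le ((zjAFunctor.{u} p).le _)
  have hMne : (normalizer ((centerThompsonAOf ((P : Subgroup X).map π) : Subgroup (X ⧸ 𝒬)) :
      Set (X ⧸ 𝒬))).comap π ≠ ⊤ := by
    intro htop
    have hNtop : normalizer ((centerThompsonAOf ((P : Subgroup X).map π) : Subgroup (X ⧸ 𝒬)) :
        Set (X ⧸ 𝒬)) = ⊤ := by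
      rw [← Subgroup.map_comap_eq_self_of_surjective hsurj (normalizer _), htop,
        Subgroup.map_top_of_surjective _ hsurj]
    have hn : (centerThompsonAOf ((P : Subgroup X).map π)).Normal :=
      Subgroup.normalizer_eq_top_iff.1 hNtop
    have hle := Cfsg.Agent.Helper14.le_pCore p hn hWp
    rw [Cfsg.Agent.Helper14.pCore_quotient 𝒬 (Cfsg.Agent.Helper14.pCore_isPGroup p),
      QuotientGroup.map_mk'_self, le_bot_iff] at hle
    have hPb0 : (P : Subgroup X).map π = ⊥ := by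
      by_contra hne
      exact (zjAFunctor.{u} p).ne_bot _ hPbp hne hle
    apply hPQ
    apply le_antisymm _ hQP
    intro y hy
    have h1 : π y ∈ (P : Subgroup X).map π := ⟨y, hy, rfl⟩
    rw [hPb0, Subgroup.mem_bot] at h1
    exact (QuotientGroup.eq_one_iff y).1 h1
  have hPM : (P : Subgroup X) ≤ (normalizer ((centerThompsonAOf ((P : Subgroup X).map π) :
      Subgroup (X ⧸ 𝒬)) : Set (X ⧸ 𝒬))).comap π := by
    intro y hy
    rw [Subgroup.mem_comap]
    exact (Subgroup.le_normalizer.trans ((zjAFunctor.{u} p).normalizer_le _)) ⟨y, hy, rfl⟩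
  have hzM : z ∈ (normalizer ((centerThompsonAOf ((P : Subgroup X).map π) :
      Subgroup (X ⧸ 𝒬)) : Set (X ⧸ 𝒬))).comap π := by
    rw [Subgroup.mem_comap, hz]
    exact hzbN
  have hcmD : (D.map π).comap π = D := by
    rw [Subgroup.comap_map_eq, QuotientGroup.ker_mk', sup_eq_left.2 hQD]
  have hzD : ∀ a ∈ D, z * a * z⁻¹ ∈ D := by
    intro a ha
    have h1 := hzbA (π a) ⟨a, ha, rfl⟩
    rw [← hz] at h1
    have h2 : π (z * a * z⁻¹) ∈ D.map π := by
      have e : π (z * a * z⁻¹) = π z * π a * (π z)⁻¹ := by simp only [map_mul, map_inv]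
      rw [e, h1]
      refine ⟨x * a * x⁻¹, ?_, by simp only [map_mul, map_inv]⟩
      have : x * a * x⁻¹ ∈ lc x (D : Set X) := ⟨a, ha, rfl⟩
      rw [hxD] at this
      exact this
    have h3 : z * a * z⁻¹ ∈ (D.map π).comap π := h2
    rw [hcmD] at h3
    exact h3
  have hgdz : Ctl N (D : Set X) z := by
    apply hsub _ hMne hPM (D : Set X) z hzM hDP
    rintro _ ⟨a, ha, rfl⟩
    exact hDP (hzD a ha)
  -- the element `d = z⁻¹ x`
  have hd1 : ∀ a ∈ D, π ((z⁻¹ * x) * a * (z⁻¹ * x)⁻¹) = π a := by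
    intro a ha
    have h1 := hzbA (π a) ⟨a, ha, rfl⟩
    rw [← hz] at h1
    simp only [map_mul, map_inv]
    calc (π z)⁻¹ * π x * π a * ((π z)⁻¹ * π x)⁻¹
        = (π z)⁻¹ * (π x * π a * (π x)⁻¹) * π z := by group
      _ = (π z)⁻¹ * (π z * π a * (π z)⁻¹) * π z := by rw [h1]
      _ = π a := by group
  have hd2 : ∀ a ∈ D, (z⁻¹ * x) * a * (z⁻¹ * x)⁻¹ ∈ D := by
    intro a ha
    have h1 : a⁻¹ * ((z⁻¹ * x) * a * (z⁻¹ * x)⁻¹) ∈ 𝒬 := by
      apply (QuotientGroup.eq_one_iff _).1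
      have h2 : π (a⁻¹ * ((z⁻¹ * x) * a * (z⁻¹ * x)⁻¹)) = 1 := by
        rw [map_mul, hd1 a ha, map_inv, inv_mul_cancel]
      exact h2
    have e : (z⁻¹ * x) * a * (z⁻¹ * x)⁻¹ = a * (a⁻¹ * ((z⁻¹ * x) * a * (z⁻¹ * x)⁻¹)) := by group
    rw [e]
    exact D.mul_mem ha (hQD h1)
  have hdN : z⁻¹ * x ∈ normalizer (D : Set X) := by
    rw [mem_normalizer_iff_map_cj]
    apply Subgroup.eq_of_le_of_card_ge
    · rintro _ ⟨a, ha, rfl⟩
      exact hd2 a ha
    · rw [Cfsg.Agent.Helper10.card_map_cj]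
  obtain ⟨𝒳, h𝒳⟩ : ∃ 𝒳 : Subgroup X, 𝒳 = normalizer (D : Set X) ⊓
      (centralizer ((D.map π : Subgroup (X ⧸ 𝒬)) : Set (X ⧸ 𝒬))).comap π := ⟨_, rfl⟩
  have hmem𝒳 : ∀ k : X, k ∈ 𝒳 ↔ k ∈ normalizer (D : Set X) ∧ ∀ a ∈ D, π a * π k = π k * π a := by
    intro k
    rw [h𝒳, Subgroup.mem_inf, Subgroup.mem_comap]
    constructor
    · rintro ⟨h1, h2⟩
      refine ⟨h1, fun a ha => ?_⟩
      exact Subgroup.mem_centralizer_iff.1 h2 (π a) ⟨a, ha, rfl⟩
    · rintro ⟨h1, h2⟩
      refine ⟨h1, ?_⟩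
      apply Subgroup.mem_centralizer_iff.2
      rintro _ ⟨a, ha, rfl⟩
      exact h2 a ha
  have hd𝒳 : z⁻¹ * x ∈ 𝒳 := by
    rw [hmem𝒳]
    refine ⟨hdN, fun a ha => ?_⟩
    have h1 := hd1 a ha
    rw [map_mul, map_mul, map_inv] at h1
    calc π a * π (z⁻¹ * x) = (π (z⁻¹ * x) * π a * (π (z⁻¹ * x))⁻¹) * π (z⁻¹ * x) := by rw [h1]
      _ = π (z⁻¹ * x) * π a := by group
  have h𝒳N : 𝒳 ≤ normalizer (D : Set X) := by rw [h𝒳]; exact inf_le_left
  have hN𝒳 : normalizer (D : Set X) ≤ normalizer (𝒳 : Set X) := by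
    rw [h𝒳]
    apply le_normalizer_inf_of_le Subgroup.le_normalizer
    intro n hn
    have h1 : π n ∈ normalizer ((D.map π : Subgroup (X ⧸ 𝒬)) : Set (X ⧸ 𝒬)) :=
      Subgroup.le_normalizer_map π ⟨n, hn, rfl⟩
    have h2 : π n ∈ normalizer ((centralizer ((D.map π : Subgroup (X ⧸ 𝒬)) : Set (X ⧸ 𝒬)) :
        Subgroup (X ⧸ 𝒬)) : Set (X ⧸ 𝒬)) := le_normalizer_centralizer_of_le le_rfl h1
    exact Subgroup.le_normalizer_comap π h2
  have hpow : ∀ k ∈ 𝒳, ∃ j : ℕ, k ^ (p ^ j) ∈ centralizer (D : Set X) := by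
    intro k hk
    obtain ⟨j, hj⟩ := exists_pow_mem_centralizer_of_PC P hPC k
    obtain ⟨b, hb⟩ := IsPGroup.iff_card.mp (Cfsg.Agent.Helper14.pCore_isPGroup (G := X) p)
    refine ⟨j + b, ?_⟩
    have hk' : k ^ (p ^ j) ∈ 𝒳 := 𝒳.pow_mem hk _
    have e : k ^ (p ^ (j + b)) = (k ^ (p ^ j)) ^ (Nat.card ↥𝒬) := by
      rw [hb, ← pow_mul, ← pow_add]
    rw [e]
    obtain ⟨k', hk'e⟩ : ∃ k' : X, k' = k ^ (p ^ j) := ⟨_, rfl⟩
    rw [← hk'e] at hj hk' ⊢
    apply Subgroup.mem_centralizer_iff.2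
    intro a ha
    have hq : k' * a * k'⁻¹ * a⁻¹ ∈ 𝒬 := by
      apply (QuotientGroup.eq_one_iff _).1
      have h1 := ((hmem𝒳 k').1 hk').2 a ha
      have h2 : π (k' * a * k'⁻¹ * a⁻¹) = 1 := by
        simp only [map_mul, map_inv]
        rw [← h1]; group
      exact h2
    have hcomm : Commute k' (k' * a * k'⁻¹ * a⁻¹) :=
      (Subgroup.mem_centralizer_iff.1 hj _ hq).symm
    have hconj : ∀ n : ℕ, k' ^ n * a * (k' ^ n)⁻¹ = (k' * a * k'⁻¹ * a⁻¹) ^ n * a := by
      intro n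
      induction n with
      | zero => simp
      | succ n ih =>
        have h1 : k' * (k' * a * k'⁻¹ * a⁻¹) ^ n * k'⁻¹ = (k' * a * k'⁻¹ * a⁻¹) ^ n := by
          rw [(hcomm.pow_right n).eq, mul_inv_cancel_right]
        calc k' ^ (n + 1) * a * (k' ^ (n + 1))⁻¹ = k' * (k' ^ n * a * (k' ^ n)⁻¹) * k'⁻¹ := by
              rw [pow_succ']; group
          _ = k' * ((k' * a * k'⁻¹ * a⁻¹) ^ n * a) * k'⁻¹ := by rw [ih]
          _ = (k' * (k' * a * k'⁻¹ * a⁻¹) ^ n * k'⁻¹) * (k' * a * k'⁻¹ * a⁻¹) * a := by group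
          _ = (k' * a * k'⁻¹ * a⁻¹) ^ (n + 1) * a := by rw [h1, ← pow_succ]
    have hq1 : (k' * a * k'⁻¹ * a⁻¹) ^ (Nat.card ↥𝒬) = 1 := by
      have := pow_card_eq_one' (G := ↥𝒬) (x := ⟨_, hq⟩)
      exact congrArg Subtype.val this
    have h3 := hconj (Nat.card ↥𝒬)
    rw [hq1, one_mul] at h3
    calc a * k' ^ (Nat.card ↥𝒬) = (k' ^ (Nat.card ↥𝒬) * a * (k' ^ (Nat.card ↥𝒬))⁻¹) * k' ^ (Nat.card ↥𝒬) := by
          rw [h3]
      _ = k' ^ (Nat.card ↥𝒬) * a := by group
  have hcover := le_inf_centralizer_sup_sylow P.2 hext h𝒳N hN𝒳 hpow hd𝒳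
  have hPn : (P : Subgroup X) ⊓ 𝒳 ≤ normalizer ((𝒳 ⊓ centralizer (D : Set X) : Subgroup X) : Set X) := by
    apply le_normalizer_inf_of_le (inf_le_right.trans Subgroup.le_normalizer)
    exact (inf_le_right.trans h𝒳N).trans (le_normalizer_centralizer_of_le le_rfl)
  have hmem : z⁻¹ * x ∈ ((𝒳 ⊓ centralizer (D : Set X) : Subgroup X) : Set X) *
      (((P : Subgroup X) ⊓ 𝒳 : Subgroup X) : Set X) := by
    rw [← Subgroup.coe_mul_of_right_le_normalizer_left _ _ hPn]
    exact hcover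
  obtain ⟨c₀, hc₀, u, hu, hcu⟩ := Set.mem_mul.1 hmem
  have huD : lc u (D : Set X) = D := by
    rw [lc_coe, mem_normalizer_iff_map_cj.1 (h𝒳N hu.2)]
  have h1 : Ctl N (D : Set X) u := Ctl.of_mem (hPN hu.1)
  have h2 : Ctl N (lc u (D : Set X)) c₀ := by
    rw [huD]
    apply Ctl.of_trivial
    intro a ha
    have := Subgroup.mem_centralizer_iff.1 hc₀.2 a ha
    rw [← this]; group
  have h3 : Ctl N (D : Set X) (c₀ * u) := h1.comp h2
  rw [hcu] at h3
  have hdD : lc (z⁻¹ * x) (D : Set X) = D := by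
    rw [lc_coe, mem_normalizer_iff_map_cj.1 hdN]
  have h4 : Ctl N (lc (z⁻¹ * x) (D : Set X)) z := by
    rw [hdD]; exact hgdz
  have h5 := h3.comp h4
  have e : z * (z⁻¹ * x) = x := by group
  rwa [e] at h5

end PC

section Main

/-- **the main induction** -/
theorem rt_all (hp2 : p ≠ 2) (F : CharFunctor.{u} p) (e : ℕ) (he : e = 0 ∨ Odd e)
    (hF : ∀ (G : Type u) [Group G] [Finite G] (D : Subgroup G),
      F.W D = sInf (Cfsg.Agent.Helper26.famEl e D)) :
    ∀ (n : ℕ) (X : Type u) [Group X] [Finite X], Nat.card X = n →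
      ¬ Involves ↥(Cfsg.qd p) X → RT p F X := by
  intro n
  induction n using Nat.strong_induction_on with
  | _ n ih =>
  intro X _ _ hn hX
  have IH : ∀ (Y : Type u) [Group Y] [Finite Y], Nat.card Y < Nat.card X →
      ¬ Involves ↥(Cfsg.qd p) Y → RT p F Y :=
    fun Y _ _ hlt hY => ih (Nat.card Y) (hn ▸ hlt) Y rfl hY
  have hsubfree : ∀ M : Subgroup X, ¬ Involves ↥(Cfsg.qd p) ↥M :=
    fun M h => hX (Cfsg.Agent.Helper9.S4Sec.involves_of_subgroup M h)
  -- Step 0: `O_{p'}(X) = 1`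
  by_cases hO : Cfsg.pPrimeCore p X = ⊥
  swap
  · exact rt_of_quotient_coprime F (Cfsg.pPrimeCore p X)
      (Cfsg.Agent.Helper23.pPrimeCore_card_coprime p X)
      (IH _ (card_quotient_lt_of_ne_bot hO)
        (fun h => hX (Cfsg.Agent.Helper9.S4Sec.involves_of_quotient _ h)))
  intro P D hD hD1 A g hA hgA
  have hPND := sylow_le_normalizer_W F P D hD
  -- Step 1: the constrained case
  by_cases hcon : centralizer ((Cfsg.pCore p X : Subgroup X) : Set X) ≤ Cfsg.pCore p X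
  · have hn := normal_sInf_famEl_of_stronglyClosed hp2 e he P D hD
      (Cfsg.Agent.Helper26.QdStab.stabHypSub_of_qd_free hp2 hX) hcon
    rw [← hF] at hn
    apply Ctl.of_mem
    rw [normalizer_eq_top_iff.mpr hn]
    exact mem_top _
  -- subgroups containing `P`
  have hsub : ∀ M : Subgroup X, M ≠ ⊤ → (P : Subgroup X) ≤ M → ∀ (A : Set X) (m : X), m ∈ M →
      A ⊆ ((P : Subgroup X) : Set X) → lc m A ⊆ ((P : Subgroup X) : Set X) →
      Ctl (normalizer ((F.W D : Subgroup X) : Set X)) A m := by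
    intro M hM hPM A m hm hA hmA
    have hRi : ¬ p ∣ (P : Subgroup X).relIndex M := by
      intro hdvd
      exact P.not_dvd_index (hdvd.trans (Subgroup.relIndex_dvd_index_of_le hPM))
    have hPD : (P : Subgroup X) ⊓ D = D := inf_eq_right.mpr hD.1
    have h1 := rt_transfer F P D hD M (P : Subgroup X) hPM le_rfl hRi (by rw [hPD]; exact hD1)
      (IH _ (card_subgroup_lt_of_ne_top hM) (hsubfree M)) A m hm hA hmA
    rw [hPD] at h1
    exact h1.of_le inf_le_right
  -- Step 2: `O_p(X) = 1`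
  by_cases hQ : Cfsg.pCore p X = ⊥
  · have hW := isConjugacyFunctor_scFunctor F D
    have hloc : ∀ T : Subgroup X, T ≠ ⊥ → IsWellPlaced p (scFunctor F D) (P : Subgroup X) T →
        ControlsStrongFusionIn p (scFunctor F D) (normalizer ((T : Subgroup X) : Set X)) := by
      intro T hT1 hwp
      have hTP : T ≤ (P : Subgroup X) := hwp.1
      have hidx : ¬ p ∣ ((P : Subgroup X) ⊓ normalizer (T : Set X)).relIndex
          (normalizer (T : Set X)) := hwp.2 0
      have hNne : normalizer (T : Set X) ≠ ⊤ := by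
        intro htop
        apply hT1
        have hTn : T.Normal := normalizer_eq_top_iff.1 htop
        have := Cfsg.Agent.Helper14.le_pCore p hTn (P.2.to_le hTP)
        rw [hQ] at this
        exact le_bot_iff.1 this
      have hT₁p : IsPGroup p ↥((P : Subgroup X) ⊓ normalizer (T : Set X) : Subgroup X) :=
        P.2.to_le inf_le_left
      have hdp : dpart D ((P : Subgroup X) ⊓ normalizer (T : Set X)) =
          (P : Subgroup X) ⊓ normalizer (T : Set X) ⊓ D := dpart_eq_inf_of_le hD inf_le_left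
      have hne : (P : Subgroup X) ⊓ normalizer (T : Set X) ⊓ D ≠ ⊥ := by
        obtain ⟨z, hzD, hz1, hzc⟩ := exists_mem_center_of_stronglyClosed P hD hD1
        intro h0
        apply hz1
        rw [← mem_bot, ← h0]
        refine ⟨⟨hD.1 hzD, ?_⟩, hzD⟩
        show z ∈ normalizer (T : Set X)
        apply mem_normalizer_fintype
        intro t ht
        have := hzc t (hTP ht)
        have e : z * t * z⁻¹ = t := by
          calc z * t * z⁻¹ = (t * z) * z⁻¹ := by rw [this]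
            _ = t := by group
        rw [e]
        exact ht
      refine ⟨(P : Subgroup X) ⊓ normalizer (T : Set X), inf_le_right, hT₁p, hidx, ?_⟩
      intro A' h hhN hAT hAh
      have h1 := rt_transfer F P D hD (normalizer (T : Set X))
        ((P : Subgroup X) ⊓ normalizer (T : Set X)) inf_le_right inf_le_left hidx hne
        (IH _ (card_subgroup_lt_of_ne_top hNne) (hsubfree _)) A' h hhN hAT hAh
      obtain ⟨x, hx, hxA⟩ := h1
      refine ⟨x, ?_, hxA⟩
      rw [scFunctor_of_ne F D _ (by rw [hdp]; exact hne), hdp]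
      exact hx
    have hglob := Cfsg.Agent.Helper10.controlsStrongFusion_of_wellPlaced P hW hloc
    have hidx : ¬ p ∣ (P : Subgroup X).relIndex ⊤ := by
      rw [relIndex_top_right]; exact P.not_dvd_index
    obtain ⟨x, hx, hxA⟩ := Cfsg.Agent.Helper10.controlsStrongFusionIn_sylow hW hglob
      (le_top : (P : Subgroup X) ≤ ⊤) P.isPGroup' hidx A g (mem_top g) hA hgA
    have hne : dpart D (P : Subgroup X) ≠ ⊥ := by rw [dpart_sylow hD]; exact hD1
    rw [scFunctor_of_ne F D _ hne, dpart_sylow hD] at hx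
    exact ⟨x, hx.2, hxA⟩
  -- Step 3
  have hQP : Cfsg.pCore p X ≤ (P : Subgroup X) := Cfsg.Agent.Helper14.pCore_le_sylow p P
  have hCn : (centralizer ((Cfsg.pCore p X : Subgroup X) : Set X)).Normal := inferInstance
  have hKn : (Cfsg.pCore p X ⊔ centralizer ((Cfsg.pCore p X : Subgroup X) : Set X)).Normal :=
    inferInstance
  by_cases hN : normalizer ((((P : Subgroup X) ⊓
      (Cfsg.pCore p X ⊔ centralizer ((Cfsg.pCore p X : Subgroup X) : Set X)) : Subgroup X)) : Set X) = ⊤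
  · exfalso
    apply hcon
    apply centralizer_pCore_le_of_sylow_inf_le P hO
    have hn : ((P : Subgroup X) ⊓
      (Cfsg.pCore p X ⊔ centralizer ((Cfsg.pCore p X : Subgroup X) : Set X))).Normal :=
      Subgroup.normalizer_eq_top_iff.1 hN
    have := Cfsg.Agent.Helper14.le_pCore p hn (P.2.to_le inf_le_left)
    exact (inf_le_inf_left _ le_sup_right).trans this
  by_cases hPK : (P : Subgroup X) ⊔
      (Cfsg.pCore p X ⊔ centralizer ((Cfsg.pCore p X : Subgroup X) : Set X)) = ⊤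
  · have hPQ : (P : Subgroup X) ≠ Cfsg.pCore p X := by
      intro h
      apply hN
      rw [h, inf_of_le_left le_sup_left]
      exact Subgroup.normalizer_eq_top_iff.2 inferInstance
    have hPC : ∀ x : X, ∃ u ∈ (P : Subgroup X),
        ∃ c ∈ centralizer ((Cfsg.pCore p X : Subgroup X) : Set X), x = u * c := by
      intro x
      have hx : x ∈ (((P : Subgroup X) ⊔ centralizer ((Cfsg.pCore p X : Subgroup X) : Set X) :
          Subgroup X) : Set X) := by
        have h1 : (P : Subgroup X) ⊔ centralizer ((Cfsg.pCore p X : Subgroup X) : Set X) = ⊤ := by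
          rw [← hPK, ← sup_assoc, sup_eq_left.2 hQP]
        rw [h1]; exact Subgroup.mem_top x
      rw [Subgroup.mul_normal] at hx
      obtain ⟨u, hu, c, hc, rfl⟩ := Set.mem_mul.1 hx
      exact ⟨u, hu, c, hc, rfl⟩
    exact ctl_of_tame P _ (ctl_tame_of_PC hp2 hX P _ hPND hPQ hPC hsub) A g hA hgA
  · obtain ⟨l, hl, n', hn', rfl, hlA⟩ := frattini_fusion P
      (Cfsg.pCore p X ⊔ centralizer ((Cfsg.pCore p X : Subgroup X) : Set X)) A g hA hgA
    have h1 := hsub _ hPK le_sup_left A l hl hA hlA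
    have hPN : (P : Subgroup X) ≤ normalizer ((((P : Subgroup X) ⊓
        (Cfsg.pCore p X ⊔ centralizer ((Cfsg.pCore p X : Subgroup X) : Set X)) : Subgroup X)) : Set X) := by
      apply le_normalizer_inf_of_le Subgroup.le_normalizer
      rw [Subgroup.normalizer_eq_top_iff.2 hKn]; exact le_top
    have h2 := hsub _ hN hPN (lc l A) n' hn' hlA (by rw [← lc_mul]; exact hgA)
    exact h1.comp h2

/-- **`N_G(W(D))` controls strong fusion in `P`** for `D` strongly closed in `P`, `G` being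
`Qd(p)`-free -/
theorem sc_controls_of_qdfree (hp2 : p ≠ 2) (F : CharFunctor.{u} p) (e : ℕ) (he : e = 0 ∨ Odd e)
    (hF : ∀ (G : Type u) [Group G] [Finite G] (D : Subgroup G),
      F.W D = sInf (Cfsg.Agent.Helper26.famEl e D))
    {G : Type u} [Group G] [Finite G] (hfree : ¬ Involves ↥(Cfsg.qd p) G)
    (P : Sylow p G) (D : Subgroup G) (hD : IsStronglyClosed D (P : Subgroup G))
    (A : Set G) (hA : A ⊆ ((P : Subgroup G) : Set G)) :
    ControlsStrongFusionOf (normalizer (F.W D : Set G)) (P : Subgroup G) A := by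
  refine ⟨hA, ?_⟩
  intro g hg
  by_cases hD1 : D = ⊥
  · have hW : F.W D = ⊥ := by
      rw [hD1]; exact le_bot_iff.mp (F.le ⊥)
    refine ⟨g, ?_, fun a _ => rfl⟩
    rw [hW, mem_normalizer_iff]
    intro y
    simp [mem_bot]
  obtain ⟨x, hx, hxA⟩ := rt_all hp2 F e he hF _ G rfl hfree P D hD hD1 A g hA hg
  exact ⟨x, hx, fun a ha => (hxA a ha).symm⟩

end Main

end Cfsg.Agent.Helper15.SCQd
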