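import Cfsg.Agent.Helper15.SSolv1
import Cfsg.Agent.S0071

/-! S3033: a normal `p`-complement for the smallest prime. -/

set_option autoImplicit false

namespace Cfsg.Agent.Helper15.SSolv

variable {G : Type*} [Group G]

/-- an element of order `q ^ b` normalizing a group of order `p < q` centralizes it -/
theorem centralizes_of_card_prime [Finite G] {p q b : ℕ} (hp : p.Prime) (hq : q.Prime) (hpq : p < q)
    (D : Subgroup G) (hD : Nat.card D = p) (g : G) (hg : g ∈ Subgroup.normalizer (D : Set G))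
    (hgo : g ^ (q ^ b) = 1) (c : G) (hc : c ∈ D) : g * c * g⁻¹ = c := by
  have : Fact p.Prime := ⟨hp⟩
  have hcyc : IsCyclic ↥D := isCyclic_of_prime_card hD
  have hfin : Finite ↥D := Nat.finite_of_card_ne_zero (by rw [hD]; exact hp.ne_zero)
  obtain ⟨φ, hφ⟩ : ∃ φ : MulAut ↥D, φ = D.normalizerMonoidHom ⟨g, hg⟩ := ⟨_, rfl⟩
  have h1 : φ ^ (q ^ b) = 1 := by
    rw [hφ, ← map_pow]
    have : (⟨g, hg⟩ : ↥(Subgroup.normalizer (D : Set G))) ^ (q ^ b) = 1 :=
      Subtype.ext (by simpa using hgo)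
    rw [this, map_one]
  have h2 : φ ^ (p - 1) = 1 := by
    have hcard : Nat.card (MulAut ↥D) = p - 1 := by
      rw [IsCyclic.card_mulAut, hD, Nat.totient_prime hp]
    have hfinA : Finite (MulAut ↥D) := by
      apply Nat.finite_of_card_ne_zero
      rw [hcard]
      have := hp.two_le
      omega
    rw [← hcard]
    exact pow_card_eq_one'
  have hcop : Nat.Coprime (q ^ b) (p - 1) := by
    apply Nat.Coprime.pow_left
    rw [Nat.Prime.coprime_iff_not_dvd hq]
    intro hd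
    have := Nat.le_of_dvd (by have := hp.two_le; omega) hd
    omega
  have h3 : orderOf φ ∣ 1 := by
    rw [← hcop.gcd_eq_one]
    exact Nat.dvd_gcd (orderOf_dvd_of_pow_eq_one h1) (orderOf_dvd_of_pow_eq_one h2)
  have h4 : φ = 1 := by
    rw [← orderOf_eq_one_iff]
    exact Nat.dvd_one.mp h3
  have h5 : ((φ ⟨c, hc⟩ : ↥D) : G) = g * c * g⁻¹ := by rw [hφ]; rfl
  rw [← h5, h4]
  rfl

/-- under the hypothesis, `q`-elements normalizing a `p`-subgroup centralize it when `p` is the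
smallest prime divisor of the group order -/
theorem centralizes_of_hyp [Finite G] (hG : Hyp G) {p : ℕ} (hp : p.Prime)
    (hmin : ∀ q : ℕ, q.Prime → q ∣ Nat.card G → p ≤ q) (Q : Subgroup G) (hQ : IsPGroup p ↥Q)
    (g : G) (hg : g ∈ Subgroup.normalizer (Q : Set G)) {q : ℕ} (hq : q.Prime) (hqp : q ≠ p)
    {b : ℕ} (hgo : orderOf g = q ^ b) : g ∈ Subgroup.centralizer (Q : Set G) := by
  have : Fact p.Prime := ⟨hp⟩
  rw [Subgroup.mem_centralizer_iff]
  intro h hh
  have hhQ : h ∈ Q := hh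
  by_cases hb : b = 0
  · rw [hb, pow_zero, orderOf_eq_one_iff] at hgo
    rw [hgo]; simp
  have hqG : q ∣ Nat.card G := by
    have h1 : q ∣ orderOf g := by rw [hgo]; exact dvd_pow_self q hb
    exact h1.trans (orderOf_dvd_natCard g)
  have hpq : p < q := lt_of_le_of_ne (hmin q hq hqG) (Ne.symm hqp)
  have hho : ∃ a : ℕ, orderOf h = p ^ a := by
    obtain ⟨k, hk⟩ := hQ ⟨h, hhQ⟩
    have hk' : h ^ (p ^ k) = 1 := by
      have := congrArg Subtype.val hk
      simpa using this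
    obtain ⟨a, -, ha⟩ := (Nat.dvd_prime_pow hp).mp (orderOf_dvd_of_pow_eq_one hk')
    exact ⟨a, ha⟩
  have hK := hG q p hq hp hqp g h ⟨b, hgo⟩ hho
  obtain ⟨K, hKdef⟩ : ∃ K, K = Subgroup.zpowers g ⊔ Subgroup.zpowers (h * g * h⁻¹) := ⟨_, rfl⟩
  rw [← hKdef] at hK
  obtain ⟨c, hc⟩ : ∃ c, c = h * g * h⁻¹ * g⁻¹ := ⟨_, rfl⟩
  have hgK : g ∈ K := by
    rw [hKdef]; exact (le_sup_left : Subgroup.zpowers g ≤ _) (Subgroup.mem_zpowers g)
  have hgK' : h * g * h⁻¹ ∈ K := by
    rw [hKdef]; exact (le_sup_right : Subgroup.zpowers (h * g * h⁻¹) ≤ _) (Subgroup.mem_zpowers _)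
  have hcK : c ∈ K := by rw [hc]; exact K.mul_mem hgK' (K.inv_mem hgK)
  have hcQ : c ∈ Q := by
    have h1 : g * h⁻¹ * g⁻¹ ∈ Q := (Subgroup.mem_normalizer_iff.mp hg h⁻¹).mp (Q.inv_mem hhQ)
    have : c = h * (g * h⁻¹ * g⁻¹) := by rw [hc]; group
    rw [this]; exact Q.mul_mem hhQ h1
  -- `g` commutes with `c`
  have hgc : g * c * g⁻¹ = c := by
    by_cases hc1 : c = 1
    · rw [hc1]; simp
    have hD : ∀ a ∈ K ⊓ Q, ∃ k : ℕ, a ^ (p ^ k) = 1 := by
      intro a ha
      obtain ⟨k, hk⟩ := hQ ⟨a, ha.2⟩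
      exact ⟨k, by have := congrArg Subtype.val hk; simpa using this⟩
    have hDc : ¬ p ^ 2 ∣ Nat.card ↥(K ⊓ Q) := by
      intro hd
      exact hK (hd.trans (Subgroup.card_dvd_of_le inf_le_left))
    have hcard : Nat.card ↥(K ⊓ Q) = p := by
      rcases card_le_of_not_sq_dvd hp (K ⊓ Q) hD hDc with h1 | h1
      · exfalso
        have hbot : K ⊓ Q = ⊥ := Subgroup.card_eq_one.mp h1
        have : c ∈ K ⊓ Q := ⟨hcK, hcQ⟩
        rw [hbot, Subgroup.mem_bot] at this
        exact hc1 this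
      · exact h1
    have hgn : g ∈ Subgroup.normalizer ((K ⊓ Q : Subgroup G) : Set G) := by
      rw [Subgroup.mem_normalizer_iff]
      intro a
      constructor
      · rintro ⟨haK, haQ⟩
        exact ⟨K.mul_mem (K.mul_mem hgK haK) (K.inv_mem hgK),
          (Subgroup.mem_normalizer_iff.mp hg a).mp haQ⟩
      · rintro ⟨haK, haQ⟩
        refine ⟨?_, (Subgroup.mem_normalizer_iff.mp hg a).mpr haQ⟩
        have := K.mul_mem (K.mul_mem (K.inv_mem hgK) haK) hgK
        have e : g⁻¹ * (g * a * g⁻¹) * g = a := by group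
        rwa [e] at this
    exact centralizes_of_card_prime hp hq hpq (K ⊓ Q) hcard g hgn
      (by rw [← hgo]; exact pow_orderOf_eq_one g) c ⟨hcK, hcQ⟩
  have hcomm : Commute c g := by
    have : g * c = c * g := by
      calc g * c = (g * c * g⁻¹) * g := by group
        _ = c * g := by rw [hgc]
    exact this.symm
  have h1 : (h * g * h⁻¹) ^ (q ^ b) = 1 := by
    rw [conj_pow, ← hgo, pow_orderOf_eq_one]; group
  have h2 : h * g * h⁻¹ = c * g := by rw [hc]; group
  rw [h2, hcomm.mul_pow, ← hgo, pow_orderOf_eq_one, mul_one, hgo] at h1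
  -- `c` is a `p`-element of `q`-power order
  obtain ⟨k, hk⟩ := hQ ⟨c, hcQ⟩
  have hk' : c ^ (p ^ k) = 1 := by have := congrArg Subtype.val hk; simpa using this
  have hcop : Nat.Coprime (q ^ b) (p ^ k) :=
    Nat.Coprime.pow _ _ ((Nat.coprime_primes hq hp).mpr hqp)
  have h3 : orderOf c ∣ 1 := by
    rw [← hcop.gcd_eq_one]
    exact Nat.dvd_gcd (orderOf_dvd_of_pow_eq_one h1) (orderOf_dvd_of_pow_eq_one hk')
  have hc1 : c = 1 := by
    rw [← orderOf_eq_one_iff]; exact Nat.dvd_one.mp h3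
  rw [hc1] at hc
  calc h * g = (h * g * h⁻¹ * g⁻¹) * g * h := by group
    _ = g * h := by rw [← hc]; group

/-- **Normal `p`-complement for the smallest prime.** -/
theorem exists_normal_complement [Finite G] (hG : Hyp G) {p : ℕ} [Fact p.Prime]
    (hmin : ∀ q : ℕ, q.Prime → q ∣ Nat.card G → p ≤ q) (P : Sylow p G) :
    ∃ K : Subgroup G, K.Normal ∧ K.IsComplement' (P : Subgroup G) := by
  have hp : p.Prime := Fact.out
  rw [Cfsg.Agent.S0071.result P]
  intro Q hQP g hg hcop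
  apply mem_of_primary (Subgroup.centralizer (Q : Set G)) _ g rfl
  rintro k ⟨q, e, hq, hqe⟩
  have hgk : g ^ k ∈ Subgroup.normalizer (Q : Set G) := Subgroup.pow_mem _ hg k
  by_cases hqp : q = p
  · -- then `g ^ k = 1`
    have h1 : orderOf (g ^ k) ∣ orderOf g := orderOf_pow_dvd k
    have h2 : Nat.Coprime (orderOf (g ^ k)) p := Nat.Coprime.coprime_dvd_left h1 hcop
    rw [hqe, hqp] at h2
    by_cases he : e = 0
    · rw [he, pow_zero, orderOf_eq_one_iff] at hqe
      rw [hqe]; exact Subgroup.one_mem _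
    · exfalso
      have h3 : p ∣ Nat.gcd (p ^ e) p := Nat.dvd_gcd (dvd_pow_self p he) dvd_rfl
      rw [h2.gcd_eq_one] at h3
      exact hp.one_lt.ne' (Nat.dvd_one.mp h3)
  · exact centralizes_of_hyp hG hp hmin Q (P.2.to_le hQP) (g ^ k) hgk hq hqp hqe

end Cfsg.Agent.Helper15.SSolv
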