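import Cfsg.Agent.Helper15.SSolv2
import Cfsg.Agent.Helper29.Supersolvable2

/-! S3033: supersolvable groups are solvable. -/

set_option autoImplicit false

namespace Cfsg.Agent.Helper15.SSolv

open Cfsg.Agent.Helper29 (Reach)

variable {G : Type*} [Group G]

theorem isSolvable_of_reach {M : Subgroup G} (h : Reach (⊥ : Subgroup G) M) :
    Group.IsSolvable ↥M := by
  induction h with
  | refl => infer_instance
  | @step M g hr hn ih =>
    have hMn : M.Normal := Reach.normal inferInstance hr
    have hle : M ≤ M ⊔ Subgroup.zpowers g := le_sup_left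
    -- the hom to the cyclic group generated by the image of `g`
    let ψ : ↥(M ⊔ Subgroup.zpowers g) →* G ⧸ M :=
      (QuotientGroup.mk' M).comp (M ⊔ Subgroup.zpowers g).subtype
    have hψ : ∀ x, ψ x ∈ Subgroup.zpowers (QuotientGroup.mk g : G ⧸ M) := by
      intro x
      have h1 : (QuotientGroup.mk' M) (x : G) ∈
          (M ⊔ Subgroup.zpowers g).map (QuotientGroup.mk' M) :=
        Subgroup.mem_map_of_mem _ x.2
      rw [Subgroup.map_sup, MonoidHom.map_zpowers] at h1
      have h2 : M.map (QuotientGroup.mk' M) = ⊥ := by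
        rw [eq_bot_iff]
        rintro _ ⟨m, hm, rfl⟩
        rw [Subgroup.mem_bot, QuotientGroup.mk'_apply, QuotientGroup.eq_one_iff]
        exact hm
      rw [h2, bot_sup_eq] at h1
      exact h1
    let ψ' : ↥(M ⊔ Subgroup.zpowers g) →* ↥(Subgroup.zpowers (QuotientGroup.mk g : G ⧸ M)) :=
      ψ.codRestrict _ hψ
    have hker : ψ'.ker ≤ (Subgroup.inclusion hle).range := by
      intro x hx
      rw [MonoidHom.mem_ker] at hx
      have h1 : ψ x = 1 := congrArg Subtype.val hx
      have h2 : (x : G) ∈ M := by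
        rw [← QuotientGroup.eq_one_iff]
        exact h1
      exact ⟨⟨x, h2⟩, Subtype.ext rfl⟩
    have h1 : Group.IsSolvable ↥M := ih
    have h2 : Group.IsSolvable ↥(Subgroup.zpowers (QuotientGroup.mk g : G ⧸ M)) := by
      apply Group.isSolvable_of_comm
      intro a b
      obtain ⟨a, ha⟩ := a
      obtain ⟨b, hb⟩ := b
      obtain ⟨i, rfl⟩ := Subgroup.mem_zpowers_iff.mp ha
      obtain ⟨j, rfl⟩ := Subgroup.mem_zpowers_iff.mp hb
      apply Subtype.ext
      show (QuotientGroup.mk g : G ⧸ M) ^ i * (QuotientGroup.mk g : G ⧸ M) ^ j =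
        (QuotientGroup.mk g : G ⧸ M) ^ j * (QuotientGroup.mk g : G ⧸ M) ^ i
      rw [← zpow_add, ← zpow_add, add_comm]
    exact Group.isSolvable_of_ker_le_range (Subgroup.inclusion hle) ψ' hker

theorem isSolvable_of_isSupersolvable (h : Cfsg.IsSupersolvable G) : Group.IsSolvable G := by
  rw [Cfsg.Agent.Helper29.isSupersolvable_iff_reach] at h
  have h1 : Group.IsSolvable ↥(⊤ : Subgroup G) := isSolvable_of_reach h
  exact Group.isSolvable_of_isSolvable_injective
    (f := (Subgroup.topEquiv (G := G)).symm.toMonoidHom)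
    (Subgroup.topEquiv (G := G)).symm.injective

end Cfsg.Agent.Helper15.SSolv
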