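import Cfsg.Agent.Helper15.SSolv3
import Cfsg.Agent.Helper15.ExtraGrp1

/-! S3033: computing in a plane `⟨v⟩ × ⟨v₁⟩` of exponent `r`. -/

set_option autoImplicit false

namespace Cfsg.Agent.Helper15.SSolv

open Cfsg.Agent.Helper15.ExtraGrp (coordHom coordHom_injective pow_val_add pow_val_mul
  pow_eq_pow_of_natCast_eq)

variable {G : Type*} [Group G] {r : ℕ} [Fact r.Prime]

/-- two independent commuting elements of order `r` -/
structure Plane (r : ℕ) (v v₁ : G) : Prop where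
  comm : Commute v v₁
  hv : v ^ r = 1
  hv₁ : v₁ ^ r = 1
  ne : v ≠ 1
  indep : v₁ ∉ Subgroup.zpowers v

/-- the point with coordinates `(i, j)` -/
def pt (v v₁ : G) (i j : ZMod r) : G := v ^ i.val * v₁ ^ j.val

variable {v v₁ : G}

theorem pt_eq (h : Plane r v v₁) (i j : ZMod r) :
    pt v v₁ i j = coordHom v v₁ h.comm h.hv h.hv₁ (Multiplicative.ofAdd ![i, j]) := by
  unfold pt coordHom
  simp

theorem pt_mul (h : Plane r v v₁) (i j i' j' : ZMod r) :
    pt v v₁ i j * pt v v₁ i' j' = pt v v₁ (i + i') (j + j') := by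
  rw [pt_eq h, pt_eq h, pt_eq h, ← map_mul, ← ofAdd_add]
  congr 2
  ext k; fin_cases k <;> simp

theorem pt_zero (h : Plane r v v₁) : pt v v₁ (0 : ZMod r) 0 = 1 := by
  unfold pt; simp

theorem pt_inv (h : Plane r v v₁) (i j : ZMod r) :
    (pt v v₁ i j)⁻¹ = pt v v₁ (-i) (-j) := by
  rw [inv_eq_iff_mul_eq_one, pt_mul h, add_neg_cancel, add_neg_cancel, pt_zero h]

theorem pt_pow (h : Plane r v v₁) (i j : ZMod r) (n : ℕ) :
    (pt v v₁ i j) ^ n = pt v v₁ ((n : ZMod r) * i) ((n : ZMod r) * j) := by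
  induction n with
  | zero => simp [pt_zero h]
  | succ n ih =>
    rw [pow_succ, ih, pt_mul h]
    congr 1 <;> push_cast <;> ring

theorem pt_pow_val (h : Plane r v v₁) (i j k : ZMod r) :
    (pt v v₁ i j) ^ k.val = pt v v₁ (k * i) (k * j) := by
  rw [pt_pow h, ZMod.natCast_zmod_val]

theorem pt_pow_card (h : Plane r v v₁) (i j : ZMod r) : (pt v v₁ i j) ^ r = 1 := by
  rw [pt_pow h, ZMod.natCast_self, zero_mul, zero_mul, pt_zero h]

theorem pt_one_zero (h : Plane r v v₁) : pt v v₁ (1 : ZMod r) 0 = v := by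
  unfold pt; simp [ZMod.val_one]

theorem pt_zero_one (h : Plane r v v₁) : pt v v₁ (0 : ZMod r) 1 = v₁ := by
  unfold pt; simp [ZMod.val_one]

theorem pt_inj (h : Plane r v v₁) {i j i' j' : ZMod r} (he : pt v v₁ i j = pt v v₁ i' j') :
    i = i' ∧ j = j' := by
  rw [pt_eq h, pt_eq h] at he
  have := coordHom_injective v v₁ h.comm h.hv h.hv₁ h.ne h.indep he
  have h2 : (![i, j] : Fin 2 → ZMod r) = ![i', j'] := Multiplicative.ofAdd.injective this
  constructor
  · simpa using congrFun h2 0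
  · simpa using congrFun h2 1

/-- conjugation by an element acting linearly on the plane -/
theorem conj_pt (h : Plane r v v₁) {x : G} {a b c d : ZMod r}
    (h1 : x * v * x⁻¹ = pt v v₁ a c) (h2 : x * v₁ * x⁻¹ = pt v v₁ b d) (i j : ZMod r) :
    x * pt v v₁ i j * x⁻¹ = pt v v₁ (a * i + b * j) (c * i + d * j) := by
  have e1 : x * pt v v₁ i j * x⁻¹ = (x * v * x⁻¹) ^ i.val * (x * v₁ * x⁻¹) ^ j.val := by
    unfold pt
    rw [conj_pow, conj_pow, conj_mul]
  rw [e1, h1, h2, pt_pow_val h, pt_pow_val h, pt_mul h]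
  congr 1 <;> ring

/-- integer powers of an element of exponent `r` -/
theorem zpow_eq_pow_val {w : G} (hw : w ^ r = 1) (n : ℤ) : w ^ n = w ^ ((n : ZMod r)).val := by
  have hr : (r : ℤ) ≠ 0 := by
    exact_mod_cast (Fact.out : r.Prime).ne_zero
  have h1 : ((n : ZMod r).val : ℤ) = n % r := ZMod.val_intCast n
  have h2 : n = n % r + r * (n / r) := (Int.emod_add_mul_ediv n r).symm
  rw [← zpow_natCast, h1]
  conv_lhs => rw [h2]
  rw [zpow_add, zpow_mul, zpow_natCast, hw, one_zpow, mul_one]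

theorem exists_pow_val_of_mem_zpowers {w y : G} (hw : w ^ r = 1) (hy : y ∈ Subgroup.zpowers w) :
    ∃ k : ZMod r, y = w ^ k.val := by
  obtain ⟨n, rfl⟩ := Subgroup.mem_zpowers_iff.mp hy
  exact ⟨(n : ZMod r), zpow_eq_pow_val hw n⟩

/-- the key relation, as a predicate -/
def K1 (x u : G) : Prop :=
  x * (u * (x * u * x⁻¹)⁻¹) * x⁻¹ ∈ Subgroup.zpowers (u * (x * u * x⁻¹)⁻¹)

/-- **Lemma D.** A diagonal element satisfying the key relation. -/
theorem diag_cases (h : Plane r v v₁) {x : G} {a b : ZMod r}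
    (h1 : x * v * x⁻¹ = pt v v₁ a 0) (h2 : x * v₁ * x⁻¹ = pt v v₁ 0 b)
    (hK : K1 x (pt v v₁ (1 : ZMod r) 1)) : a = 1 ∨ b = 1 ∨ a = b := by
  unfold K1 at hK
  have e1 : x * pt v v₁ (1 : ZMod r) 1 * x⁻¹ = pt v v₁ a b := by
    rw [conj_pt h h1 h2]; congr 1 <;> ring
  rw [e1, pt_inv h, pt_mul h] at hK
  obtain ⟨k, hk⟩ := exists_pow_val_of_mem_zpowers (pt_pow_card h _ _) hK
  rw [conj_pt h h1 h2, pt_pow_val h] at hk
  obtain ⟨hk1, hk2⟩ := pt_inj h hk
  by_cases ha : a = 1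
  · exact Or.inl ha
  by_cases hb : b = 1
  · exact Or.inr (Or.inl hb)
  right; right
  have ha' : (1 + -a) ≠ 0 := by
    intro h0; apply ha
    have : a = 1 - (1 + -a) := by ring
    rw [this, h0, sub_zero]
  have hb' : (1 + -b) ≠ 0 := by
    intro h0; apply hb
    have : b = 1 - (1 + -b) := by ring
    rw [this, h0, sub_zero]
  have e2 : a * (1 + -a) = k * (1 + -a) := by linear_combination hk1
  have e3 : b * (1 + -b) = k * (1 + -b) := by linear_combination hk2
  rw [mul_right_cancel₀ ha' e2, mul_right_cancel₀ hb' e3]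

/-- **Lemma A.** An anti-diagonal element satisfying the key relation. -/
theorem anti_cases (h : Plane r v v₁) {x : G} {a b : ZMod r}
    (h1 : x * v * x⁻¹ = pt v v₁ 0 a) (h2 : x * v₁ * x⁻¹ = pt v v₁ b 0)
    (hK : K1 x (pt v v₁ (1 : ZMod r) 0)) : a * b = 1 := by
  unfold K1 at hK
  have e1 : x * pt v v₁ (1 : ZMod r) 0 * x⁻¹ = pt v v₁ 0 a := by
    rw [conj_pt h h1 h2]; congr 1 <;> ring
  rw [e1, pt_inv h, pt_mul h] at hK
  obtain ⟨k, hk⟩ := exists_pow_val_of_mem_zpowers (pt_pow_card h _ _) hK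
  rw [conj_pt h h1 h2, pt_pow_val h] at hk
  obtain ⟨hk1, hk2⟩ := pt_inj h hk
  have ha : a ≠ 0 := by
    intro h0
    rw [h0, pt_zero h] at h1
    apply h.ne
    have : v = x⁻¹ * (x * v * x⁻¹) * x := by group
    rw [this, h1]; group
  have hk1' : k = -(a * b) := by linear_combination (-1 : ZMod r) * hk1
  have hk2' : a = -(k * a) := by linear_combination hk2
  rw [hk1'] at hk2'
  have e3 : a * 1 = a * (a * b) := by
    rw [mul_one]
    calc a = -(-(a * b) * a) := hk2'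
      _ = a * (a * b) := by ring
  exact (mul_left_cancel₀ ha e3).symm

end Cfsg.Agent.Helper15.SSolv
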