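import Cfsg.Agent.Helper15.SSolv4

/-! S3033: the endgame — a common eigenvector. -/

set_option autoImplicit false

namespace Cfsg.Agent.Helper15.SSolv

variable {G : Type*} [Group G] {r : ℕ} [Fact r.Prime]

theorem mem_normalizer_of_conj_mem [Finite G] {x w : G}
    (h : x * w * x⁻¹ ∈ Subgroup.zpowers w) :
    x ∈ Subgroup.normalizer (Subgroup.zpowers w : Set G) := by
  apply Subgroup.mem_normalizer_fintype
  intro n hn
  obtain ⟨k, rfl⟩ := Subgroup.mem_zpowers_iff.mp hn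
  rw [← conj_zpow]
  exact Subgroup.zpow_mem _ h k

theorem le_normalizer_zpowers [Finite G] {M : Subgroup G} {v : G}
    (h : ∀ m ∈ M, m * v * m⁻¹ ∈ Subgroup.zpowers v) :
    M ≤ Subgroup.normalizer (Subgroup.zpowers v : Set G) :=
  fun m hm => mem_normalizer_of_conj_mem (h m hm)

theorem eig_conj {M : Subgroup G} [hM : M.Normal] {v : G} (g : G)
    (h : ∀ m ∈ M, m * v * m⁻¹ ∈ Subgroup.zpowers v) :
    ∀ m ∈ M, m * (g * v * g⁻¹) * m⁻¹ ∈ Subgroup.zpowers (g * v * g⁻¹) := by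
  intro m hm
  have h1 : g⁻¹ * m * g ∈ M := by
    have := hM.conj_mem m hm g⁻¹
    simpa using this
  obtain ⟨k, hk⟩ := Subgroup.mem_zpowers_iff.mp (h _ h1)
  have e : m * (g * v * g⁻¹) * m⁻¹ = g * (g⁻¹ * m * g * v * (g⁻¹ * m * g)⁻¹) * g⁻¹ := by group
  rw [e, ← hk, ← conj_zpow]
  exact Subgroup.zpow_mem _ (Subgroup.mem_zpowers _) k

variable {v v₁ : G}

theorem pt_left (i : ZMod r) : pt v v₁ i 0 = v ^ i.val := by
  unfold pt; simp

theorem pt_right (j : ZMod r) : pt v v₁ 0 j = v₁ ^ j.val := by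
  unfold pt; simp

theorem pt_mem {N : Subgroup G} (hv : v ∈ N) (hv₁ : v₁ ∈ N) (i j : ZMod r) : pt v v₁ i j ∈ N := by
  unfold pt
  exact N.mul_mem (N.pow_mem hv _) (N.pow_mem hv₁ _)

/-- powers of a diagonal element -/
theorem conj_pow_diag (h : Plane r v v₁) {x : G} {a b : ZMod r}
    (h1 : x * v * x⁻¹ = pt v v₁ a 0) (h2 : x * v₁ * x⁻¹ = pt v v₁ 0 b) (n : ℕ) :
    x ^ n * v * (x ^ n)⁻¹ = pt v v₁ (a ^ n) 0 ∧ x ^ n * v₁ * (x ^ n)⁻¹ = pt v v₁ 0 (b ^ n) := by
  induction n with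
  | zero =>
    simp only [pow_zero, one_mul, inv_one, mul_one]
    exact ⟨(pt_one_zero h).symm, (pt_zero_one h).symm⟩
  | succ n ih =>
    obtain ⟨ih1, ih2⟩ := ih
    constructor
    · have e : x ^ (n + 1) * v * (x ^ (n + 1))⁻¹ = x ^ n * (x * v * x⁻¹) * (x ^ n)⁻¹ := by
        rw [pow_succ]; group
      rw [e, h1, conj_pt h ih1 ih2]
      congr 1 <;> ring
    · have e : x ^ (n + 1) * v₁ * (x ^ (n + 1))⁻¹ = x ^ n * (x * v₁ * x⁻¹) * (x ^ n)⁻¹ := by
        rw [pow_succ]; group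
      rw [e, h2, conj_pt h ih1 ih2]
      congr 1 <;> ring

/-- an element agreeing with `x` modulo the centralizer of the plane acts in the same way -/
theorem conj_eq_of_mem_centralizer {x x' u : G} {S : Set G} (hu : u ∈ S)
    (hc : x⁻¹ * x' ∈ Subgroup.centralizer S) : x' * u * x'⁻¹ = x * u * x⁻¹ := by
  have h1 := (Subgroup.mem_centralizer_iff.mp hc) u hu
  have e : x' * u * x'⁻¹ = x * ((x⁻¹ * x') * u) * (x⁻¹ * x')⁻¹ * x⁻¹ := by group
  rw [e, ← h1]; group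

theorem mem_centralizer_pair {z : G} (h1 : z * v * z⁻¹ = v) (h2 : z * v₁ * z⁻¹ = v₁) :
    z ∈ Subgroup.centralizer ({v, v₁} : Set G) := by
  rw [Subgroup.mem_centralizer_iff]
  intro u hu
  rcases hu with rfl | hu
  · calc u * z = (z * u * z⁻¹) * z := by rw [h1]
      _ = z * u := by group
  · rw [Set.mem_singleton_iff] at hu
    subst hu
    calc u * z = (z * u * z⁻¹) * z := by rw [h2]
      _ = z * u := by group

end Cfsg.Agent.Helper15.SSolv
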