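import Cfsg.Agent.Helper15.SSolv5

/-! S3033: the endgame — existence of a normal subgroup of prime order. -/

set_option autoImplicit false

namespace Cfsg.Agent.Helper15.SSolv

variable {G : Type*} [Group G] {r : ℕ} [Fact r.Prime]

/-- the contradiction in the anti-diagonal situation -/
theorem endgame_false [Finite G] (hG : Hyp G) (hr2 : r ≠ 2)
    (N : Subgroup G) [hN : N.Normal] (hNr : ∀ a ∈ N, a ^ r = 1)
    {v v₁ : G} (hpl : Plane r v v₁) (hvN : v ∈ N) (hv₁N : v₁ ∈ N)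
    (g : G) (hg1 : g * v * g⁻¹ = v₁) (hg2 : g * v₁ * g⁻¹ = v)
    (m : G) {s e : ℕ} (hs : s.Prime) (hme : orderOf m = s ^ e) {a b : ZMod r}
    (hm1 : m * v * m⁻¹ = pt (r := r) v v₁ a 0) (hm2 : m * v₁ * m⁻¹ = pt (r := r) v v₁ 0 b) (hab : a ≠ b) :
    False := by
  have hr : r.Prime := Fact.out
  have hg1p : g * v * g⁻¹ = pt (r := r) v v₁ 0 1 := by rw [pt_zero_one hpl]; exact hg1
  have hg2p : g * v₁ * g⁻¹ = pt (r := r) v v₁ 1 0 := by rw [pt_one_zero hpl]; exact hg2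
  -- the eigenvalues of `m` are roots of unity
  have hpow := conj_pow_diag hpl hm1 hm2 (s ^ e)
  rw [← hme, pow_orderOf_eq_one] at hpow
  simp only [one_mul, inv_one, mul_one] at hpow
  obtain ⟨hpa, hpb⟩ := hpow
  rw [hme] at hpa hpb
  have ha1 : a ^ (s ^ e) = 1 := by
    have := (pt_inj hpl (hpa.symm.trans (pt_one_zero hpl).symm)).1
    exact this
  have hb1 : b ^ (s ^ e) = 1 := by
    have := (pt_inj hpl (hpb.symm.trans (pt_zero_one hpl).symm)).2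
    exact this
  have hse : s ^ e ≠ 0 := pow_ne_zero _ hs.ne_zero
  have ha0 : a ≠ 0 := by
    intro h0; rw [h0, zero_pow hse] at ha1; exact zero_ne_one ha1
  have hb0 : b ≠ 0 := by
    intro h0; rw [h0, zero_pow hse] at hb1; exact zero_ne_one hb1
  -- `s ≠ r`
  have hsr : s ≠ r := by
    intro hsr
    rw [hsr, ZMod.pow_card_pow] at ha1 hb1
    exact hab (ha1.trans hb1.symm)
  -- Lemma D for `m`
  have hKm : K1 m (pt (r := r) v v₁ (1 : ZMod r) 1) :=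
    hyp_comm hG hr hs hsr N hNr m ⟨e, hme⟩ _ (pt_mem hvN hv₁N 1 1)
  have hD := diag_cases hpl hm1 hm2 hKm
  have hab1 : a = 1 ∨ b = 1 := by
    rcases hD with h | h | h
    · exact Or.inl h
    · exact Or.inr h
    · exact absurd h hab
  -- the conjugate `m' = g m g⁻¹`
  have hgi1 : g⁻¹ * v * g = v₁ := by rw [← hg2]; group
  have hgi2 : g⁻¹ * v₁ * g = v := by rw [← hg1]; group
  have hm'1 : (g * m * g⁻¹) * v * (g * m * g⁻¹)⁻¹ = pt (r := r) v v₁ b 0 := by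
    have e1 : (g * m * g⁻¹) * v * (g * m * g⁻¹)⁻¹ = g * (m * (g⁻¹ * v * g) * m⁻¹) * g⁻¹ := by
      group
    rw [e1, hgi1, hm2, conj_pt hpl hg1p hg2p]
    congr 1 <;> ring
  have hm'2 : (g * m * g⁻¹) * v₁ * (g * m * g⁻¹)⁻¹ = pt (r := r) v v₁ 0 a := by
    have e1 : (g * m * g⁻¹) * v₁ * (g * m * g⁻¹)⁻¹ = g * (m * (g⁻¹ * v₁ * g) * m⁻¹) * g⁻¹ := by
      group
    rw [e1, hgi2, hm1, conj_pt hpl hg1p hg2p]
    congr 1 <;> ring
  -- the inverse of `m`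
  have hmi1 : m⁻¹ * v * m⁻¹⁻¹ = pt (r := r) v v₁ a⁻¹ 0 := by
    have h1 : m * pt (r := r) v v₁ a⁻¹ 0 * m⁻¹ = v := by
      rw [conj_pt hpl hm1 hm2]
      rw [show a * a⁻¹ + 0 * 0 = (1 : ZMod r) by rw [mul_inv_cancel₀ ha0]; ring,
        show (0 : ZMod r) * a⁻¹ + b * 0 = 0 by ring, pt_one_zero hpl]
    have h2 : m⁻¹ * (m * pt (r := r) v v₁ a⁻¹ 0 * m⁻¹) * m⁻¹⁻¹ = pt (r := r) v v₁ a⁻¹ 0 := by group
    rw [h1] at h2
    exact h2
  have hmi2 : m⁻¹ * v₁ * m⁻¹⁻¹ = pt (r := r) v v₁ 0 b⁻¹ := by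
    have h1 : m * pt (r := r) v v₁ 0 b⁻¹ * m⁻¹ = v₁ := by
      rw [conj_pt hpl hm1 hm2]
      rw [show a * 0 + 0 * b⁻¹ = (0 : ZMod r) by ring,
        show (0 : ZMod r) * 0 + b * b⁻¹ = 1 by rw [mul_inv_cancel₀ hb0]; ring, pt_zero_one hpl]
    have h2 : m⁻¹ * (m * pt (r := r) v v₁ 0 b⁻¹ * m⁻¹) * m⁻¹⁻¹ = pt (r := r) v v₁ 0 b⁻¹ := by group
    rw [h1] at h2
    exact h2
  -- the element `x = m⁻¹ m'`
  obtain ⟨x, hx⟩ : ∃ x, x = m⁻¹ * (g * m * g⁻¹) := ⟨_, rfl⟩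
  have hx1 : x * v * x⁻¹ = pt (r := r) v v₁ (a⁻¹ * b) 0 := by
    have e1 : x * v * x⁻¹ = m⁻¹ * ((g * m * g⁻¹) * v * (g * m * g⁻¹)⁻¹) * m⁻¹⁻¹ := by
      rw [hx]; group
    rw [e1, hm'1, conj_pt hpl hmi1 hmi2]
    congr 1 <;> ring
  have hx2 : x * v₁ * x⁻¹ = pt (r := r) v v₁ 0 (b⁻¹ * a) := by
    have e1 : x * v₁ * x⁻¹ = m⁻¹ * ((g * m * g⁻¹) * v₁ * (g * m * g⁻¹)⁻¹) * m⁻¹⁻¹ := by
      rw [hx]; group
    rw [e1, hm'2, conj_pt hpl hmi1 hmi2]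
    congr 1 <;> ring
  have hxC : x ^ (s ^ e) ∈ Subgroup.centralizer ({v, v₁} : Set G) := by
    obtain ⟨h1, h2⟩ := conj_pow_diag hpl hx1 hx2 (s ^ e)
    apply mem_centralizer_pair
    · rw [h1, mul_pow, inv_pow, ha1, hb1, inv_one, one_mul, pt_one_zero hpl]
    · rw [h2, mul_pow, inv_pow, ha1, hb1, inv_one, one_mul, pt_zero_one hpl]
  obtain ⟨x', hx'o, hx'C, -⟩ := exists_lift x _ hs e hxC
  have hx'1 : x' * v * x'⁻¹ = pt (r := r) v v₁ (a⁻¹ * b) 0 := by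
    rw [conj_eq_of_mem_centralizer (by simp) hx'C, hx1]
  have hx'2 : x' * v₁ * x'⁻¹ = pt (r := r) v v₁ 0 (b⁻¹ * a) := by
    rw [conj_eq_of_mem_centralizer (by simp) hx'C, hx2]
  have hKx : K1 x' (pt (r := r) v v₁ (1 : ZMod r) 1) :=
    hyp_comm hG hr hs hsr N hNr x' hx'o _ (pt_mem hvN hv₁N 1 1)
  have hD2 := diag_cases hpl hx'1 hx'2 hKx
  have hsq : b * b = a * a := by
    rcases hD2 with h | h | h
    · exfalso; apply hab
      have : a * (a⁻¹ * b) = a * 1 := by rw [h]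
      rw [← mul_assoc, mul_inv_cancel₀ ha0, one_mul, mul_one] at this
      exact this.symm
    · exfalso; apply hab
      have : b * (b⁻¹ * a) = b * 1 := by rw [h]
      rw [← mul_assoc, mul_inv_cancel₀ hb0, one_mul, mul_one] at this
      exact this
    · have h2 : a * b * (a⁻¹ * b) = a * b * (b⁻¹ * a) := by rw [h]
      have e1 : a * b * (a⁻¹ * b) = (a * a⁻¹) * (b * b) := by ring
      have e2 : a * b * (b⁻¹ * a) = (b * b⁻¹) * (a * a) := by ring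
      rw [e1, e2, mul_inv_cancel₀ ha0, mul_inv_cancel₀ hb0, one_mul, one_mul] at h2
      exact h2
  have habm : a * b = -1 := by
    rcases hab1 with h | h
    · rw [h] at hsq
      rw [h, one_mul]
      have h3 : (b - 1) * (b + 1) = 0 := by linear_combination hsq
      rcases mul_eq_zero.mp h3 with h4 | h4
      · exfalso; apply hab; rw [h]; exact (sub_eq_zero.mp h4).symm
      · exact eq_neg_of_add_eq_zero_left h4
    · rw [h] at hsq
      rw [h, mul_one]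
      have h3 : (a - 1) * (a + 1) = 0 := by linear_combination (-1 : ZMod r) * hsq
      rcases mul_eq_zero.mp h3 with h4 | h4
      · exfalso; apply hab; rw [h]; exact sub_eq_zero.mp h4
      · exact eq_neg_of_add_eq_zero_left h4
  -- the element `y = m g`
  obtain ⟨y, hy⟩ : ∃ y, y = m * g := ⟨_, rfl⟩
  have hy1 : y * v * y⁻¹ = pt (r := r) v v₁ 0 b := by
    have e1 : y * v * y⁻¹ = m * (g * v * g⁻¹) * m⁻¹ := by rw [hy]; group
    rw [e1, hg1, hm2]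
  have hy2 : y * v₁ * y⁻¹ = pt (r := r) v v₁ a 0 := by
    have e1 : y * v₁ * y⁻¹ = m * (g * v₁ * g⁻¹) * m⁻¹ := by rw [hy]; group
    rw [e1, hg2, hm1]
  have hyy1 : y ^ 2 * v * (y ^ 2)⁻¹ = pt (r := r) v v₁ (-1) 0 := by
    have e1 : y ^ 2 * v * (y ^ 2)⁻¹ = y * (y * v * y⁻¹) * y⁻¹ := by rw [pow_two]; group
    rw [e1, hy1, conj_pt hpl hy1 hy2, ← habm]
    congr 1 <;> ring
  have hyy2 : y ^ 2 * v₁ * (y ^ 2)⁻¹ = pt (r := r) v v₁ 0 (-1) := by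
    have e1 : y ^ 2 * v₁ * (y ^ 2)⁻¹ = y * (y * v₁ * y⁻¹) * y⁻¹ := by rw [pow_two]; group
    rw [e1, hy2, conj_pt hpl hy1 hy2, ← habm]
    congr 1 <;> ring
  have hyC : y ^ (2 ^ 2) ∈ Subgroup.centralizer ({v, v₁} : Set G) := by
    obtain ⟨h1, h2⟩ := conj_pow_diag hpl hyy1 hyy2 2
    have e : y ^ (2 ^ 2) = (y ^ 2) ^ 2 := by rw [← pow_mul]; norm_num
    rw [e]
    apply mem_centralizer_pair
    · rw [h1, neg_one_sq, pt_one_zero hpl]
    · rw [h2, neg_one_sq, pt_zero_one hpl]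
  obtain ⟨y', hy'o, hy'C, -⟩ := exists_lift y _ Nat.prime_two 2 hyC
  have hy'1 : y' * v * y'⁻¹ = pt (r := r) v v₁ 0 b := by
    rw [conj_eq_of_mem_centralizer (by simp) hy'C, hy1]
  have hy'2 : y' * v₁ * y'⁻¹ = pt (r := r) v v₁ a 0 := by
    rw [conj_eq_of_mem_centralizer (by simp) hy'C, hy2]
  have hKy : K1 y' (pt (r := r) v v₁ (1 : ZMod r) 0) :=
    hyp_comm hG hr Nat.prime_two (Ne.symm hr2) N hNr y' hy'o _ (pt_mem hvN hv₁N 1 0)
  have hA := anti_cases hpl hy'1 hy'2 hKy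
  -- `1 = -1` in `ZMod r`
  have h2 : (2 : ZMod r) = 0 := by
    have : (1 : ZMod r) = -1 := by
      calc (1 : ZMod r) = b * a := hA.symm
        _ = a * b := mul_comm _ _
        _ = -1 := habm
    linear_combination this
  have h3 : ((2 : ℕ) : ZMod r) = 0 := by exact_mod_cast h2
  rw [ZMod.natCast_eq_zero_iff] at h3
  exact hr2 ((Nat.prime_dvd_prime_iff_eq hr Nat.prime_two).mp h3)

end Cfsg.Agent.Helper15.SSolv
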