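import Cfsg.Agent.Helper15.SSolv6

/-! S3033: the endgame — existence of a normal subgroup of prime order. -/

set_option autoImplicit false

namespace Cfsg.Agent.Helper15.SSolv

variable {G : Type*} [Group G] {r : ℕ} [Fact r.Prime]

theorem endgame [Finite G] (hG : Hyp G) {p : ℕ} (hp : p.Prime) (hpr : p ≠ r)
    (N : Subgroup G) [hN : N.Normal] (hNc : ∀ a ∈ N, ∀ b ∈ N, a * b = b * a)
    (hNr : ∀ a ∈ N, a ^ r = 1)
    (M₁ : Subgroup G) [hM : M₁.Normal] (g : G) (hgo : ∃ j : ℕ, orderOf g = p ^ j)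
    (htop : ∀ H : Subgroup G, M₁ ≤ H → g ∈ H → H = ⊤)
    (v : G) (hvN : v ∈ N) (hv1 : v ≠ 1) (hvM : ∀ m ∈ M₁, m * v * m⁻¹ ∈ Subgroup.zpowers v) :
    ∃ w : G, w ∈ N ∧ w ≠ 1 ∧ (Subgroup.zpowers w).Normal := by
  have hr : r.Prime := Fact.out
  obtain ⟨v₁, hv₁⟩ : ∃ v₁, v₁ = g * v * g⁻¹ := ⟨_, rfl⟩
  have hv₁N : v₁ ∈ N := hv₁ ▸ hN.conj_mem v hvN g
  have hnormal_of : ∀ w : G, M₁ ≤ Subgroup.normalizer (Subgroup.zpowers w : Set G) →
      g ∈ Subgroup.normalizer (Subgroup.zpowers w : Set G) → (Subgroup.zpowers w).Normal := by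
    intro w h1 h2
    exact Subgroup.normalizer_eq_top_iff.mp (htop _ h1 h2)
  have hKg : K1 g v := hyp_comm hG hr hp hpr N hNr g hgo v hvN
  obtain ⟨w, hw⟩ : ∃ w, w = v * v₁⁻¹ := ⟨_, rfl⟩
  have hKg' : g * w * g⁻¹ ∈ Subgroup.zpowers w := by
    unfold K1 at hKg; rw [← hv₁, ← hw] at hKg; exact hKg
  have hwN : w ∈ N := by rw [hw]; exact N.mul_mem hvN (N.inv_mem hv₁N)
  by_cases hw1 : w = 1
  · have hvv : v₁ = v := by
      rw [hw] at hw1
      exact (mul_inv_eq_one.mp hw1).symm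
    refine ⟨v, hvN, hv1, hnormal_of v (le_normalizer_zpowers hvM) ?_⟩
    apply mem_normalizer_of_conj_mem
    rw [← hv₁, hvv]; exact Subgroup.mem_zpowers v
  by_cases hMw : M₁ ≤ Subgroup.normalizer (Subgroup.zpowers w : Set G)
  · exact ⟨w, hwN, hw1, hnormal_of w hMw (mem_normalizer_of_conj_mem hKg')⟩
  exfalso
  obtain ⟨m₀, hm₀M, hm₀⟩ := SetLike.not_le_iff_exists.mp hMw
  -- an element of prime power order not normalizing `⟨w⟩`
  obtain ⟨m, hmM, ⟨s, e, hs, hme⟩, hmw⟩ : ∃ m ∈ M₁, (∃ s e : ℕ, s.Prime ∧ orderOf m = s ^ e) ∧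
      m ∉ Subgroup.normalizer (Subgroup.zpowers w : Set G) := by
    by_contra hcon
    push Not at hcon
    apply hm₀
    apply mem_of_primary _ _ m₀ rfl
    intro k hk
    exact hcon (m₀ ^ k) (M₁.pow_mem hm₀M k) hk
  have hwo : orderOf w = r := orderOf_eq_prime (hNr w hwN) hw1
  have hvo : orderOf v = r := orderOf_eq_prime (hNr v hvN) hv1
  have hind : v₁ ∉ Subgroup.zpowers v := by
    intro hmem
    apply hMw
    have hwz : w ∈ Subgroup.zpowers v := by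
      rw [hw]; exact Subgroup.mul_mem _ (Subgroup.mem_zpowers v) (Subgroup.inv_mem _ hmem)
    have heq : Subgroup.zpowers w = Subgroup.zpowers v := by
      apply Subgroup.eq_of_le_of_card_ge (Subgroup.zpowers_le.mpr hwz)
      rw [Nat.card_zpowers, Nat.card_zpowers, hwo, hvo]
    rw [heq]; exact le_normalizer_zpowers hvM
  have hpl : Plane r v v₁ := ⟨hNc v hvN v₁ hv₁N, hNr v hvN, hNr v₁ hv₁N, hv1, hind⟩
  have hv₁M : ∀ m ∈ M₁, m * v₁ * m⁻¹ ∈ Subgroup.zpowers v₁ := by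
    rw [hv₁]; exact eig_conj g hvM
  obtain ⟨v₂, hv₂⟩ : ∃ v₂, v₂ = g * v₁ * g⁻¹ := ⟨_, rfl⟩
  have hv₂M : ∀ m ∈ M₁, m * v₂ * m⁻¹ ∈ Subgroup.zpowers v₂ := by
    rw [hv₂]; exact eig_conj g hv₁M
  -- coordinates of the action of `m`
  obtain ⟨a, ha⟩ := exists_pow_val_of_mem_zpowers hpl.hv (hvM m hmM)
  obtain ⟨b, hb⟩ := exists_pow_val_of_mem_zpowers hpl.hv₁ (hv₁M m hmM)
  rw [← pt_left (v₁ := v₁)] at ha
  rw [← pt_right (v := v)] at hb
  have hwpt : w = pt (r := r) v v₁ 1 (-1) := by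
    calc w = pt (r := r) v v₁ 1 0 * (pt (r := r) v v₁ 0 1)⁻¹ := by
          rw [pt_one_zero hpl, pt_zero_one hpl, hw]
      _ = pt (r := r) v v₁ 1 (-1) := by
          rw [pt_inv hpl, pt_mul hpl]; congr 1 <;> ring
  have hab : a ≠ b := by
    intro hab
    apply hmw
    apply mem_normalizer_of_conj_mem
    have e1 : m * w * m⁻¹ = w ^ a.val := by
      rw [hwpt, conj_pt hpl ha hb, pt_pow_val hpl, hab]
      congr 1 <;> ring
    rw [e1]
    exact Subgroup.pow_mem _ (Subgroup.mem_zpowers w) _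
  -- the action of `g`
  obtain ⟨k, hk⟩ := exists_pow_val_of_mem_zpowers (hNr w hwN) hKg'
  have hv₂pt : v₂ = pt (r := r) v v₁ (-k) (k + 1) := by
    have e1 : g * w * g⁻¹ = v₁ * v₂⁻¹ := by
      rw [hw, hv₂, hv₁]; group
    rw [e1, hwpt, pt_pow_val hpl] at hk
    have e2 : v₂ = (pt (r := r) v v₁ (k * 1) (k * -1))⁻¹ * pt (r := r) v v₁ 0 1 := by
      rw [pt_zero_one hpl, ← hk]; group
    rw [e2, pt_inv hpl, pt_mul hpl]
    congr 1 <;> ring
  obtain ⟨c, hc⟩ := exists_pow_val_of_mem_zpowers (hNr v₂ (hv₂ ▸ hN.conj_mem v₁ hv₁N g))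
    (hv₂M m hmM)
  rw [hv₂pt, conj_pt hpl ha hb, pt_pow_val hpl] at hc
  obtain ⟨hc1, hc2⟩ := pt_inj hpl hc
  have hk01 : k = 0 ∨ k + 1 = 0 := by
    by_contra hcon
    push Not at hcon
    apply hab
    have h1 : a * k = c * k := by linear_combination (-1 : ZMod r) * hc1
    have h2 : b * (k + 1) = c * (k + 1) := by linear_combination hc2
    rw [mul_right_cancel₀ hcon.1 h1, mul_right_cancel₀ hcon.2 h2]
  have hg2 : g * v₁ * g⁻¹ = v := by
    rcases hk01 with h0 | h0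
    · exfalso
      rw [h0] at hv₂pt
      rw [show (-0 : ZMod r) = 0 by ring, show (0 : ZMod r) + 1 = 1 by ring, pt_zero_one hpl,
        hv₂] at hv₂pt
      apply hind
      have : g * v * g⁻¹ = v := by
        have h3 : g⁻¹ * (g * v₁ * g⁻¹) * g = g⁻¹ * v₁ * g := by rw [hv₂pt]
        have h4 : g⁻¹ * (g * v₁ * g⁻¹) * g = v₁ := by group
        rw [h4, hv₁] at h3
        have h5 : g⁻¹ * (g * v * g⁻¹) * g = v := by group
        rw [h5] at h3
        exact h3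
      rw [hv₁, this]; exact Subgroup.mem_zpowers v
    · rw [← hv₂, hv₂pt]
      have hk' : k = -1 := eq_neg_of_add_eq_zero_left h0
      rw [hk', show (- -1 : ZMod r) = 1 by ring, show (-1 : ZMod r) + 1 = 0 by ring,
        pt_one_zero hpl]
  -- `p = 2`
  have hp2 : p = 2 := by
    by_contra hp2
    obtain ⟨j, hj⟩ := hgo
    have hodd : Odd (orderOf g) := by
      rw [hj]
      exact Odd.pow (hp.eq_two_or_odd'.resolve_left hp2)
    obtain ⟨t, ht⟩ := hodd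
    have hsq : ∀ n : ℕ, g ^ (2 * n) * v * (g ^ (2 * n))⁻¹ = v := by
      intro n
      induction n with
      | zero => simp
      | succ n ih =>
        have e : g ^ (2 * (n + 1)) * v * (g ^ (2 * (n + 1)))⁻¹ =
            g ^ (2 * n) * (g * (g * v * g⁻¹) * g⁻¹) * (g ^ (2 * n))⁻¹ := by
          rw [show 2 * (n + 1) = 2 * n + 1 + 1 by ring, pow_succ, pow_succ]; group
        rw [e, ← hv₁, hg2, ih]
    have h1 : g ^ (2 * t + 1) = 1 := by rw [← ht]; exact pow_orderOf_eq_one g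
    have h2 : g ^ (2 * t) = g⁻¹ := by
      rw [pow_succ] at h1
      exact eq_inv_of_mul_eq_one_left h1
    have h3 := hsq t
    rw [h2, inv_inv] at h3
    apply hind
    have : g * v * g⁻¹ = v := by
      have h4 : g * (g⁻¹ * v * g) * g⁻¹ = v := by group
      rw [h3] at h4
      exact h4
    rw [hv₁, this]; exact Subgroup.mem_zpowers v
  have hr2 : r ≠ 2 := fun h => hpr (hp2.trans h.symm)
  exact endgame_false hG hr2 N hNr hpl hvN hv₁N g hv₁.symm hg2 m hs hme ha hb hab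

end Cfsg.Agent.Helper15.SSolv
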