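import Cfsg.Agent.Helper15.SSolv7
import Cfsg.Agent.S0530
import Cfsg.Agent.Helper19.Subnormal
import Cfsg.Agent.Helper1.MinNormal

/-! S3033: the induction. -/

set_option autoImplicit false

namespace Cfsg.Agent.Helper15.SSolv

universe u

theorem card_lt_of_ne_top' {G : Type*} [Group G] [Finite G] {H : Subgroup G} (h : H ≠ ⊤) :
    Nat.card H < Nat.card G := by
  refine lt_of_le_of_ne (Subgroup.card_le_card_group H) ?_
  intro heq
  exact h (Subgroup.eq_top_of_card_eq H heq)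

theorem step (G : Type u) [Group G] [Finite G] (hG : Hyp G)
    (IH : ∀ (H : Type u) [Group H] [Finite H], Nat.card H < Nat.card G → Hyp H →
      Cfsg.IsSupersolvable H) :
    Cfsg.IsSupersolvable G := by
  by_cases htriv : Nat.card G = 1
  · exact Cfsg.Agent.S0530.isSupersolvable_of_card_prime_pow 2 Nat.prime_two 0
      (by simpa using htriv)
  obtain ⟨p, hpdef⟩ : ∃ p, p = (Nat.card G).minFac := ⟨_, rfl⟩
  have hp : p.Prime := hpdef ▸ Nat.minFac_prime htriv
  haveI : Fact p.Prime := ⟨hp⟩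
  have hpd : p ∣ Nat.card G := hpdef ▸ Nat.minFac_dvd _
  have hmin : ∀ q : ℕ, q.Prime → q ∣ Nat.card G → p ≤ q := fun q hq hqd =>
    hpdef ▸ Nat.minFac_le_of_dvd hq.two_le hqd
  obtain ⟨P⟩ : Nonempty (Sylow p G) := inferInstance
  obtain ⟨K, hKn, hKc⟩ := exists_normal_complement hG hmin P
  haveI := hKn
  have hcard : Nat.card K * Nat.card (P : Subgroup G) = Nat.card G := hKc.card_mul_card
  have hPne : (P : Subgroup G) ≠ ⊥ := P.ne_bot_of_dvd_card hpd
  by_cases hK1 : K = ⊥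
  · -- `G` is a `p`-group
    obtain ⟨k, hk⟩ := IsPGroup.iff_card.mp P.2
    rw [hK1, Subgroup.card_bot, one_mul, hk] at hcard
    exact Cfsg.Agent.S0530.isSupersolvable_of_card_prime_pow p hp k hcard.symm
  have hKtop : K ≠ ⊤ := by
    intro h
    rw [h, Subgroup.card_top] at hcard
    have h1 : Nat.card (P : Subgroup G) = 1 := by
      have hpos : 0 < Nat.card G := Nat.card_pos
      exact Nat.eq_of_mul_eq_mul_left hpos (by rw [hcard, mul_one])
    exact hPne (Subgroup.card_eq_one.mp h1)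
  have hKss : Cfsg.IsSupersolvable ↥K := IH ↥K (card_lt_of_ne_top' hKtop) (hyp_subgroup hG K)
  have hKsolv : Group.IsSolvable ↥K := isSolvable_of_isSupersolvable hKss
  -- a minimal normal subgroup inside `K`
  obtain ⟨N, ⟨hNn, hN0, hNmin⟩, hNK⟩ := Cfsg.Agent.Helper19.exists_isMinNormal_le hKn hK1
  haveI := hNn
  have hNsolv : Group.IsSolvable ↥N :=
    Group.isSolvable_of_isSolvable_injective (Subgroup.inclusion_injective hNK)
  obtain ⟨hNcomm, r, hr, hNr⟩ := Cfsg.Agent.Helper1.minNormal_elementary N hN0 hNsolv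
    (fun M hM hMN => hNmin M hM hMN)
  haveI : Fact r.Prime := ⟨hr⟩
  have hNc : ∀ a ∈ N, ∀ b ∈ N, a * b = b * a := by
    intro a ha b hb
    have := hNcomm.is_comm.comm (⟨a, ha⟩ : ↥N) ⟨b, hb⟩
    exact congrArg Subtype.val this
  have hpr : p ≠ r := by
    intro hpr
    obtain ⟨x, hxN, hx1⟩ : ∃ x ∈ N, x ≠ 1 := by
      by_contra hcon
      push Not at hcon
      exact hN0 ((Subgroup.eq_bot_iff_forall N).mpr hcon)
    have hxo : orderOf x = r := orderOf_eq_prime (hNr x hxN) hx1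
    have h1 : r ∣ Nat.card K := by
      rw [← hxo]; exact Subgroup.orderOf_dvd_natCard K (hNK hxN)
    have h2 : Nat.card K = (P : Subgroup G).index := by
      have h3 := (P : Subgroup G).card_mul_index
      rw [← hcard, mul_comm] at h3
      have hpos : 0 < Nat.card (P : Subgroup G) := Nat.card_pos
      exact (Nat.eq_of_mul_eq_mul_right hpos h3).symm
    rw [h2, ← hpr] at h1
    exact P.not_dvd_index h1
  -- a normal maximal subgroup `M₁` containing `K`
  have eQ : G ⧸ K ≃* ↥(P : Subgroup G) := hKc.symm.QuotientMulEquiv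
  have hQp : IsPGroup p (G ⧸ K) := P.2.of_equiv eQ.symm
  haveI : Nontrivial (G ⧸ K) := by
    haveI : Nontrivial ↥(P : Subgroup G) := (Subgroup.nontrivial_iff_ne_bot _).mpr hPne
    exact eQ.toEquiv.nontrivial
  haveI : Group.IsNilpotent (G ⧸ K) := hQp.isNilpotent
  obtain ⟨Mb, hMb, -⟩ := (eq_top_or_exists_le_coatom (⊥ : Subgroup (G ⧸ K))).resolve_left
    bot_ne_top
  haveI hMbn : Mb.Normal := Subgroup.NormalizerCondition.normal_of_coatom Mb
    normalizerCondition_of_isNilpotent hMb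
  obtain ⟨M₁, hM₁⟩ : ∃ M₁, M₁ = Mb.comap (QuotientGroup.mk' K) := ⟨_, rfl⟩
  haveI hM₁n : M₁.Normal := hM₁ ▸ inferInstance
  have hKM : K ≤ M₁ := by
    intro x hx
    rw [hM₁, Subgroup.mem_comap, QuotientGroup.mk'_apply, (QuotientGroup.eq_one_iff x).mpr hx]
    exact Mb.one_mem
  have hmapM : M₁.map (QuotientGroup.mk' K) = Mb := by
    rw [hM₁]; exact Subgroup.map_comap_eq_self_of_surjective (QuotientGroup.mk'_surjective K) Mb
  have hM₁top : M₁ ≠ ⊤ := by
    intro h
    apply hMb.1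
    rw [← hmapM, h, ← MonoidHom.range_eq_map, MonoidHom.range_eq_top]
    exact QuotientGroup.mk'_surjective K
  obtain ⟨g, hgP, hgM⟩ : ∃ g ∈ (P : Subgroup G), g ∉ M₁ := by
    by_contra hcon
    push Not at hcon
    apply hM₁top
    rw [eq_top_iff, ← hKc.sup_eq_top]
    exact sup_le hKM hcon
  have hgo : ∃ j : ℕ, orderOf g = p ^ j := by
    obtain ⟨k, hk⟩ := P.2 ⟨g, hgP⟩
    have hk' : g ^ (p ^ k) = 1 := by have := congrArg Subtype.val hk; simpa using this
    obtain ⟨j, -, hj⟩ := (Nat.dvd_prime_pow hp).mp (orderOf_dvd_of_pow_eq_one hk')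
    exact ⟨j, hj⟩
  have htop : ∀ H : Subgroup G, M₁ ≤ H → g ∈ H → H = ⊤ := by
    intro H hMH hgH
    have h1 : Mb < H.map (QuotientGroup.mk' K) := by
      refine lt_of_le_of_ne ?_ ?_
      · rw [← hmapM]; exact Subgroup.map_mono hMH
      · intro heq
        apply hgM
        rw [hM₁, Subgroup.mem_comap, heq]
        exact Subgroup.mem_map_of_mem _ hgH
    have h2 := hMb.2 _ h1
    have h3 : (H.map (QuotientGroup.mk' K)).comap (QuotientGroup.mk' K) = H := by
      apply Subgroup.comap_map_eq_self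
      rw [QuotientGroup.ker_mk']
      exact hKM.trans hMH
    rw [← h3, h2, Subgroup.comap_top]
  -- `M₁` is supersolvable, so it has an eigenvector in `N`
  have hM₁ss : Cfsg.IsSupersolvable ↥M₁ :=
    IH ↥M₁ (card_lt_of_ne_top' hM₁top) (hyp_subgroup hG M₁)
  have hNM : N ≤ M₁ := hNK.trans hKM
  have hAne : N.subgroupOf M₁ ≠ ⊥ := by
    intro h
    rw [Subgroup.subgroupOf_eq_bot, disjoint_iff, inf_of_le_left hNM] at h
    exact hN0 h
  obtain ⟨N₀, hN₀A, hN₀n, hN₀p⟩ :=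
    Cfsg.Agent.Helper29.exists_normal_prime_le hM₁ss (A := N.subgroupOf M₁) hAne
  obtain ⟨v₀, hv₀N₀, hv₀1⟩ : ∃ v₀ ∈ N₀, v₀ ≠ 1 := by
    by_contra hcon
    push Not at hcon
    have : N₀ = ⊥ := (Subgroup.eq_bot_iff_forall N₀).mpr hcon
    rw [this, Subgroup.card_bot] at hN₀p
    exact Nat.not_prime_one hN₀p
  have hgen : ∀ y ∈ N₀, y ∈ Subgroup.zpowers v₀ := by
    intro y hy
    haveI : Fact (Nat.card ↥N₀).Prime := ⟨hN₀p⟩
    have h1 : Subgroup.zpowers (⟨v₀, hv₀N₀⟩ : ↥N₀) = ⊤ :=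
      zpowers_eq_top_of_prime_card rfl (fun h => hv₀1 (congrArg Subtype.val h))
    have h2 : (⟨y, hy⟩ : ↥N₀) ∈ Subgroup.zpowers (⟨v₀, hv₀N₀⟩ : ↥N₀) := by
      rw [h1]; exact Subgroup.mem_top _
    obtain ⟨k, hk⟩ := Subgroup.mem_zpowers_iff.mp h2
    rw [Subgroup.mem_zpowers_iff]
    exact ⟨k, by have := congrArg Subtype.val hk; simpa using this⟩
  have hvN : (v₀ : G) ∈ N := Subgroup.mem_subgroupOf.mp (hN₀A hv₀N₀)
  have hv1 : (v₀ : G) ≠ 1 := fun h => hv₀1 (Subtype.ext h)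
  have hvM : ∀ m ∈ M₁, m * (v₀ : G) * m⁻¹ ∈ Subgroup.zpowers (v₀ : G) := by
    intro m hm
    have h1 : (⟨m, hm⟩ : ↥M₁) * v₀ * (⟨m, hm⟩ : ↥M₁)⁻¹ ∈ N₀ := hN₀n.conj_mem v₀ hv₀N₀ _
    obtain ⟨k, hk⟩ := Subgroup.mem_zpowers_iff.mp (hgen _ h1)
    rw [Subgroup.mem_zpowers_iff]
    refine ⟨k, ?_⟩
    have := congrArg Subtype.val hk
    simpa using this
  obtain ⟨w, hwN, hw1, hwn⟩ := endgame hG hp hpr N hNc hNr M₁ g hgo htop (v₀ : G) hvN hv1 hvM
  haveI := hwn
  -- conclude by induction on the quotient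
  have hlt : Nat.card (G ⧸ Subgroup.zpowers w) < Nat.card G := by
    have h1 := Subgroup.card_eq_card_quotient_mul_card_subgroup (Subgroup.zpowers w)
    have h2 : 1 < Nat.card (Subgroup.zpowers w) := by
      rw [Nat.card_zpowers]
      have hpos := orderOf_pos w
      have : orderOf w ≠ 1 := fun h => hw1 (orderOf_eq_one_iff.mp h)
      omega
    have hpos : 0 < Nat.card (G ⧸ Subgroup.zpowers w) := Nat.card_pos
    rw [h1]
    calc Nat.card (G ⧸ Subgroup.zpowers w) = Nat.card (G ⧸ Subgroup.zpowers w) * 1 :=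
          (mul_one _).symm
      _ < Nat.card (G ⧸ Subgroup.zpowers w) * Nat.card (Subgroup.zpowers w) :=
          Nat.mul_lt_mul_of_pos_left h2 hpos
  have hq : Cfsg.IsSupersolvable (G ⧸ Subgroup.zpowers w) :=
    IH _ hlt (hyp_quotient hG (Subgroup.zpowers w))
  exact Cfsg.Agent.Helper29.isSupersolvable_of_cyclic_normal (Subgroup.zpowers w) hq

theorem main : ∀ (n : ℕ) (G : Type u) [Group G] [Finite G], Nat.card G = n → Hyp G →
    Cfsg.IsSupersolvable G := by
  intro n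
  induction n using Nat.strong_induction_on with
  | _ n ih =>
    intro G _ _ hn hG
    apply step G hG
    intro H _ _ hlt hH
    exact ih (Nat.card H) (hn ▸ hlt) H rfl hH

end Cfsg.Agent.Helper15.SSolv
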