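import Mathlib
import Cfsg.Prelude.Def_SubgroupEmbedding
import Cfsg.Prelude.Def_Solvable
import Cfsg.Prelude.Def_Transfer
import Cfsg.Agent.Helper2.Invol
import Cfsg.Agent.Helper16.BaerSuzuki

set_option autoImplicit false

namespace Cfsg.Agent.Helper15

open Cfsg

variable {G : Type*} [Group G]

/-- odd part of an element inverted by `a` -/
theorem exists_odd_power_inverted [Finite G] {a z : G} (hz : a * z * a⁻¹ = z⁻¹) :
    ∃ k : ℕ, Odd (orderOf (z ^ (2 ^ k))) ∧ a * z ^ (2 ^ k) * a⁻¹ = (z ^ (2 ^ k))⁻¹ := by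
  obtain ⟨k, m, hm, hkm⟩ := Nat.exists_eq_two_pow_mul_odd (orderOf_pos z).ne'
  refine ⟨k, ?_, ?_⟩
  · have : orderOf (z ^ (2 ^ k)) = m := by
      rw [orderOf_pow' z (pow_ne_zero k two_ne_zero), hkm, Nat.gcd_eq_right (Dvd.intro _ rfl),
        Nat.mul_div_cancel_left m (pow_pos two_pos k)]
    rw [this]; exact hm
  · rw [← conj_pow, hz, inv_pow]

/-- An involution outside `O₂(G)` inverts a nontrivial element of odd order (Baer–Suzuki). -/
theorem exists_odd_inverted_of_not_mem_pCore [Finite G] {a : G} (ha : a * a = 1)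
    (hnot : a ∉ pCore 2 G) :
    ∃ h : G, Odd (orderOf h) ∧ h ≠ 1 ∧ a * h * a⁻¹ = h⁻¹ := by
  have : Fact (Nat.Prime 2) := ⟨Nat.prime_two⟩
  by_contra hno
  push Not at hno
  apply hnot
  have hle : (⨅ P : Sylow 2 G, (P : Subgroup G)) ≤ pCore 2 G :=
    le_sSup ⟨Cfsg.Agent.Helper16.iInf_sylow_normal 2, Cfsg.Agent.Helper16.iInf_sylow_isPGroup 2⟩
  apply hle
  apply Cfsg.Agent.Helper16.baer_suzuki_elt 2 a
  intro g
  set t : G := g * a * g⁻¹ with ht
  have htt : t * t = 1 := by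
    rw [ht]
    calc g * a * g⁻¹ * (g * a * g⁻¹) = g * (a * a) * g⁻¹ := by group
      _ = 1 := by rw [ha]; group
  set z : G := a * t with hz
  have hzinv : a * z * a⁻¹ = z⁻¹ := Cfsg.Agent.Helper2.invol_conj_mul ha htt
  obtain ⟨k, hodd, hinv⟩ := exists_odd_power_inverted hzinv
  have hzk : z ^ (2 ^ k) = 1 := by
    by_contra h1
    exact hno _ hodd h1 hinv
  rintro ⟨d, hd⟩
  refine ⟨k + 1, ?_⟩
  apply Subtype.ext
  rw [Subgroup.coe_pow, Subgroup.coe_one]
  show d ^ (2 ^ (k + 1)) = 1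
  obtain ⟨j, rfl | rfl⟩ := Cfsg.Agent.Helper2.invol_closure_form ha htt hd
  · have e : ((a * t) ^ j) ^ (2 ^ k) = 1 := by
      rw [← zpow_natCast, ← zpow_mul, mul_comm, zpow_mul, zpow_natCast, hzk, one_zpow]
    rw [pow_succ, pow_mul, e, one_pow]
  · have h2 : ((a * t) ^ j * a) ^ 2 = 1 := by
      rw [pow_two]
      calc (a * t) ^ j * a * ((a * t) ^ j * a) = (a * t) ^ j * (a * (a * t) ^ j) * a := by group
        _ = (a * t) ^ j * ((a * t) ^ (-j) * a) * a := by
            rw [Cfsg.Agent.Helper2.invol_mul_zpow ha htt]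
        _ = ((a * t) ^ j * (a * t) ^ (-j)) * (a * a) := by group
        _ = 1 := by rw [ha, zpow_neg, mul_inv_cancel, mul_one]
    rw [pow_succ, mul_comm, pow_mul, h2, one_pow]

/-- a subgroup of order at most 4 containing distinct nontrivial involutions `a`, `b` is
`{1, a, b, ab}` -/
theorem mem_four [Finite G] (V : Subgroup G) (h4 : Nat.card V ≤ 4) {a b : G} (ha : a ∈ V)
    (hb : b ∈ V) (ha1 : a ≠ 1) (hb1 : b ≠ 1) (hab : a ≠ b) (ha2 : a * a = 1) :
    ∀ w ∈ V, w = 1 ∨ w = a ∨ w = b ∨ w = a * b := by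
  classical
  intro w hw
  by_contra hcon
  push Not at hcon
  obtain ⟨hw1, hwa, hwb, hwab⟩ := hcon
  have hab1 : a * b ≠ 1 := by
    intro h
    apply hab
    have : b = a⁻¹ := (eq_inv_of_mul_eq_one_right h)
    rw [this]; exact (inv_eq_of_mul_eq_one_right ha2).symm
  have haba : a * b ≠ a := by
    intro h
    exact hb1 (mul_left_cancel (a := a) (by rw [h, mul_one]))
  have habb : a * b ≠ b := by
    intro h
    exact ha1 (mul_right_cancel (b := b) (by rw [h, one_mul]))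
  set s : Finset G := {w, 1, a, b, a * b} with hs
  have hcard : s.card = 5 := by
    rw [hs]
    rw [Finset.card_insert_of_notMem, Finset.card_insert_of_notMem, Finset.card_insert_of_notMem,
      Finset.card_insert_of_notMem, Finset.card_singleton]
    · simp only [Finset.mem_singleton]; exact fun h => habb h.symm
    · simp only [Finset.mem_insert, Finset.mem_singleton]
      rintro (h | h)
      · exact hab h
      · exact haba h.symm
    · simp only [Finset.mem_insert, Finset.mem_singleton]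
      rintro (h | h | h)
      · exact ha1 h.symm
      · exact hb1 h.symm
      · exact hab1 h.symm
    · simp only [Finset.mem_insert, Finset.mem_singleton]
      rintro (h | h | h | h)
      · exact hw1 h
      · exact hwa h
      · exact hwb h
      · exact hwab h
  have hsub : (s : Set G) ⊆ (V : Set G) := by
    intro g hg
    rw [hs] at hg
    simp only [Finset.coe_insert, Finset.coe_singleton, Set.mem_insert_iff,
      Set.mem_singleton_iff] at hg
    rcases hg with rfl | rfl | rfl | rfl | rfl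
    · exact hw
    · exact V.one_mem
    · exact ha
    · exact hb
    · exact V.mul_mem ha hb
  have h1 := Set.ncard_le_ncard hsub (Set.toFinite _)
  rw [Set.ncard_coe_finset, hcard] at h1
  have h2 : (V : Set G).ncard = Nat.card V := (Nat.card_coe_set_eq (V : Set G)).symm
  rw [h2] at h1
  omega

theorem inv_ne_self_of_odd {h : G} (hodd : Odd (orderOf h)) (h1 : h ≠ 1) : h⁻¹ ≠ h := by
  intro he
  apply h1
  have h2 : h ^ 2 = 1 := by
    rw [pow_two]
    calc h * h = h⁻¹ * h := by rw [he]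
      _ = 1 := inv_mul_cancel h
  have hd : orderOf h ∣ 2 := orderOf_dvd_of_pow_eq_one h2
  have : orderOf h = 1 := by
    have hle := Nat.le_of_dvd (by norm_num) hd
    obtain ⟨k, hk⟩ := hodd
    interval_cases (orderOf h)
    · omega
    · rfl
    · omega
  exact orderOf_eq_one_iff.mp this

/-- Sidki's conjecture for `|V| ≤ 4` (S3011). -/
theorem sidki_four [Finite G] (V : Subgroup G) (hV : IsElementaryAbelian 2 V) (hV1 : V ≠ ⊥)
    (hS : IsSidkiPair V) (h4 : Nat.card V ≤ 4) : V ⊓ pCore 2 G ≠ ⊥ := by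
  intro hbot
  have hsq : ∀ v ∈ V, v * v = 1 := by
    intro v hv
    have := hV.2 v hv
    rwa [pow_two] at this
  have hinvV : ∀ v ∈ V, v⁻¹ = v := fun v hv => inv_eq_of_mul_eq_one_right (hsq v hv)
  have hout : ∀ v ∈ V, v ≠ 1 → v ∉ pCore 2 G := by
    intro v hv hv1 hvc
    have : v ∈ V ⊓ pCore 2 G := ⟨hv, hvc⟩
    rw [hbot, Subgroup.mem_bot] at this
    exact hv1 this
  have hex : ∀ v ∈ V, v ≠ 1 → ∃ h : G, Odd (orderOf h) ∧ h ≠ 1 ∧ v * h * v⁻¹ = h⁻¹ :=
    fun v hv hv1 => exists_odd_inverted_of_not_mem_pCore (hsq v hv) (hout v hv hv1)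
  have hnc : ∀ v h : G, Odd (orderOf h) → h ≠ 1 → v * h * v⁻¹ = h⁻¹ → v * h ≠ h * v := by
    intro v h hodd h1 hinv hc
    apply inv_ne_self_of_odd hodd h1
    rw [← hinv, hc]; group
  obtain ⟨⟨a, haV⟩, ha1'⟩ := (Subgroup.ne_bot_iff_exists_ne_one).mp hV1
  have ha1 : a ≠ 1 := fun h => ha1' (Subtype.ext h)
  obtain ⟨x, hxodd, hx1, hax⟩ := hex a haV ha1
  obtain ⟨b, hbV, hb1, hbx⟩ := hS x a haV hxodd hax
  have hab : a ≠ b := by
    rintro rfl
    exact hnc a x hxodd hx1 hax hbx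
  obtain ⟨y, hyodd, hy1, hby⟩ := hex b hbV hb1
  obtain ⟨a₀, ha₀V, ha₀1, ha₀y⟩ := hS y b hbV hyodd hby
  have ha₀b : a₀ ≠ b := by
    rintro rfl
    exact hnc a₀ y hyodd hy1 hby ha₀y
  have hbx' : b * x * b⁻¹ = x := by rw [hbx]; group
  have ha₀x : a₀ * x * a₀⁻¹ = x⁻¹ := by
    rcases mem_four V h4 haV hbV ha1 hb1 hab (hsq a haV) a₀ ha₀V with h | h | h | h
    · exact absurd h ha₀1
    · rw [h]; exact hax
    · exact absurd h ha₀b
    · rw [h]
      calc a * b * x * (a * b)⁻¹ = a * (b * x * b⁻¹) * a⁻¹ := by group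
        _ = x⁻¹ := by rw [hbx', hax]
  have ha₀y' : a₀ * y * a₀⁻¹ = y := by rw [ha₀y]; group
  have henum := mem_four V h4 ha₀V hbV ha₀1 hb1 ha₀b (hsq a₀ ha₀V)
  -- Step 4: x and y commute
  have hxy : x * y = y * x := by
    obtain ⟨m, hm⟩ := hyodd
    set y' : G := y ^ (m + 1) with hy'
    have hy'2 : y' * y' = y := by
      rw [hy', ← pow_add]
      have : m + 1 + (m + 1) = orderOf y + 1 := by omega
      rw [this, pow_succ, pow_orderOf_eq_one, one_mul]
    set x' : G := y' * x * y'⁻¹ with hx'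
    have hx'odd : Odd (orderOf x') := by
      have : x' = (MulAut.conj y') x := by simp [hx']
      rw [this, MulEquiv.orderOf_eq]; exact hxodd
    have hx'1 : x' ≠ 1 := by
      intro h
      apply hx1
      have : x = y'⁻¹ * x' * y' := by rw [hx']; group
      rw [this, h]; group
    have ha₀y'' : a₀ * y' * a₀⁻¹ = y' := by
      rw [hy', ← conj_pow, ha₀y']
    have hby'' : b * y' * b⁻¹ = y'⁻¹ := by
      rw [hy', ← conj_pow, hby, inv_pow]
    have ha₀x' : a₀ * x' * a₀⁻¹ = x'⁻¹ := by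
      calc a₀ * x' * a₀⁻¹ = (a₀ * y' * a₀⁻¹) * (a₀ * x * a₀⁻¹) * (a₀ * y' * a₀⁻¹)⁻¹ := by
            rw [hx']; group
        _ = x'⁻¹ := by rw [ha₀y'', ha₀x, hx']; group
    obtain ⟨w, hwV, hw1, hwx'⟩ := hS x' a₀ ha₀V hx'odd ha₀x'
    have hwx'' : w * x' * w⁻¹ = x' := by rw [hwx']; group
    rcases henum w hwV with h | h | h | h
    · exact absurd h hw1
    · exact absurd (h ▸ hwx') (hnc a₀ x' hx'odd hx'1 ha₀x')
    · -- w = b
      rw [h] at hwx''
      have e1 : b * x' * b⁻¹ = y'⁻¹ * x * y' := by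
        calc b * x' * b⁻¹ = (b * y' * b⁻¹) * (b * x * b⁻¹) * (b * y' * b⁻¹)⁻¹ := by
              rw [hx']; group
          _ = y'⁻¹ * x * y' := by rw [hby'', hbx', inv_inv]
      rw [e1, hx'] at hwx''
      -- y'⁻¹ x y' = y' x y'⁻¹
      calc x * y = x * (y' * y') := by rw [hy'2]
        _ = y' * (y'⁻¹ * x * y') * y' := by group
        _ = y' * (y' * x * y'⁻¹) * y' := by rw [hwx'']
        _ = (y' * y') * x := by group
        _ = y * x := by rw [hy'2]
    · -- w = a₀ * b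
      exfalso
      rw [h] at hwx''
      have e1 : a₀ * b * x' * (a₀ * b)⁻¹ = y'⁻¹ * x⁻¹ * y' := by
        calc a₀ * b * x' * (a₀ * b)⁻¹
            = (a₀ * (b * y' * b⁻¹) * a₀⁻¹) * (a₀ * (b * x * b⁻¹) * a₀⁻¹) *
                (a₀ * (b * y' * b⁻¹) * a₀⁻¹)⁻¹ := by rw [hx']; group
          _ = (a₀ * y' * a₀⁻¹)⁻¹ * (a₀ * x * a₀⁻¹) * (a₀ * y' * a₀⁻¹) := by
              rw [hby'', hbx']; group
          _ = y'⁻¹ * x⁻¹ * y' := by rw [ha₀y'', ha₀x]
      rw [e1, hx'] at hwx''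
      -- y x y⁻¹ = x⁻¹
      have hyx : y * x * y⁻¹ = x⁻¹ := by
        calc y * x * y⁻¹ = (y' * y') * x * (y' * y')⁻¹ := by rw [hy'2]
          _ = y' * (y' * x * y'⁻¹) * y'⁻¹ := by group
          _ = y' * (y'⁻¹ * x⁻¹ * y') * y'⁻¹ := by rw [hwx'']
          _ = x⁻¹ := by group
      have := Cfsg.Agent.Helper2.inverting_odd_pow hyx m
      rw [← hm, pow_orderOf_eq_one] at this
      apply inv_ne_self_of_odd hxodd hx1
      rw [← this]; group
  -- Step 5
  set c₀ : G := a₀ * b with hc₀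
  set u : G := x * y with hu
  have huodd : Odd (orderOf u) := by
    have h1 : orderOf u ∣ Nat.lcm (orderOf x) (orderOf y) :=
      (show Commute x y from hxy).orderOf_mul_dvd_lcm
    exact Odd.of_dvd_nat (hxodd.mul hyodd) (h1.trans (Nat.lcm_dvd_mul _ _))
  have hbu : b * u * b⁻¹ = x * y⁻¹ := by
    calc b * u * b⁻¹ = (b * x * b⁻¹) * (b * y * b⁻¹) := by rw [hu]; group
      _ = x * y⁻¹ := by rw [hbx', hby]
  have ha₀u : a₀ * u * a₀⁻¹ = x⁻¹ * y := by
    calc a₀ * u * a₀⁻¹ = (a₀ * x * a₀⁻¹) * (a₀ * y * a₀⁻¹) := by rw [hu]; group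
      _ = x⁻¹ * y := by rw [ha₀x, ha₀y']
  have hc₀u : c₀ * u * c₀⁻¹ = u⁻¹ := by
    calc c₀ * u * c₀⁻¹ = a₀ * (b * u * b⁻¹) * a₀⁻¹ := by rw [hc₀]; group
      _ = (a₀ * x * a₀⁻¹) * (a₀ * y * a₀⁻¹)⁻¹ := by rw [hbu]; group
      _ = x⁻¹ * y⁻¹ := by rw [ha₀x, ha₀y']
      _ = u⁻¹ := by rw [hu, mul_inv_rev, ← mul_inv_rev, ← hxy, mul_inv_rev]
  have hu1 : u ≠ 1 := by
    intro h
    have hyx : y = x⁻¹ := by
      have : x * y = 1 := h
      exact eq_inv_of_mul_eq_one_right this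
    apply hnc a₀ x hxodd hx1 ha₀x
    have h2 := ha₀y
    rw [hyx] at h2
    -- a₀ * x⁻¹ = x⁻¹ * a₀
    calc a₀ * x = x * (x⁻¹ * a₀) * x := by group
      _ = x * (a₀ * x⁻¹) * x := by rw [h2]
      _ = x * a₀ := by group
  have hc₀V : c₀ ∈ V := V.mul_mem ha₀V hbV
  obtain ⟨w, hwV, hw1, hwu⟩ := hS u c₀ hc₀V huodd hc₀u
  have hwu' : w * u * w⁻¹ = u := by rw [hwu]; group
  rcases henum w hwV with h | h | h | h
  · exact hw1 h
  · rw [h, ha₀u, hu] at hwu'
    have : x⁻¹ = x := mul_right_cancel hwu'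
    exact inv_ne_self_of_odd hxodd hx1 this
  · rw [h, hbu, hu] at hwu'
    have : y⁻¹ = y := mul_left_cancel hwu'
    exact inv_ne_self_of_odd hyodd hy1 this
  · rw [h] at hwu
    exact hnc c₀ u huodd hu1 hc₀u hwu

end Cfsg.Agent.Helper15
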