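import Mathlib
import Cfsg.Prelude.Def_SubgroupEmbedding
import Cfsg.Prelude.Def_Solvable
import Cfsg.Prelude.Def_Transfer
import Cfsg.Prelude.Def_Local
import Cfsg.Agent.Helper15.Sidki
import Cfsg.Agent.Helper14.PCore
import Cfsg.Agent.Helper14.Subnormal2
import Cfsg.Agent.Helper7.Layer
import Cfsg.Agent.Helper7.Components

set_option autoImplicit false
set_option linter.unusedSectionVars false

/-! # Minimal counterexample to Sidki's pair problem: basic reductions -/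

namespace Cfsg.Agent.Helper15.SidkiMin

open Cfsg Subgroup

universe u

/-- minimality hypothesis on the ambient group -/
def MinG (G : Type u) [Group G] : Prop :=
  ∀ (H : Type u) [Group H] [Finite H] (W : Subgroup H), Nat.card H < Nat.card G →
    IsElementaryAbelian 2 W → W ≠ ⊥ → IsSidkiPair W → W ⊓ pCore 2 H ≠ ⊥

section EA

variable {G : Type*} [Group G] {V : Subgroup G}

theorem ea_sq (hV : IsElementaryAbelian 2 V) {v : G} (hv : v ∈ V) : v * v = 1 := by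
  have := hV.2 v hv
  rwa [pow_two] at this

theorem ea_inv (hV : IsElementaryAbelian 2 V) {v : G} (hv : v ∈ V) : v⁻¹ = v :=
  inv_eq_of_mul_eq_one_left (ea_sq hV hv)

theorem ea_comm (hV : IsElementaryAbelian 2 V) {v w : G} (hv : v ∈ V) (hw : w ∈ V) :
    v * w = w * v := by
  have := hV.1
  exact congrArg Subtype.val (mul_comm' (⟨v, hv⟩ : V) ⟨w, hw⟩)

theorem ea_isPGroup (hV : IsElementaryAbelian 2 V) : IsPGroup 2 V := by
  rintro ⟨v, hv⟩
  refine ⟨1, ?_⟩
  apply Subtype.ext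
  rw [pow_one, Subgroup.coe_pow, Subgroup.coe_one]
  exact hV.2 v hv

theorem ea_mono (hV : IsElementaryAbelian 2 V) {W : Subgroup G} (hWV : W ≤ V) :
    IsElementaryAbelian 2 W := by
  refine ⟨⟨⟨fun a b => ?_⟩⟩, fun a ha => hV.2 a (hWV ha)⟩
  apply Subtype.ext
  exact ea_comm hV (hWV a.2) (hWV b.2)

/-- an element of odd order which squares into a subgroup lies in it -/
theorem mem_of_sq_mem_of_odd {H : Subgroup G} {h : G} (hodd : Odd (orderOf h))
    (hsq : h * h ∈ H) : h ∈ H := by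
  obtain ⟨m, hm⟩ := hodd
  have h1 : h = (h * h) ^ (m + 1) := by
    rw [← pow_two, ← pow_mul]
    have : 2 * (m + 1) = orderOf h + 1 := by omega
    rw [this, pow_succ, pow_orderOf_eq_one, one_mul]
  rw [h1]
  exact H.pow_mem hsq _

/-- an element of odd order inverted and centralized is trivial -/
theorem eq_one_of_odd_of_sq {h : G} (hodd : Odd (orderOf h)) (hsq : h * h = 1) : h = 1 := by
  have : h ∈ (⊥ : Subgroup G) := mem_of_sq_mem_of_odd hodd (by rw [hsq]; exact one_mem _)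
  exact Subgroup.mem_bot.1 this

theorem eq_one_of_inverts_of_commutes {h v : G} (hodd : Odd (orderOf h))
    (hinv : v * h * v⁻¹ = h⁻¹) (hc : v * h = h * v) : h = 1 := by
  apply eq_one_of_odd_of_sq hodd
  have : h = h⁻¹ := by
    rw [← hinv, hc, mul_inv_cancel_right]
  calc h * h = h * h⁻¹ := by rw [← this]
    _ = 1 := mul_inv_cancel h

/-- the product of two commuting elements of odd order has odd order -/
theorem odd_orderOf_mul {a b : G} (hab : a * b = b * a) (ha : Odd (orderOf a))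
    (hb : Odd (orderOf b)) : Odd (orderOf (a * b)) := by
  have h1 : (a * b) ^ (orderOf a * orderOf b) = 1 := by
    rw [Commute.mul_pow hab, pow_mul, pow_orderOf_eq_one, one_pow, mul_comm, pow_mul,
      pow_orderOf_eq_one, one_pow, mul_one]
  have h2 := orderOf_dvd_of_pow_eq_one h1
  exact Odd.of_dvd_nat (ha.mul hb) h2

theorem isSubnormal_of_le_normalizer {A B : Subgroup G} (hAB : A ≤ B)
    (hBA : B ≤ normalizer (A : Set G)) (hB : B.IsSubnormal) : A.IsSubnormal :=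
  Subgroup.IsSubnormal.step A B hAB hB ((Subgroup.normal_subgroupOf_iff_le_normalizer hAB).2 hBA)

end EA

section Basic

variable {G : Type u} [Group G] [Finite G]

/-- hminG applied to a proper subgroup -/
theorem exists_normal_two_subgroup (hmin : MinG G) {H X : Subgroup G} (hH : H ≠ ⊤) (hXH : X ≤ H)
    (hXea : IsElementaryAbelian 2 X) (hX1 : X ≠ ⊥)
    (hXS : ∀ h ∈ H, ∀ x ∈ X, Odd (orderOf h) → x * h * x⁻¹ = h⁻¹ →
      ∃ w ∈ X, w ≠ 1 ∧ w * h = h * w) :
    ∃ T : Subgroup G, T ≤ H ∧ H ≤ normalizer (T : Set G) ∧ IsPGroup 2 T ∧ X ⊓ T ≠ ⊥ := by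
  have hcard : Nat.card H < Nat.card G := Cfsg.Agent.Helper7.card_lt_of_ne_top hH
  have hW : IsElementaryAbelian 2 (X.subgroupOf H) := by
    refine ⟨⟨⟨fun a b => ?_⟩⟩, fun a ha => ?_⟩
    · apply Subtype.ext
      apply Subtype.ext
      exact ea_comm hXea (Subgroup.mem_subgroupOf.1 a.2) (Subgroup.mem_subgroupOf.1 b.2)
    · apply Subtype.ext
      have := hXea.2 _ (Subgroup.mem_subgroupOf.1 ha)
      rw [Subgroup.coe_pow, Subgroup.coe_one]
      exact this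
  have hW1 : X.subgroupOf H ≠ ⊥ := by
    intro h
    apply hX1
    rw [Subgroup.subgroupOf_eq_bot, disjoint_iff, inf_eq_left.2 hXH] at h
    exact h
  have hWS : IsSidkiPair (X.subgroupOf H) := by
    intro h v hv hodd hinv
    have hinv' : (v : G) * (h : G) * (v : G)⁻¹ = (h : G)⁻¹ := by
      have := congrArg Subtype.val hinv
      simpa using this
    obtain ⟨w, hw, hw1, hwc⟩ := hXS h h.2 v (Subgroup.mem_subgroupOf.1 hv)
      (by rwa [Subgroup.orderOf_coe]) hinv'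
    exact ⟨⟨w, hXH hw⟩, Subgroup.mem_subgroupOf.2 hw,
      fun h1 => hw1 (congrArg Subtype.val h1), Subtype.ext hwc⟩
  have hne := hmin H (X.subgroupOf H) hcard hW hW1 hWS
  refine ⟨(pCore 2 H).map H.subtype, Subgroup.map_subtype_le _, ?_,
    (Cfsg.Agent.Helper14.pCore_isPGroup 2).map _, ?_⟩
  · intro h hh
    apply Subgroup.mem_normalizer_fintype
    rintro n ⟨m, hm, rfl⟩
    refine ⟨⟨h, hh⟩ * m * ⟨h, hh⟩⁻¹, (Cfsg.Agent.Helper14.pCore_normal 2).conj_mem m hm _, ?_⟩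
    simp
  · obtain ⟨⟨a, ha⟩, ha1⟩ := (Subgroup.ne_bot_iff_exists_ne_one).1 hne
    intro hbot
    apply ha1
    apply Subtype.ext
    apply Subtype.ext
    have : ((a : H) : G) ∈ X ⊓ (pCore 2 H).map H.subtype :=
      ⟨Subgroup.mem_subgroupOf.1 ha.1, ⟨a, ha.2, rfl⟩⟩
    rw [hbot, Subgroup.mem_bot] at this
    simpa using this

/-- hminG applied to `N₀X` for `X ≤ V` normalizing `N₀` with `O₂(N₀) = 1`: some nontrivial
element of `X` centralizes `N₀`. -/
theorem exists_centralizing (hmin : MinG G) {V : Subgroup G} (hV : IsElementaryAbelian 2 V)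
    {N₀ X : Subgroup G} (hXV : X ≤ V) (hX1 : X ≠ ⊥) (hXN : X ≤ normalizer (N₀ : Set G))
    (hne : N₀ ⊔ X ≠ ⊤)
    (hO : ∀ T₀ : Subgroup G, T₀ ≤ N₀ → N₀ ≤ normalizer (T₀ : Set G) → IsPGroup 2 T₀ → T₀ = ⊥)
    (hXS : ∀ h ∈ N₀, ∀ x ∈ X, Odd (orderOf h) → x * h * x⁻¹ = h⁻¹ →
      ∃ w ∈ X, w ≠ 1 ∧ w * h = h * w) :
    ∃ x ∈ X, x ≠ 1 ∧ ∀ n ∈ N₀, x * n = n * x := by
  have hHN : N₀ ⊔ X ≤ normalizer (N₀ : Set G) := sup_le Subgroup.le_normalizer hXN
  obtain ⟨T, hTH, hHT, hT2, hXT⟩ := exists_normal_two_subgroup hmin (H := N₀ ⊔ X) (X := X) hne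
    le_sup_right (ea_mono hV hXV) hX1 (by
      intro h hh x hx hodd hinv
      refine hXS h ?_ x hx hodd hinv
      apply mem_of_sq_mem_of_odd hodd
      obtain ⟨n, hn, y, hy, rfl⟩ := (Cfsg.Agent.Helper7.mem_sup_of_le_normalizer hXN).1 hh
      have hy2 : y * y = 1 := ea_sq hV (hXV hy)
      have : n * y * (n * y) = n * (y * n * y⁻¹) * (y * y) := by group
      rw [this, hy2, mul_one]
      refine N₀.mul_mem hn ?_
      exact (Subgroup.mem_normalizer_iff.1 (hXN hy) n).1 hn)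
  have hTN : T ⊓ N₀ = ⊥ := by
    apply hO _ inf_le_right _ (hT2.to_le inf_le_left)
    intro n hn
    have h1 := hHT (le_sup_left (b := X) hn)
    have h2 : n ∈ normalizer (N₀ : Set G) := Subgroup.le_normalizer hn
    apply Subgroup.mem_normalizer_fintype
    rintro m ⟨hm1, hm2⟩
    exact ⟨(Subgroup.mem_normalizer_iff.1 h1 m).1 hm1, (Subgroup.mem_normalizer_iff.1 h2 m).1 hm2⟩
  obtain ⟨⟨x, hx⟩, hx1⟩ := (Subgroup.ne_bot_iff_exists_ne_one).1 hXT
  refine ⟨x, hx.1, fun h => hx1 (Subtype.ext h), fun n hn => ?_⟩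
  have hc : x * n * x⁻¹ * n⁻¹ ∈ T ⊓ N₀ := by
    constructor
    · have h1 := hHT (le_sup_left (b := X) hn)
      have : n * x⁻¹ * n⁻¹ ∈ T := (Subgroup.mem_normalizer_iff.1 h1 _).1 (T.inv_mem hx.2)
      have e : x * n * x⁻¹ * n⁻¹ = x * (n * x⁻¹ * n⁻¹) := by group
      rw [e]
      exact T.mul_mem hx.2 this
    · have h1 := hHN (hTH hx.2)
      exact N₀.mul_mem ((Subgroup.mem_normalizer_iff.1 h1 n).1 hn) (N₀.inv_mem hn)
  rw [hTN, Subgroup.mem_bot] at hc
  calc x * n = (x * n * x⁻¹ * n⁻¹) * n * x := by group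
    _ = n * x := by rw [hc, one_mul]

/-- hminG applied to `G/N` for a nontrivial normal subgroup `N` meeting `V` trivially. -/
theorem exists_quotient_core (hmin : MinG G) {V : Subgroup G} (hV : IsElementaryAbelian 2 V)
    (hV1 : V ≠ ⊥) (hS : IsSidkiPair V) (N : Subgroup G) [hN : N.Normal] (hN1 : N ≠ ⊥)
    (hVN : V ⊓ N = ⊥) :
    ∃ R : Subgroup G, R.Normal ∧ N ≤ R ∧ (∀ r ∈ R, ∃ k : ℕ, r ^ (2 ^ k) ∈ N) ∧ V ⊓ R ≠ ⊥ := by
  have hcard : Nat.card (G ⧸ N) < Nat.card G := by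
    have h1 := Subgroup.card_eq_card_quotient_mul_card_subgroup N
    have h2 : 1 < Nat.card N := by
      rcases Nat.lt_or_ge 1 (Nat.card N) with h | h
      · exact h
      · exfalso
        have h0 : 0 < Nat.card N := Nat.card_pos
        exact hN1 (Subgroup.card_eq_one.1 (by omega))
    have h3 : 0 < Nat.card (G ⧸ N) := Nat.card_pos
    nlinarith
  obtain ⟨π, hπ⟩ : ∃ π : G →* G ⧸ N, π = QuotientGroup.mk' N := ⟨_, rfl⟩
  have hker : ∀ g : G, π g = 1 ↔ g ∈ N := by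
    intro g
    rw [hπ, QuotientGroup.mk'_apply, QuotientGroup.eq_one_iff]
  have hsurj : Function.Surjective π := by rw [hπ]; exact QuotientGroup.mk'_surjective N
  have hnotin : ∀ v ∈ V, v ≠ 1 → π v ≠ 1 := by
    intro v hv hv1 h
    have : v ∈ V ⊓ N := ⟨hv, (hker v).1 h⟩
    rw [hVN, Subgroup.mem_bot] at this
    exact hv1 this
  have hW : IsElementaryAbelian 2 (V.map π) := by
    refine ⟨⟨⟨fun a b => ?_⟩⟩, ?_⟩
    · obtain ⟨a', ha', hae⟩ := a.2
      obtain ⟨b', hb', hbe⟩ := b.2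
      apply Subtype.ext
      show (a : G ⧸ N) * b = b * a
      rw [← hae, ← hbe, ← map_mul, ← map_mul, ea_comm hV ha' hb']
    · rintro _ ⟨a, ha, rfl⟩
      rw [← map_pow, hV.2 a ha, map_one]
  obtain ⟨⟨v₀, hv₀⟩, hv₀1⟩ := (Subgroup.ne_bot_iff_exists_ne_one).1 hV1
  have hv₀1' : v₀ ≠ 1 := fun h => hv₀1 (Subtype.ext h)
  have hW1 : V.map π ≠ ⊥ := by
    intro h
    have : π v₀ ∈ V.map π := ⟨v₀, hv₀, rfl⟩
    rw [h, Subgroup.mem_bot] at this
    exact hnotin v₀ hv₀ hv₀1' this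
  have hWS : IsSidkiPair (V.map π) := by
    intro hbar vbar hvbar hodd hinv
    obtain ⟨v, hv, rfl⟩ := hvbar
    obtain ⟨h, rfl⟩ := hsurj hbar
    have hvinv := ea_inv hV hv
    have hv2 := ea_sq hV hv
    obtain ⟨d, hd⟩ : ∃ d, d = v * h * v⁻¹ * h⁻¹ := ⟨_, rfl⟩
    have hdinv : v * d * v⁻¹ = d⁻¹ := by
      rw [hd]
      have e1 : v * (v * h * v⁻¹ * h⁻¹) * v⁻¹ = (v * v) * h * v⁻¹ * h⁻¹ * v⁻¹ := by group
      have e2 : (v * h * v⁻¹ * h⁻¹)⁻¹ = h * v * h⁻¹ * v⁻¹ := by group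
      rw [e1, e2, hv2, one_mul, hvinv]
    obtain ⟨k, hoddk, hinvk⟩ := exists_odd_power_inverted hdinv
    obtain ⟨w, hw, hw1, hwc⟩ := hS _ v hv hoddk hinvk
    refine ⟨π w, ⟨w, hw, rfl⟩, hnotin w hw hw1, ?_⟩
    have hpd : π d = (π h)⁻¹ * (π h)⁻¹ := by
      rw [hd, map_mul, map_inv, map_mul, map_mul, map_inv, hinv]
    have hc1 : π w * (π d) ^ (2 ^ k) = (π d) ^ (2 ^ k) * π w := by
      rw [← map_pow, ← map_mul, hwc, map_mul]
    have hpk : (π d) ^ (2 ^ k) = ((π h) ^ (2 ^ (k + 1)))⁻¹ := by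
      rw [hpd, ← mul_inv_rev, ← pow_two, inv_pow, ← pow_mul, ← pow_succ']
    have hcop : Nat.Coprime (2 ^ (k + 1)) (orderOf (π h)) :=
      Nat.Coprime.pow_left _ (Nat.coprime_two_left.2 hodd)
    obtain ⟨m, hm⟩ := exists_pow_eq_self_of_coprime hcop
    have hc2 : Commute (π w) ((π h) ^ (2 ^ (k + 1))) := by
      have h3 : Commute (π w) (((π h) ^ (2 ^ (k + 1)))⁻¹) := by
        rw [← hpk]
        exact hc1
      exact (Commute.inv_right_iff).1 h3
    have h4 := hc2.pow_right m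
    rw [hm] at h4
    exact h4.eq
  have hne := hmin (G ⧸ N) (V.map π) hcard hW hW1 hWS
  refine ⟨(pCore 2 (G ⧸ N)).comap π, ?_, ?_, ?_, ?_⟩
  · exact Subgroup.Normal.comap (Cfsg.Agent.Helper14.pCore_normal 2) π
  · intro n hn
    rw [Subgroup.mem_comap, (hker n).2 hn]
    exact one_mem _
  · intro r hr
    obtain ⟨k, hk⟩ := (Cfsg.Agent.Helper14.pCore_isPGroup (G := G ⧸ N) 2) ⟨π r, hr⟩
    refine ⟨k, ?_⟩
    have h1 := congrArg Subtype.val hk
    rw [Subgroup.coe_pow, Subgroup.coe_one] at h1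
    rw [← hker, map_pow]
    exact h1
  · obtain ⟨⟨a, ha⟩, ha1⟩ := (Subgroup.ne_bot_iff_exists_ne_one).1 hne
    obtain ⟨v, hv, hva⟩ := ha.1
    intro hbot
    have hvm : v ∈ V ⊓ (pCore 2 (G ⧸ N)).comap π := by
      refine ⟨hv, ?_⟩
      show v ∈ (pCore 2 (G ⧸ N)).comap π
      rw [Subgroup.mem_comap, hva]
      exact ha.2
    rw [hbot, Subgroup.mem_bot] at hvm
    apply ha1
    apply Subtype.ext
    show a = 1
    rw [← hva, hvm, map_one]

/-- Step 0: `O₂(G) = 1` in a minimal counterexample. -/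
theorem pCore_eq_bot (hmin : MinG G) {V : Subgroup G} (hV : IsElementaryAbelian 2 V)
    (hV1 : V ≠ ⊥) (hS : IsSidkiPair V) (hVO : V ⊓ pCore 2 G = ⊥) : pCore 2 G = ⊥ := by
  by_contra hQ
  obtain ⟨R, hRn, hNR, hR2, hVR⟩ := exists_quotient_core hmin hV hV1 hS (pCore 2 G) hQ hVO
  have hRp : IsPGroup 2 R := by
    rintro ⟨r, hr⟩
    obtain ⟨k, hk⟩ := hR2 r hr
    obtain ⟨j, hj⟩ := (Cfsg.Agent.Helper14.pCore_isPGroup (G := G) 2) ⟨r ^ (2 ^ k), hk⟩
    refine ⟨k + j, ?_⟩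
    apply Subtype.ext
    have h1 := congrArg Subtype.val hj
    rw [Subgroup.coe_pow, Subgroup.coe_one] at h1
    rw [Subgroup.coe_pow, Subgroup.coe_one, pow_add, pow_mul]
    exact h1
  have hle := Cfsg.Agent.Helper14.le_pCore 2 hRn hRp
  apply hVR
  rw [eq_bot_iff, ← hVO]
  exact inf_le_inf_left V hle

/-- with `O₂(G) = 1` every subnormal 2-subgroup is trivial -/
theorem eq_bot_of_subnormal_two (hO : pCore 2 G = ⊥) {T : Subgroup G} (hT : T.IsSubnormal)
    (hT2 : IsPGroup 2 T) : T = ⊥ := by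
  have := Cfsg.Agent.Helper14.le_pCore_of_isSubnormal hT hT2
  rw [hO] at this
  exact eq_bot_iff.2 this

/-- Step 1: `V` lies in no proper normal subgroup. -/
theorem eq_top_of_normal_of_le (hmin : MinG G) (hO : pCore 2 G = ⊥) {V : Subgroup G}
    (hV : IsElementaryAbelian 2 V) (hV1 : V ≠ ⊥) (hS : IsSidkiPair V) {M : Subgroup G}
    (hM : M.Normal) (hVM : V ≤ M) : M = ⊤ := by
  by_contra hne
  obtain ⟨T, hTM, hMT, hT2, hVT⟩ := exists_normal_two_subgroup hmin hne hVM hV hV1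
    (fun h _ x hx hodd hinv => hS h x hx hodd hinv)
  have : T = ⊥ :=
    eq_bot_of_subnormal_two hO (isSubnormal_of_le_normalizer hTM hMT hM.isSubnormal) hT2
  apply hVT
  rw [this, inf_bot_eq]

/-- with `O₂(G) = 1`, an abelian normal subgroup has no involutions -/
theorem eq_one_of_sq_of_mem_abelian_normal (hO : pCore 2 G = ⊥) {Z : Subgroup G} (hZ : Z.Normal)
    (hZc : ∀ a ∈ Z, ∀ b ∈ Z, a * b = b * a) {z : G} (hz : z ∈ Z) (hz2 : z * z = 1) : z = 1 := by
  let T : Subgroup G :=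
    { carrier := {x | x ∈ Z ∧ x * x = 1}
      one_mem' := ⟨Z.one_mem, mul_one 1⟩
      mul_mem' := by
        rintro a b ⟨ha, ha2⟩ ⟨hb, hb2⟩
        refine ⟨Z.mul_mem ha hb, ?_⟩
        calc a * b * (a * b) = a * (b * a) * b := by group
          _ = a * (a * b) * b := by rw [hZc b hb a ha]
          _ = (a * a) * (b * b) := by group
          _ = 1 := by rw [ha2, hb2, one_mul]
      inv_mem' := by
        rintro a ⟨ha, ha2⟩
        refine ⟨Z.inv_mem ha, ?_⟩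
        calc a⁻¹ * a⁻¹ = (a * a)⁻¹ := by group
          _ = 1 := by rw [ha2, inv_one] }
  have hTn : T.Normal := by
    constructor
    rintro a ⟨ha, ha2⟩ g
    refine ⟨hZ.conj_mem a ha g, ?_⟩
    calc g * a * g⁻¹ * (g * a * g⁻¹) = g * (a * a) * g⁻¹ := by group
      _ = 1 := by rw [ha2, mul_one, mul_inv_cancel]
  have hT2 : IsPGroup 2 T := by
    rintro ⟨a, ha⟩
    refine ⟨1, ?_⟩
    apply Subtype.ext
    rw [pow_one, Subgroup.coe_pow, Subgroup.coe_one, pow_two]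
    exact ha.2
  have hle := Cfsg.Agent.Helper14.le_pCore 2 hTn hT2
  rw [hO] at hle
  exact Subgroup.mem_bot.1 (hle ⟨hz, hz2⟩)

/-- a subgroup without involutions consists of elements of odd order -/
theorem odd_orderOf_of_no_invol {N : Subgroup G} (hN : ∀ n ∈ N, n * n = 1 → n = 1) {n : G}
    (hn : n ∈ N) : Odd (orderOf n) := by
  by_contra hodd
  rw [Nat.not_odd_iff_even] at hodd
  obtain ⟨m, hm⟩ := hodd
  have h1 : n ^ m * n ^ m = 1 := by rw [← pow_add, ← hm, pow_orderOf_eq_one]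
  have h2 := hN _ (N.pow_mem hn m) h1
  have h3 := orderOf_dvd_of_pow_eq_one h2
  have h4 := orderOf_pos n
  have := Nat.le_of_dvd (by omega) h3
  omega

end Basic

end Cfsg.Agent.Helper15.SidkiMin
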