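import Mathlib
import Cfsg.Agent.Helper15.SidkiMin
import Cfsg.Agent.Helper15.Cores
import Cfsg.Agent.Helper19.Subnormal

set_option autoImplicit false
set_option linter.unusedSectionVars false

/-! # Minimal counterexample to Sidki's pair problem: no abelian minimal normal subgroup -/

namespace Cfsg.Agent.Helper15.SidkiMin

open Cfsg Subgroup
open Cfsg.Agent.Helper19 (IsMinNormal)

universe u

section General

variable {G : Type*} [Group G]

/-- if `u` centralizes the normal subgroup `N` and inverts `h` then `h²` centralizes `N` -/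
theorem sq_mem_centralizer {N : Subgroup G} (hN : N.Normal) {u h : G}
    (hu : u ∈ centralizer (N : Set G)) (hinv : u * h * u⁻¹ = h⁻¹) :
    h * h ∈ centralizer (N : Set G) := by
  rw [mem_centralizer_iff]
  intro n hn
  have e1 : u * h = h⁻¹ * u := mul_inv_eq_iff_eq_mul.1 hinv
  have e2 : u * h⁻¹ = h * u := by
    calc u * h⁻¹ = (u * h * u⁻¹)⁻¹ * u := by group
      _ = h * u := by rw [hinv, inv_inv]
  have e3 : ∀ m ∈ N, u * m = m * u := fun m hm => ((mem_centralizer_iff.1 hu) m hm).symm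
  have e4 := e3 (h * n * h⁻¹) (hN.conj_mem n hn h)
  have e5 : u * (h * n * h⁻¹) = h⁻¹ * n * h * u := by
    calc u * (h * n * h⁻¹) = (u * h) * n * h⁻¹ := by group
      _ = h⁻¹ * (u * n) * h⁻¹ := by rw [e1]; group
      _ = h⁻¹ * n * (u * h⁻¹) := by rw [e3 n hn]; group
      _ = h⁻¹ * n * (h * u) := by rw [e2]
      _ = h⁻¹ * n * h * u := by group
  rw [e5] at e4
  have e6 := mul_right_cancel e4
  calc n * (h * h) = h * (h⁻¹ * n * h) * h := by group
    _ = h * (h * n * h⁻¹) * h := by rw [e6]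
    _ = h * h * n := by group

/-- an element of odd order inverted by an element centralizing the normal subgroup `N`
centralizes `N` -/
theorem mem_centralizer_of_inverted {N : Subgroup G} (hN : N.Normal) {u h : G}
    (hu : u ∈ centralizer (N : Set G)) (hodd : Odd (orderOf h)) (hinv : u * h * u⁻¹ = h⁻¹) :
    h ∈ centralizer (N : Set G) :=
  mem_of_sq_mem_of_odd hodd (sq_mem_centralizer hN hu hinv)

theorem conj_conj (a b g : G) : MulAut.conj (a * b) g = MulAut.conj a (MulAut.conj b g) := by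
  rw [map_mul]; rfl

theorem conj_eq_of_commute {a g : G} (h : a * g = g * a) : MulAut.conj a g = g := by
  rw [MulAut.conj_apply, h, mul_inv_cancel_right]

theorem commute_of_conj_eq {a g : G} (h : MulAut.conj a g = g) : a * g = g * a := by
  rw [MulAut.conj_apply] at h
  exact mul_inv_eq_iff_eq_mul.1 h

end General

section CaseA

variable {G : Type u} [Group G] [Finite G]

/-- Case A: a minimal counterexample has no abelian minimal normal subgroup. -/
theorem not_abelian_minNormal (hmin : MinG G) (hO : pCore 2 G = ⊥) {V : Subgroup G}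
    (hV : IsElementaryAbelian 2 V) (hV1 : V ≠ ⊥) (hS : IsSidkiPair V)
    (hminV : ∀ W : Subgroup G, Nat.card W < Nat.card V → IsElementaryAbelian 2 W → W ≠ ⊥ →
      ¬ IsSidkiPair W)
    {N : Subgroup G} (hN : IsMinNormal N) (hNc : ∀ a ∈ N, ∀ b ∈ N, a * b = b * a) : False := by
  have : Fact (Nat.Prime 2) := ⟨Nat.prime_two⟩
  obtain ⟨hNn, hN1, hNmin⟩ := hN
  have hNinv : ∀ n ∈ N, n * n = 1 → n = 1 := fun n hn h =>
    eq_one_of_sq_of_mem_abelian_normal hO hNn hNc hn h
  have hNodd : ∀ n ∈ N, Odd (orderOf n) := fun n hn => odd_orderOf_of_no_invol hNinv hn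
  obtain ⟨K, hK⟩ : ∃ K : Subgroup G, K = centralizer (N : Set G) := ⟨_, rfl⟩
  have hKn : K.Normal := by rw [hK]; infer_instance
  have hKmem : ∀ g : G, g ∈ K ↔ ∀ n ∈ N, g * n = n * g := by
    intro g
    rw [hK, mem_centralizer_iff]
    exact ⟨fun h n hn => (h n hn).symm, fun h n hn => (h n hn).symm⟩
  have hNK : N ≤ K := fun a ha => (hKmem a).2 (fun n hn => hNc a ha n hn)
  -- A.1 : G = VK
  have hVK : V ⊔ K = ⊤ := by
    by_contra hne
    obtain ⟨x, hx, hx1, hxc⟩ := exists_centralizing hmin hV (N₀ := K) (X := V) le_rfl hV1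
      (by rw [normalizer_eq_top_iff.2 hKn]; exact le_top) (by rwa [sup_comm])
      (fun T₀ hT₀ hKT₀ hT2 => eq_bot_of_subnormal_two hO
        (isSubnormal_of_le_normalizer hT₀ hKT₀ hKn.isSubnormal) hT2)
      (fun h _ x hx hodd hinv => hS h x hx hodd hinv)
    have hxK : x ∈ K := (hKmem x).2 (fun n hn => hxc n (hNK hn))
    have hZn : (K ⊓ centralizer (K : Set G)).Normal := by
      have := hKn
      infer_instance
    have hZc : ∀ a ∈ K ⊓ centralizer (K : Set G), ∀ b ∈ K ⊓ centralizer (K : Set G),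
        a * b = b * a := by
      intro a ha b hb
      exact (mem_centralizer_iff.1 hb.2) a ha.1
    have hxZ : x ∈ K ⊓ centralizer (K : Set G) := by
      refine ⟨hxK, ?_⟩
      show x ∈ centralizer (K : Set G)
      rw [mem_centralizer_iff]
      intro k hk
      exact (hxc k hk).symm
    exact hx1 (eq_one_of_sq_of_mem_abelian_normal hO hZn hZc hxZ (ea_sq hV hx))
  -- A.2 : every element of V centralizes or inverts N
  have hdich : ∀ v ∈ V, v ∈ K ∨ ∀ n ∈ N, MulAut.conj v n = n⁻¹ := by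
    intro v hv
    obtain ⟨C, hC⟩ : ∃ C : Subgroup G, C = N ⊓ centralizer ({v} : Set G) := ⟨_, rfl⟩
    have hCmem : ∀ c : G, c ∈ C ↔ c ∈ N ∧ v * c = c * v := by
      intro c
      rw [hC, mem_inf, mem_centralizer_iff]
      constructor
      · rintro ⟨h1, h2⟩
        exact ⟨h1, h2 v rfl⟩
      · rintro ⟨h1, h2⟩
        refine ⟨h1, fun y hy => ?_⟩
        rw [Set.mem_singleton_iff.1 hy]
        exact h2
    have hVC : V ≤ normalizer (C : Set G) := by
      intro g hg
      apply mem_normalizer_fintype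
      intro c hc
      have hc' := (hCmem c).1 hc
      apply (hCmem _).2
      refine ⟨hNn.conj_mem c hc'.1 g, ?_⟩
      have e1 : v * g = g * v := ea_comm hV hv hg
      have e2 : v * g⁻¹ = g⁻¹ * v := by
        calc v * g⁻¹ = g⁻¹ * (g * v) * g⁻¹ := by group
          _ = g⁻¹ * (v * g) * g⁻¹ := by rw [e1]
          _ = g⁻¹ * v := by group
      calc v * (g * c * g⁻¹) = (v * g) * c * g⁻¹ := by group
        _ = g * (v * c) * g⁻¹ := by rw [e1]; group
        _ = g * c * (v * g⁻¹) := by rw [hc'.2]; group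
        _ = g * c * g⁻¹ * v := by rw [e2]; group
    have hKC : K ≤ normalizer (C : Set G) := by
      intro g hg
      apply mem_normalizer_fintype
      intro c hc
      have hc' := (hCmem c).1 hc
      have : g * c * g⁻¹ = c := by
        rw [(hKmem g).1 hg c hc'.1, mul_inv_cancel_right]
      rw [this]
      exact hc
    have hCn : C.Normal := by
      rw [← normalizer_eq_top_iff, eq_top_iff, ← hVK]
      exact sup_le hVC hKC
    rcases hNmin C hCn (by rw [hC]; exact inf_le_left) with h | h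
    · right
      intro n hn
      rw [MulAut.conj_apply]
      have := hNn
      apply inverts_of_fixedPointFree N v (ea_sq hV hv) _ n hn
      intro r hr hvr
      have : r ∈ C := (hCmem r).2 ⟨hr, hvr⟩
      rw [h, mem_bot] at this
      exact this
    · left
      apply (hKmem v).2
      intro n hn
      rw [← h] at hn
      exact ((hCmem n).1 hn).2
  obtain ⟨⟨n₀, hn₀⟩, hn₀1⟩ := (Subgroup.ne_bot_iff_exists_ne_one).1 hN1
  have hn₀1' : n₀ ≠ 1 := fun h => hn₀1 (Subtype.ext h)
  by_cases hVK' : V ≤ K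
  · -- A1 : N is central
    have hKtop : K = ⊤ := eq_top_of_normal_of_le hmin hO hV hV1 hS hKn hVK'
    have hcentral : ∀ n ∈ N, ∀ g : G, g * n = n * g := fun n hn g =>
      (hKmem g).1 (by rw [hKtop]; trivial) n hn
    have hVN : V ⊓ N = ⊥ := by
      rw [eq_bot_iff]
      rintro x ⟨hxV, hxN⟩
      exact mem_bot.2 (hNinv x hxN (ea_sq hV hxV))
    have := hNn
    obtain ⟨R, hRn, hNR, hR2, hVR⟩ := exists_quotient_core hmin hV hV1 hS N hN1 hVN
    obtain ⟨⟨x, hx⟩, hx1⟩ := (Subgroup.ne_bot_iff_exists_ne_one).1 hVR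
    have hx1' : x ≠ 1 := fun h => hx1 (Subtype.ext h)
    obtain ⟨h, hodd, hh1, hinv⟩ := exists_odd_inverted_of_not_mem_pCore (ea_sq hV hx.1)
      (by rw [hO, mem_bot]; exact hx1')
    have hhR : h ∈ R := by
      apply mem_of_sq_mem_of_odd hodd
      have e1 : x * h⁻¹ * x⁻¹ = h := by
        calc x * h⁻¹ * x⁻¹ = (x * h * x⁻¹)⁻¹ := by group
          _ = h := by rw [hinv, inv_inv]
      have e : h * h = (h * x * h⁻¹) * x⁻¹ := by
        calc h * h = h * (x * h⁻¹ * x⁻¹) := by rw [e1]
          _ = (h * x * h⁻¹) * x⁻¹ := by group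
      rw [e]
      exact R.mul_mem (hRn.conj_mem x hx.2 h) (R.inv_mem hx.2)
    obtain ⟨k, hk⟩ := hR2 h hhR
    have hhN : h ∈ N := by
      have hcop : Nat.Coprime (2 ^ k) (orderOf h) :=
        Nat.Coprime.pow_left _ (Nat.coprime_two_left.2 hodd)
      obtain ⟨m, hm⟩ := exists_pow_eq_self_of_coprime hcop
      rw [← hm]
      exact N.pow_mem hk m
    exact hh1 (eq_one_of_inverts_of_commutes hodd hinv (hcentral h hhN x))
  · -- A2 : W = C_V(N) has index 2 and is again a Sidki pair
    obtain ⟨x₀, hx₀V, hx₀K⟩ := SetLike.not_le_iff_exists.1 hVK'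
    have hinvN : ∀ v ∈ V, v ∉ K → ∀ n ∈ N, MulAut.conj v n = n⁻¹ := fun v hv hvK =>
      (hdich v hv).resolve_left hvK
    have hmul : ∀ v ∈ V, ∀ v' ∈ V, v ∉ K → v' ∉ K → v * v' ∈ K := by
      intro v hv v' hv' hvK hv'K
      apply (hKmem _).2
      intro n hn
      apply commute_of_conj_eq
      rw [conj_conj, hinvN v' hv' hv'K n hn, hinvN v hv hvK _ (N.inv_mem hn), inv_inv]
    obtain ⟨W, hW⟩ : ∃ W : Subgroup G, W = V ⊓ K := ⟨_, rfl⟩
    have hWV : W ≤ V := by rw [hW]; exact inf_le_left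
    have hWK : W ≤ K := by rw [hW]; exact inf_le_right
    have hWmem : ∀ w, w ∈ V → w ∈ K → w ∈ W := fun w h1 h2 => by rw [hW]; exact ⟨h1, h2⟩
    have hW1 : W ≠ ⊥ := by
      obtain ⟨w, hw, hw1, hwc⟩ := hS n₀ x₀ hx₀V (hNodd n₀ hn₀)
        (by rw [← MulAut.conj_apply]; exact hinvN x₀ hx₀V hx₀K n₀ hn₀)
      by_cases hwK : w ∈ K
      · intro hbot
        have := hWmem w hw hwK
        rw [hbot, mem_bot] at this
        exact hw1 this
      · exfalso
        have := hinvN w hw hwK n₀ hn₀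
        rw [MulAut.conj_apply] at this
        exact hn₀1' (eq_one_of_inverts_of_commutes (hNodd n₀ hn₀) this hwc)
    have hWlt : Nat.card W < Nat.card V := by
      apply Cfsg.Agent.Helper19.card_lt_card_of_lt
      refine lt_of_le_of_ne hWV ?_
      intro h
      exact hx₀K (hWK (by rw [h]; exact hx₀V))
    apply hminV W hWlt (ea_mono hV hWV) hW1
    intro h u hu hodd hinv
    have huV := hWV hu
    have huK := hWK hu
    have hhK : h ∈ K := by
      rw [hK]
      exact mem_centralizer_of_inverted hNn (by rw [← hK]; exact huK) hodd hinv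
    by_contra hcon
    push Not at hcon
    obtain ⟨x, hx, hx1, hxc⟩ := hS h u huV hodd hinv
    have hxK : x ∉ K := fun hxK => hcon x (hWmem x hx hxK) hx1 hxc
    have hhn : h * n₀ = n₀ * h := (hKmem h).1 hhK n₀ hn₀
    have hxh : MulAut.conj x h = h := conj_eq_of_commute hxc
    have huh : MulAut.conj u h = h⁻¹ := by rw [MulAut.conj_apply]; exact hinv
    have hun : MulAut.conj u n₀ = n₀ := conj_eq_of_commute ((hKmem u).1 huK n₀ hn₀)
    have hinv2 : (u * x) * (h * n₀) * (u * x)⁻¹ = (h * n₀)⁻¹ := by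
      rw [← MulAut.conj_apply, conj_conj, map_mul, hxh, hinvN x hx hxK n₀ hn₀, map_mul, huh,
        map_inv, hun, hhn, mul_inv_rev]
    obtain ⟨w', hw', hw'1, hw'c⟩ := hS (h * n₀) (u * x) (V.mul_mem huV hx)
      (odd_orderOf_mul hhn hodd (hNodd n₀ hn₀)) hinv2
    have hw'K : w' ∉ K := by
      intro hw'K
      have e1 : w' * n₀ = n₀ * w' := (hKmem w').1 hw'K n₀ hn₀
      apply hcon w' (hWmem w' hw' hw'K) hw'1
      have : w' * h * n₀ = h * w' * n₀ := by
        calc w' * h * n₀ = w' * (h * n₀) := by group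
          _ = (h * n₀) * w' := hw'c
          _ = h * (n₀ * w') := by group
          _ = h * (w' * n₀) := by rw [e1]
          _ = h * w' * n₀ := by group
      exact mul_right_cancel this
    have hw'n : MulAut.conj w' n₀ = n₀⁻¹ := hinvN w' hw' hw'K n₀ hn₀
    have hw'h : MulAut.conj w' h = h * n₀ * n₀ := by
      have e1 : MulAut.conj w' (h * n₀) = h * n₀ := conj_eq_of_commute hw'c
      rw [map_mul, hw'n, mul_inv_eq_iff_eq_mul] at e1
      exact e1
    have hu'K : x * w' ∈ K := hmul x hx w' hw' hxK hw'K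
    have hu'V : x * w' ∈ V := V.mul_mem hx hw'
    have hu'h : MulAut.conj (x * w') h = h * n₀⁻¹ * n₀⁻¹ := by
      rw [conj_conj, hw'h, map_mul, map_mul, hxh, hinvN x hx hxK n₀ hn₀]
    have hu'n : MulAut.conj (x * w') n₀⁻¹ = n₀⁻¹ :=
      conj_eq_of_commute ((hKmem _).1 hu'K _ (N.inv_mem hn₀))
    have hu'2 : MulAut.conj (x * w') (MulAut.conj (x * w') h) = h := by
      rw [← conj_conj, ea_sq hV hu'V, map_one]
      rfl
    rw [hu'h, map_mul, map_mul, hu'h, hu'n] at hu'2
    have h4 : ((n₀ * n₀) * (n₀ * n₀))⁻¹ = 1 := by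
      calc ((n₀ * n₀) * (n₀ * n₀))⁻¹ = h⁻¹ * (h * n₀⁻¹ * n₀⁻¹ * n₀⁻¹ * n₀⁻¹) := by group
        _ = 1 := by rw [hu'2, inv_mul_cancel]
    have h4' := inv_eq_one.1 h4
    have h2 := hNinv _ (N.mul_mem hn₀ hn₀) h4'
    exact hn₀1' (hNinv n₀ hn₀ h2)

end CaseA

end Cfsg.Agent.Helper15.SidkiMin
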