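import Mathlib
import Cfsg.Agent.Helper15.SidkiMin2
import Cfsg.Agent.Helper7.Fitting
import Cfsg.Agent.Helper7.FStar
import Cfsg.Agent.Helper1.MinNormal

set_option autoImplicit false
set_option linter.unusedSectionVars false

/-! # Minimal counterexample to Sidki's pair problem: the nonabelian minimal normal subgroup -/

namespace Cfsg.Agent.Helper15.SidkiMin

open Cfsg Subgroup
open Cfsg.Agent.Helper19 (IsMinNormal MinNormIn)

universe u

section General

variable {G : Type*} [Group G]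

theorem centralizer_inf_eq_bot {N : Subgroup G} (hN : IsMinNormal N)
    (hNc : ¬ ∀ a ∈ N, ∀ b ∈ N, a * b = b * a) : centralizer (N : Set G) ⊓ N = ⊥ := by
  obtain ⟨hNn, hN1, hNmin⟩ := hN
  have hn : (centralizer (N : Set G) ⊓ N).Normal := by
    have := hNn
    infer_instance
  rcases hNmin _ hn inf_le_right with h | h
  · exact h
  · exfalso
    apply hNc
    intro a ha b hb
    have hb' : b ∈ centralizer (N : Set G) ⊓ N := by rw [h]; exact hb
    exact (mem_centralizer_iff.1 hb'.1) a ha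

end General

section CaseB

variable {G : Type u} [Group G] [Finite G]

theorem eq_bot_of_normal_two_in_normal (hO : pCore 2 G = ⊥) {N : Subgroup G} (hN : N.Normal) :
    ∀ T₀ : Subgroup G, T₀ ≤ N → N ≤ normalizer (T₀ : Set G) → IsPGroup 2 T₀ → T₀ = ⊥ :=
  fun _ h1 h2 h3 =>
    eq_bot_of_subnormal_two hO (isSubnormal_of_le_normalizer h1 h2 hN.isSubnormal) h3

/-- Case B1: for a nonabelian minimal normal subgroup `N` we have `G = VN`. -/
theorem sup_eq_top_of_nonabelian_minNormal (hmin : MinG G) (hO : pCore 2 G = ⊥) {V : Subgroup G}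
    (hV : IsElementaryAbelian 2 V) (hV1 : V ≠ ⊥) (hS : IsSidkiPair V)
    (hminV : ∀ W : Subgroup G, Nat.card W < Nat.card V → IsElementaryAbelian 2 W → W ≠ ⊥ →
      ¬ IsSidkiPair W)
    {N : Subgroup G} (hN : IsMinNormal N) (hNc : ¬ ∀ a ∈ N, ∀ b ∈ N, a * b = b * a) :
    V ⊔ N = ⊤ := by
  have hKN := centralizer_inf_eq_bot hN hNc
  obtain ⟨hNn, hN1, hNmin⟩ := hN
  obtain ⟨K, hK⟩ : ∃ K : Subgroup G, K = centralizer (N : Set G) := ⟨_, rfl⟩
  rw [← hK] at hKN
  have hKn : K.Normal := by rw [hK]; infer_instance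
  have hKmem : ∀ g : G, g ∈ K ↔ ∀ n ∈ N, g * n = n * g := by
    intro g
    rw [hK, mem_centralizer_iff]
    exact ⟨fun h n hn => (h n hn).symm, fun h n hn => (h n hn).symm⟩
  have hNnorm : ∀ X : Subgroup G, X ≤ normalizer (N : Set G) := by
    intro X
    rw [normalizer_eq_top_iff.2 hNn]
    exact le_top
  by_contra hne
  obtain ⟨x, hxV, hx1, hxc⟩ := exists_centralizing hmin hV (N₀ := N) (X := V) le_rfl hV1
    (hNnorm V) (by rwa [sup_comm]) (eq_bot_of_normal_two_in_normal hO hNn)
    (fun h _ x hx hodd hinv => hS h x hx hodd hinv)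
  obtain ⟨U, hU⟩ : ∃ U : Subgroup G, U = V ⊓ K := ⟨_, rfl⟩
  have hUV : U ≤ V := by rw [hU]; exact inf_le_left
  have hUK : U ≤ K := by rw [hU]; exact inf_le_right
  have hUmem : ∀ w, w ∈ V → w ∈ K → w ∈ U := fun w h1 h2 => by rw [hU]; exact ⟨h1, h2⟩
  have hU1 : U ≠ ⊥ := by
    intro hbot
    have := hUmem x hxV ((hKmem x).2 hxc)
    rw [hbot, mem_bot] at this
    exact hx1 this
  have hUlt : Nat.card U < Nat.card V := by
    apply Cfsg.Agent.Helper19.card_lt_card_of_lt
    refine lt_of_le_of_ne hUV ?_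
    intro h
    have hVK : V ≤ K := by rw [← h]; exact hUK
    have hKtop : K = ⊤ := eq_top_of_normal_of_le hmin hO hV hV1 hS hKn hVK
    apply hNc
    intro a ha b hb
    exact (hKmem a).1 (by rw [hKtop]; trivial) b hb
  apply hminV U hUlt (ea_mono hV hUV) hU1
  intro h u hu hodd hinv
  have huV := hUV hu
  have huK := hUK hu
  have hhK : h ∈ K := by
    rw [hK]
    exact mem_centralizer_of_inverted hNn (by rw [← hK]; exact huK) hodd hinv
  by_contra hcon
  push Not at hcon
  obtain ⟨X, hX⟩ : ∃ X : Subgroup G, X = V ⊓ centralizer ({h} : Set G) := ⟨_, rfl⟩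
  have hXmem : ∀ c : G, c ∈ X ↔ c ∈ V ∧ c * h = h * c := by
    intro c
    rw [hX, mem_inf, mem_centralizer_iff]
    constructor
    · rintro ⟨h1, h2⟩
      exact ⟨h1, (h2 h rfl).symm⟩
    · rintro ⟨h1, h2⟩
      refine ⟨h1, fun y hy => ?_⟩
      rw [Set.mem_singleton_iff.1 hy]
      exact h2.symm
  have hXV : X ≤ V := by rw [hX]; exact inf_le_left
  have hX1 : X ≠ ⊥ := by
    obtain ⟨w, hw, hw1, hwc⟩ := hS h u huV hodd hinv
    intro hbot
    have : w ∈ X := (hXmem w).2 ⟨hw, hwc⟩
    rw [hbot, mem_bot] at this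
    exact hw1 this
  have hne' : N ⊔ X ≠ ⊤ := by
    intro h1
    apply hne
    rw [eq_top_iff, ← h1, sup_comm]
    exact sup_le_sup_right hXV N
  have huh : MulAut.conj u h = h⁻¹ := by rw [MulAut.conj_apply]; exact hinv
  obtain ⟨y, hyX, hy1, hyc⟩ := exists_centralizing hmin hV (N₀ := N) (X := X) hXV hX1
    (hNnorm X) hne' (eq_bot_of_normal_two_in_normal hO hNn) (by
      intro n hn x hx hoddn hinvn
      have hx' := (hXmem x).1 hx
      have hhn : h * n = n * h := (hKmem h).1 hhK n hn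
      have hxh : MulAut.conj x h = h := conj_eq_of_commute hx'.2
      have hxn : MulAut.conj x n = n⁻¹ := by rw [MulAut.conj_apply]; exact hinvn
      have hun : MulAut.conj u n = n := conj_eq_of_commute ((hKmem u).1 huK n hn)
      have hinv2 : (u * x) * (h * n) * (u * x)⁻¹ = (h * n)⁻¹ := by
        rw [← MulAut.conj_apply, conj_conj, map_mul, hxh, hxn, map_mul, huh,
          map_inv, hun, hhn, mul_inv_rev]
      obtain ⟨w, hw, hw1, hwc⟩ := hS (h * n) (u * x) (V.mul_mem huV hx'.1)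
        (odd_orderOf_mul hhn hodd hoddn) hinv2
      have e1 : MulAut.conj w (h * n) = h * n := conj_eq_of_commute hwc
      rw [map_mul] at e1
      have e2 : h⁻¹ * MulAut.conj w h = n * (MulAut.conj w n)⁻¹ := by
        calc h⁻¹ * MulAut.conj w h
            = h⁻¹ * (MulAut.conj w h * MulAut.conj w n) * (MulAut.conj w n)⁻¹ := by group
          _ = n * (MulAut.conj w n)⁻¹ := by rw [e1]; group
      have e3 : h⁻¹ * MulAut.conj w h ∈ K ⊓ N := by
        constructor
        · refine K.mul_mem (K.inv_mem hhK) ?_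
          rw [MulAut.conj_apply]
          exact hKn.conj_mem h hhK w
        · rw [e2]
          refine N.mul_mem hn (N.inv_mem ?_)
          rw [MulAut.conj_apply]
          exact hNn.conj_mem n hn w
      rw [hKN, mem_bot] at e3
      have e4 : MulAut.conj w h = h := by
        calc MulAut.conj w h = h * (h⁻¹ * MulAut.conj w h) := by group
          _ = h := by rw [e3, mul_one]
      rw [e4] at e1
      have e5 : MulAut.conj w n = n := mul_left_cancel e1
      exact ⟨w, (hXmem w).2 ⟨hw, commute_of_conj_eq e4⟩, hw1, commute_of_conj_eq e5⟩)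
  have hy' := (hXmem y).1 hyX
  exact hcon y (hUmem y hy'.1 ((hKmem y).2 hyc)) hy1 hy'.2

/-- Case B2: if `G = VN` then `C_G(N) = 1`. -/
theorem centralizer_eq_bot_of_sup_eq_top (hO : pCore 2 G = ⊥) {V : Subgroup G}
    (hV : IsElementaryAbelian 2 V) {N : Subgroup G} (hN : IsMinNormal N)
    (hNc : ¬ ∀ a ∈ N, ∀ b ∈ N, a * b = b * a) (hVN : V ⊔ N = ⊤) :
    centralizer (N : Set G) = ⊥ := by
  have : Fact (Nat.Prime 2) := ⟨Nat.prime_two⟩
  have hKN := centralizer_inf_eq_bot hN hNc
  obtain ⟨hNn, hN1, hNmin⟩ := hN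
  have hKn : (centralizer (N : Set G)).Normal := inferInstance
  have hK2 : IsPGroup 2 (centralizer (N : Set G)) := by
    rintro ⟨k, hk⟩
    refine ⟨1, ?_⟩
    apply Subtype.ext
    rw [pow_one, Subgroup.coe_pow, Subgroup.coe_one, pow_two]
    have hkt : k ∈ V ⊔ N := by rw [hVN]; trivial
    obtain ⟨v, hv, n, hn, rfl⟩ := (mem_sup_of_normal_right).1 hkt
    have e : v * n * (v * n) = (v * n * v⁻¹) * (v * v) * n := by group
    have hmem : v * n * (v * n) ∈ centralizer (N : Set G) ⊓ N := by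
      refine ⟨(centralizer (N : Set G)).mul_mem hk hk, ?_⟩
      rw [e, ea_sq hV hv, mul_one]
      exact N.mul_mem (hNn.conj_mem n hn v) hn
    rw [hKN, mem_bot] at hmem
    exact hmem
  have hle := Cfsg.Agent.Helper14.le_pCore 2 hKn hK2
  rw [hO] at hle
  exact eq_bot_iff.2 hle

/-- a non-normalizing conjugate of a minimal `N`-invariant subgroup `L` of `N` meets `L`
trivially and commutes with it -/
theorem minNormIn_conj_disjoint {N L : Subgroup G} (hNn : N.Normal) (hL : MinNormIn N L) {g : G}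
    (hg : g ∉ normalizer (L : Set G)) :
    (∀ a ∈ L, ∀ b ∈ L, MulAut.conj g b = a → a = 1) ∧
      ∀ a ∈ L, ∀ b ∈ L, a * MulAut.conj g b = MulAut.conj g b * a := by
  have hgN : g ∈ normalizer (N : Set G) := by rw [normalizer_eq_top_iff.2 hNn]; trivial
  have hLg := hL.map_conj hgN
  obtain ⟨hLle, hL1, hNL, hLmin⟩ := hL
  obtain ⟨hLgle, hLg1, hNLg, hLgmin⟩ := hLg
  obtain ⟨Lg, hLgdef⟩ : ∃ Lg : Subgroup G, Lg = L.map (MulAut.conj g).toMonoidHom := ⟨_, rfl⟩
  rw [← hLgdef] at hLgle hLg1 hNLg hLgmin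
  have hmemLg : ∀ b ∈ L, MulAut.conj g b ∈ Lg := fun b hb => by
    rw [hLgdef]; exact ⟨b, hb, rfl⟩
  have hnot : ¬ Lg ≤ L := by
    intro hle
    apply hg
    apply mem_normalizer_fintype
    intro n hn
    have := hle (hmemLg n hn)
    rwa [MulAut.conj_apply] at this
  have hinf : L ⊓ Lg = ⊥ := by
    have hnorm : N ≤ normalizer ((L ⊓ Lg : Subgroup G) : Set G) := by
      intro n hn
      apply mem_normalizer_fintype
      rintro c ⟨hc1, hc2⟩
      exact ⟨(mem_normalizer_iff.1 (hNL hn) c).1 hc1, (mem_normalizer_iff.1 (hNLg hn) c).1 hc2⟩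
    rcases hLgmin _ inf_le_right hnorm with h | h
    · exact h
    · exfalso
      apply hnot
      rw [← h]
      exact inf_le_left
  refine ⟨?_, ?_⟩
  · intro a ha b hb hab
    have : a ∈ L ⊓ Lg := ⟨ha, by rw [← hab]; exact hmemLg b hb⟩
    rw [hinf, mem_bot] at this
    exact this
  · intro a ha b hb
    obtain ⟨b', hb'def⟩ : ∃ b' : G, b' = MulAut.conj g b := ⟨_, rfl⟩
    rw [← hb'def]
    have hb' : b' ∈ Lg := by rw [hb'def]; exact hmemLg b hb
    have hc : a * b' * a⁻¹ * b'⁻¹ ∈ L ⊓ Lg := by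
      constructor
      · have : b' * a⁻¹ * b'⁻¹ ∈ L := (mem_normalizer_iff.1 (hNL (hLgle hb')) _).1 (L.inv_mem ha)
        have e : a * b' * a⁻¹ * b'⁻¹ = a * (b' * a⁻¹ * b'⁻¹) := by group
        rw [e]
        exact L.mul_mem ha this
      · have : a * b' * a⁻¹ ∈ Lg := (mem_normalizer_iff.1 (hNLg (hLle ha)) _).1 hb'
        exact Lg.mul_mem this (Lg.inv_mem hb')
    rw [hinf, mem_bot] at hc
    calc a * b' = (a * b' * a⁻¹ * b'⁻¹) * b' * a := by group
      _ = b' * a := by rw [hc, one_mul]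

/-- a nonabelian minimal normal subgroup meets the Fitting subgroup trivially -/
theorem fitting_inf_eq_bot {N : Subgroup G} (hN : IsMinNormal N)
    (hNc : ¬ ∀ a ∈ N, ∀ b ∈ N, a * b = b * a) : fittingSubgroup G ⊓ N = ⊥ := by
  obtain ⟨hNn, hN1, hNmin⟩ := hN
  have hn : (fittingSubgroup G ⊓ N).Normal := by
    have := hNn
    infer_instance
  rcases hNmin _ hn inf_le_right with h | h
  · exact h
  · exfalso
    have hle : N ≤ fittingSubgroup G := by rw [← h]; exact inf_le_left
    have hnil := Cfsg.Agent.Helper7.fittingSubgroup_isNilpotent (G := G)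
    have hsolF : Group.IsSolvable (fittingSubgroup G) := inferInstance
    have hsol : Group.IsSolvable N := Cfsg.Agent.Helper7.isSolvable_of_le hle hsolF
    have := hNn
    have hc := Cfsg.Agent.Helper1.minNormal_commutator_eq_bot N hN1 hsol
      (fun M hM hMN => hNmin M hM hMN)
    rw [commutator_eq_bot_iff_le_centralizer] at hc
    apply hNc
    intro a ha b hb
    exact (mem_centralizer_iff.1 (hc hb)) a ha

end CaseB

end Cfsg.Agent.Helper15.SidkiMin
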