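import Mathlib
import Cfsg.Agent.Helper15.SidkiMin3

set_option autoImplicit false
set_option linter.unusedSectionVars false

/-! # Minimal counterexample to Sidki's pair problem: the minimal normal subgroup is simple -/

namespace Cfsg.Agent.Helper15.SidkiMin

open Cfsg Subgroup
open Cfsg.Agent.Helper19 (IsMinNormal MinNormIn)

universe u

section Simple

variable {G : Type u} [Group G] [Finite G]

/-- Case B2: with `G = VN` and `C_G(N) = 1`, a minimal `N`-invariant subgroup of `N` is `N`. -/
theorem minNormIn_eq_of_sup_eq_top (hmin : MinG G) (hO : pCore 2 G = ⊥) {V : Subgroup G}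
    (hV : IsElementaryAbelian 2 V) (hS : IsSidkiPair V)
    {N : Subgroup G} (hN : IsMinNormal N) (hNc : ¬ ∀ a ∈ N, ∀ b ∈ N, a * b = b * a)
    (hVN : V ⊔ N = ⊤) (hCN : centralizer (N : Set G) = ⊥) {L : Subgroup G}
    (hL : MinNormIn N L) : L = N := by
  have : Fact (Nat.Prime 2) := ⟨Nat.prime_two⟩
  by_contra hLN
  have hFit := fitting_inf_eq_bot hN hNc
  have hNn := hN.1
  have hN1 := hN.2.1
  have hNmin := hN.2.2
  have hLle := hL.1
  have hL1 := hL.2.1
  have hNL := hL.2.2.1
  have hLsub : L.IsSubnormal := isSubnormal_of_le_normalizer hLle hNL hNn.isSubnormal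
  have hVL : ¬ V ≤ normalizer (L : Set G) := by
    intro h
    have htop : normalizer (L : Set G) = ⊤ := by
      rw [eq_top_iff, ← hVN]
      exact sup_le h hNL
    have hLn : L.Normal := normalizer_eq_top_iff.1 htop
    rcases hNmin L hLn hLle with h1 | h1
    · exact hL1 h1
    · exact hLN h1
  obtain ⟨v₀, hv₀V, hv₀L⟩ := SetLike.not_le_iff_exists.1 hVL
  have hLO : ∀ T₀ : Subgroup G, T₀ ≤ L → L ≤ normalizer (T₀ : Set G) → IsPGroup 2 T₀ →
      T₀ = ⊥ := fun T₀ h1 h2 h3 =>
    eq_bot_of_subnormal_two hO (isSubnormal_of_le_normalizer h1 h2 hLsub) h3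
  have hZL : ∀ z ∈ L, (∀ l ∈ L, z * l = l * z) → z = 1 := by
    obtain ⟨Z, hZ⟩ : ∃ Z : Subgroup G, Z = L ⊓ centralizer (L : Set G) := ⟨_, rfl⟩
    have hZle : Z ≤ L := by rw [hZ]; exact inf_le_left
    have hZmem : ∀ z, z ∈ Z ↔ z ∈ L ∧ ∀ l ∈ L, z * l = l * z := by
      intro z
      rw [hZ, mem_inf, mem_centralizer_iff]
      exact ⟨fun h => ⟨h.1, fun l hl => (h.2 l hl).symm⟩, fun h => ⟨h.1, fun l hl => (h.2 l hl).symm⟩⟩
    have hLZ : L ≤ normalizer (Z : Set G) := by
      intro l hl
      apply mem_normalizer_fintype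
      intro z hz
      have hz' := (hZmem z).1 hz
      apply (hZmem _).2
      refine ⟨L.mul_mem (L.mul_mem hl hz'.1) (L.inv_mem hl), fun l' hl' => ?_⟩
      have e := hz'.2 (l⁻¹ * l' * l) (L.mul_mem (L.mul_mem (L.inv_mem hl) hl') hl)
      calc l * z * l⁻¹ * l' = l * (z * (l⁻¹ * l' * l)) * l⁻¹ := by group
        _ = l * ((l⁻¹ * l' * l) * z) * l⁻¹ := by rw [e]
        _ = l' * (l * z * l⁻¹) := by group
    have hZsub : Z.IsSubnormal := isSubnormal_of_le_normalizer hZle hLZ hLsub
    have hZcomm : IsMulCommutative Z :=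
      ⟨⟨fun a b => Subtype.ext (((hZmem a.1).1 a.2).2 b.1 (hZle b.2))⟩⟩
    have hZnil : Group.IsNilpotent Z := Cfsg.Agent.Helper7.isNilpotent_of_isMulCommutative Z
    have hZF := Cfsg.Agent.Helper7.subnormal_nilpotent_le_fittingSubgroup hZsub hZnil
    have hZbot : Z = ⊥ := by
      rw [eq_bot_iff, ← hFit]
      exact le_inf hZF (hZle.trans hLle)
    intro z hz hzc
    have : z ∈ Z := (hZmem z).2 ⟨hz, hzc⟩
    rw [hZbot, mem_bot] at this
    exact this
  by_cases hV₁ : V ⊓ normalizer (L : Set G) = ⊥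
  · -- (ii) V acts regularly on the conjugates of L
    have hL2 : ¬ IsPGroup 2 L := fun h => hL1 (hLO L le_rfl le_normalizer h)
    rw [IsPGroup] at hL2
    push Not at hL2
    obtain ⟨⟨l, hl⟩, hlk⟩ := hL2
    obtain ⟨k, m, hm, hkm⟩ := Nat.exists_eq_two_pow_mul_odd (orderOf_pos l).ne'
    obtain ⟨x, hxdef⟩ : ∃ x, x = l ^ (2 ^ k) := ⟨_, rfl⟩
    have hxL : x ∈ L := by rw [hxdef]; exact L.pow_mem hl _
    have hxodd : Odd (orderOf x) := by
      have : orderOf (l ^ (2 ^ k)) = m := by
        rw [orderOf_pow' l (pow_ne_zero k two_ne_zero), hkm, Nat.gcd_eq_right (Dvd.intro _ rfl),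
          Nat.mul_div_cancel_left m (pow_pos two_pos k)]
      rw [hxdef, this]
      exact hm
    have hx1 : x ≠ 1 := by
      intro h
      apply hlk k
      apply Subtype.ext
      rw [Subgroup.coe_pow, Subgroup.coe_one, ← hxdef]
      exact h
    obtain ⟨y, hydef⟩ : ∃ y, y = MulAut.conj v₀ x := ⟨_, rfl⟩
    obtain ⟨hdis, hcomm⟩ := minNormIn_conj_disjoint hNn hL hv₀L
    have hxy : x⁻¹ * y = y * x⁻¹ := by
      rw [hydef]
      exact hcomm x⁻¹ (L.inv_mem hxL) x hxL
    have hyodd : Odd (orderOf y) := by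
      rw [hydef, MulEquiv.orderOf_eq]
      exact hxodd
    have hhodd : Odd (orderOf (x⁻¹ * y)) :=
      odd_orderOf_mul hxy (by rw [orderOf_inv]; exact hxodd) hyodd
    have hv₀y : MulAut.conj v₀ y = x := by
      rw [hydef, ← conj_conj, ea_sq hV hv₀V, map_one]
      rfl
    have hhinv : v₀ * (x⁻¹ * y) * v₀⁻¹ = (x⁻¹ * y)⁻¹ := by
      rw [← MulAut.conj_apply, map_mul, map_inv, hv₀y, ← hydef, mul_inv_rev, inv_inv]
    obtain ⟨w, hw, hw1, hwc⟩ := hS (x⁻¹ * y) v₀ hv₀V hhodd hhinv
    have hwL : w ∉ normalizer (L : Set G) := by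
      intro h
      have : w ∈ V ⊓ normalizer (L : Set G) := ⟨hw, h⟩
      rw [hV₁, mem_bot] at this
      exact hw1 this
    by_cases hwv : w * v₀ ∈ normalizer (L : Set G)
    · have hwv1 : w * v₀ ∈ V ⊓ normalizer (L : Set G) := ⟨V.mul_mem hw hv₀V, hwv⟩
      rw [hV₁, mem_bot] at hwv1
      have hwv₀ : w = v₀ := by
        have : w = v₀⁻¹ := eq_inv_of_mul_eq_one_left hwv1
        rw [this, ea_inv hV hv₀V]
      rw [hwv₀] at hwc
      have h1 := eq_one_of_inverts_of_commutes hhodd hhinv hwc
      have hyx : x = y := inv_mul_eq_one.1 h1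
      exact hx1 (hdis x hxL x hxL (by rw [← hydef, ← hyx]))
    · obtain ⟨-, hcomm1⟩ := minNormIn_conj_disjoint hNn hL hwL
      obtain ⟨-, hcomm2⟩ := minNormIn_conj_disjoint hNn hL hwv
      have e1 : MulAut.conj w (x⁻¹ * y) = x⁻¹ * y := conj_eq_of_commute hwc
      have e2 : MulAut.conj w (x⁻¹ * y) =
          (MulAut.conj w x)⁻¹ * MulAut.conj (w * v₀) x := by
        rw [map_mul, map_inv, hydef, ← conj_conj]
      apply hx1
      apply hZL x hxL
      intro l hl
      have c1 : Commute l (MulAut.conj w x) := hcomm1 l hl x hxL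
      have c2 : Commute l (MulAut.conj (w * v₀) x) := hcomm2 l hl x hxL
      have c3 : Commute l y := by
        rw [hydef]
        exact hcomm l hl x hxL
      have c4 : Commute l (x⁻¹ * y) := by
        rw [← e1, e2]
        exact (Commute.inv_right c1).mul_right c2
      have c5 : Commute l x⁻¹ := by
        have e : x⁻¹ = (x⁻¹ * y) * y⁻¹ := by group
        rw [e]
        exact c4.mul_right c3.inv_right
      have c6 : Commute l x := by
        have := c5.inv_right
        rwa [inv_inv] at this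
      exact c6.eq.symm
  · -- (i) the stabilizer `V₁` of `L` is a Sidki pair on `L V₁`
    have hne : L ⊔ (V ⊓ normalizer (L : Set G)) ≠ ⊤ := by
      intro h
      apply hVL
      have : normalizer (L : Set G) = ⊤ := by
        rw [eq_top_iff, ← h]
        exact sup_le le_normalizer inf_le_right
      rw [this]
      exact le_top
    obtain ⟨y, hyV₁, hy1, hyc⟩ := exists_centralizing hmin hV (N₀ := L)
      (X := V ⊓ normalizer (L : Set G)) inf_le_left hV₁ inf_le_right hne hLO (by
        intro h hh x hx hodd hinv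
        by_cases hh1 : h = 1
        · obtain ⟨⟨w, hw⟩, hw1⟩ := (Subgroup.ne_bot_iff_exists_ne_one).1 hV₁
          exact ⟨w, hw, fun e => hw1 (Subtype.ext e), by rw [hh1, mul_one, one_mul]⟩
        · obtain ⟨w, hw, hw1, hwc⟩ := hS h x hx.1 hodd hinv
          refine ⟨w, ⟨hw, ?_⟩, hw1, hwc⟩
          by_contra hwL
          obtain ⟨hdis, -⟩ := minNormIn_conj_disjoint hNn hL hwL
          exact hh1 (hdis h hh h hh (conj_eq_of_commute hwc)))
    have hyN : y ∈ centralizer (N : Set G) := by
      have hJ : normalClosure (L : Set G) = N := by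
        have := hNn
        rcases hNmin (normalClosure (L : Set G)) inferInstance (normalClosure_le_normal hLle)
          with h | h
        · exfalso
          apply hL1
          rw [eq_bot_iff, ← h]
          exact le_normalClosure
        · exact h
      have hle : normalClosure (L : Set G) ≤ centralizer ({y} : Set G) := by
        rw [normalClosure, closure_le]
        intro a ha
        rw [Group.mem_conjugatesOfSet_iff] at ha
        obtain ⟨b, hb, hba⟩ := ha
        rw [isConj_iff] at hba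
        obtain ⟨c, rfl⟩ := hba
        have hct : c ∈ V ⊔ N := by rw [hVN]; trivial
        have := hNn
        obtain ⟨v, hv, n, hn, rfl⟩ := mem_sup_of_normal_right.1 hct
        rw [SetLike.mem_coe, mem_centralizer_iff]
        intro z hz
        rw [Set.mem_singleton_iff.1 hz]
        have hb' : n * b * n⁻¹ ∈ L := (mem_normalizer_iff.1 (hNL hn) b).1 hb
        have c1 : Commute y (n * b * n⁻¹) := hyc _ hb'
        have c2 : Commute y v := ea_comm hV hyV₁.1 hv
        have e : v * n * b * (v * n)⁻¹ = v * (n * b * n⁻¹) * v⁻¹ := by group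
        rw [e]
        exact ((c2.mul_right c1).mul_right c2.inv_right).eq
      rw [mem_centralizer_iff]
      intro n hn
      have hn' : n ∈ centralizer ({y} : Set G) := hle (by rw [hJ]; exact hn)
      exact ((mem_centralizer_iff.1 hn') y rfl).symm
    rw [hCN, mem_bot] at hyN
    exact hy1 hyN

end Simple

end Cfsg.Agent.Helper15.SidkiMin
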