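import Mathlib
import Cfsg.Agent.Helper15.Holo
import Cfsg.Agent.Helper15.CL2
import Cfsg.Agent.Helper14.Irreducible2
import Cfsg.Agent.S0093
import Cfsg.Agent.S0121

set_option autoImplicit false
set_option linter.unusedSectionVars false
set_option linter.style.haveILetI false

/-! S1949: the power map on a subgroup with central Frattini subgroup. -/

namespace Cfsg.Agent.Helper15

open Subgroup
open scoped commutatorElement

variable {P : Type*} [Group P] {p : ℕ} [Fact p.Prime]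

/-- in a finite `p`-subgroup `C` whose Frattini subgroup is central, the `p`-th power map (the
fourth power map if `p = 2`) is an endomorphism -/
theorem mul_pow_of_frattini_central (C : Subgroup P) [Finite C] (hC : IsPGroup p C)
    (hΦ : (frattini ↥C).map C.subtype ≤ centralizer (C : Set P)) :
    ∀ x ∈ C, ∀ y ∈ C, (x * y) ^ (if p = 2 then 4 else p) = x ^ (if p = 2 then 4 else p) *
      y ^ (if p = 2 then 4 else p) := by
  have hp := (Fact.out : p.Prime)
  have hcommΦ : ∀ x ∈ C, ∀ y ∈ C, y⁻¹ * x⁻¹ * y * x ∈ (frattini ↥C).map C.subtype := by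
    intro x hx y hy
    have h1 : ⁅(⟨y, hy⟩ : C)⁻¹, (⟨x, hx⟩ : C)⁻¹⁆ ∈ frattini ↥C :=
      Cfsg.Agent.Helper1.IsPGroup.commutator_le_frattini hC
        (Subgroup.commutator_mem_commutator (mem_top _) (mem_top _))
    refine ⟨_, h1, ?_⟩
    simp [commutatorElement_def]
  have hpowΦ : ∀ x ∈ C, x ^ p ∈ (frattini ↥C).map C.subtype := by
    intro x hx
    have h1 : (⟨x, hx⟩ : C) ^ p ∈ frattini ↥C := Cfsg.Agent.Helper1.IsPGroup.pow_mem_frattini hC _
    exact ⟨_, h1, by simp⟩
  have hcentral : ∀ d ∈ (frattini ↥C).map C.subtype, ∀ x ∈ C, Commute d x := by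
    intro d hd x hx
    exact (mem_centralizer_iff.mp (hΦ hd) x hx).symm
  have hcp : ∀ x ∈ C, ∀ y ∈ C, (y⁻¹ * x⁻¹ * y * x) ^ p = 1 := by
    intro x hx y hy
    obtain ⟨c, hc⟩ : ∃ c, c = y⁻¹ * x⁻¹ * y * x := ⟨_, rfl⟩
    rw [← hc]
    have hcΦ : c ∈ (frattini ↥C).map C.subtype := hc ▸ hcommΦ x hx y hy
    have hcy : Commute c y := hcentral c hcΦ y hy
    have h1 : x⁻¹ * y * x = y * c := by rw [hc]; group
    have h2 : (x⁻¹ * y * x) ^ p = x⁻¹ * y ^ p * x := by
      have := (MulAut.conj x⁻¹).toMonoidHom.map_pow y p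
      simpa [MulAut.conj_apply] using this.symm
    have h3 : Commute (y ^ p) x := hcentral _ (hpowΦ y hy) x hx
    have h4 : x⁻¹ * y ^ p * x = y ^ p := by
      calc x⁻¹ * y ^ p * x = x⁻¹ * (y ^ p * x) := by group
        _ = x⁻¹ * (x * y ^ p) := by rw [h3.eq]
        _ = y ^ p := by group
    have h5 : (y * c) ^ p = y ^ p * c ^ p := (hcy.symm).mul_pow p
    rw [h1, h5, h4] at h2
    exact mul_left_cancel (a := y ^ p) (by rw [h2, mul_one])
  intro x hx y hy
  obtain ⟨e, he⟩ : ∃ e : ℕ, e = if p = 2 then 4 else p := ⟨_, rfl⟩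
  rw [← he]
  obtain ⟨c, hc⟩ : ∃ c, c = y⁻¹ * x⁻¹ * y * x := ⟨_, rfl⟩
  have hcΦ : c ∈ (frattini ↥C).map C.subtype := hc ▸ hcommΦ x hx y hy
  have hcpow : c ^ p = 1 := hc ▸ hcp x hx y hy
  have hyx : y * x = x * y * c := by rw [hc]; group
  have key := Cfsg.Agent.Helper23.mul_pow_of_central_comm x y c hyx
    (hcentral c hcΦ x hx) (hcentral c hcΦ y hy) e
  rw [key]
  have : c ^ (e * (e - 1) / 2) = 1 := by
    by_cases hp2 : p = 2
    · rw [he, if_pos hp2]
      rw [hp2] at hcpow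
      have : (4 * (4 - 1) / 2 : ℕ) = 2 * 3 := by norm_num
      rw [this, pow_mul, hcpow, one_pow]
    · rw [he, if_neg hp2]
      obtain ⟨k, hk⟩ := hp.odd_of_ne_two hp2
      have : p * (p - 1) / 2 = p * k := by
        have : p - 1 = 2 * k := by omega
        rw [this, ← mul_assoc, mul_comm p 2, mul_assoc, Nat.mul_div_cancel_left _ (by norm_num)]
      rw [this, pow_mul, hcpow, one_pow]
  rw [this, mul_one]

end Cfsg.Agent.Helper15
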