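import Mathlib
import Cfsg.Agent.Lead.CoprimeAbelian
import Cfsg.Agent.Helper23.Cyclic

set_option autoImplicit false

/-! S3075: `p² : SL₂(p)` splits (p odd, `A` self-centralizing). -/

namespace Cfsg.Agent.Helper15

open Subgroup
open scoped commutatorElement

variable {N : Type*} [Group N]

/-- The commutator of two elements centralizes a normal subgroup of prime order. -/
theorem commutator_mem_centralizer_of_normal_prime_card (B : Subgroup N) [hBn : B.Normal]
    (hB : (Nat.card B).Prime) (n m : N) : n * m * n⁻¹ * m⁻¹ ∈ centralizer (B : Set N) := by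
  have hf : Fact (Nat.card B).Prime := ⟨hB⟩
  have hcyc : IsCyclic B := isCyclic_of_prime_card (α := B) rfl
  obtain ⟨b₀, hb₀⟩ := IsCyclic.exists_generator (α := B)
  have key : ∀ g : N, ∃ i : ℤ, ∀ y ∈ B, g * y * g⁻¹ = y ^ i := by
    intro g
    have h1 : g * (b₀ : N) * g⁻¹ ∈ B := hBn.conj_mem _ b₀.2 g
    obtain ⟨i, hi⟩ := mem_zpowers_iff.mp (hb₀ ⟨g * (b₀ : N) * g⁻¹, h1⟩)
    have hi' : (b₀ : N) ^ i = g * (b₀ : N) * g⁻¹ := by
      have := congrArg Subtype.val hi
      simpa using this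
    refine ⟨i, ?_⟩
    intro y hy
    obtain ⟨k, hk⟩ := mem_zpowers_iff.mp (hb₀ ⟨y, hy⟩)
    have hk' : (b₀ : N) ^ k = y := by
      have := congrArg Subtype.val hk
      simpa using this
    rw [← hk']
    have h2 : g * (b₀ : N) ^ k * g⁻¹ = (g * (b₀ : N) * g⁻¹) ^ k := by
      have := map_zpow (MulAut.conj g) (b₀ : N) k
      simpa using this
    rw [h2, ← hi', ← zpow_mul, ← zpow_mul, mul_comm]
  obtain ⟨i, hi⟩ := key n
  obtain ⟨j, hj⟩ := key m
  have hswap : ∀ y ∈ B, (n * m) * y * (n * m)⁻¹ = (m * n) * y * (m * n)⁻¹ := by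
    intro y hy
    have h1 : (n * m) * y * (n * m)⁻¹ = n * (m * y * m⁻¹) * n⁻¹ := by group
    have h2 : (m * n) * y * (m * n)⁻¹ = m * (n * y * n⁻¹) * m⁻¹ := by group
    rw [h1, h2, hj y hy, hi y hy, hi _ (B.zpow_mem hy j), hj _ (B.zpow_mem hy i),
      ← zpow_mul, ← zpow_mul, mul_comm]
  rw [mem_centralizer_iff]
  intro y hy
  have hy' : (m * n)⁻¹ * y * (m * n) ∈ B := by
    have := hBn.conj_mem y hy (m * n)⁻¹
    simpa using this
  have h3 := hswap _ hy'
  have h4 : (m * n) * ((m * n)⁻¹ * y * (m * n)) * (m * n)⁻¹ = y := by group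
  rw [h4] at h3
  -- h3 : (n*m) * ((m*n)⁻¹ * y * (m*n)) * (n*m)⁻¹ = y
  have h5 : (n * m * n⁻¹ * m⁻¹) * y * (n * m * n⁻¹ * m⁻¹)⁻¹ = y := by
    have : (n * m * n⁻¹ * m⁻¹) * y * (n * m * n⁻¹ * m⁻¹)⁻¹ =
        (n * m) * ((m * n)⁻¹ * y * (m * n)) * (n * m)⁻¹ := by group
    rw [this, h3]
  calc y * (n * m * n⁻¹ * m⁻¹) = ((n * m * n⁻¹ * m⁻¹) * y * (n * m * n⁻¹ * m⁻¹)⁻¹) *
      (n * m * n⁻¹ * m⁻¹) := by rw [h5]
    _ = n * m * n⁻¹ * m⁻¹ * y := by group

/-- `SL₂(F)` is not commutative. -/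
theorem sl2_not_comm (F : Type*) [Field F] :
    ∃ u l : Matrix.SpecialLinearGroup (Fin 2) F, u * l ≠ l * u := by
  let u : Matrix.SpecialLinearGroup (Fin 2) F := ⟨!![1, 1; 0, 1], by simp [Matrix.det_fin_two]⟩
  let l : Matrix.SpecialLinearGroup (Fin 2) F := ⟨!![1, 0; 1, 1], by simp [Matrix.det_fin_two]⟩
  refine ⟨u, l, ?_⟩
  intro h
  have h1 : ((u * l : Matrix.SpecialLinearGroup (Fin 2) F) : Matrix (Fin 2) (Fin 2) F) 0 0 =
      ((l * u : Matrix.SpecialLinearGroup (Fin 2) F) : Matrix (Fin 2) (Fin 2) F) 0 0 := by rw [h]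
  rw [Matrix.SpecialLinearGroup.coe_mul, Matrix.SpecialLinearGroup.coe_mul] at h1
  simp [u, l, Matrix.mul_apply, Fin.sum_univ_two] at h1

/-- S3075. -/
theorem exists_complement_of_sl2 [Finite N] {p : ℕ} [Fact p.Prime] (hp : p ≠ 2)
    (A : Subgroup N) [hAn : A.Normal] (hAcomm : IsMulCommutative A) (hAcard : Nat.card A = p ^ 2)
    (hAexp : Monoid.exponent ↥A = p) (hAself : centralizer (A : Set N) = A)
    {F : Type*} [Field F] [Fintype F] (hF : Fintype.card F = p)
    (e : N ⧸ A ≃* Matrix.SpecialLinearGroup (Fin 2) F) :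
    ∃ U : Subgroup N, A ⊓ U = ⊥ ∧ A ⊔ U = ⊤ := by
  have hpp : p.Prime := Fact.out
  have hpodd : Odd p := hpp.odd_of_ne_two hp
  -- 2 ≠ 0 in F
  have h2F : (2 : F) ≠ 0 := by
    intro h
    have h1 : addOrderOf (1 : F) ∣ 2 := by
      apply addOrderOf_dvd_of_nsmul_eq_zero
      rw [nsmul_eq_mul, mul_one]; exact_mod_cast h
    have h2 : addOrderOf (1 : F) ∣ p := by
      have := addOrderOf_dvd_card (x := (1 : F))
      rwa [hF] at this
    have h3 : addOrderOf (1 : F) ∣ Nat.gcd 2 p := Nat.dvd_gcd h1 h2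
    have h4 : Nat.gcd 2 p = 1 := by
      have : Nat.Coprime 2 p := (Nat.coprime_primes Nat.prime_two hpp).mpr (Ne.symm hp)
      exact this
    rw [h4, Nat.dvd_one, AddMonoid.addOrderOf_eq_one_iff] at h3
    exact one_ne_zero h3
  -- the central involution of SL₂
  set zneg : Matrix.SpecialLinearGroup (Fin 2) F := -1 with hzneg
  have hzneg1 : zneg ≠ 1 := by
    intro h
    have h1 : ((zneg : Matrix.SpecialLinearGroup (Fin 2) F) : Matrix (Fin 2) (Fin 2) F) 0 0 =
        ((1 : Matrix.SpecialLinearGroup (Fin 2) F) : Matrix (Fin 2) (Fin 2) F) 0 0 := by rw [h]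
    rw [hzneg, Matrix.SpecialLinearGroup.coe_neg] at h1
    simp at h1
    apply h2F
    have h3 : (1 : F) + 1 = 0 := by linear_combination (-1 : F) * h1
    have h4 : (2 : F) = 1 + 1 := by norm_num
    rw [h4]; exact h3
  have hznegsq : zneg * zneg = 1 := by rw [hzneg]; simp
  have hznegc : ∀ g, zneg * g = g * zneg := by
    intro g; rw [hzneg]; simp
  set zb : N ⧸ A := e.symm zneg with hzb
  have hzb1 : zb ≠ 1 := by
    intro h
    apply hzneg1
    have := congrArg e h
    rwa [hzb, e.apply_symm_apply, map_one] at this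
  have hzbsq : zb * zb = 1 := by
    rw [hzb, ← map_mul, hznegsq, map_one]
  have hzbc : ∀ g, zb * g = g * zb := by
    intro g
    apply e.injective
    rw [map_mul, map_mul, hzb, e.apply_symm_apply]
    exact hznegc _
  obtain ⟨s, hs⟩ := QuotientGroup.mk_surjective zb
  obtain ⟨k, hk⟩ := hpodd
  set t : N := s ^ p with ht
  have hmkt : (QuotientGroup.mk t : N ⧸ A) = zb := by
    rw [ht, QuotientGroup.mk_pow, hs, hk, pow_succ, pow_mul]
    have : zb ^ 2 = 1 := by rw [pow_two]; exact hzbsq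
    rw [this, one_pow, one_mul]
  have hs2 : s ^ 2 ∈ A := by
    rw [← QuotientGroup.eq_one_iff, QuotientGroup.mk_pow, hs, pow_two]
    exact hzbsq
  have hApow : ∀ a ∈ A, a ^ p = 1 := by
    intro a ha
    have := Monoid.pow_exponent_eq_one (⟨a, ha⟩ : A)
    rw [hAexp] at this
    have h2 := congrArg Subtype.val this
    simpa using h2
  have htsq : t * t = 1 := by
    rw [ht, ← pow_add, ← two_mul, pow_mul]
    exact hApow _ hs2
  have htA : t ∉ A := by
    intro h
    apply hzb1
    rw [← hmkt]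
    exact (QuotientGroup.eq_one_iff t).mpr h
  have ht1 : t ≠ 1 := fun h => htA (h ▸ A.one_mem)
  have htinv : t⁻¹ = t := inv_eq_of_mul_eq_one_left htsq
  have hordt : orderOf t = 2 := orderOf_eq_prime (by rw [pow_two]; exact htsq) ht1
  set T : Subgroup N := zpowers t with hT
  have hTcard : Nat.card T = 2 := by rw [hT, Nat.card_zpowers, hordt]
  have hTA : T ≤ normalizer (A : Set N) := by rw [normalizer_eq_top A]; exact le_top
  have hcop : (Nat.card T).Coprime (Nat.card A) := by
    rw [hTcard, hAcard]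
    exact Nat.Coprime.pow_right 2 ((Nat.coprime_primes Nat.prime_two hpp).mpr (Ne.symm hp))
  obtain ⟨hinf, hsup⟩ := Cfsg.Agent.Lead.coprime_abelian_decomp T A hTA hcop
  have hcentT : centralizer ((T : Subgroup N) : Set N) = centralizer ({t} : Set N) := by
    rw [hT, zpowers_eq_closure, centralizer_closure]
  set B₁ : Subgroup N := A ⊓ centralizer ((T : Subgroup N) : Set N) with hB₁
  set B₂ : Subgroup N := ⁅A, T⁆ with hB₂
  have hB₂A : B₂ ≤ A := Cfsg.Agent.Lead.commutator_le_of_le_normalizer hTA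
  have hAcommel : ∀ a ∈ A, ∀ b ∈ A, a * b = b * a := by
    intro a ha b hb
    have := hAcomm.is_comm.comm (⟨a, ha⟩ : A) ⟨b, hb⟩
    exact congrArg Subtype.val this
  -- conjugates of elements of T
  have hconjT : ∀ n : N, ∀ τ ∈ T, ∃ a ∈ A, n * τ * n⁻¹ = a * τ := by
    intro n τ hτ
    refine ⟨n * τ * n⁻¹ * τ⁻¹, ?_, by group⟩
    rw [← QuotientGroup.eq_one_iff]
    obtain ⟨j, rfl⟩ := mem_zpowers_iff.mp hτ
    simp only [QuotientGroup.mk_mul, QuotientGroup.mk_inv, QuotientGroup.mk_zpow, hmkt]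
    have hc : Commute zb (QuotientGroup.mk n : N ⧸ A) := hzbc _
    have := (hc.zpow_left j).eq
    rw [← this]; group
  -- B₁ is normal
  have hB₁n : B₁.Normal := by
    constructor
    intro b hb n
    refine ⟨hAn.conj_mem b hb.1 n, ?_⟩
    show n * b * n⁻¹ ∈ centralizer ((T : Subgroup N) : Set N)
    rw [hcentT, mem_centralizer_singleton_iff]
    have hbt : b * t = t * b := by
      have : b ∈ centralizer ({t} : Set N) := hcentT ▸ hb.2
      exact mem_centralizer_singleton_iff.mp this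
    obtain ⟨a, ha, hat⟩ := hconjT n⁻¹ t (mem_zpowers t)
    -- n⁻¹ t n = a t
    have hat' : n⁻¹ * t * n = a * t := by simpa using hat
    have hba : b * a = a * b := hAcommel b hb.1 a ha
    have h1 : b * (n⁻¹ * t * n) = (n⁻¹ * t * n) * b := by
      rw [hat']
      calc b * (a * t) = (b * a) * t := by group
        _ = a * (b * t) := by rw [hba]; group
        _ = a * t * b := by rw [hbt]; group
    calc n * b * n⁻¹ * t = n * (b * (n⁻¹ * t * n)) * n⁻¹ := by group
      _ = n * ((n⁻¹ * t * n) * b) * n⁻¹ := by rw [h1]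
      _ = t * (n * b * n⁻¹) := by group
  -- B₂ is normal
  have hB₂n : B₂.Normal := by
    constructor
    intro x hx n
    have hle : B₂ ≤ B₂.comap (MulAut.conj n).toMonoidHom := by
      rw [hB₂, commutator_le]
      intro b hb τ hτ
      rw [mem_comap]
      obtain ⟨a, ha, haτ⟩ := hconjT n τ hτ
      have hb' : n * b * n⁻¹ ∈ A := hAn.conj_mem b hb n
      have hτb : τ * (n * b * n⁻¹)⁻¹ * τ⁻¹ ∈ A := by
        have hτn : τ ∈ normalizer (A : Set N) := hTA hτ
        exact (mem_normalizer_iff.mp hτn _).mp (A.inv_mem hb')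
      have hcA : (n * b * n⁻¹) * (τ * (n * b * n⁻¹)⁻¹ * τ⁻¹) ∈ A := A.mul_mem hb' hτb
      have hcomm := hAcommel a ha _ hcA
      have e1 : (MulAut.conj n).toMonoidHom ⁅b, τ⁆ = ⁅n * b * n⁻¹, n * τ * n⁻¹⁆ := by
        simp only [commutatorElement_def, MulEquiv.toMonoidHom_eq_coe, MonoidHom.coe_coe,
          MulAut.conj_apply]
        group
      rw [e1, haτ, commutatorElement_def]
      have e2 : n * b * n⁻¹ * (a * τ) * (n * b * n⁻¹)⁻¹ * (a * τ)⁻¹ =
          (n * b * n⁻¹ * a * (n * b * n⁻¹)⁻¹) *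
            ((n * b * n⁻¹) * (τ * (n * b * n⁻¹)⁻¹ * τ⁻¹)) * a⁻¹ := by group
      have e3 : n * b * n⁻¹ * a * (n * b * n⁻¹)⁻¹ = a := by
        rw [hAcommel _ hb' a ha]; group
      rw [e2, e3, hcomm]
      have e4 : (n * b * n⁻¹) * (τ * (n * b * n⁻¹)⁻¹ * τ⁻¹) * a * a⁻¹ = ⁅n * b * n⁻¹, τ⁆ := by
        rw [commutatorElement_def]; group
      rw [e4]
      exact commutator_mem_commutator hb' hτ
    have := hle hx
    rw [mem_comap] at this
    simpa using this
  -- B₁ = ⊥
  have hB₁bot : B₁ = ⊥ := by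
    by_contra hne
    have hB₁A : B₁ ≠ A := by
      intro h
      apply htA
      have h1 : A ≤ centralizer ((T : Subgroup N) : Set N) := by
        rw [← h]; exact inf_le_right
      have h2 : T ≤ centralizer (A : Set N) := le_centralizer_iff.mp h1
      rw [hAself] at h2
      exact h2 (mem_zpowers t)
    have hd1 : Nat.card B₁ ∣ p ^ 2 := hAcard ▸ card_dvd_of_le inf_le_left
    have hcomm12 : ∀ a ∈ B₁, ∀ b ∈ B₂, a * b = b * a :=
      fun a ha b hb => hAcommel a ha.1 b (hB₂A hb)
    have hmul : Nat.card B₁ * Nat.card B₂ = p ^ 2 := by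
      rw [← Cfsg.Agent.Helper23.card_sup_of_commute_of_disjoint B₁ B₂ hcomm12 hinf, hsup, hAcard]
    obtain ⟨i, hi, hci⟩ := (Nat.dvd_prime_pow hpp).mp hd1
    have hi0 : i ≠ 0 := by
      rintro rfl
      rw [pow_zero, card_eq_one] at hci
      exact hne hci
    have hi2 : i ≠ 2 := by
      rintro rfl
      apply hB₁A
      apply eq_of_le_of_card_ge inf_le_left
      rw [hci, hAcard]
    have hi1 : i = 1 := by omega
    rw [hi1, pow_one] at hci
    have hc2 : Nat.card B₂ = p := by
      rw [hci, pow_two] at hmul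
      exact Nat.eq_of_mul_eq_mul_left hpp.pos hmul
    -- N/A is commutative
    have hcomm : ∀ n m : N, n * m * n⁻¹ * m⁻¹ ∈ A := by
      intro n m
      have h1 := commutator_mem_centralizer_of_normal_prime_card B₁ (hci ▸ hpp) n m
      have h2 := commutator_mem_centralizer_of_normal_prime_card B₂ (hc2 ▸ hpp) n m
      rw [← hAself, ← hsup]
      rw [mem_centralizer_iff]
      intro y hy
      have hy' : y ∈ closure ((B₁ : Set N) ∪ (B₂ : Set N)) := by
        rw [Subgroup.closure_union, closure_eq, closure_eq]; exact hy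
      have hcen : closure ((B₁ : Set N) ∪ (B₂ : Set N)) ≤
          centralizer ({n * m * n⁻¹ * m⁻¹} : Set N) := by
        rw [closure_le]
        rintro w (hw | hw)
        · exact mem_centralizer_singleton_iff.mpr ((mem_centralizer_iff.mp h1 w hw))
        · exact mem_centralizer_singleton_iff.mpr ((mem_centralizer_iff.mp h2 w hw))
      exact (mem_centralizer_singleton_iff.mp (hcen hy'))
    obtain ⟨u, l, hul⟩ := sl2_not_comm F
    apply hul
    obtain ⟨n, hn⟩ := QuotientGroup.mk_surjective (e.symm u)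
    obtain ⟨m, hm⟩ := QuotientGroup.mk_surjective (e.symm l)
    have h3 : (QuotientGroup.mk n : N ⧸ A) * QuotientGroup.mk m =
        QuotientGroup.mk m * QuotientGroup.mk n := by
      have h4 : (QuotientGroup.mk (n * m * n⁻¹ * m⁻¹) : N ⧸ A) = 1 :=
        (QuotientGroup.eq_one_iff _).mpr (hcomm n m)
      simp only [QuotientGroup.mk_mul, QuotientGroup.mk_inv] at h4
      calc (QuotientGroup.mk n : N ⧸ A) * QuotientGroup.mk m =
          ((QuotientGroup.mk n : N ⧸ A) * QuotientGroup.mk m * (QuotientGroup.mk n)⁻¹ *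
            (QuotientGroup.mk m)⁻¹) * (QuotientGroup.mk m * QuotientGroup.mk n) := by group
        _ = QuotientGroup.mk m * QuotientGroup.mk n := by rw [h4, one_mul]
    rw [hn, hm] at h3
    have := congrArg e h3
    simpa using this
  -- t inverts A
  have hinv : ∀ a ∈ A, t * a * t⁻¹ = a⁻¹ := by
    intro a ha
    have hta : t * a * t⁻¹ ∈ A := hAn.conj_mem a ha t
    have h1 : a * (t * a * t⁻¹) ∈ B₁ := by
      refine ⟨A.mul_mem ha hta, ?_⟩
      show a * (t * a * t⁻¹) ∈ centralizer ((T : Subgroup N) : Set N)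
      rw [hcentT, mem_centralizer_singleton_iff]
      have h2 : a * (t * a * t⁻¹) = (t * a * t⁻¹) * a := hAcommel a ha _ hta
      have h3 : t * t * a = a * (t * t) := by rw [htsq]; group
      calc a * (t * a * t⁻¹) * t = (t * a * t⁻¹) * a * t := by rw [h2]
        _ = t * a * t⁻¹ * a * t := by group
        _ = t * (a * (t * a * t⁻¹)) := by
            rw [htinv]
            calc t * a * t * a * t = t * a * (t * a * t) := by group
              _ = t * (a * (t * a * t)) := by group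
    rw [hB₁bot, mem_bot] at h1
    exact (eq_inv_of_mul_eq_one_right h1)
  refine ⟨centralizer ({t} : Set N), ?_, ?_⟩
  · rw [← hcentT]; exact hB₁bot
  · rw [eq_top_iff]
    intro n _
    obtain ⟨a, ha, hat⟩ := hconjT n t (mem_zpowers t)
    -- c = a^(k+1), c^2 = a
    set c : N := a ^ (k + 1) with hc
    have hcA : c ∈ A := A.pow_mem ha _
    have hc2 : c * c = a := by
      rw [hc, ← pow_add]
      have : k + 1 + (k + 1) = p + 1 := by omega
      rw [this, pow_succ, hApow a ha, one_mul]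
    have hct : c * t * c⁻¹ = a * t := by
      have h1 : t * c⁻¹ * t⁻¹ = c := by
        have := hinv c⁻¹ (A.inv_mem hcA)
        rw [inv_inv] at this
        exact this
      calc c * t * c⁻¹ = c * (t * c⁻¹ * t⁻¹) * t := by group
        _ = c * c * t := by rw [h1]
        _ = a * t := by rw [hc2]
    have hmem : c⁻¹ * n ∈ centralizer ({t} : Set N) := by
      rw [mem_centralizer_singleton_iff]
      have h2 : n * t * n⁻¹ = c * t * c⁻¹ := by rw [hat, hct]
      calc c⁻¹ * n * t = c⁻¹ * (n * t * n⁻¹) * n := by group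
        _ = c⁻¹ * (c * t * c⁻¹) * n := by rw [h2]
        _ = t * (c⁻¹ * n) := by group
    have : n = c * (c⁻¹ * n) := by group
    rw [this]
    exact mul_mem (mem_sup_left hcA) (mem_sup_right hmem)

end Cfsg.Agent.Helper15
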