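import Cfsg.Agent.Helper3.SubnormalFamily
import Cfsg.Agent.Helper3.SylowSubnormal
import Cfsg.Agent.Helper7.Components
import Cfsg.Agent.Helper7.Layer
import Cfsg.Agent.Helper14.Irreducible2
import Cfsg.Agent.Helper14.Subnormal2
import Cfsg.Agent.Helper19.Subnormal

/-! # Sylow subgroups of joins of subnormal subgroups (towards S3028) -/

set_option autoImplicit false
set_option linter.unusedSectionVars false
set_option linter.style.haveILetI false

namespace Cfsg.Agent.Helper15.SubnSylow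

open Cfsg Cfsg.Agent.Helper14
open scoped commutatorElement

universe u

section NC
variable {G : Type*} [Group G] [Finite G] {p : ℕ} [Fact p.Prime]

/-- normal case: `S ∩ AN = (S ∩ A)(S ∩ N)` for `A` subnormal, `N` normal -/
theorem sup_normal_inf_sylow (S : Sylow p G) (A N : Subgroup G) (hA : A.IsSubnormal)
    [hN : N.Normal] :
    (A ⊔ N) ⊓ (S : Subgroup G) = (A ⊓ (S : Subgroup G)) ⊔ (N ⊓ (S : Subgroup G)) := by
  have hpp : p.Prime := Fact.out
  symm
  apply Subgroup.eq_of_le_of_card_ge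
  · exact sup_le (inf_le_inf_right _ le_sup_left) (inf_le_inf_right _ le_sup_right)
  · have hAN : (A ⊔ N).IsSubnormal :=
      Cfsg.Agent.Helper3.subnormal_sup hA (Subgroup.Normal.isSubnormal hN)
    have hAiN : (A ⊓ N).IsSubnormal := hA.inf (Subgroup.Normal.isSubnormal hN)
    have c1 := Cfsg.Agent.Helper3.card_sylow_inf_subnormal S A hA
    have c2 := Cfsg.Agent.Helper3.card_sylow_inf_normal S N
    have c3 := Cfsg.Agent.Helper3.card_sylow_inf_subnormal S (A ⊔ N) hAN
    have c4 := Cfsg.Agent.Helper3.card_sylow_inf_subnormal S (A ⊓ N) hAiN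
    -- |AN| |A ∩ N| = |A| |N|
    have e1 : Nat.card (A ⊔ N : Subgroup G) * Nat.card (A ⊓ N : Subgroup G) =
        Nat.card A * Nat.card N := by
      have := Cfsg.Agent.Helper3.card_mul_set_mul_card_inf A N
      rw [← Subgroup.mul_normal A N] at this
      exact this
    -- same for the Sylow intersections
    set X := A ⊓ (S : Subgroup G) with hX
    set Y := N ⊓ (S : Subgroup G) with hY
    have hXY : X ≤ Subgroup.normalizer (Y : Set G) := by
      intro x hx
      have h1 : x ∈ Subgroup.normalizer (N : Set G) := by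
        rw [Subgroup.normalizer_eq_top]; trivial
      have h2 : x ∈ Subgroup.normalizer ((S : Subgroup G) : Set G) :=
        Subgroup.le_normalizer hx.2
      rw [mem_normalizer_iff_map_cj] at h1 h2 ⊢
      rw [hY, map_cj_inf, h1, h2]
    have e2 : Nat.card (X ⊔ Y : Subgroup G) * Nat.card (X ⊓ Y : Subgroup G) =
        Nat.card X * Nat.card Y := by
      have := Cfsg.Agent.Helper3.card_mul_set_mul_card_inf X Y
      rw [← Subgroup.coe_mul_of_left_le_normalizer_right X Y hXY] at this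
      exact this
    have e3 : X ⊓ Y = (S : Subgroup G) ⊓ (A ⊓ N) := by
      rw [hX, hY]
      ext g
      simp only [Subgroup.mem_inf]
      tauto
    rw [e3, c4] at e2
    rw [hX, hY, inf_comm A, inf_comm N, c1, c2] at e2
    rw [inf_comm, c3]
    -- factorization arithmetic
    have f1 := congrArg (fun n => n.factorization p) e1
    beta_reduce at f1
    rw [Nat.factorization_mul Nat.card_pos.ne' Nat.card_pos.ne',
      Nat.factorization_mul Nat.card_pos.ne' Nat.card_pos.ne'] at f1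
    simp only [Finsupp.coe_add, Pi.add_apply] at f1
    have f2 : (Nat.card A).factorization p + (Nat.card N).factorization p =
        (Nat.card (A ⊔ N : Subgroup G)).factorization p +
          (Nat.card (A ⊓ N : Subgroup G)).factorization p := f1.symm
    rw [← pow_add, f2, pow_add] at e2
    have hpos : 0 < p ^ (Nat.card (A ⊓ N : Subgroup G)).factorization p :=
      pow_pos hpp.pos _
    have := Nat.eq_of_mul_eq_mul_right hpos e2
    rw [hX, hY, inf_comm A, inf_comm N]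
    exact this.ge

end NC

/-- the statement for all groups of order `n` -/
def Holds (p : ℕ) [Fact p.Prime] (n : ℕ) : Prop :=
  ∀ (G : Type u) [Group G] [Finite G], Nat.card G = n → ∀ (S : Sylow p G)
    (𝒜 : Set (Subgroup G)), (∀ A ∈ 𝒜, A.IsSubnormal) →
      sSup 𝒜 ⊓ (S : Subgroup G) ≤ ⨆ A ∈ 𝒜, A ⊓ (S : Subgroup G)

section transport
variable {G : Type u} [Group G] [Finite G] {p : ℕ} [Fact p.Prime]

/-- transport of the induction hypothesis to a proper subnormal subgroup -/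
theorem transport (IH : ∀ m < Nat.card G, Holds.{u} p m) (J : Subgroup G) (hJ : J.IsSubnormal)
    (hJne : J ≠ ⊤) (S : Sylow p G) (𝒜 : Set (Subgroup G)) (h𝒜 : ∀ A ∈ 𝒜, A.IsSubnormal)
    (hle : ∀ A ∈ 𝒜, A ≤ J) :
    sSup 𝒜 ⊓ (S : Subgroup G) ≤ ⨆ A ∈ 𝒜, A ⊓ (S : Subgroup G) := by
  have hlt : Nat.card J < Nat.card G := Cfsg.Agent.Helper7.card_lt_of_ne_top hJne
  have hcJ : Nat.card ((S : Subgroup G).subgroupOf J) = p ^ (Nat.card J).factorization p := by
    rw [Cfsg.Agent.Helper3.card_subgroupOf_eq_card_inf,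
      Cfsg.Agent.Helper3.card_sylow_inf_subnormal S J hJ]
  set SJ : Sylow p ↥J := Sylow.ofCard _ hcJ with hSJ
  have hSJc : (SJ : Subgroup ↥J) = (S : Subgroup G).subgroupOf J := Sylow.coe_ofCard _ _
  set 𝒜' : Set (Subgroup ↥J) := (fun A => A.subgroupOf J) '' 𝒜 with h𝒜'
  have h𝒜's : ∀ A' ∈ 𝒜', A'.IsSubnormal := by
    rintro A' ⟨A, hA, rfl⟩
    exact (h𝒜 A hA).subgroupOf
  have key := IH _ hlt ↥J rfl SJ 𝒜' h𝒜's
  have h1 : sSup 𝒜 ≤ (sSup 𝒜').map J.subtype := by
    apply sSup_le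
    intro A hA
    have : A = (A.subgroupOf J).map J.subtype := by
      rw [Subgroup.subgroupOf_map_subtype, inf_eq_left.mpr (hle A hA)]
    rw [this]
    exact Subgroup.map_mono (le_sSup ⟨A, hA, rfl⟩)
  have h2 : (⨆ A' ∈ 𝒜', A' ⊓ (SJ : Subgroup ↥J)) ≤
      (⨆ A ∈ 𝒜, A ⊓ (S : Subgroup G)).comap J.subtype := by
    apply iSup₂_le
    rintro A' ⟨A, hA, rfl⟩
    intro y hy
    rw [Subgroup.mem_comap]
    have hy1 : (y : G) ∈ A := hy.1
    have hy2 : (y : G) ∈ (S : Subgroup G) := by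
      have := hy.2
      rw [hSJc] at this
      exact this
    exact (le_iSup₂ (f := fun A (_ : A ∈ 𝒜) => A ⊓ (S : Subgroup G)) A hA) ⟨hy1, hy2⟩
  intro x hx
  obtain ⟨y, hy, rfl⟩ := h1 hx.1
  have hyS : y ∈ (SJ : Subgroup ↥J) := by
    rw [hSJc, Subgroup.mem_subgroupOf]
    exact hx.2
  exact h2 (key ⟨hy, hyS⟩)

end transport

section quot
variable {G : Type u} [Group G] [Finite G] {p : ℕ} [Fact p.Prime]

theorem iSup_inf_le_sylow (S : Sylow p G) (𝒜 : Set (Subgroup G)) :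
    (⨆ A ∈ 𝒜, A ⊓ (S : Subgroup G)) ≤ (S : Subgroup G) :=
  iSup₂_le (fun _ _ => inf_le_right)

/-- passage to the quotient by a nontrivial normal subgroup -/
theorem quotient_step (IH : ∀ m < Nat.card G, Holds.{u} p m) (N : Subgroup G) [hNn : N.Normal]
    (hN : N ≠ ⊥) (S : Sylow p G) (𝒜 : Set (Subgroup G)) (h𝒜 : ∀ A ∈ 𝒜, A.IsSubnormal)
    (htop : sSup 𝒜 = ⊤) :
    (S : Subgroup G) ≤ (⨆ A ∈ 𝒜, A ⊓ (S : Subgroup G)) ⊔ (N ⊓ (S : Subgroup G)) := by
  have hlt : Nat.card (G ⧸ N) < Nat.card G := by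
    rw [Subgroup.card_eq_card_quotient_mul_card_subgroup N]
    have h1 : 1 < Nat.card N := (Subgroup.one_lt_card_iff_ne_bot N).mpr hN
    have h2 : 0 < Nat.card (G ⧸ N) := Nat.card_pos
    nlinarith
  set f := QuotientGroup.mk' N with hf
  have hfs : Function.Surjective f := QuotientGroup.mk'_surjective N
  set Sb : Sylow p (G ⧸ N) := S.mapSurjective hfs with hSb
  have hSbc : (Sb : Subgroup (G ⧸ N)) = (S : Subgroup G).map f := Sylow.coe_mapSurjective hfs S
  set 𝒜b : Set (Subgroup (G ⧸ N)) := (Subgroup.map f) '' 𝒜 with h𝒜b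
  have h𝒜bs : ∀ A' ∈ 𝒜b, A'.IsSubnormal := by
    rintro A' ⟨A, hA, rfl⟩
    exact (h𝒜 A hA).map hfs
  have key := IH _ hlt (G ⧸ N) rfl Sb 𝒜b h𝒜bs
  have htopb : sSup 𝒜b = ⊤ := by
    apply top_le_iff.mp
    rw [← Subgroup.map_top_of_surjective f hfs, ← htop, Subgroup.map_le_iff_le_comap]
    apply sSup_le
    intro A hA
    rw [← Subgroup.map_le_iff_le_comap]
    exact le_sSup ⟨A, hA, rfl⟩
  set T := ⨆ A ∈ 𝒜, A ⊓ (S : Subgroup G) with hT
  have hTS : T ≤ (S : Subgroup G) := iSup_inf_le_sylow S 𝒜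
  have hNker : ∀ x ∈ N, f x = 1 := fun x hx => (QuotientGroup.eq_one_iff x).mpr hx
  have hclaim : ∀ A ∈ 𝒜, A.map f ⊓ (Sb : Subgroup (G ⧸ N)) ≤ T.map f := by
    intro A hA
    rintro _ ⟨⟨a, ha, rfl⟩, hs⟩
    rw [hSbc] at hs
    obtain ⟨s, hs, hfs'⟩ := hs
    have h1 : a⁻¹ * s ∈ N := by
      have : f (a⁻¹ * s) = 1 := by rw [map_mul, map_inv, hfs', inv_mul_cancel]
      exact (QuotientGroup.eq_one_iff _).mp this
    have h2 : s ∈ (A ⊔ N) ⊓ (S : Subgroup G) := by
      refine ⟨?_, hs⟩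
      have : s = a * (a⁻¹ * s) := by group
      rw [this]
      exact Subgroup.mul_mem _ (Subgroup.mem_sup_left ha) (Subgroup.mem_sup_right h1)
    rw [sup_normal_inf_sylow S A N (h𝒜 A hA)] at h2
    have h3 : f s ∈ ((A ⊓ (S : Subgroup G)) ⊔ (N ⊓ (S : Subgroup G))).map f :=
      Subgroup.mem_map_of_mem f h2
    rw [Subgroup.map_sup] at h3
    have h4 : (N ⊓ (S : Subgroup G)).map f = ⊥ := by
      rw [eq_bot_iff]
      rintro _ ⟨x, hx, rfl⟩
      rw [Subgroup.mem_bot]
      exact hNker x hx.1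
    rw [h4, sup_bot_eq] at h3
    rw [← hfs']
    exact Subgroup.map_mono (le_iSup₂ (f := fun A (_ : A ∈ 𝒜) => A ⊓ (S : Subgroup G)) A hA) h3
  have hle : (⨆ A' ∈ 𝒜b, A' ⊓ (Sb : Subgroup (G ⧸ N))) ≤ T.map f := by
    apply iSup₂_le
    rintro A' ⟨A, hA, rfl⟩
    exact hclaim A hA
  intro s hs
  have h1 : f s ∈ sSup 𝒜b ⊓ (Sb : Subgroup (G ⧸ N)) := by
    rw [htopb, top_inf_eq, hSbc]
    exact Subgroup.mem_map_of_mem f hs
  obtain ⟨t, ht, hft⟩ := hle (key h1)
  have h2 : t⁻¹ * s ∈ N := by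
    have : f (t⁻¹ * s) = 1 := by rw [map_mul, map_inv, hft, inv_mul_cancel]
    exact (QuotientGroup.eq_one_iff _).mp this
  have h3 : t⁻¹ * s ∈ (S : Subgroup G) :=
    Subgroup.mul_mem _ (Subgroup.inv_mem _ (hTS ht)) hs
  have : s = t * (t⁻¹ * s) := by group
  rw [this]
  exact Subgroup.mul_mem _ (Subgroup.mem_sup_left ht) (Subgroup.mem_sup_right ⟨h2, h3⟩)

end quot

section central
variable {G : Type u} [Group G] [Finite G] {p : ℕ} [Fact p.Prime]

/-- a central element of order `p` split off in a Sylow subgroup is not in `O^p(G)`;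
in particular `O^p(G) ≠ G` -/
theorem pResidual_ne_top_of_central_split (S : Sylow p G) (T : Subgroup G) (z : G)
    (hz : z ∈ Subgroup.center G) (hzp : z ^ p = 1) (hzT : z ∉ T)
    (hS : (S : Subgroup G) ≤ T ⊔ Subgroup.zpowers z) :
    pResidual p G ≠ ⊤ := by
  classical
  have hpp : p.Prime := Fact.out
  set H : Subgroup G := (S : Subgroup G) with hH
  have hzcomm : ∀ g : G, g * z = z * g := fun g => Subgroup.mem_center_iff.mp hz g
  have hNn : Subgroup.zpowers z ≤ Subgroup.normalizer (T : Set G) := by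
    intro x hx
    obtain ⟨k, rfl⟩ := Subgroup.mem_zpowers_iff.mp hx
    have hc : z ^ k ∈ Subgroup.center G := Subgroup.zpow_mem _ hz k
    rw [Subgroup.mem_normalizer_iff]
    intro h
    have : z ^ k * h * (z ^ k)⁻¹ = h := by
      rw [← Subgroup.mem_center_iff.mp hc h, mul_inv_cancel_right]
    rw [this]
  have hcomm : _root_.commutator ↥H ≤ T.subgroupOf H := by
    rw [commutator_def, Subgroup.commutator_le]
    intro a _ b _
    rw [Subgroup.mem_subgroupOf]
    obtain ⟨t1, ht1, n1, hn1, e1⟩ :=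
      (Cfsg.Agent.Helper7.mem_sup_of_le_normalizer hNn).mp (hS a.2)
    obtain ⟨t2, ht2, n2, hn2, e2⟩ :=
      (Cfsg.Agent.Helper7.mem_sup_of_le_normalizer hNn).mp (hS b.2)
    have hn1c : n1 ∈ Subgroup.center G := by
      obtain ⟨k, rfl⟩ := Subgroup.mem_zpowers_iff.mp hn1
      exact Subgroup.zpow_mem _ hz k
    have hn2c : n2 ∈ Subgroup.center G := by
      obtain ⟨k, rfl⟩ := Subgroup.mem_zpowers_iff.mp hn2
      exact Subgroup.zpow_mem _ hz k
    have hc1 : ∀ g : G, Commute g n1 := fun g => Subgroup.mem_center_iff.mp hn1c g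
    have hc2 : ∀ g : G, Commute g n2 := fun g => Subgroup.mem_center_iff.mp hn2c g
    have : ((⁅a, b⁆ : ↥H) : G) = ⁅(a : G), (b : G)⁆ := by simp [commutatorElement_def]
    rw [this, ← e1, ← e2,
      Cfsg.Agent.Helper7.commutatorElement_mul_mul_of_commute (hc1 t1) (hc2 t1) (hc1 t2) (hc2 t2)]
    have h0 : ⁅n1, n2⁆ = 1 := commutatorElement_eq_one_iff_commute.mpr (hc2 n1)
    rw [h0, mul_one, commutatorElement_def]
    exact T.mul_mem (T.mul_mem (T.mul_mem ht1 ht2) (T.inv_mem ht1)) (T.inv_mem ht2)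
  haveI hnorm : (T.subgroupOf H).Normal := Subgroup.Normal.of_commutator_le _ hcomm
  have hmc : IsMulCommutative (↥H ⧸ T.subgroupOf H) :=
    Subgroup.Normal.quotient_commutative_iff_commutator_le.mpr hcomm
  letI : CommGroup (↥H ⧸ T.subgroupOf H) :=
    { (inferInstance : Group (↥H ⧸ T.subgroupOf H)) with
      mul_comm := fun a b => hmc.is_comm.comm a b }
  set φ : ↥H →* ↥H ⧸ T.subgroupOf H := QuotientGroup.mk' (T.subgroupOf H) with hφ
  set τ := MonoidHom.transfer φ with hτ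
  have hkey : ∀ (k : ℕ) (g₀ : G), g₀⁻¹ * z ^ k * g₀ ∈ H → g₀⁻¹ * z ^ k * g₀ = z ^ k := by
    intro k g₀ _
    have hc : z ^ k ∈ Subgroup.center G := Subgroup.pow_mem _ hz k
    rw [mul_assoc, ← Subgroup.mem_center_iff.mp hc g₀, inv_mul_cancel_left]
  have h1 : τ z = φ ⟨z ^ H.index, MonoidHom.transfer_eq_pow_aux z hkey⟩ :=
    MonoidHom.transfer_eq_pow φ z hkey
  have h2 : τ z ≠ 1 := by
    rw [h1]
    intro h
    have h3 : z ^ H.index ∈ T := by
      have := (QuotientGroup.eq_one_iff _).mp h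
      rwa [Subgroup.mem_subgroupOf] at this
    have hord : orderOf z ∣ p := orderOf_dvd_of_pow_eq_one hzp
    have hcop : (H.index).Coprime (orderOf z) := by
      rcases (Nat.dvd_prime hpp).mp hord with h4 | h4
      · rw [h4]; exact Nat.coprime_one_right _
      · rw [h4, Nat.coprime_comm, Nat.Prime.coprime_iff_not_dvd hpp]
        exact S.not_dvd_index
    obtain ⟨m, hm⟩ := exists_pow_eq_self_of_coprime hcop
    apply hzT
    rw [← hm]
    exact T.pow_mem h3 m
  intro htop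
  apply h2
  have hle : pResidual p G ≤ τ.ker := by
    unfold pResidual
    rw [Subgroup.closure_le]
    intro g hg
    have hg' : Nat.Coprime (orderOf g) p := hg
    have hq : IsPGroup p (↥H ⧸ T.subgroupOf H) := S.isPGroup'.to_quotient _
    obtain ⟨k, hk⟩ := hq (τ g)
    have e1 : (τ g) ^ (orderOf g) = 1 := by
      rw [← map_pow, pow_orderOf_eq_one, map_one]
    have e2 : orderOf (τ g) ∣ Nat.gcd (orderOf g) (p ^ k) :=
      Nat.dvd_gcd (orderOf_dvd_of_pow_eq_one e1) (orderOf_dvd_of_pow_eq_one hk)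
    have e3 : Nat.gcd (orderOf g) (p ^ k) = 1 := Nat.Coprime.pow_right k hg'
    rw [e3, Nat.dvd_one, orderOf_eq_one_iff] at e2
    exact e2
  have : z ∈ τ.ker := hle (htop ▸ Subgroup.mem_top z)
  exact this

end central

section perfect
variable {G : Type u} [Group G] [Finite G] {p : ℕ} [Fact p.Prime]

theorem le_normalizer_sSup (𝒞 : Set (Subgroup G)) (X : Subgroup G)
    (h : ∀ B ∈ 𝒞, X ≤ Subgroup.normalizer (B : Set G)) :
    X ≤ Subgroup.normalizer ((sSup 𝒞 : Subgroup G) : Set G) := by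
  apply le_normalizer_of_map_cj_le
  intro x hx
  rw [Subgroup.map_le_iff_le_comap]
  apply sSup_le
  intro B hB
  rw [← Subgroup.map_le_iff_le_comap, mem_normalizer_iff_map_cj.mp (h B hB hx)]
  exact le_sSup hB

/-- the case `G = O^p(G)` -/
theorem step_perfect (IH : ∀ m < Nat.card G, Holds.{u} p m) (S : Sylow p G)
    (𝒜 : Set (Subgroup G)) (h𝒜 : ∀ A ∈ 𝒜, A.IsSubnormal) (htop : sSup 𝒜 = ⊤)
    (hres : pResidual p G = ⊤) :
    (S : Subgroup G) ≤ ⨆ A ∈ 𝒜, A ⊓ (S : Subgroup G) := by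
  have hpp : p.Prime := Fact.out
  set T := ⨆ A ∈ 𝒜, A ⊓ (S : Subgroup G) with hT
  by_cases hex : ∃ A ∈ 𝒜, A = ⊤
  · obtain ⟨A, hA, rfl⟩ := hex
    have := le_iSup₂ (f := fun A (_ : A ∈ 𝒜) => A ⊓ (S : Subgroup G)) ⊤ hA
    simpa using this
  push Not at hex
  by_cases hall : ∀ A ∈ 𝒜, A = ⊥
  · have h1 : sSup 𝒜 = ⊥ := by
      rw [eq_bot_iff]
      apply sSup_le
      intro A hA
      rw [hall A hA]
    rw [htop] at h1
    intro x _
    have : x ∈ (⊤ : Subgroup G) := Subgroup.mem_top x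
    rw [h1, Subgroup.mem_bot] at this
    rw [this]
    exact Subgroup.one_mem _
  push Not at hall
  obtain ⟨A₀, hA₀, hA₀ne⟩ := hall
  obtain ⟨K, hKn, hA₀K, hKlt⟩ :=
    (h𝒜 A₀ hA₀).exists_normal_and_le_and_lt_top_of_ne (hex A₀ hA₀)
  have hK0 : K ≠ ⊥ := by
    intro h
    rw [h] at hA₀K
    exact hA₀ne (le_bot_iff.mp hA₀K)
  obtain ⟨N, hNmin, hNK⟩ := Cfsg.Agent.Helper19.exists_isMinNormal_le hKn hK0
  haveI hNn : N.Normal := hNmin.1
  have hN0 : N ≠ ⊥ := hNmin.2.1
  have hNtop : N ≠ ⊤ := fun h => (lt_of_le_of_lt (h ▸ hNK) hKlt).ne rfl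
  have hq := quotient_step IH N hN0 S 𝒜 h𝒜 htop
  rw [← hT] at hq
  suffices hNT : N ⊓ (S : Subgroup G) ≤ T from hq.trans (sup_le le_rfl hNT)
  have hNnorm : ∀ A ∈ 𝒜, N ≤ Subgroup.normalizer (A : Set G) :=
    fun A hA => hNmin.le_normalizer_of_isSubnormal (h𝒜 A hA)
  set 𝒞 : Set (Subgroup G) := (fun A => A ⊓ N) '' 𝒜 with h𝒞
  set C := sSup 𝒞 with hC
  have hCS : C ⊓ (S : Subgroup G) ≤ T := by
    have h1 := transport IH N (Subgroup.Normal.isSubnormal hNn) hNtop S 𝒞
      (by rintro B ⟨A, hA, rfl⟩; exact (h𝒜 A hA).inf (Subgroup.Normal.isSubnormal hNn))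
      (by rintro B ⟨A, hA, rfl⟩; exact inf_le_right)
    refine h1.trans ?_
    apply iSup₂_le
    rintro B ⟨A, hA, rfl⟩
    exact (inf_le_inf_right _ inf_le_left).trans
      (le_iSup₂ (f := fun A (_ : A ∈ 𝒜) => A ⊓ (S : Subgroup G)) A hA)
  by_cases hCN : C = N
  · rw [← hCN]; exact hCS
  have hCleN : C ≤ N := by
    apply sSup_le
    rintro B ⟨A, hA, rfl⟩
    exact inf_le_right
  have hcomm : ∀ A ∈ 𝒜, ⁅A, N⁆ ≤ C := by
    intro A hA
    refine le_trans ?_ (le_sSup (⟨A, hA, rfl⟩ : A ⊓ N ∈ 𝒞))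
    rw [Subgroup.commutator_le]
    intro a ha n hn
    refine ⟨?_, ?_⟩
    · have h1 : n * a⁻¹ * n⁻¹ ∈ A :=
        (Subgroup.mem_normalizer_iff.mp (hNnorm A hA hn) a⁻¹).mp (A.inv_mem ha)
      have : ⁅a, n⁆ = a * (n * a⁻¹ * n⁻¹) := by rw [commutatorElement_def]; group
      rw [this]
      exact A.mul_mem ha h1
    · have h1 : a * n * a⁻¹ ∈ N := hNn.conj_mem n hn a
      rw [commutatorElement_def]
      exact N.mul_mem h1 (N.inv_mem hn)
  have hAC : ∀ A ∈ 𝒜, A ≤ Subgroup.normalizer (C : Set G) := by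
    intro A hA
    apply le_normalizer_of_map_cj_le
    intro a ha
    rintro _ ⟨c, hc, rfl⟩
    have h1 : ⁅a, c⁆ ∈ C := hcomm A hA (Subgroup.commutator_mem_commutator ha (hCleN hc))
    have : cj a c = ⁅a, c⁆ * c := by rw [cj_apply, commutatorElement_def]; group
    rw [this]
    exact C.mul_mem h1 hc
  have hCn : C.Normal := by
    rw [← Subgroup.normalizer_eq_top_iff]
    apply top_le_iff.mp
    rw [← htop]
    exact sSup_le hAC
  have hC0 : C = ⊥ := (hNmin.2.2 C hCn hCleN).resolve_right hCN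
  have hcent : N ≤ Subgroup.center G := by
    have h1 : (⊤ : Subgroup G) ≤ Subgroup.centralizer (N : Set G) := by
      rw [← htop]
      apply sSup_le
      intro A hA
      apply Subgroup.commutator_eq_bot_iff_le_centralizer.mp
      have := hcomm A hA
      rw [hC0] at this
      exact le_bot_iff.mp this
    intro n hn
    rw [Subgroup.mem_center_iff]
    intro g
    exact (Subgroup.mem_centralizer_iff.mp (h1 (Subgroup.mem_top g)) n hn).symm
  -- a central element of prime order in N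
  obtain ⟨z, hz1⟩ := (Subgroup.ne_bot_iff_exists_ne_one).mp hN0
  have hz1' : (z : G) ≠ 1 := fun h => hz1 (Subtype.ext h)
  have hord1 : orderOf (z : G) ≠ 1 := fun h => hz1' (orderOf_eq_one_iff.mp h)
  set q := Nat.minFac (orderOf (z : G)) with hq'
  have hqp : q.Prime := Nat.minFac_prime hord1
  have hqd : q ∣ orderOf (z : G) := Nat.minFac_dvd _
  set w : G := (z : G) ^ (orderOf (z : G) / q) with hw
  have hwo : orderOf w = q := orderOf_pow_orderOf_div (orderOf_pos (z : G)).ne' hqd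
  have hwN : w ∈ N := N.pow_mem z.2 _
  have hw1 : w ≠ 1 := by
    intro h
    rw [h, orderOf_one] at hwo
    exact hqp.one_lt.ne hwo
  have hwc : w ∈ Subgroup.center G := hcent hwN
  have hZn : (Subgroup.zpowers w).Normal := by
    constructor
    intro x hx g
    obtain ⟨k, rfl⟩ := Subgroup.mem_zpowers_iff.mp hx
    have hc : w ^ k ∈ Subgroup.center G := Subgroup.zpow_mem _ hwc k
    have : g * w ^ k * g⁻¹ = w ^ k := by
      rw [Subgroup.mem_center_iff.mp hc g, mul_inv_cancel_right]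
    rw [this]
    exact hx
  have hZN : Subgroup.zpowers w = N := by
    refine (hNmin.2.2 _ hZn ((Subgroup.zpowers_le).mpr hwN)).resolve_left ?_
    intro h
    have : w ∈ (⊥ : Subgroup G) := h ▸ Subgroup.mem_zpowers w
    exact hw1 (Subgroup.mem_bot.mp this)
  have hwq : w ^ q = 1 := by rw [← hwo]; exact pow_orderOf_eq_one w
  by_cases hqpeq : q = p
  · rw [hqpeq] at hwq
    by_cases hwT : w ∈ T
    · rw [← hZN]
      exact inf_le_left.trans ((Subgroup.zpowers_le).mpr hwT)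
    · exfalso
      apply pResidual_ne_top_of_central_split S T w hwc hwq hwT _ hres
      rw [hZN]
      exact hq.trans (sup_le_sup_left inf_le_left T)
  · -- N ∩ S = 1
    intro x hx
    have hxN : x ∈ Subgroup.zpowers w := hZN ▸ hx.1
    obtain ⟨k, rfl⟩ := Subgroup.mem_zpowers_iff.mp hxN
    have e1 : (w ^ k) ^ q = 1 := by
      rw [← zpow_natCast, ← zpow_mul, mul_comm, zpow_mul, zpow_natCast, hwq, one_zpow]
    obtain ⟨j, hj⟩ := (IsPGroup.iff_orderOf.mp S.isPGroup') ⟨w ^ k, hx.2⟩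
    have e2 : orderOf (w ^ k) = p ^ j := by
      rw [← hj]; exact (Subgroup.orderOf_mk _ hx.2).symm
    have e3 : orderOf (w ^ k) ∣ q := orderOf_dvd_of_pow_eq_one e1
    have e4 : orderOf (w ^ k) = 1 := by
      rcases (Nat.dvd_prime hqp).mp e3 with h | h
      · exact h
      · exfalso
        rw [e2] at h
        have : p ∣ q := by
          rcases Nat.eq_zero_or_pos j with h0 | h0
          · rw [h0, pow_zero] at h
            exact absurd h.symm hqp.one_lt.ne'
          · rw [← h]; exact dvd_pow_self p h0.ne'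
        exact hqpeq ((Nat.prime_dvd_prime_iff_eq hpp hqp).mp this).symm
    rw [orderOf_eq_one_iff.mp e4]
    exact Subgroup.one_mem _

end perfect

section main
variable {G : Type u} [Group G] [Finite G] {p : ℕ} [Fact p.Prime]

/-- `A = O^p(A) (A ∩ S)` for subnormal `A` -/
theorem le_pResidualOf_sup_inf (S : Sylow p G) (A : Subgroup G) (hA : A.IsSubnormal) :
    A ≤ pResidualOf p A ⊔ (A ⊓ (S : Subgroup G)) := by
  have hcA : Nat.card ((S : Subgroup G).subgroupOf A) = p ^ (Nat.card A).factorization p := by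
    rw [Cfsg.Agent.Helper3.card_subgroupOf_eq_card_inf,
      Cfsg.Agent.Helper3.card_sylow_inf_subnormal S A hA]
  set SA : Sylow p ↥A := Sylow.ofCard _ hcA with hSA
  have hSAc : (SA : Subgroup ↥A) = (S : Subgroup G).subgroupOf A := Sylow.coe_ofCard _ _
  have h1 := pResidual_sup_sylow SA
  intro a ha
  have h2 : (⟨a, ha⟩ : ↥A) ∈ pResidual p ↥A ⊔ (SA : Subgroup ↥A) := by
    rw [h1]; exact Subgroup.mem_top _
  have h3 := Subgroup.mem_map_of_mem A.subtype h2
  rw [Subgroup.map_sup, hSAc, Subgroup.subgroupOf_map_subtype, inf_comm] at h3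
  exact h3

theorem pResidualOf_isSubnormal (A : Subgroup G) (hA : A.IsSubnormal) :
    (pResidualOf p A).IsSubnormal := by
  unfold pResidualOf
  have h1 : (pResidual p ↥A).Normal := inferInstance
  exact (Subgroup.Normal.isSubnormal h1).trans' hA

theorem pResidualOf_le_pResidual (A : Subgroup G) : pResidualOf p A ≤ pResidual p G := by
  unfold pResidualOf
  rw [pResidualOf_eq_closure]
  unfold pResidual
  apply Subgroup.closure_mono
  rintro b ⟨_, hb⟩
  exact hb

/-- the family version of the theorem -/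
theorem holds : ∀ n : ℕ, Holds.{u} p n := by
  intro n
  induction n using Nat.strong_induction_on with
  | _ n ih =>
  intro G _ _ hn S 𝒜 h𝒜
  subst hn
  by_cases hJ : sSup 𝒜 = ⊤
  swap
  · exact transport ih (sSup 𝒜) (Cfsg.Agent.Helper3.subnormal_sSup 𝒜 h𝒜) hJ S 𝒜 h𝒜
      (fun A hA => le_sSup hA)
  rw [hJ, top_inf_eq]
  set T := ⨆ A ∈ 𝒜, A ⊓ (S : Subgroup G) with hT
  have hTS : T ≤ (S : Subgroup G) := iSup_inf_le_sylow S 𝒜
  set 𝒳 : Set (Subgroup G) := {X | ∃ A ∈ 𝒜, ∃ t ∈ T, X = (pResidualOf p A).map (cj t)} with h𝒳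
  set R' := sSup 𝒳 with hR'
  have h𝒳s : ∀ X ∈ 𝒳, X.IsSubnormal := by
    rintro X ⟨A, hA, t, _, rfl⟩
    exact (pResidualOf_isSubnormal A (h𝒜 A hA)).map (MulAut.conj t).surjective
  have hXS : ∀ X ∈ 𝒳, X ⊓ (S : Subgroup G) ≤ T := by
    rintro X ⟨A, hA, t, ht, rfl⟩
    intro x hx
    have hx1 : t⁻¹ * x * t ∈ pResidualOf p A := (mem_map_cj t x).mp hx.1
    have hy : t⁻¹ * x * t ∈ A ⊓ (S : Subgroup G) := by
      refine ⟨?_, ?_⟩
      · have : pResidualOf p A ≤ A := by
          unfold pResidualOf; exact map_subtype_le _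
        exact this hx1
      · exact Subgroup.mul_mem _ (Subgroup.mul_mem _ (Subgroup.inv_mem _ (hTS ht)) hx.2) (hTS ht)
    have hyT : t⁻¹ * x * t ∈ T :=
      (le_iSup₂ (f := fun A (_ : A ∈ 𝒜) => A ⊓ (S : Subgroup G)) A hA) hy
    have : x = t * (t⁻¹ * x * t) * t⁻¹ := by group
    rw [this]
    exact T.mul_mem (T.mul_mem ht hyT) (T.inv_mem ht)
  have hTR : T ≤ Subgroup.normalizer (R' : Set G) := by
    apply le_normalizer_of_map_cj_le
    intro t ht
    rw [Subgroup.map_le_iff_le_comap]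
    apply sSup_le
    rintro X ⟨A, hA, t', ht', rfl⟩
    rw [← Subgroup.map_le_iff_le_comap, map_cj_mul]
    exact le_sSup ⟨A, hA, t * t', T.mul_mem ht ht', rfl⟩
  have hA_le : ∀ A ∈ 𝒜, A ≤ R' ⊔ T := by
    intro A hA
    refine (le_pResidualOf_sup_inf S A (h𝒜 A hA)).trans (sup_le_sup ?_ ?_)
    · apply le_sSup
      refine ⟨A, hA, 1, T.one_mem, ?_⟩
      rw [map_cj_one]
    · exact le_iSup₂ (f := fun A (_ : A ∈ 𝒜) => A ⊓ (S : Subgroup G)) A hA
  have hRT : R' ⊔ T = ⊤ := by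
    apply top_le_iff.mp
    rw [← hJ]
    exact sSup_le hA_le
  by_cases hR'top : R' = ⊤
  · -- G = O^p(G)
    have hres : pResidual p G = ⊤ := by
      apply top_le_iff.mp
      rw [← hR'top]
      apply sSup_le
      rintro X ⟨A, hA, t, _, rfl⟩
      have h1 : (pResidual p G).map (cj t) = pResidual p G :=
        mem_normalizer_iff_map_cj.mp (by rw [Subgroup.normalizer_eq_top]; trivial)
      rw [← h1]
      exact Subgroup.map_mono (pResidualOf_le_pResidual A)
    exact step_perfect ih S 𝒜 h𝒜 hJ hres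
  · have h1 : R' ⊓ (S : Subgroup G) ≤ T := by
      have := transport ih R' (Cfsg.Agent.Helper3.subnormal_sSup 𝒳 h𝒳s) hR'top S 𝒳 h𝒳s
        (fun X hX => le_sSup hX)
      exact this.trans (iSup₂_le hXS)
    intro s hs
    have hs' : s ∈ R' ⊔ T := by rw [hRT]; exact Subgroup.mem_top s
    obtain ⟨r, hr, t, ht, rfl⟩ := (Cfsg.Agent.Helper7.mem_sup_of_le_normalizer hTR).mp hs'
    have hrS : r ∈ (S : Subgroup G) := by
      have : r = (r * t) * t⁻¹ := by group
      rw [this]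
      exact Subgroup.mul_mem _ hs (Subgroup.inv_mem _ (hTS ht))
    exact T.mul_mem (h1 ⟨hr, hrS⟩) ht

end main

end Cfsg.Agent.Helper15.SubnSylow
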