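import Mathlib
import Cfsg.Agent.Helper10.SecFusion2
import Cfsg.Agent.Helper14.Conj

set_option autoImplicit false

/-! # The subgroup generated by the conjugates of `Z` under a subgroup `L`, and the induction
showing `⟨Z^{N(T)}⟩ = ⟨Z^{N(T')}⟩` from local factorizations (towards S1997). -/

namespace Cfsg.Agent.Helper15.TF

open Subgroup Cfsg.Agent.Helper14

variable {G : Type*} [Group G]

/-- the subgroup generated by the `L`-conjugates of `Z` -/
def cc (L Z : Subgroup G) : Subgroup G :=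
  Subgroup.closure {x | ∃ n ∈ L, ∃ z ∈ Z, x = n * z * n⁻¹}

theorem conj_mem_cc {L Z : Subgroup G} {n z : G} (hn : n ∈ L) (hz : z ∈ Z) :
    n * z * n⁻¹ ∈ cc L Z := Subgroup.subset_closure ⟨n, hn, z, hz, rfl⟩

theorem cc_le_iff {L Z B : Subgroup G} : cc L Z ≤ B ↔ ∀ n ∈ L, ∀ z ∈ Z, n * z * n⁻¹ ∈ B := by
  constructor
  · intro h n hn z hz
    exact h (conj_mem_cc hn hz)
  · intro h
    unfold cc
    rw [Subgroup.closure_le]
    rintro _ ⟨n, hn, z, hz, rfl⟩
    exact h n hn z hz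

theorem cc_mono {L L' Z : Subgroup G} (h : L ≤ L') : cc L Z ≤ cc L' Z :=
  cc_le_iff.mpr fun _ hn _ hz => conj_mem_cc (h hn) hz

theorem le_cc (L Z : Subgroup G) : Z ≤ cc L Z := by
  intro z hz
  have := conj_mem_cc (L := L) (one_mem L) hz
  simpa using this

theorem conj_mem_cc_of_mem {L Z : Subgroup G} {l x : G} (hl : l ∈ L) (hx : x ∈ cc L Z) :
    l * x * l⁻¹ ∈ cc L Z := by
  unfold cc at hx
  induction hx using Subgroup.closure_induction with
  | mem x hx =>
    obtain ⟨n, hn, z, hz, rfl⟩ := hx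
    have := conj_mem_cc (L.mul_mem hl hn) hz
    have e : l * (n * z * n⁻¹) * l⁻¹ = l * n * z * (l * n)⁻¹ := by group
    rw [e]
    exact this
  | one =>
    have e : l * 1 * l⁻¹ = 1 := by group
    rw [e]
    exact one_mem _
  | mul x y _ _ hx hy =>
    have e : l * (x * y) * l⁻¹ = (l * x * l⁻¹) * (l * y * l⁻¹) := by group
    rw [e]
    exact Subgroup.mul_mem _ hx hy
  | inv x _ hx =>
    have e : l * x⁻¹ * l⁻¹ = (l * x * l⁻¹)⁻¹ := by group
    rw [e]
    exact Subgroup.inv_mem _ hx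

theorem mem_normalizer_inf {A B : Subgroup G} {n : G} (hA : n ∈ normalizer (A : Set G))
    (hB : n ∈ normalizer (B : Set G)) : n ∈ normalizer ((A ⊓ B : Subgroup G) : Set G) := by
  rw [mem_normalizer_iff] at hA hB ⊢
  intro x
  rw [mem_inf, mem_inf, ← hA x, ← hB x]

theorem card_lt_of_lt [Finite G] {H K : Subgroup G} (h : H < K) : Nat.card H < Nat.card K :=
  lt_of_not_ge fun hge => h.ne (Subgroup.eq_of_le_of_card_ge h.le hge)

theorem le_normalizer_cc [Finite G] (L Z : Subgroup G) : L ≤ normalizer (cc L Z : Set G) := by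
  intro l hl
  apply mem_normalizer_fintype
  intro x hx
  exact conj_mem_cc_of_mem hl hx

/-- relative Frattini argument: if the Sylow subgroup `S` normalizes `K` and `h` normalizes `K`,
then `h u` normalizes `S ∩ K` for some `u ∈ K`. -/
theorem frattini_rel [Finite G] {p : ℕ} [Fact p.Prime] (S : Sylow p G) (K : Subgroup G)
    (hSK : (S : Subgroup G) ≤ normalizer (K : Set G)) (h : G) (hh : h ∈ normalizer (K : Set G)) :
    ∃ u ∈ K, h * u ∈ normalizer (((S : Subgroup G) ⊓ K : Subgroup G) : Set G) := by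
  obtain ⟨R, hR⟩ : ∃ R : Subgroup G, R = (S : Subgroup G) ⊓ K := ⟨_, rfl⟩
  rw [← hR]
  have hRK : R ≤ K := hR ▸ inf_le_right
  have hRp : IsPGroup p R := S.2.to_le (hR ▸ inf_le_left)
  have hidx : ¬ p ∣ R.relIndex K := by
    have h1 := Cfsg.Agent.Lead.relIndex_sup_of_le_normalizer (S : Subgroup G) K hSK
    rw [hR, Subgroup.inf_relIndex_right, ← h1]
    intro h2
    exact S.not_dvd_index (h2.trans (Subgroup.relIndex_dvd_index_of_le le_sup_left))
  have hR'K : R.map (cj h⁻¹) ≤ K := by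
    rintro _ ⟨r, hr, rfl⟩
    rw [cj_apply]
    exact (mem_normalizer_iff.mp (inv_mem hh) r).mp (hRK hr)
  have hR'p : IsPGroup p (R.map (cj h⁻¹)) := hRp.map _
  have hcard : Nat.card ↥(R.map (cj h⁻¹)) = Nat.card ↥R :=
    Subgroup.card_map_of_injective (cj_injective h⁻¹)
  have hidx' : ¬ p ∣ (R.map (cj h⁻¹)).relIndex K := by
    have e1 := Cfsg.Agent.Lead.card_eq_relIndex_mul_card hR'K
    have e2 := Cfsg.Agent.Lead.card_eq_relIndex_mul_card hRK
    rw [hcard] at e1
    have hpos : 0 < Nat.card ↥R := Nat.card_pos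
    have : (R.map (cj h⁻¹)).relIndex K = R.relIndex K :=
      Nat.eq_of_mul_eq_mul_right hpos (e1.symm.trans e2)
    rw [this]
    exact hidx
  obtain ⟨u, hu, hue⟩ := Cfsg.Agent.Helper10.exists_conj_eq_of_not_dvd_relIndex (p := p)
    hR'K hRK hR'p hRp hidx' hidx
  rw [map_cj_mul] at hue
  have h1 : u * h⁻¹ ∈ normalizer (R : Set G) := mem_normalizer_iff_map_cj.mpr hue
  refine ⟨u⁻¹, K.inv_mem hu, ?_⟩
  have h2 := Subgroup.inv_mem _ h1
  have e : (u * h⁻¹)⁻¹ = h * u⁻¹ := by group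
  rw [e] at h2
  exact h2

section Step

variable [Finite G] {p : ℕ} [Fact p.Prime] (S : Sylow p G)

/-- one-sided step: if `T ⊴ H`, then `⟨Z^H⟩ ≤ ⟨Z^{N_H(T')}⟩`, given the induction hypothesis for
smaller subgroups and a local factorization. -/
theorem step (T T' Z : Subgroup G) (hZT : Z ≤ T)
    (hST : (S : Subgroup G) ≤ normalizer (T : Set G)) (H : Subgroup G)
    (hSH : (S : Subgroup G) ≤ H) (hHT : H ≤ normalizer (T : Set G))
    (IH : ∀ M : Subgroup G, (S : Subgroup G) ≤ M → M < H →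
      cc (M ⊓ normalizer (T : Set G)) Z = cc (M ⊓ normalizer (T' : Set G)) Z)
    (F : H ≤ normalizer (((S : Subgroup G) ⊓ centralizer (T : Set G) : Subgroup G) : Set G) →
      ∀ h ∈ H, ∃ b ∈ H ⊓ normalizer (T' : Set G), ∃ a ∈ centralizer (Z : Set G), h = b * a) :
    cc H Z ≤ cc (H ⊓ normalizer (T' : Set G)) Z := by
  obtain ⟨M, hM⟩ : ∃ M : Subgroup G, M = H ⊓ normalizer
    (((S : Subgroup G) ⊓ centralizer (T : Set G) : Subgroup G) : Set G) := ⟨_, rfl⟩
  have hMH : M ≤ H := hM ▸ inf_le_left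
  -- `S ≤ M`
  have hSC : (S : Subgroup G) ≤ normalizer ((centralizer (T : Set G) : Subgroup G) : Set G) := by
    intro s hs
    have h1 := map_cj_centralizer T s
    rw [mem_normalizer_iff_map_cj.mp (hST hs)] at h1
    exact mem_normalizer_iff_map_cj.mpr h1
  have hSM : (S : Subgroup G) ≤ M := by
    rw [hM]
    refine le_inf hSH ?_
    intro s hs
    exact mem_normalizer_inf (le_normalizer hs) (hSC hs)
  -- Frattini: `⟨Z^H⟩ ≤ ⟨Z^M⟩`
  have hK : ∀ h ∈ H, h ∈ normalizer ((H ⊓ centralizer (T : Set G) : Subgroup G) : Set G) := by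
    intro h hh
    have h1 := map_cj_centralizer T h
    rw [mem_normalizer_iff_map_cj.mp (hHT hh)] at h1
    exact mem_normalizer_inf (le_normalizer hh)
      (mem_normalizer_iff_map_cj.mpr h1)
  have hSK : (S : Subgroup G) ≤ normalizer ((H ⊓ centralizer (T : Set G) : Subgroup G) : Set G) :=
    fun s hs => hK s (hSH hs)
  have hSinf : (S : Subgroup G) ⊓ (H ⊓ centralizer (T : Set G)) =
      (S : Subgroup G) ⊓ centralizer (T : Set G) := by
    rw [← inf_assoc, inf_eq_left.mpr hSH]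
  have hfr : cc H Z ≤ cc M Z := by
    rw [cc_le_iff]
    intro h hh z hz
    obtain ⟨u, hu, hun⟩ := frattini_rel S (H ⊓ centralizer (T : Set G)) hSK h (hK h hh)
    rw [hSinf] at hun
    have hm : h * u ∈ M := by
      rw [hM]
      exact ⟨H.mul_mem hh hu.1, hun⟩
    have huz : u * z * u⁻¹ = z := by
      have := (mem_centralizer_iff.mp hu.2) z (hZT hz)
      rw [← this]
      group
    have e : h * z * h⁻¹ = (h * u) * z * (h * u)⁻¹ := by
      calc h * z * h⁻¹ = h * (u * z * u⁻¹) * h⁻¹ := by rw [huz]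
        _ = (h * u) * z * (h * u)⁻¹ := by group
    rw [e]
    exact conj_mem_cc hm hz
  by_cases hMeq : M = H
  · -- `S ∩ C(T) ⊴ H`: use the factorization
    have hHR : H ≤ normalizer (((S : Subgroup G) ⊓ centralizer (T : Set G) : Subgroup G) : Set G) := by
      rw [← hMeq, hM]
      exact inf_le_right
    rw [cc_le_iff]
    intro h hh z hz
    obtain ⟨b, hb, a, ha, rfl⟩ := F hHR h hh
    have haz : a * z * a⁻¹ = z := by
      have := (mem_centralizer_iff.mp ha) z hz
      rw [← this]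
      group
    have e : b * a * z * (b * a)⁻¹ = b * z * b⁻¹ := by
      calc b * a * z * (b * a)⁻¹ = b * (a * z * a⁻¹) * b⁻¹ := by group
        _ = b * z * b⁻¹ := by rw [haz]
    rw [e]
    exact conj_mem_cc hb hz
  · have hlt : M < H := lt_of_le_of_ne hMH hMeq
    have h1 := IH M hSM hlt
    have h2 : M ⊓ normalizer (T : Set G) = M := inf_eq_left.mpr (hMH.trans hHT)
    rw [h2] at h1
    calc cc H Z ≤ cc M Z := hfr
      _ = cc (M ⊓ normalizer (T' : Set G)) Z := h1
      _ ≤ cc (H ⊓ normalizer (T' : Set G)) Z := cc_mono (inf_le_inf_right _ hMH)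

/-- the main induction: `⟨Z^{N_H(T₁)}⟩ = ⟨Z^{N_H(T₂)}⟩` for all `H ≥ S`. -/
theorem theta (T₁ T₂ Z : Subgroup G) (hZ₁ : Z ≤ T₁) (hZ₂ : Z ≤ T₂)
    (hS₁ : (S : Subgroup G) ≤ normalizer (T₁ : Set G))
    (hS₂ : (S : Subgroup G) ≤ normalizer (T₂ : Set G))
    (F₂ : ∀ H : Subgroup G, (S : Subgroup G) ≤ H → H ≤ normalizer (T₁ : Set G) →
      H ≤ normalizer (((S : Subgroup G) ⊓ centralizer (T₁ : Set G) : Subgroup G) : Set G) →
      ∀ h ∈ H, ∃ b ∈ H ⊓ normalizer (T₂ : Set G), ∃ a ∈ centralizer (Z : Set G), h = b * a)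
    (F₁ : ∀ H : Subgroup G, (S : Subgroup G) ≤ H → H ≤ normalizer (T₂ : Set G) →
      H ≤ normalizer (((S : Subgroup G) ⊓ centralizer (T₂ : Set G) : Subgroup G) : Set G) →
      ∀ h ∈ H, ∃ b ∈ H ⊓ normalizer (T₁ : Set G), ∃ a ∈ centralizer (Z : Set G), h = b * a) :
    ∀ (n : ℕ) (H : Subgroup G), Nat.card H = n → (S : Subgroup G) ≤ H →
      cc (H ⊓ normalizer (T₁ : Set G)) Z = cc (H ⊓ normalizer (T₂ : Set G)) Z := by
  intro n
  induction n using Nat.strong_induction_on with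
  | _ n ih =>
    intro H hn hSH
    have IH : ∀ M : Subgroup G, (S : Subgroup G) ≤ M → M < H →
        cc (M ⊓ normalizer (T₁ : Set G)) Z = cc (M ⊓ normalizer (T₂ : Set G)) Z := by
      intro M hSM hlt
      exact ih (Nat.card M) (hn ▸ card_lt_of_lt hlt) M rfl hSM
    by_cases h1 : H ≤ normalizer (T₁ : Set G)
    · have e1 : H ⊓ normalizer (T₁ : Set G) = H := inf_eq_left.mpr h1
      rw [e1]
      apply le_antisymm
      · exact step S T₁ T₂ Z hZ₁ hS₁ H hSH h1 IH (F₂ H hSH h1)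
      · exact cc_mono inf_le_left
    by_cases h2 : H ≤ normalizer (T₂ : Set G)
    · have e2 : H ⊓ normalizer (T₂ : Set G) = H := inf_eq_left.mpr h2
      rw [e2]
      apply le_antisymm
      · exact cc_mono inf_le_left
      · exact step S T₂ T₁ Z hZ₂ hS₂ H hSH h2 (fun M hSM hlt => (IH M hSM hlt).symm) (F₁ H hSH h2)
    · have hlt1 : H ⊓ normalizer (T₁ : Set G) < H :=
        lt_of_le_of_ne inf_le_left (fun h => h1 (inf_eq_left.mp h))
      have hlt2 : H ⊓ normalizer (T₂ : Set G) < H :=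
        lt_of_le_of_ne inf_le_left (fun h => h2 (inf_eq_left.mp h))
      have k1 := IH _ (le_inf hSH hS₁) hlt1
      have k2 := IH _ (le_inf hSH hS₂) hlt2
      have e1 : H ⊓ normalizer (T₁ : Set G) ⊓ normalizer (T₁ : Set G) =
          H ⊓ normalizer (T₁ : Set G) := by rw [inf_assoc, inf_idem]
      have e2 : H ⊓ normalizer (T₂ : Set G) ⊓ normalizer (T₂ : Set G) =
          H ⊓ normalizer (T₂ : Set G) := by rw [inf_assoc, inf_idem]
      have e3 : H ⊓ normalizer (T₂ : Set G) ⊓ normalizer (T₁ : Set G) =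
          H ⊓ normalizer (T₁ : Set G) ⊓ normalizer (T₂ : Set G) := inf_right_comm _ _ _
      rw [e1] at k1
      rw [e2, e3] at k2
      rw [k1, k2]

end Step

end Cfsg.Agent.Helper15.TF
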