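import Mathlib
import Cfsg.Prelude.Def_ConjugacyFunctors
import Cfsg.Prelude.Def_PLocal
import Cfsg.Agent.Helper10.SecFusion3
import Cfsg.Agent.Helper10.IndFunctor2
import Cfsg.Agent.Helper26.PStableQuot
import Cfsg.Agent.Helper7.PPrimeCore
import Cfsg.Agent.Helper15.TripleFac1

set_option autoImplicit false
set_option linter.unusedSectionVars false

/-! # Pulling back the factorization `G* = C(Ω₁Z(S*)) N(W'(S*))` from the section
`X / O_{p'}(X)` when `W(P)` and `P ∩ C(W(P))` are normal in `X` (towards S1997). -/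

namespace Cfsg.Agent.Helper15.TF

open Subgroup Cfsg Cfsg.Agent.Helper10 Cfsg.Agent.Helper26

universe u

variable {p : ℕ} [Fact p.Prime] {W W' : ∀ (Q : Type u) [Group Q], Subgroup Q}

theorem omegaOne_mono {X : Type*} [Group X] {A B : Subgroup X} (h : A ≤ B) :
    omegaOne p A ≤ omegaOne p B := by
  unfold omegaOne
  apply Subgroup.closure_mono
  rintro x ⟨hx, hxp⟩
  exact ⟨h hx, hxp⟩

theorem map_omegaOne_center_le {X Y : Type*} [Group X] [Group Y] (f : X →* Y) (P : Subgroup X) :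
    (omegaOne p (P ⊓ centralizer (P : Set X))).map f ≤
      omegaOne p (P.map f ⊓ centralizer ((P.map f : Subgroup Y) : Set Y)) := by
  unfold omegaOne
  rw [MonoidHom.map_closure, Subgroup.closure_le]
  rintro _ ⟨x, ⟨⟨hxP, hxC⟩, hxp⟩, rfl⟩
  apply Subgroup.subset_closure
  refine ⟨⟨⟨x, hxP, rfl⟩, ?_⟩, ?_⟩
  · show f x ∈ centralizer ((P.map f : Subgroup Y) : Set Y)
    rw [mem_centralizer_iff]
    rintro _ ⟨y, hy, rfl⟩
    have hxC' : x ∈ centralizer (P : Set X) := hxC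
    rw [← map_mul, ← map_mul, (mem_centralizer_iff.mp hxC') y hy]
  · rw [← map_pow, hxp, map_one]

theorem fac_pullback {X : Type u} [Group X] [Finite X]
    (hW' : IsCharPFunctor.{u} p W')
    (P : Sylow p X) (Z : Subgroup X)
    (hTn : (inducedFunctor W (P : Subgroup X)).Normal)
    (hR : ∀ x : X, ∀ r ∈ (P : Subgroup X),
      r ∈ centralizer ((inducedFunctor W (P : Subgroup X) : Subgroup X) : Set X) →
        x * r * x⁻¹ ∈ (P : Subgroup X))
    (hZT : Z ≤ inducedFunctor W (P : Subgroup X))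
    (hZΩ : Z ≤ omegaOne p ((P : Subgroup X) ⊓ centralizer ((P : Subgroup X) : Set X)))
    (D : Subgroup X) [hDn : D.Normal] (hD : D = pPrimeCore p X)
    (hfac : centralizer ((pCore p (X ⧸ D) : Subgroup (X ⧸ D)) : Set (X ⧸ D)) ≤ pCore p (X ⧸ D) →
      ∀ T : Sylow p (X ⧸ D), ∀ x : X ⧸ D,
        ∃ a ∈ centralizer ((omegaOne p ((T : Subgroup (X ⧸ D)) ⊓
            centralizer ((T : Subgroup (X ⧸ D)) : Set (X ⧸ D))) : Subgroup (X ⧸ D)) : Set (X ⧸ D)),
        ∃ b ∈ normalizer ((inducedFunctor W' (T : Subgroup (X ⧸ D)) : Subgroup (X ⧸ D)) :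
            Set (X ⧸ D)), x = a * b) :
    ∀ x : X, ∃ b ∈ normalizer ((inducedFunctor W' (P : Subgroup X) : Subgroup X) : Set X),
      ∃ a ∈ centralizer (Z : Set X), x = b * a := by
  subst hD
  have hK : (Nat.card (pPrimeCore p X)).Coprime p := Cfsg.Agent.Helper19.pPrimeCore_coprime p
  have hsurj := QuotientGroup.mk'_surjective (pPrimeCore p X)
  obtain ⟨T, hT⟩ : ∃ T : Subgroup X, T = inducedFunctor W (P : Subgroup X) := ⟨_, rfl⟩
  rw [← hT] at hTn hR hZT
  have hTP : T ≤ (P : Subgroup X) := hT ▸ iF_le _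
  have hTp : IsPGroup p T := P.2.to_le hTP
  -- `R = P ∩ C(T)` is normal
  obtain ⟨R, hRdef⟩ : ∃ R : Subgroup X, R = (P : Subgroup X) ⊓ centralizer (T : Set X) := ⟨_, rfl⟩
  have hRn : R.Normal := by
    constructor
    intro r hr x
    rw [hRdef] at hr ⊢
    refine ⟨hR x r hr.1 hr.2, ?_⟩
    have : (centralizer (T : Set X)).Normal := inferInstance
    exact this.conj_mem r hr.2 x
  have hQn : (T ⊔ R).Normal := Subgroup.sup_normal T R
  have hQP : T ⊔ R ≤ (P : Subgroup X) := sup_le hTP (hRdef ▸ inf_le_left)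
  have hQp : IsPGroup p (T ⊔ R : Subgroup X) := P.2.to_le hQP
  -- the quotient is constrained
  have hcent : centralizer ((pCore p (X ⧸ pPrimeCore p X) : Subgroup (X ⧸ pPrimeCore p X)) :
      Set (X ⧸ pPrimeCore p X)) ≤ pCore p (X ⧸ pPrimeCore p X) := by
    apply centralizer_pCore_le_of_sylow_inf_le (P.mapSurjective hsurj)
      (Cfsg.Agent.Helper7.pPrimeCore_quotient_eq_bot p)
    rw [Sylow.coe_mapSurjective]
    rintro y ⟨hyP, hyC⟩
    obtain ⟨x, hxP, rfl⟩ := hyP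
    have hQb : (T ⊔ R).map (QuotientGroup.mk' (pPrimeCore p X)) ≤
        pCore p (X ⧸ pPrimeCore p X) :=
      Cfsg.Agent.Helper14.le_pCore p (hQn.map _ hsurj) (hQp.map _)
    have h1 : QuotientGroup.mk' (pPrimeCore p X) x ∈ centralizer
        (((T ⊔ R).map (QuotientGroup.mk' (pPrimeCore p X)) : Subgroup (X ⧸ pPrimeCore p X)) :
          Set (X ⧸ pPrimeCore p X)) :=
      Subgroup.centralizer_le hQb hyC
    have hxN : x ∈ normalizer ((T ⊔ R : Subgroup X) : Set X) := by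
      rw [normalizer_eq_top_iff.mpr hQn]
      exact mem_top x
    have hxC : x ∈ centralizer ((T ⊔ R : Subgroup X) : Set X) :=
      (psq_mem_centralizer_iff hK hQp hxN).mp h1
    have hxT : x ∈ centralizer (T : Set X) :=
      Subgroup.centralizer_le (show (T : Set X) ⊆ ((T ⊔ R : Subgroup X) : Set X) from
        fun t ht => (le_sup_left : T ≤ T ⊔ R) ht) hxC
    have hxR : x ∈ R := by
      rw [hRdef]
      exact ⟨hxP, hxT⟩
    exact hQb ⟨x, (le_sup_right : R ≤ T ⊔ R) hxR, rfl⟩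
  have hf := hfac hcent (P.mapSurjective hsurj)
  rw [Sylow.coe_mapSurjective] at hf
  -- the `p'`-core centralizes `T`
  have hOT : pPrimeCore p X ≤ centralizer (T : Set X) := by
    intro d hd
    rw [mem_centralizer_iff]
    intro t ht
    have hdis : Disjoint T (pPrimeCore p X) := by
      rw [disjoint_iff]
      exact psq_inf_eq_bot hK hTp
    exact (Subgroup.commute_of_normal_of_disjoint T (pPrimeCore p X) hTn inferInstance hdis
      t d ht hd).eq
  have hinj : ∀ t ∈ (P : Subgroup X), QuotientGroup.mk' (pPrimeCore p X) t = 1 → t = 1 := by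
    intro t ht h1
    have h2 : t ∈ (P : Subgroup X) ⊓ pPrimeCore p X :=
      ⟨ht, (QuotientGroup.eq_one_iff t).mp h1⟩
    rw [psq_inf_eq_bot hK P.2, mem_bot] at h2
    exact h2
  have hiF : inducedFunctor W' ((P : Subgroup X).map (QuotientGroup.mk' (pPrimeCore p X))) =
      (inducedFunctor W' (P : Subgroup X)).map (QuotientGroup.mk' (pPrimeCore p X)) :=
    (iF_map_of_injOn hW' (QuotientGroup.mk' (pPrimeCore p X)) P.2 hinj).symm
  have hnorm := normalizer_map_mk_of_coprime (pPrimeCore p X) hK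
    (iF_isPGroup (W := W') P.2)
  intro x
  obtain ⟨a, ha, b, hb, hab⟩ := hf (QuotientGroup.mk' (pPrimeCore p X) x⁻¹)
  rw [hiF, hnorm] at hb
  obtain ⟨b₀, hb₀, rfl⟩ := hb
  obtain ⟨a₀, rfl⟩ := hsurj a
  -- `a₀` centralizes `Z`
  have ha₀ : a₀ ∈ centralizer (Z : Set X) := by
    rw [mem_centralizer_iff]
    intro z hz
    have hzΩ : QuotientGroup.mk' (pPrimeCore p X) z ∈ omegaOne p
        ((P : Subgroup X).map (QuotientGroup.mk' (pPrimeCore p X)) ⊓
          centralizer (((P : Subgroup X).map (QuotientGroup.mk' (pPrimeCore p X)) :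
            Subgroup (X ⧸ pPrimeCore p X)) : Set (X ⧸ pPrimeCore p X))) :=
      map_omegaOne_center_le _ _ ⟨z, hZΩ hz, rfl⟩
    have h1 := (mem_centralizer_iff.mp ha) _ hzΩ
    have h2 : a₀ * z * a₀⁻¹ ∈ T := hTn.conj_mem z (hZT hz) a₀
    have h3 : QuotientGroup.mk' (pPrimeCore p X) (a₀ * z * a₀⁻¹) =
        QuotientGroup.mk' (pPrimeCore p X) z := by
      rw [map_mul, map_mul, ← h1, map_inv]
      group
    have h4 := psq_injOn hK hTp h2 (hZT hz) h3
    calc z * a₀ = (a₀ * z * a₀⁻¹) * a₀ := by rw [h4]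
      _ = a₀ * z := by group
  have hd : (a₀ * b₀)⁻¹ * x⁻¹ ∈ pPrimeCore p X := by
    rw [← QuotientGroup.eq]
    have h1 : QuotientGroup.mk' (pPrimeCore p X) (a₀ * b₀) =
        QuotientGroup.mk' (pPrimeCore p X) x⁻¹ := by
      rw [map_mul]
      exact hab.symm
    exact h1
  obtain ⟨d, hdd⟩ : ∃ d, d = (a₀ * b₀)⁻¹ * x⁻¹ := ⟨_, rfl⟩
  rw [← hdd] at hd
  have hdn : b₀ * d⁻¹ * b₀⁻¹ ∈ pPrimeCore p X :=
    (inferInstance : (pPrimeCore p X).Normal).conj_mem _ (inv_mem hd) b₀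
  refine ⟨b₀⁻¹, inv_mem hb₀, (b₀ * d⁻¹ * b₀⁻¹) * a₀⁻¹, ?_, ?_⟩
  · exact Subgroup.mul_mem _ (Subgroup.centralizer_le (show (Z : Set X) ⊆ (T : Set X) from
      fun z hz => hZT hz) (hOT hdn)) (Subgroup.inv_mem _ ha₀)
  · rw [hdd]
    group

end Cfsg.Agent.Helper15.TF
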