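import Mathlib
import Cfsg.Agent.Helper15.TripleFac2

set_option autoImplicit false
set_option linter.unusedSectionVars false

/-! # The local factorization inside a subgroup `H ≥ S` of `G` (towards S1997). -/

namespace Cfsg.Agent.Helper15.TF

open Subgroup Cfsg Cfsg.Agent.Helper10 Cfsg.Agent.Helper26

universe u

variable {p : ℕ} [Fact p.Prime] {W W' : ∀ (Q : Type u) [Group Q], Subgroup Q}

theorem iF_subtype_eq {G : Type u} [Group G] [Finite G] (hW : IsCharPFunctor.{u} p W)
    (S : Sylow p G) (H : Subgroup G) (hSH : (S : Subgroup G) ≤ H) :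
    inducedFunctor W ((S.subtype hSH : Sylow p ↥H) : Subgroup ↥H) =
      (inducedFunctor W (S : Subgroup G)).subgroupOf H := by
  have h1 := iF_map_subtype hW H (S.subtype hSH).2
  rw [Sylow.coe_subtype, Subgroup.subgroupOf_map_subtype, inf_of_le_left hSH] at h1
  rw [← h1, Sylow.coe_subtype]
  unfold Subgroup.subgroupOf
  rw [Subgroup.comap_map_eq_self_of_injective H.subtype_injective]

theorem local_fac {G : Type u} [Group G] [Finite G] (hW : IsCharPFunctor.{u} p W)
    (hW' : IsCharPFunctor.{u} p W') (S : Sylow p G) (Z : Subgroup G)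
    (hZdef : Z = omegaOne p ((S : Subgroup G) ⊓ centralizer ((S : Subgroup G) : Set G)))
    (hZT : Z ≤ inducedFunctor W (S : Subgroup G))
    (hfac : ∀ (K R : Subgroup G) [hR : (R.subgroupOf K).Normal],
      centralizer ((pCore p (↥K ⧸ R.subgroupOf K) : Subgroup (↥K ⧸ R.subgroupOf K)) :
        Set (↥K ⧸ R.subgroupOf K)) ≤ pCore p (↥K ⧸ R.subgroupOf K) →
      ∀ T : Sylow p (↥K ⧸ R.subgroupOf K), ∀ x : ↥K ⧸ R.subgroupOf K,
        ∃ a ∈ centralizer ((omegaOne p ((T : Subgroup (↥K ⧸ R.subgroupOf K)) ⊓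
            centralizer ((T : Subgroup (↥K ⧸ R.subgroupOf K)) : Set (↥K ⧸ R.subgroupOf K))) :
              Subgroup (↥K ⧸ R.subgroupOf K)) : Set (↥K ⧸ R.subgroupOf K)),
        ∃ b ∈ normalizer ((inducedFunctor W' (T : Subgroup (↥K ⧸ R.subgroupOf K)) :
            Subgroup (↥K ⧸ R.subgroupOf K)) : Set (↥K ⧸ R.subgroupOf K)), x = a * b)
    (H : Subgroup G) (hSH : (S : Subgroup G) ≤ H)
    (hHT : H ≤ normalizer ((inducedFunctor W (S : Subgroup G) : Subgroup G) : Set G))
    (hHR : H ≤ normalizer (((S : Subgroup G) ⊓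
      centralizer ((inducedFunctor W (S : Subgroup G) : Subgroup G) : Set G) : Subgroup G) : Set G)) :
    ∀ h ∈ H, ∃ b ∈ H ⊓ normalizer ((inducedFunctor W' (S : Subgroup G) : Subgroup G) : Set G),
      ∃ a ∈ centralizer (Z : Set G), h = b * a := by
  obtain ⟨T, hT⟩ : ∃ T : Subgroup G, T = inducedFunctor W (S : Subgroup G) := ⟨_, rfl⟩
  obtain ⟨T', hT'⟩ : ∃ T' : Subgroup G, T' = inducedFunctor W' (S : Subgroup G) := ⟨_, rfl⟩
  rw [← hT] at hZT hHT hHR
  rw [← hT']
  have hTS : T ≤ (S : Subgroup G) := hT ▸ iF_le _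
  have hT'S : T' ≤ (S : Subgroup G) := hT' ▸ iF_le _
  have hZS : Z ≤ (S : Subgroup G) := hZT.trans hTS
  obtain ⟨O, hO⟩ : ∃ O : Subgroup G, O = (pPrimeCore p ↥H).map H.subtype := ⟨_, rfl⟩
  have hDeq : O.subgroupOf H = pPrimeCore p ↥H := by
    rw [hO]
    unfold Subgroup.subgroupOf
    rw [Subgroup.comap_map_eq_self_of_injective H.subtype_injective]
  haveI hDn : (O.subgroupOf H).Normal := by
    rw [hDeq]
    infer_instance
  have e1 : inducedFunctor W ((S.subtype hSH : Sylow p ↥H) : Subgroup ↥H) = T.subgroupOf H := by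
    rw [hT]; exact iF_subtype_eq hW S H hSH
  have e2 : inducedFunctor W' ((S.subtype hSH : Sylow p ↥H) : Subgroup ↥H) = T'.subgroupOf H := by
    rw [hT']; exact iF_subtype_eq hW' S H hSH
  have key := fac_pullback (W := W) (W' := W') hW' (S.subtype hSH) (Z.subgroupOf H)
    (by
      rw [e1]
      exact (Subgroup.normal_subgroupOf_iff_le_normalizer (hTS.trans hSH)).mpr hHT)
    (by
      rw [e1, Sylow.coe_subtype]
      intro x r hr hrC
      rw [mem_subgroupOf] at hr ⊢
      have hrC' : (r : G) ∈ centralizer (T : Set G) := by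
        rw [mem_centralizer_iff]
        intro t ht
        have := (mem_centralizer_iff.mp hrC) ⟨t, hSH (hTS ht)⟩ (by rw [SetLike.mem_coe, mem_subgroupOf]; exact ht)
        exact congrArg Subtype.val this
      have hx := hHR x.2
      have := (mem_normalizer_iff.mp hx (r : G)).mp ⟨hr, hrC'⟩
      exact this.1)
    (by
      rw [e1]
      intro z hz
      rw [mem_subgroupOf] at hz ⊢
      exact hZT hz)
    (by
      rw [Sylow.coe_subtype]
      have hle : Z ≤ (omegaOne p ((S : Subgroup G).subgroupOf H ⊓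
          centralizer (((S : Subgroup G).subgroupOf H : Subgroup ↥H) : Set ↥H))).map H.subtype := by
        rw [hZdef]
        unfold omegaOne
        rw [Subgroup.closure_le]
        rintro x ⟨⟨hxS, hxC⟩, hxp⟩
        refine ⟨⟨x, hSH hxS⟩, ?_, rfl⟩
        apply Subgroup.subset_closure
        refine ⟨⟨?_, ?_⟩, ?_⟩
        · show (⟨x, hSH hxS⟩ : ↥H) ∈ (S : Subgroup G).subgroupOf H
          rw [mem_subgroupOf]
          exact hxS
        · show (⟨x, hSH hxS⟩ : ↥H) ∈ centralizer (((S : Subgroup G).subgroupOf H : Subgroup ↥H) : Set ↥H)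
          rw [mem_centralizer_iff]
          intro y hy
          rw [SetLike.mem_coe, mem_subgroupOf] at hy
          have hxC' : x ∈ centralizer ((S : Subgroup G) : Set G) := hxC
          apply Subtype.ext
          exact (mem_centralizer_iff.mp hxC') (y : G) hy
        · apply Subtype.ext
          simpa using hxp
      intro z hz
      rw [mem_subgroupOf] at hz
      obtain ⟨y, hy, hyz⟩ := hle hz
      have : y = z := Subtype.ext hyz
      rw [← this]
      exact hy)
    (O.subgroupOf H) hDeq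
    (fun hc => hfac H O hc)
  intro h hh
  obtain ⟨b, hb, a, ha, hab⟩ := key ⟨h, hh⟩
  rw [e2] at hb
  refine ⟨(b : G), ⟨b.2, ?_⟩, (a : G), ?_, ?_⟩
  · apply mem_normalizer_fintype
    intro t ht
    have h1 : (⟨t, hSH (hT'S ht)⟩ : ↥H) ∈ T'.subgroupOf H := by
      rw [mem_subgroupOf]; exact ht
    have h2 := (mem_normalizer_iff.mp hb _).mp h1
    rw [mem_subgroupOf] at h2
    exact h2
  · rw [mem_centralizer_iff]
    intro z hz
    have h1 : (⟨z, hSH (hZS hz)⟩ : ↥H) ∈ ((Z.subgroupOf H : Subgroup ↥H) : Set ↥H) := by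
      rw [SetLike.mem_coe, mem_subgroupOf]; exact hz
    have := (mem_centralizer_iff.mp ha) _ h1
    exact congrArg Subtype.val this
  · exact congrArg Subtype.val hab

end Cfsg.Agent.Helper15.TF
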