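import Mathlib
import Cfsg.Agent.Helper15.ExtChain
import Cfsg.Agent.Helper14.Conj
import Cfsg.Agent.S4072

set_option autoImplicit false

/-! S3015: in a finite non-abelian simple group, a normal subgroup of prime index in a maximal
subgroup generates the group together with one of its conjugates. -/

namespace Cfsg.Agent.Helper15

open Subgroup
open Cfsg.Agent.Helper14 (cj cj_apply mem_map_cj map_cj_mul map_cj_le_iff map_cj_inv_map_cj
  map_cj_map_cj_inv mem_normalizer_iff_map_cj map_cj_normalizer)

variable {G : Type*} [Group G] [Finite G]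

omit [Finite G] in
theorem eq_or_eq_of_relIndex_prime {H M K : Subgroup G} (hidx : (H.relIndex M).Prime)
    (hHK : H ≤ K) (hKM : K ≤ M) : K = H ∨ K = M := by
  have h := relIndex_mul_relIndex H K M hHK hKM
  rcases (Nat.dvd_prime hidx).mp (Dvd.intro _ h) with h1 | h1
  · left
    exact le_antisymm (relIndex_eq_one.mp h1) hHK
  · right
    rw [h1] at h
    have h2 : K.relIndex M = 1 := by
      have hpos : 0 < H.relIndex M := hidx.pos
      exact Nat.eq_of_mul_eq_mul_left hpos (by rw [h, mul_one])
    exact le_antisymm hKM (relIndex_eq_one.mp h2)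

theorem exists_conj_sup_eq_top [IsSimpleGroup G] (M H : Subgroup G)
    (hmaxM : IsCoatom M) (hHM : H ≤ M) (hHn : (H.subgroupOf M).Normal)
    (hidx : (H.relIndex M).Prime) :
    ∃ g : G, H ⊔ H.map (cj g) = ⊤ := by
  have hHneM : H ≠ M := by
    intro h
    rw [h, relIndex_self] at hidx
    exact Nat.not_prime_one hidx
  have hMH : M ≤ normalizer (H : Set G) := (normal_subgroupOf_iff_le_normalizer hHM).mp hHn
  have hcoat : ∀ K : Subgroup G, H ≤ K → K ≤ M → K = H ∨ K = M :=
    fun K => eq_or_eq_of_relIndex_prime hidx
  have hMnn : ¬ M.Normal := by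
    intro hn
    rcases hn.eq_bot_or_eq_top with h | h
    · apply hHneM
      rw [h] at hHM ⊢
      exact le_bot_iff.mp hHM
    · exact hmaxM.1 h
  have hNM : normalizer (M : Set G) = M := by
    rcases eq_or_lt_of_le (le_normalizer : M ≤ normalizer (M : Set G)) with h | h
    · exact h.symm
    · exact absurd (normalizer_eq_top_iff.mp (hmaxM.2 _ h)) hMnn
  have hcjM : ∀ x : G, M.map (cj x) ≤ M → x ∈ M := by
    intro x hle
    rw [← hNM]
    apply mem_normalizer_fintype
    intro n hn
    exact hle ⟨n, hn, rfl⟩
  by_cases hH1 : H = ⊥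
  · exfalso
    subst hH1
    rw [relIndex_bot_left] at hidx
    have hMne : M ≠ ⊥ := by
      intro h
      rw [h, card_bot] at hidx
      exact Nat.not_prime_one hidx
    obtain ⟨x, hxM, hx1⟩ : ∃ x ∈ M, x ≠ 1 := by
      obtain ⟨a, ha⟩ := (Subgroup.ne_bot_iff_exists_ne_one).mp hMne
      exact ⟨(a : G), a.2, fun h => ha (Subtype.ext h)⟩
    have hzle : zpowers x ≤ M := zpowers_le.mpr hxM
    have hord : orderOf x = Nat.card M := by
      have h1 : orderOf x ∣ Nat.card M := by
        rw [← Nat.card_zpowers]
        exact card_dvd_of_le hzle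
      rcases (Nat.dvd_prime hidx).mp h1 with h | h
      · exact absurd (orderOf_eq_one_iff.mp h) hx1
      · exact h
    have hzM : zpowers x = M := by
      apply eq_of_le_of_card_ge hzle
      rw [Nat.card_zpowers, hord]
    have := Fact.mk hidx
    have htop := Cfsg.Agent.S4072.simple_of_selfnorm_prime x hord (by rw [hzM]; exact hNM)
    exact hmaxM.1 (hzM ▸ htop)
  have hNH : normalizer (H : Set G) = M := by
    rcases eq_or_lt_of_le hMH with h | h
    · exact h.symm
    · exfalso
      have hn : H.Normal := normalizer_eq_top_iff.mp (hmaxM.2 _ h)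
      rcases hn.eq_bot_or_eq_top with h' | h'
      · exact hH1 h'
      · apply hmaxM.1
        rw [eq_top_iff, ← h']
        exact hHM
  have hcjH : ∀ x : G, H.map (cj x) ≤ H → x ∈ M := by
    intro x hle
    rw [← hNH]
    apply mem_normalizer_fintype
    intro n hn
    exact hle ⟨n, hn, rfl⟩
  have hcjH' : ∀ x ∈ M, H.map (cj x) = H := by
    intro x hx
    rw [← hNH] at hx
    exact mem_normalizer_iff_map_cj.mp hx
  have hA : ∀ k : G, k ∉ M → H.map (cj k) ≤ M → M ⊓ M.map (cj k) = H.map (cj k) := by
    intro k hk hle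
    have h1 : H ≤ (M ⊓ M.map (cj k)).map (cj k⁻¹) := by
      rw [← map_cj_le_iff]
      exact le_inf hle (Subgroup.map_mono hHM)
    have h2 : (M ⊓ M.map (cj k)).map (cj k⁻¹) ≤ M := by
      rw [map_cj_le_iff, inv_inv]
      exact inf_le_right
    rcases hcoat _ h1 h2 with h | h
    · have := congrArg (Subgroup.map (cj k)) h
      rw [map_cj_inv_map_cj] at this
      exact this
    · exfalso
      have := congrArg (Subgroup.map (cj k)) h
      rw [map_cj_inv_map_cj] at this
      apply hk
      apply hcjM
      rw [← this]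
      exact inf_le_left
  by_cases hK : ∃ k : G, k ∉ M ∧ H.map (cj k) ≤ M
  · obtain ⟨k, hk, hle⟩ := hK
    obtain ⟨m, hmM, hmH⟩ := SetLike.exists_of_lt (lt_of_le_of_ne hHM hHneM)
    obtain ⟨y, hy⟩ : ∃ y : G, y = k * m * k⁻¹ := ⟨_, rfl⟩
    have hyM₁ : y ∈ M.map (cj k) := ⟨m, hmM, hy.symm⟩
    have hyH₁ : y ∉ H.map (cj k) := by
      rw [mem_map_cj]
      have : k⁻¹ * y * k = m := by rw [hy]; group
      rw [this]
      exact hmH
    have hyM : y ∉ M := by
      intro h
      apply hyH₁
      rw [← hA k hk hle]
      exact ⟨h, hyM₁⟩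
    have hH₁y : (H.map (cj k)).map (cj y) = H.map (cj k) := by
      rw [map_cj_mul]
      have : y * k = k * m := by rw [hy]; group
      rw [this, ← map_cj_mul, hcjH' m hmM]
    have hH₁N : H.map (cj k) ≤ normalizer (H : Set G) := hle.trans hMH
    have hH₁N₂ : H.map (cj k) ≤ normalizer ((H.map (cj y) : Subgroup G) : Set G) := by
      have := Subgroup.map_mono (f := cj y) hH₁N
      rw [map_cj_normalizer, hH₁y] at this
      exact this
    have hH₁L : H.map (cj k) ≤ normalizer ((H ⊔ H.map (cj y) : Subgroup G) : Set G) := by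
      intro g hg
      rw [mem_normalizer_iff_map_cj, Subgroup.map_sup,
        mem_normalizer_iff_map_cj.mp (hH₁N hg), mem_normalizer_iff_map_cj.mp (hH₁N₂ hg)]
    have hMX : M ≤ (H ⊔ H.map (cj y)) ⊔ H.map (cj k) := by
      rcases hcoat (H ⊔ H.map (cj k)) le_sup_left (sup_le hHM hle) with h | h
      · exfalso
        apply hk
        apply hcjH
        exact le_sup_right.trans h.le
      · refine h.ge.trans ?_
        exact sup_le (le_sup_left.trans le_sup_left) le_sup_right
    have hXM : ¬ (H ⊔ H.map (cj y)) ⊔ H.map (cj k) ≤ M := by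
      intro hX
      have hH₂M : H.map (cj y) ≤ M := (le_sup_right.trans le_sup_left).trans hX
      have h1 := hA y hyM hH₂M
      have h2 : H.map (cj k) ≤ M ⊓ M.map (cj y) := by
        apply le_inf hle
        have := hH₁N₂
        rw [← map_cj_normalizer, hNH] at this
        exact this
      rw [h1] at h2
      have h3 := Subgroup.map_mono (f := cj y⁻¹) h2
      rw [map_cj_map_cj_inv, map_cj_mul] at h3
      have h4 := hcjH _ h3
      have : y⁻¹ * k = k * m⁻¹ := by rw [hy]; group
      rw [this] at h4
      apply hk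
      have := M.mul_mem h4 hmM
      simpa using this
    have hXtop : (H ⊔ H.map (cj y)) ⊔ H.map (cj k) = ⊤ :=
      hmaxM.2 ((H ⊔ H.map (cj y)) ⊔ H.map (cj k)) (lt_of_le_not_ge hMX hXM)
    have hLn : (H ⊔ H.map (cj y)).Normal := by
      apply normalizer_eq_top_iff.mp
      rw [eq_top_iff, ← hXtop]
      exact sup_le le_normalizer hH₁L
    refine ⟨y, ?_⟩
    rcases hLn.eq_bot_or_eq_top with h | h
    · exfalso
      apply hH1
      rw [eq_bot_iff]
      exact le_sup_left.trans h.le
    · exact h
  · push Not at hK
    by_contra hno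
    push Not at hno
    have hcl : ∀ g : G, (H ⊔ H.map (MulAut.conj g).toMonoidHom) ⊓ M = H := by
      intro g
      rcases hcoat ((H ⊔ H.map (cj g)) ⊓ M) (le_inf le_sup_left hHM) inf_le_right with h | h
      · exact h
      · exfalso
        have hML : M ≤ H ⊔ H.map (cj g) := inf_eq_right.mp h
        have hLM : H ⊔ H.map (cj g) = M := by
          rcases eq_or_lt_of_le hML with h' | h'
          · exact h'.symm
          · exact absurd (hmaxM.2 _ h') (hno g)
        have hgM : g ∈ M := by
          by_contra hg
          exact hK g hg (hLM ▸ le_sup_right)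
        rw [hcjH' g hgM, sup_idem] at hLM
        exact hHneM hLM
    have hmaxH : IsCoatom (H.subgroupOf M) := by
      constructor
      · intro h
        rw [subgroupOf_eq_top] at h
        exact hHneM (le_antisymm hHM h)
      · intro b hb
        have h1 : H ≤ b.map M.subtype := by
          intro h hh
          exact ⟨⟨h, hHM hh⟩, hb.le (mem_subgroupOf.mpr hh), rfl⟩
        rcases hcoat _ h1 (Subgroup.map_subtype_le b) with h | h
        · exfalso
          apply hb.not_ge
          intro z hz
          rw [mem_subgroupOf, ← h]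
          exact ⟨z, hz, rfl⟩
        · rw [eq_top_iff]
          intro z _
          have hz : (z : G) ∈ b.map M.subtype := by rw [h]; exact z.2
          obtain ⟨w, hw, hwz⟩ := hz
          have : w = z := Subtype.ext hwz
          rw [← this]
          exact hw
    have h1 := normalClosure_inf_of_chain H M hHM hcl hmaxH hmaxM
    have h2 : normalClosure (H : Set G) = ⊤ := by
      rcases (normalClosure_normal (s := (H : Set G))).eq_bot_or_eq_top with h | h
      · exfalso
        apply hH1
        rw [eq_bot_iff, ← h]
        exact le_normalClosure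
      · exact h
    rw [h2, top_inf_eq] at h1
    exact hHneM h1.symm

end Cfsg.Agent.Helper15
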