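import Mathlib
import Cfsg.Agent.Helper15.ZStarMin2
import Cfsg.Agent.Lead.CoprimeSylow
import Cfsg.Agent.Helper19.Sylow

set_option autoImplicit false
set_option linter.unusedSectionVars false

/-! S2975: `x`-invariant `q`-subgroups in a minimal counterexample to `Z*_p`. -/

namespace Cfsg.Agent.Helper15

open Subgroup Cfsg
open scoped Pointwise

universe u

variable {G : Type u} [Group G]

/-- In a finite group, `g H g⁻¹ ⊆ H` implies `g ∈ N(H)`. -/
theorem mem_normalizer_of_conj_mem [Finite G] {H : Subgroup G} {g : G}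
    (h : ∀ y ∈ H, g * y * g⁻¹ ∈ H) : g ∈ normalizer (H : Set G) := by
  have hle : H.map (MulAut.conj g).toMonoidHom ≤ H := by
    rintro _ ⟨y, hy, rfl⟩
    exact h y hy
  have hcard : Nat.card (H.map (MulAut.conj g).toMonoidHom) = Nat.card H :=
    Nat.card_congr (H.equivMapOfInjective _ (MulAut.conj g).injective).symm.toEquiv
  have heq : H.map (MulAut.conj g).toMonoidHom = H := eq_of_le_of_card_ge hle (by rw [hcard])
  rw [mem_normalizer_iff]
  intro y
  refine ⟨h y, fun hy => ?_⟩
  rw [← heq, Cfsg.Agent.Helper1.mem_map_conj_iff] at hy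
  have e : g⁻¹ * (g * y * g⁻¹) * g = y := by group
  rw [e] at hy; exact hy

/-- Lemma A: if `x ∈ Z*_p(H)` has order `p` and `q ≠ p`, `H` has an `x`-invariant Sylow
`q`-subgroup. -/
theorem exists_invariant_sylow_of_inZStar [Finite G] {p q : ℕ} [Fact p.Prime] [Fact q.Prime]
    (hqp : q ≠ p) (x : G) (hxo : orderOf x = p) (H : Subgroup G) (hxH : x ∈ H)
    (hz : InZStar p (⟨x, hxH⟩ : ↥H)) :
    ∃ T : Subgroup G, T ≤ H ∧ IsPGroup q T ∧ x ∈ normalizer (T : Set G) ∧
      Nat.card T = q ^ (Nat.card H).factorization q := by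
  have hp : p.Prime := Fact.out
  have hq : q.Prime := Fact.out
  set x' : H := ⟨x, hxH⟩ with hx'
  set K' : Subgroup H := pPrimeCore p ↥H with hK'
  have hK'n : K'.Normal := inferInstance
  obtain ⟨R₀⟩ : Nonempty (Sylow q H) := inferInstance
  set H₁' : Subgroup H := (R₀ : Subgroup H) ⊔ K' with hH₁'
  have hR₀card : Nat.card R₀ = q ^ (Nat.card H).factorization q := R₀.card_eq_multiplicity
  have hcopH₁' : (Nat.card H₁').Coprime p := by
    have h1 := Cfsg.Agent.Helper19.card_sup_dvd_mul (R₀ : Subgroup H) K'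
    apply Nat.Coprime.coprime_dvd_left h1
    apply Nat.Coprime.mul_left
    · rw [hR₀card]
      exact Nat.Coprime.pow_left _ ((Nat.coprime_primes hq hp).mpr hqp)
    · exact Cfsg.Agent.Helper19.pPrimeCore_coprime p
  -- x' maps H₁' into itself
  have hconj : ∀ y ∈ H₁', x' * y * x'⁻¹ ∈ H₁' := by
    have hle : H₁' ≤ H₁'.comap (MulAut.conj x').toMonoidHom := by
      rw [hH₁']
      apply sup_le
      · intro r hr
        rw [mem_comap]
        have h1 : r * x' * r⁻¹ * x'⁻¹ ∈ K' := hz r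
        have h2 : x' * r * x'⁻¹ * r⁻¹ ∈ K' := by
          have := K'.inv_mem h1
          have e : (r * x' * r⁻¹ * x'⁻¹)⁻¹ = x' * r * x'⁻¹ * r⁻¹ := by group
          rw [e] at this; exact this
        have e2 : (MulAut.conj x').toMonoidHom r = (x' * r * x'⁻¹ * r⁻¹) * r := by
          simp only [MulEquiv.toMonoidHom_eq_coe, MonoidHom.coe_coe, MulAut.conj_apply]; group
        rw [e2]
        exact mul_mem (mem_sup_right h2) (mem_sup_left hr)
      · intro k hk
        rw [mem_comap]
        apply mem_sup_right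
        simp only [MulEquiv.toMonoidHom_eq_coe, MonoidHom.coe_coe, MulAut.conj_apply]
        exact hK'n.conj_mem k hk x'
    intro y hy
    have := hle hy
    rw [mem_comap] at this
    simpa only [MulEquiv.toMonoidHom_eq_coe, MonoidHom.coe_coe, MulAut.conj_apply] using this
  set H₁ : Subgroup G := H₁'.map H.subtype with hH₁
  have hH₁H : H₁ ≤ H := map_subtype_le _
  have hcardH₁ : Nat.card H₁ = Nat.card H₁' :=
    Nat.card_congr (H₁'.equivMapOfInjective _ H.subtype_injective).symm.toEquiv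
  have hxH₁ : x ∈ normalizer (H₁ : Set G) := by
    apply mem_normalizer_of_conj_mem
    rintro _ ⟨y, hy, rfl⟩
    exact ⟨x' * y * x'⁻¹, hconj y hy, by simp [hx']⟩
  set A : Subgroup G := zpowers x with hA
  have hAH₁ : A ≤ normalizer (H₁ : Set G) := zpowers_le.mpr hxH₁
  have hcop : (Nat.card A).Coprime (Nat.card H₁) := by
    rw [hA, Nat.card_zpowers, hxo, hcardH₁]
    exact hcopH₁'.symm
  have hAsolv : Group.IsSolvable A := by
    have : IsCyclic A := by rw [hA]; infer_instance
    have : IsMulCommutative A := inferInstance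
    exact Group.isSolvable_of_comm (fun a b => mul_comm' a b)
  obtain ⟨P, hP⟩ := Cfsg.Agent.Lead.coprime_exists_invariant_sylow A H₁ hAH₁ hcop (Or.inl hAsolv) q
  set T : Subgroup G := (P : Subgroup H₁).map H₁.subtype with hT
  have hTH₁ : T ≤ H₁ := map_subtype_le _
  have hcardT : Nat.card T = Nat.card P :=
    Nat.card_congr ((P : Subgroup H₁).equivMapOfInjective _ H₁.subtype_injective).symm.toEquiv
  refine ⟨T, hTH₁.trans hH₁H, P.isPGroup'.map _, hP (mem_zpowers x), ?_⟩
  rw [hcardT, P.card_eq_multiplicity]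
  congr 1
  have hH0 : Nat.card H ≠ 0 := Nat.card_pos.ne'
  have hH₁0 : Nat.card H₁ ≠ 0 := Nat.card_pos.ne'
  apply le_antisymm
  · exact (Nat.factorization_le_iff_dvd hH₁0 hH0).mpr (card_dvd_of_le hH₁H) q
  · apply (Nat.Prime.pow_dvd_iff_le_factorization hq hH₁0).mp
    rw [hcardH₁, ← hR₀card]
    exact card_dvd_of_le (le_sup_left : (R₀ : Subgroup H) ≤ H₁')

section
variable [Finite G] {p : ℕ} [Fact p.Prime] {x : G}

/-- Part (ii) of S2975: `C_G(x)` is transitive on `x`-invariant Sylow `q`-subgroups (for an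
isolated `p`-element `x`). -/
theorem isolated_transitive_on_invariant_sylow (hxo : orderOf x = p) (hiso : IsIsolated x)
    (q : ℕ) [Fact q.Prime] (S₁ S₂ : Sylow q G)
    (h1 : x ∈ normalizer ((S₁ : Subgroup G) : Set G))
    (h2 : x ∈ normalizer ((S₂ : Subgroup G) : Set G)) :
    ∃ c ∈ centralizer ({x} : Set G),
      (S₁ : Subgroup G).map (MulAut.conj c).toMonoidHom = (S₂ : Subgroup G) := by
  have hxp : IsPGroup p (zpowers x) := isPGroup_zpowers_of_orderOf ⟨1, by rw [hxo, pow_one]⟩
  obtain ⟨g, hg⟩ := MulAction.exists_smul_eq G S₁ S₂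
  set y : G := g⁻¹ * x * g with hy
  have hyN : y ∈ normalizer ((S₁ : Subgroup G) : Set G) := by
    have h3 : x • S₂ = S₂ := Sylow.smul_eq_iff_mem_normalizer.mpr h2
    rw [← hg] at h3
    have h4 : y • S₁ = S₁ := by
      rw [hy, mul_smul, mul_smul, h3, ← mul_smul, inv_mul_cancel, one_smul]
    exact Sylow.smul_eq_iff_mem_normalizer.mp h4
  have hyo : orderOf y = p := by
    have : y = (MulAut.conj g⁻¹) x := by simp [hy]
    rw [this, MulEquiv.orderOf_eq]; exact hxo
  have hyp : IsPGroup p (zpowers y) := isPGroup_zpowers_of_orderOf ⟨1, by rw [hyo, pow_one]⟩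
  obtain ⟨n, hn, R, hRp, -, hxR, hyR⟩ :=
    exists_common_pSubgroup (normalizer ((S₁ : Subgroup G) : Set G)) h1 hyN hxp hyp
  have e : n * y * n⁻¹ = (n * g⁻¹) * x * (n * g⁻¹)⁻¹ := by rw [hy]; group
  rw [e] at hyR
  have hfix := conj_eq_of_isolated hiso hRp hxR hyR
  have hc' : n * g⁻¹ ∈ centralizer ({x} : Set G) := by
    rw [mem_centralizer_singleton_iff]
    calc n * g⁻¹ * x = ((n * g⁻¹) * x * (n * g⁻¹)⁻¹) * (n * g⁻¹) := by group
      _ = x * (n * g⁻¹) := by rw [hfix]
  refine ⟨g * n⁻¹, ?_, ?_⟩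
  · have := inv_mem hc'
    have e2 : (n * g⁻¹)⁻¹ = g * n⁻¹ := by group
    rw [e2] at this; exact this
  · have hn' : n⁻¹ • S₁ = S₁ := Sylow.smul_eq_iff_mem_normalizer.mpr (inv_mem hn)
    have h4 : (g * n⁻¹) • S₁ = S₂ := by rw [mul_smul, hn', hg]
    have h5 := congrArg (fun S : Sylow q G => (S : Subgroup G)) h4
    simp only [Sylow.coe_subgroup_smul] at h5
    rw [← h5]; rfl

/-- Part (i) of S2975. -/
theorem ZStarMinCE.maximal_invariant_sylow (h : ZStarMinCE p x) (q : ℕ) [Fact q.Prime]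
    (Q : Subgroup G) (hQ : IsPGroup q ↥Q) (hxQ : x ∈ normalizer (Q : Set G))
    (hmax : ∀ R : Subgroup G, IsPGroup q ↥R → x ∈ normalizer (R : Set G) → Q ≤ R → R = Q) :
    Q = ⊥ ∨ ∃ S : Sylow q G, (S : Subgroup G) = Q := by
  have hp : p.Prime := Fact.out
  have hq : q.Prime := Fact.out
  have hxp : IsPGroup p (zpowers x) := isPGroup_zpowers_of_orderOf ⟨1, by rw [h.hx, pow_one]⟩
  by_cases hqp : q = p
  · subst hqp
    right
    have hsup : IsPGroup q (zpowers x ⊔ Q : Subgroup G) :=
      IsPGroup.to_sup_of_normal_right' hxp hQ (zpowers_le.mpr hxQ)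
    obtain ⟨P, hP⟩ := hsup.exists_le_sylow
    have hxP : x ∈ P := hP (mem_sup_left (mem_zpowers x))
    have hPc := le_centralizer_of_isolated h.hiso P.isPGroup' hxP
    have hxN : x ∈ normalizer ((P : Subgroup G) : Set G) := by
      apply mem_normalizer_of_conj_mem
      intro y hy
      have := mem_centralizer_singleton_iff.mp (hPc hy)
      have e : x * y * x⁻¹ = y := by rw [← this]; group
      rw [e]; exact hy
    exact ⟨P, hmax P P.isPGroup' hxN (le_sup_right.trans hP)⟩
  · by_cases hQ1 : Q = ⊥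
    · left; exact hQ1
    right
    set H : Subgroup G := normalizer (Q : Set G) with hH
    have hHne : H ≠ ⊤ := by
      intro htop
      apply hQ1
      have hQn : Q.Normal := normalizer_eq_top_iff.mp htop
      have hcop : (Nat.card Q).Coprime p := by
        obtain ⟨k, hk⟩ := IsPGroup.iff_card.mp hQ
        rw [hk]
        exact Nat.Coprime.pow_left _ ((Nat.coprime_primes hq hp).mpr hqp)
      have := Cfsg.Agent.Helper7.le_pPrimeCore hQn hcop
      rw [h.pPrimeCore_eq_bot] at this
      exact le_bot_iff.mp this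
    have hz := h.hmin H hxQ hHne
    obtain ⟨T, hTH, hTq, hxT, hTcard⟩ := exists_invariant_sylow_of_inZStar hqp x h.hx H hxQ hz
    have hH0 : Nat.card H ≠ 0 := Nat.card_pos.ne'
    -- q-subgroups of H have order at most |T|
    have hbound : ∀ R : Subgroup G, R ≤ H → IsPGroup q R → Nat.card R ∣ Nat.card T := by
      intro R hRH hRq
      obtain ⟨k, hk⟩ := IsPGroup.iff_card.mp hRq
      rw [hTcard, hk]
      apply pow_dvd_pow
      apply (Nat.Prime.pow_dvd_iff_le_factorization hq hH0).mp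
      rw [← hk]; exact card_dvd_of_le hRH
    have hQT : Q ≤ T := by
      have hTQ : IsPGroup q (T ⊔ Q : Subgroup G) := IsPGroup.to_sup_of_normal_right' hTq hQ hTH
      have hle : T ⊔ Q ≤ H := sup_le hTH le_normalizer
      have h1 := Nat.le_of_dvd Nat.card_pos (hbound _ hle hTQ)
      have h2 : T = T ⊔ Q := eq_of_le_of_card_ge le_sup_left h1
      rw [h2]; exact le_sup_right
    have hTQeq : T = Q := hmax T hTq hxT hQT
    obtain ⟨R, hR⟩ := hQ.exists_le_sylow
    refine ⟨R, ?_⟩
    by_contra hne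
    have hlt : Q < (R : Subgroup G) := lt_of_le_of_ne hR (Ne.symm hne)
    obtain ⟨g, hgR, hgN, hgQ⟩ := Cfsg.Agent.Helper19.exists_mem_normalizer_not_mem R.isPGroup' hlt
    have hgq : IsPGroup q (zpowers g) := R.isPGroup'.to_le (zpowers_le.mpr hgR)
    have hQ' : IsPGroup q (zpowers g ⊔ Q : Subgroup G) :=
      IsPGroup.to_sup_of_normal_right' hgq hQ (zpowers_le.mpr hgN)
    have hle : zpowers g ⊔ Q ≤ H := sup_le (zpowers_le.mpr hgN) le_normalizer
    have h1 := Nat.le_of_dvd Nat.card_pos (hbound _ hle hQ')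
    rw [hTQeq] at h1
    have h2 : Q = zpowers g ⊔ Q := eq_of_le_of_card_ge le_sup_right h1
    apply hgQ
    rw [h2]
    exact mem_sup_left (mem_zpowers g)

end

end Cfsg.Agent.Helper15
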